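import Mathlib.RingTheory.Flat.FaithfullyFlat.Algebra
import Mathlib.RingTheory.RingHom.FaithfullyFlat
import Mathlib.RingTheory.RingHom.Flat
import Mathlib.LinearAlgebra.TensorProduct.Tower

/-!
# Cancellation of flatness along a pure (e.g. factor of a faithfully flat) ring map

If `A → B → C → D` are ring maps with `A → C` flat and `B → D` faithfully flat, then `A → B` is flat.
-/

set_option autoImplicit false
universe u

namespace Groth.Agent.Lib.Helper6

open TensorProduct

section

variable {A B C D : Type u} [CommRing A] [CommRing B] [CommRing C] [CommRing D]
  [Algebra A B] [Algebra B C] [Algebra A C] [IsScalarTower A B C]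
  [Algebra B D] [Algebra C D] [IsScalarTower B C D]

/-- If `B → C → D` with `B → D` faithfully flat then `P → C ⊗[B] P` is injective for all `P`. -/
lemma mk_one_injective_of_factor_faithfullyFlat [Module.FaithfullyFlat B D]
    (P : Type u) [AddCommGroup P] [Module B P] :
    Function.Injective (TensorProduct.mk B C P 1) := by
  have h : Function.Injective (TensorProduct.mk B D P 1) :=
    Module.FaithfullyFlat.tensorProduct_mk_injective (A := B) (B := D) P
  have e : (TensorProduct.mk B D P 1 : P → D ⊗[B] P) =
      ((IsScalarTower.toAlgHom B C D).toLinearMap.rTensor P) ∘ (TensorProduct.mk B C P 1) := by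
    funext p
    simp
  rw [e] at h
  exact Function.Injective.of_comp h

/-- flatness can be cancelled on the right by a factor of a faithfully flat map -/
theorem flat_of_flat_of_factor_faithfullyFlat [Module.Flat A C] [Module.FaithfullyFlat B D] :
    Module.Flat A B := by
  rw [Module.Flat.iff_lTensor_preserves_injective_linearMap]
  intro N N' _ _ _ _ f hf
  -- the base-changed map `C ⊗[A] N → C ⊗[A] N'` is injective by flatness of `C` over `A`
  have hC : Function.Injective (f.lTensor C) := Module.Flat.lTensor_preserves_injective_linearMap f hf
  -- hence so is `C ⊗[B] (B ⊗[A] N) → C ⊗[B] (B ⊗[A] N')`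
  have hC' : Function.Injective ((f.baseChange B).lTensor C) := by
    have e : (AlgebraTensorModule.cancelBaseChange A B C C N').toLinearMap.restrictScalars A ∘ₗ
        ((f.baseChange B).lTensor C).restrictScalars A =
        (f.lTensor C) ∘ₗ
          (AlgebraTensorModule.cancelBaseChange A B C C N).toLinearMap.restrictScalars A := by
      apply LinearMap.ext
      intro x
      induction x using TensorProduct.induction_on with
      | zero => simp
      | add x y hx hy => simp only [map_add, hx, hy]
      | tmul c y =>
        induction y using TensorProduct.induction_on with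
        | zero => simp
        | add x y hx hy => simp only [map_add, tmul_add, hx, hy]
        | tmul b n => simp
    intro x y hxy
    apply (AlgebraTensorModule.cancelBaseChange A B C C N).injective
    apply hC
    have h1 := congrArg (fun g => g x) e
    have h2 := congrArg (fun g => g y) e
    simp only [LinearMap.coe_comp, Function.comp_apply, LinearMap.coe_restrictScalars,
      LinearEquiv.coe_coe] at h1 h2
    rw [← h1, ← h2, hxy]
  intro x y hxy
  apply mk_one_injective_of_factor_faithfullyFlat (B := B) (C := C) (D := D) (B ⊗[A] N)
  apply hC'
  have hxy' : (f.baseChange B) x = (f.baseChange B) y := hxy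
  simp only [TensorProduct.mk_apply, LinearMap.lTensor_tmul, hxy']

end

/-- `RingHom` version. -/
theorem RingHom.Flat.of_comp_of_comp_faithfullyFlat {A B C D : Type u} [CommRing A] [CommRing B]
    [CommRing C] [CommRing D] (a : A →+* B) (b : B →+* C) (c : C →+* D)
    (h1 : (b.comp a).Flat) (h2 : (c.comp b).FaithfullyFlat) : a.Flat := by
  let _ := a.toAlgebra
  let _ := b.toAlgebra
  let _ := c.toAlgebra
  let _ := (b.comp a).toAlgebra
  let _ := (c.comp b).toAlgebra
  have : IsScalarTower A B C := IsScalarTower.of_algebraMap_eq' rfl
  have : IsScalarTower B C D := IsScalarTower.of_algebraMap_eq' rfl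
  have : Module.Flat A C := h1
  have : Module.FaithfullyFlat B D := h2
  exact flat_of_flat_of_factor_faithfullyFlat (A := A) (B := B) (C := C) (D := D)

end Groth.Agent.Lib.Helper6
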