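import Mathlib

/-!
# Degree-preserving injective resolutions of bounded below complexes and the horseshoe lemma

* `mono_opcyclesMap`: if `φ.f (n+1)` and `H^n(φ)` are mono, then `opcyclesMap φ n` is mono.
* `exists_mono_quasiIso_injective`: a complex strictly `≥ n` admits a degreewise-mono
  quasi-isomorphism into a complex of injectives strictly `≥ n` (no loss of degree).
* `quasiIso_τ₁`: for a morphism of short exact sequences of complexes, if `τ₂`, `τ₃` are
  quasi-isomorphisms, so is `τ₁`.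
* `horseshoe`: simultaneous injective resolution of a short exact sequence of complexes
  strictly `≥ n`.
-/

set_option autoImplicit false
universe v u
open CategoryTheory CategoryTheory.Limits

namespace Groth.Agent.Lib.Helper6.InjRes

variable {A : Type u} [Category.{v} A] [Abelian A]

open HomologicalComplex in
lemma opcyclesMap_fromOpcycles {K L : CochainComplex A ℤ} (φ : K ⟶ L) (i j : ℤ) :
    opcyclesMap φ i ≫ L.fromOpcycles i j = K.fromOpcycles i j ≫ φ.f j := by
  rw [← cancel_epi (K.pOpcycles i), p_opcyclesMap_assoc, p_fromOpcycles, p_fromOpcycles_assoc,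
    φ.comm]

open HomologicalComplex in
lemma mono_opcyclesMap {K L : CochainComplex A ℤ} (φ : K ⟶ L) (n : ℤ)
    (h₁ : Mono (φ.f (n + 1))) (h₂ : Mono (homologyMap φ n)) : Mono (opcyclesMap φ n) := by
  apply Preadditive.mono_of_cancel_zero
  intro Z z hz
  have h3 : z ≫ K.fromOpcycles n (n + 1) = 0 := by
    rw [← cancel_mono (φ.f (n + 1)), Category.assoc, ← opcyclesMap_fromOpcycles,
      reassoc_of% hz, zero_comp, zero_comp]
  obtain ⟨z', hz'⟩ : ∃ z' : Z ⟶ K.homology n, z' ≫ K.homologyι n = z :=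
    ⟨(K.homologyIsKernel n (n + 1) (by simp)).lift (KernelFork.ofι z h3),
      (K.homologyIsKernel n (n + 1) (by simp)).fac _ WalkingParallelPair.zero⟩
  have h4 : z' ≫ homologyMap φ n = 0 := by
    rw [← cancel_mono (L.homologyι n), Category.assoc, homologyι_naturality,
      reassoc_of% hz', hz, zero_comp]
  have h5 : z' = 0 := by
    rw [← cancel_mono (homologyMap φ n), h4, zero_comp]
  rw [← hz', h5, zero_comp]

section

variable {ι ι' : Type*} {c : ComplexShape ι} {c' : ComplexShape ι'}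
  (K : HomologicalComplex A c') (e : c.Embedding c') [e.IsTruncGE]
  [∀ i', K.HasHomology i']

lemma πTruncGE_f_boundary {i : ι} {i' : ι'} (hi' : e.f i = i') (hi : e.BoundaryGE i) :
    (K.πTruncGE e).f i' = K.pOpcycles i' ≫ (K.truncGEXIsoOpcycles e hi' hi).inv := by
  dsimp only [HomologicalComplex.πTruncGE, HomologicalComplex.truncGEXIsoOpcycles]
  rw [e.liftExtend_f _ _ hi', K.restrictionToTruncGE'_f_eq_iso_hom_pOpcycles_iso_inv _ hi' hi]
  simp only [Category.assoc, Iso.inv_hom_id_assoc]
  rfl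

lemma isIso_πTruncGE_f_of_not_boundary {i : ι} {i' : ι'} (hi' : e.f i = i')
    (hi : ¬ e.BoundaryGE i) : IsIso ((K.πTruncGE e).f i') := by
  dsimp only [HomologicalComplex.πTruncGE]
  rw [e.liftExtend_f _ _ hi']
  have := K.isIso_restrictionToTruncGE' e i hi
  exact IsIso.comp_isIso' (Iso.isIso_inv _) (IsIso.comp_isIso' this (Iso.isIso_inv _))

end

open ComplexShape in
lemma πTruncGE_f_self (K : CochainComplex A ℤ) (n : ℤ) :
    (K.πTruncGE n).f n = K.pOpcycles n ≫ (K.truncGEXIsoOpcycles n).inv :=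
  πTruncGE_f_boundary K (embeddingUpIntGE n) (i := 0) (by simp)
    (by rw [boundaryGE_embeddingUpIntGE_iff])

open ComplexShape in
lemma isIso_πTruncGE_f (K : CochainComplex A ℤ) (n k : ℤ) (hk : n < k) :
    IsIso ((K.πTruncGE n).f k) := by
  have hj : (embeddingUpIntGE n).f (k - n).natAbs = k := by
    show n + ((k - n).natAbs : ℤ) = k
    rw [Int.natAbs_of_nonneg (by lia)]; lia
  have hb : ¬ (embeddingUpIntGE n).BoundaryGE (k - n).natAbs := by
    rw [boundaryGE_embeddingUpIntGE_iff]
    intro h0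
    rw [Int.natAbs_eq_zero] at h0
    lia
  exact isIso_πTruncGE_f_of_not_boundary K (embeddingUpIntGE n) hj hb

/-- Degree-preserving injective resolution by a degreewise monomorphism. -/
lemma exists_mono_quasiIso_injective [EnoughInjectives A] (K : CochainComplex A ℤ) (n : ℤ)
    [K.IsStrictlyGE n] :
    ∃ (L : CochainComplex A ℤ) (i : K ⟶ L), L.IsStrictlyGE n ∧ (∀ k, Injective (L.X k)) ∧
      (∀ k, Mono (i.f k)) ∧ QuasiIso i := by
  have : HasDerivedCategory A := MorphismProperty.HasLocalization.standard _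
  obtain ⟨L, i, hi, hi', hL, hL'⟩ :=
    CochainComplex.Plus.modelCategoryQuillen.exists_mono_quasiIso_injective K (n - 1) n (by simp)
  have hLGE : L.IsGE n := by
    have hK : K.IsGE n := inferInstance
    rw [← DerivedCategory.isGE_Q_obj_iff] at hK ⊢
    exact DerivedCategory.TStructure.t.isGE_of_iso (asIso (DerivedCategory.Q.map i)) n
  have : QuasiIso (L.πTruncGE n) := (L.quasiIso_πTruncGE_iff n).mpr inferInstance
  have : Injective (L.opcycles n) :=
    L.injective_opcycles (n - 1) n (L.exactAt_of_isGE n (n - 1))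
  refine ⟨L.truncGE n, i ≫ L.πTruncGE n, inferInstance, fun q ↦ ?_, fun k ↦ ?_, inferInstance⟩
  · obtain h | rfl | h := lt_trichotomy q n
    · exact (CochainComplex.isZero_of_isStrictlyGE _ n _ h).injective
    · exact Injective.of_iso (L.truncGEXIsoOpcycles q).symm inferInstance
    · exact Injective.of_iso (L.truncGEXIso n q h).symm (hL q)
  · have hmono : ∀ j, Mono (i.f j) := fun j => inferInstance
    obtain h | rfl | h := lt_trichotomy k n
    · exact ⟨fun a b _ => (K.isZero_of_isStrictlyGE n k h).eq_of_tgt a b⟩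
    · rw [HomologicalComplex.comp_f, πTruncGE_f_self, ← Category.assoc,
        ← HomologicalComplex.p_opcyclesMap, Category.assoc]
      have h1 : IsIso (K.pOpcycles k) :=
        K.isIso_pOpcycles (k - 1) k (by simp)
          ((K.isZero_of_isStrictlyGE k (k - 1) (by lia)).eq_of_src _ _)
      have h2 : Mono (HomologicalComplex.opcyclesMap i k) :=
        mono_opcyclesMap i k (hmono _) (by
          have : QuasiIsoAt i k := inferInstance
          rw [quasiIsoAt_iff_isIso_homologyMap] at this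
          infer_instance)
      infer_instance
    · rw [HomologicalComplex.comp_f]
      have := isIso_πTruncGE_f L n k h
      infer_instance

open DerivedCategory in
/-- For a morphism of short exact sequences of cochain complexes, if `τ₂` and `τ₃` are
quasi-isomorphisms, then so is `τ₁`. -/
lemma quasiIso_τ₁ {S₁ S₂ : ShortComplex (CochainComplex A ℤ)} (φ : S₁ ⟶ S₂)
    (hS₁ : S₁.ShortExact) (hS₂ : S₂.ShortExact) (h₂ : QuasiIso φ.τ₂) (h₃ : QuasiIso φ.τ₃) :
    QuasiIso φ.τ₁ := by
  have : HasDerivedCategory A := MorphismProperty.HasLocalization.standard _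
  rw [← isIso_Q_map_iff_quasiIso] at h₂ h₃ ⊢
  have h₂' : IsIso (triangleOfSES.map hS₁ hS₂ φ).hom₂ := h₂
  have h₃' : IsIso (triangleOfSES.map hS₁ hS₂ φ).hom₃ := h₃
  exact Pretriangulated.isIso₁_of_isIso₂₃ (triangleOfSES.map hS₁ hS₂ φ)
    (triangleOfSES_distinguished hS₁) (triangleOfSES_distinguished hS₂) h₂' h₃'

open CochainComplex CategoryTheory.Abelian in
lemma degreewiseEpiWithInjectiveKernel_biprod_snd (J I : CochainComplex A ℤ)
    (hJ : ∀ k, Injective (J.X k)) :
    degreewiseEpiWithInjectiveKernel (biprod.snd : J ⊞ I ⟶ I) := by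
  intro k
  rw [epiWithInjectiveKernel_iff]
  refine ⟨J.X k, hJ k, (biprod.inl : J ⟶ J ⊞ I).f k, by simp, ⟨?_⟩⟩
  exact
    { r := (biprod.fst : J ⊞ I ⟶ J).f k
      s := (biprod.inr : I ⟶ J ⊞ I).f k
      f_r := by simp
      s_g := by simp
      id := by simp }

lemma isStrictlyGE_biprod (J I : CochainComplex A ℤ) (n : ℤ) [J.IsStrictlyGE n]
    [I.IsStrictlyGE n] : (J ⊞ I).IsStrictlyGE n := by
  rw [CochainComplex.isStrictlyGE_iff]
  intro k hk
  rw [IsZero.iff_id_eq_zero, ← HomologicalComplex.biprod_total_f,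
    (J.isZero_of_isStrictlyGE n k hk).eq_of_tgt ((biprod.fst : J ⊞ I ⟶ J).f k) 0,
    (I.isZero_of_isStrictlyGE n k hk).eq_of_tgt ((biprod.snd : J ⊞ I ⟶ I).f k) 0,
    zero_comp, zero_comp, add_zero]

open CochainComplex CategoryTheory.Abelian in
/-- an epimorphism with injective kernel onto an injective object has injective source -/
lemma injective_of_epiWithInjectiveKernel {X Y : A} (g : X ⟶ Y) (hg : epiWithInjectiveKernel g)
    [Injective Y] : Injective X := by
  rw [epiWithInjectiveKernel_iff] at hg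
  obtain ⟨I, hI, f, w, ⟨σ⟩⟩ := hg
  -- `X` is a retract of `I ⊞ Y`
  refine Retract.injective (Y := I ⊞ Y)
    { i := biprod.lift σ.r g
      r := biprod.desc f σ.s
      retract := ?_ }
  simpa using σ.id

/-- **Horseshoe lemma for bounded below complexes**: simultaneous injective resolution of a
short exact sequence of cochain complexes, preserving the lower bound. -/
theorem horseshoe [EnoughInjectives A] (S : ShortComplex (CochainComplex A ℤ)) (hS : S.ShortExact)
    (n : ℤ) [S.X₁.IsStrictlyGE n] [S.X₂.IsStrictlyGE n] [S.X₃.IsStrictlyGE n] :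
    ∃ (T : ShortComplex (CochainComplex A ℤ)) (φ : S ⟶ T), T.ShortExact ∧
      T.X₁.IsStrictlyGE n ∧ T.X₂.IsStrictlyGE n ∧ T.X₃.IsStrictlyGE n ∧
      (∀ k : ℤ, Injective (T.X₁.X k) ∧ Injective (T.X₂.X k) ∧ Injective (T.X₃.X k)) ∧
      QuasiIso φ.τ₁ ∧ QuasiIso φ.τ₂ ∧ QuasiIso φ.τ₃ := by
  obtain ⟨I₃, i₃, hI₃, hI₃inj, hi₃mono, hi₃q⟩ := exists_mono_quasiIso_injective S.X₃ n
  obtain ⟨J, j, hJ, hJinj, hjmono, _⟩ := exists_mono_quasiIso_injective S.X₂ n
  have hjm : Mono j := HomologicalComplex.mono_of_mono_f _ hjmono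
  let m : S.X₂ ⟶ J ⊞ I₃ := biprod.lift j (S.g ≫ i₃)
  have hm : Mono m := mono_of_mono_fac (biprod.lift_fst j (S.g ≫ i₃))
  have hJI : (J ⊞ I₃).IsStrictlyGE n := isStrictlyGE_biprod J I₃ n
  obtain ⟨I₂, hI₂, ι, π', hι, hιq, hπ', fac⟩ :=
    CochainComplex.Plus.modelCategoryQuillen.cm5a_cof m n
  let π : I₂ ⟶ I₃ := π' ≫ biprod.snd
  have hπ : CochainComplex.degreewiseEpiWithInjectiveKernel π :=
    MorphismProperty.comp_mem _ _ _ hπ' (degreewiseEpiWithInjectiveKernel_biprod_snd J I₃ hJinj)
  have hπepi : Epi π := hπ.epi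
  have hιπ : ι ≫ π = S.g ≫ i₃ := by
    dsimp only [π]
    rw [← Category.assoc, fac]
    exact biprod.lift_snd _ _
  have hI₂inj : ∀ k, Injective (I₂.X k) := fun k =>
    have := hI₃inj k
    injective_of_epiWithInjectiveKernel (π.f k) (hπ k)
  have hI₁inj : ∀ k, Injective ((kernel π).X k) := fun k =>
    Injective.of_iso
      (asIso (kernelComparison π (HomologicalComplex.eval _ _ k))).symm (hπ k).2
  have hI₁ : (kernel π).IsStrictlyGE n := by
    rw [CochainComplex.isStrictlyGE_iff]
    intro k hk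
    rw [IsZero.iff_id_eq_zero, ← cancel_mono ((kernel.ι π).f k)]
    apply (I₂.isZero_of_isStrictlyGE n k hk).eq_of_tgt
  let T : ShortComplex (CochainComplex A ℤ) := ShortComplex.mk (kernel.ι π) π (kernel.condition π)
  have hT : T.ShortExact :=
    { exact := ShortComplex.exact_kernel π
      mono_f := inferInstanceAs (Mono (kernel.ι π))
      epi_g := hπepi }
  let φ : S ⟶ T :=
    { τ₁ := kernel.lift π (S.f ≫ ι) (by rw [Category.assoc, hιπ, S.zero_assoc, zero_comp])
      τ₂ := ι
      τ₃ := i₃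
      comm₁₂ := kernel.lift_ι _ _ _
      comm₂₃ := hιπ }
  refine ⟨T, φ, hT, hI₁, hI₂, hI₃, fun k => ⟨hI₁inj k, hI₂inj k, hI₃inj k⟩, ?_, hιq, hi₃q⟩
  exact quasiIso_τ₁ φ hS hT hιq hi₃q

end Groth.Agent.Lib.Helper6.InjRes
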