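import Mathlib
import Groth.Agent.Lib.Helper6.InjRes

/-!
# Exact fully faithful functors `ι : A' ⥤ A` with enough `A`-injectives in `A'`

* `injective_of_injective_obj`: if `ι Y'` is injective then `Y'` is injective;
* `enoughInjectives`, `injective_obj_of_injective`;
* `bijective_map_iff_of_iso`;
* `map_bijective_of_isKInjective`: `ι.mapDerivedCategory` is bijective on `Hom(Q K, Q I)` when `I`
  and `ι I` are K-injective;
* `exists_iso_Q_injective`: bounded below objects are represented by bounded below complexes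
  of injectives.
-/

set_option autoImplicit false
universe w w' v v' u u'
open CategoryTheory CategoryTheory.Limits

namespace Groth.Agent.Lib.Helper6.ThickInj

section General

variable {C : Type u} [Category.{v} C] {D : Type u'} [Category.{v'} D]

lemma bijective_map_iff_of_iso (F : C ⥤ D) {X X' Y Y' : C} (eX : X ≅ X') (eY : Y ≅ Y') :
    Function.Bijective (fun f : X ⟶ Y => F.map f) ↔
      Function.Bijective (fun f : X' ⟶ Y' => F.map f) := by
  have key : (fun f : X' ⟶ Y' => F.map f) =
      (fun g => F.map eX.inv ≫ g ≫ F.map eY.hom) ∘ (fun f : X ⟶ Y => F.map f) ∘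
        (fun f' => eX.hom ≫ f' ≫ eY.inv) := by
    funext f'
    simp [← Functor.map_comp]
  have b1 : Function.Bijective (fun f' : X' ⟶ Y' => eX.hom ≫ f' ≫ eY.inv) :=
    (Iso.homCongr eX.symm eY.symm).bijective
  have b2 : Function.Bijective
      (fun g : F.obj X ⟶ F.obj Y => F.map eX.inv ≫ g ≫ F.map eY.hom) :=
    (Iso.homCongr (F.mapIso eX) (F.mapIso eY)).bijective
  rw [key]
  constructor
  · intro h
    exact (b2.comp h).comp b1
  · intro h
    have h1 := (Function.Bijective.of_comp_iff' b2 _).mp h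
    exact (Function.Bijective.of_comp_iff _ b1).mp h1

end General

variable {A' : Type u'} [Category.{v'} A'] [Abelian A']
  {A : Type u} [Category.{v} A] [Abelian A]
  (ι : A' ⥤ A) [ι.Additive] [PreservesFiniteLimits ι] [PreservesFiniteColimits ι]
  [ι.Full] [ι.Faithful]

include ι in
lemma injective_of_injective_obj (Y' : A') (h : Injective (ι.obj Y')) : Injective Y' where
  factors {X Z} g f _ := by
    have : Mono (ι.map f) := inferInstance
    refine ⟨ι.preimage (Injective.factorThru (ι.map g) (ι.map f)), ?_⟩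
    apply ι.map_injective
    simp

lemma enoughInjectives
    (hinj : ∀ X' : A', ∃ (Y' : A') (i : X' ⟶ Y'), Mono i ∧ Injective (ι.obj Y')) :
    EnoughInjectives A' where
  presentation X' := by
    obtain ⟨Y', i, hi, hY'⟩ := hinj X'
    exact ⟨{ J := Y', injective := injective_of_injective_obj ι Y' hY', f := i, mono := hi }⟩

omit [Abelian A'] [Abelian A] [ι.Additive] [PreservesFiniteLimits ι] [PreservesFiniteColimits ι]
  [ι.Full] [ι.Faithful] in
lemma injective_obj_of_injective
    (hinj : ∀ X' : A', ∃ (Y' : A') (i : X' ⟶ Y'), Mono i ∧ Injective (ι.obj Y'))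
    (J : A') [Injective J] : Injective (ι.obj J) where
  factors {X Z} g f _ := by
    obtain ⟨Y', i, hi, hY'⟩ := hinj J
    let r : Y' ⟶ J := Injective.factorThru (𝟙 J) i
    have hr : i ≫ r = 𝟙 J := Injective.comp_factorThru _ _
    refine ⟨Injective.factorThru (g ≫ ι.map i) f ≫ ι.map r, ?_⟩
    rw [Injective.comp_factorThru_assoc, Category.assoc, ← ι.map_comp, hr, ι.map_id,
      Category.comp_id]

open DerivedCategory in
lemma map_bijective_of_isKInjective [HasDerivedCategory.{w'} A'] [HasDerivedCategory.{w} A]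
    (K I : CochainComplex A' ℤ) [I.IsKInjective]
    [CochainComplex.IsKInjective ((ι.mapHomologicalComplex (ComplexShape.up ℤ)).obj I)] :
    Function.Bijective (fun f : Q.obj K ⟶ Q.obj I => ι.mapDerivedCategory.map f) := by
  let Kh := (HomotopyCategory.quotient A' (ComplexShape.up ℤ)).obj K
  let Ih := (HomotopyCategory.quotient A' (ComplexShape.up ℤ)).obj I
  let T := ι.mapDerivedCategory
  let Th := ι.mapHomotopyCategory (ComplexShape.up ℤ)
  let e := ι.mapDerivedCategoryFactorsh
  have claim : Function.Bijective (fun f : Qh.obj Kh ⟶ Qh.obj Ih => T.map f) := by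
    have b1 : Function.Bijective (Qh.map : (Kh ⟶ Ih) → _) :=
      CochainComplex.IsKInjective.Qh_map_bijective Kh I
    have b2 : Function.Bijective (Th.map : (Kh ⟶ Ih) → _) :=
      ⟨Th.map_injective, Th.map_surjective⟩
    have b3 : Function.Bijective (Qh.map : (Th.obj Kh ⟶ Th.obj Ih) → _) :=
      CochainComplex.IsKInjective.Qh_map_bijective (Th.obj Kh)
        ((ι.mapHomologicalComplex (ComplexShape.up ℤ)).obj I)
    have b4 : Function.Bijective (fun g : Qh.obj (Th.obj Kh) ⟶ Qh.obj (Th.obj Ih) =>
        e.hom.app Kh ≫ g ≫ e.inv.app Ih) :=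
      (Iso.homCongr (e.app Kh).symm (e.app Ih).symm).bijective
    have key : (fun f : Qh.obj Kh ⟶ Qh.obj Ih => T.map f) ∘ (Qh.map : (Kh ⟶ Ih) → _) =
        (fun g : Qh.obj (Th.obj Kh) ⟶ Qh.obj (Th.obj Ih) =>
          e.hom.app Kh ≫ g ≫ e.inv.app Ih) ∘ (Qh.map : (Th.obj Kh ⟶ Th.obj Ih) → _) ∘
            (Th.map : (Kh ⟶ Ih) → _) := by
      funext f
      have := e.hom.naturality f
      dsimp at this ⊢
      rw [← reassoc_of% this]
      simp [T]
    have h := b4.comp (b3.comp b2)
    rw [← key] at h
    exact (Function.Bijective.of_comp_iff _ b1).mp h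
  exact (bijective_map_iff_of_iso T ((quotientCompQhIso A').app K)
    ((quotientCompQhIso A').app I)).mp claim

open DerivedCategory in
lemma exists_iso_Q_injective {C : Type u} [Category.{v} C] [Abelian C] [HasDerivedCategory.{w} C]
    [EnoughInjectives C] (Y : DerivedCategory C) (b : ℤ) [Y.IsGE b] :
    ∃ (I : CochainComplex C ℤ), I.IsStrictlyGE b ∧ (∀ n, Injective (I.X n)) ∧
      Nonempty (Y ≅ Q.obj I) := by
  obtain ⟨K, hK, ⟨e⟩⟩ := DerivedCategory.exists_iso_Q_obj_of_isGE Y b
  obtain ⟨I, i, hI, hI', _, hi⟩ := InjRes.exists_mono_quasiIso_injective K b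
  exact ⟨I, hI, hI', ⟨e ≪≫ asIso (Q.map i)⟩⟩

end Groth.Agent.Lib.Helper6.ThickInj
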