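import Mathlib

/-!
# Brutal truncations `σ≥a K` as subcomplexes, and `K` as their sequential colimit (helper6)
-/

set_option autoImplicit false
set_option linter.style.haveILetI false
set_option linter.unusedSectionVars false

universe v u

namespace Groth.Agent.Lib.Helper6.SigmaGE

open CategoryTheory CategoryTheory.Limits HomologicalComplex

section General

variable {C : Type*} [Category C]

/-- a cocone over `ℕ` whose legs are eventually isomorphisms is a colimit cocone -/
noncomputable def isColimitOfEventuallyIso {D : ℕ ⥤ C} (c : Cocone D) (N : ℕ)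
    (h : ∀ k, N ≤ k → IsIso (c.ι.app k)) : IsColimit c := by
  haveI hN : IsIso (c.ι.app N) := h N le_rfl
  refine
    { desc := fun t => inv (c.ι.app N) ≫ t.ι.app N
      fac := fun t j => ?_
      uniq := fun t m hm => ?_ }
  · by_cases hj : j ≤ N
    · rw [← c.w (homOfLE hj), Category.assoc, IsIso.hom_inv_id_assoc, t.w]
    · have hj' : N ≤ j := by omega
      haveI : IsIso (c.ι.app j) := h j hj'
      have h1 : inv (c.ι.app N) ≫ D.map (homOfLE hj') = inv (c.ι.app j) := by
        rw [IsIso.inv_comp_eq, ← cancel_mono (c.ι.app j), Category.assoc, IsIso.inv_hom_id,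
          Category.comp_id, c.w]
      rw [← t.w (homOfLE hj'), reassoc_of% h1, IsIso.hom_inv_id_assoc]
  · rw [IsIso.eq_inv_comp, hm]

lemma isIso_kernel_ι_of_eq_zero [HasZeroMorphisms C] {X Y : C} (f : X ⟶ Y) [HasKernel f]
    (h : f = 0) : IsIso (kernel.ι f) := kernel.ι_of_zero h

end General

variable {A : Type u} [Category.{v} A] [Abelian A]

/-- the projection to the brutal truncation `σ≤a K` -/
lemma hasLift_id (K : CochainComplex A ℤ) (a : ℤ) :
    (ComplexShape.embeddingUpIntLE a).HasLift (𝟙 (K.restriction (ComplexShape.embeddingUpIntLE a))) :=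
  fun _ hj => (hj.false_of_isTruncLE).elim

noncomputable def π (K : CochainComplex A ℤ) (a : ℤ) :
    K ⟶ K.stupidTrunc (ComplexShape.embeddingUpIntLE a) :=
  (ComplexShape.embeddingUpIntLE a).liftExtend (𝟙 _) (hasLift_id K a)

lemma isIso_π_f (K : CochainComplex A ℤ) (a i : ℤ) (h : i ≤ a) : IsIso ((π K a).f i) := by
  obtain ⟨n, hn⟩ : ∃ n : ℕ, (ComplexShape.embeddingUpIntLE a).f n = i :=
    ⟨(a - i).toNat, by simp only [ComplexShape.embeddingUpIntLE_f]; omega⟩
  exact ((ComplexShape.embeddingUpIntLE a).isIso_liftExtend_f_iff _ _ hn).2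
    (by change IsIso (𝟙 _); infer_instance)

lemma isZero_stupidTrunc_X' (K : CochainComplex A ℤ) (a i : ℤ) (h : a < i) :
    IsZero ((K.stupidTrunc (ComplexShape.embeddingUpIntLE a)).X i) :=
  K.isZero_stupidTrunc_X _ i ((ComplexShape.notMem_range_embeddingUpIntLE_iff a i).2 h)

/-- the brutal truncation `σ≥a K` as a subcomplex of `K` -/
noncomputable def sg (K : CochainComplex A ℤ) (a : ℤ) : CochainComplex A ℤ :=
  kernel (π K (a - 1))

/-- the inclusion `σ≥a K ⟶ K` -/
noncomputable def sgι (K : CochainComplex A ℤ) (a : ℤ) : sg K a ⟶ K := kernel.ι _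

instance (K : CochainComplex A ℤ) (a : ℤ) : Mono (sgι K a) :=
  inferInstanceAs (Mono (kernel.ι (π K (a - 1))))

lemma isZero_sg_X (K : CochainComplex A ℤ) (a i : ℤ) (h : i < a) : IsZero ((sg K a).X i) := by
  haveI := isIso_π_f K (a - 1) i (by omega)
  have e := PreservesKernel.iso (eval A (ComplexShape.up ℤ) i) (π K (a - 1))
  refine IsZero.of_iso ?_ e
  haveI : Mono ((eval A (ComplexShape.up ℤ) i).map (π K (a - 1))) := by
    change Mono ((π K (a - 1)).f i)
    infer_instance
  exact isZero_kernel_of_mono _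

lemma isIso_sgι_f (K : CochainComplex A ℤ) (a i : ℤ) (h : a ≤ i) : IsIso ((sgι K a).f i) := by
  have hz : (eval A (ComplexShape.up ℤ) i).map (π K (a - 1)) = 0 :=
    (isZero_stupidTrunc_X' K (a - 1) i (by omega)).eq_of_tgt _ _
  have h1 : (sgι K a).f i = (PreservesKernel.iso (eval A (ComplexShape.up ℤ) i) (π K (a - 1))).hom ≫
      kernel.ι ((eval A (ComplexShape.up ℤ) i).map (π K (a - 1))) := by
    rw [PreservesKernel.iso_hom]
    exact (kernelComparison_comp_ι (π K (a - 1)) (eval A (ComplexShape.up ℤ) i)).symm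
  rw [h1]
  exact IsIso.comp_isIso' (Iso.isIso_hom _) (isIso_kernel_ι_of_eq_zero _ hz)

instance (K : CochainComplex A ℤ) (a : ℤ) : (sg K a).IsStrictlyGE a := by
  rw [CochainComplex.isStrictlyGE_iff]
  intro i hi
  exact isZero_sg_X K a i hi

lemma sgι_comp_π (K : CochainComplex A ℤ) (a b : ℤ) (h : b ≤ a) : sgι K a ≫ π K (b - 1) = 0 := by
  ext i
  by_cases hi : i < a
  · exact (isZero_sg_X K a i hi).eq_of_src _ _
  · exact (isZero_stupidTrunc_X' K (b - 1) i (by omega)).eq_of_tgt _ _

/-- the transition maps `σ≥a K ⟶ σ≥b K` for `b ≤ a` -/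
noncomputable def sgMap (K : CochainComplex A ℤ) (a b : ℤ) (h : b ≤ a) : sg K a ⟶ sg K b :=
  kernel.lift _ (sgι K a) (sgι_comp_π K a b h)

@[reassoc (attr := simp)]
lemma sgMap_ι (K : CochainComplex A ℤ) (a b : ℤ) (h : b ≤ a) :
    sgMap K a b h ≫ sgι K b = sgι K a :=
  kernel.lift_ι _ _ _

/-- the tower `σ≥0 K ⟶ σ≥-1 K ⟶ σ≥-2 K ⟶ …` -/
noncomputable def M (K : CochainComplex A ℤ) (k : ℕ) : CochainComplex A ℤ := sg K (-(k : ℤ))

noncomputable def tr (K : CochainComplex A ℤ) (k : ℕ) : M K k ⟶ M K (k + 1) :=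
  sgMap K _ _ (by push_cast; omega)

noncomputable def ι (K : CochainComplex A ℤ) (k : ℕ) : M K k ⟶ K := sgι K _

@[reassoc (attr := simp)]
lemma tr_ι (K : CochainComplex A ℤ) (k : ℕ) : tr K k ≫ ι K (k + 1) = ι K k :=
  sgMap_ι K _ _ _

lemma isIso_ι_f (K : CochainComplex A ℤ) (k : ℕ) (i : ℤ) (h : -(k : ℤ) ≤ i) :
    IsIso ((ι K k).f i) := isIso_sgι_f K _ i h

lemma isZero_M_X (K : CochainComplex A ℤ) (k : ℕ) (i : ℤ) (h : i < -(k : ℤ)) :
    IsZero ((M K k).X i) := isZero_sg_X K _ i h

instance (K : CochainComplex A ℤ) (k : ℕ) : (M K k).IsStrictlyGE (-(k : ℤ)) := by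
  dsimp only [M]; infer_instance

/-- the cocone exhibiting `K` as the colimit of its brutal truncations -/
noncomputable def cocone (K : CochainComplex A ℤ) : Cocone (Functor.ofSequence (tr K)) where
  pt := K
  ι := NatTrans.ofSequence (F := Functor.ofSequence (tr K)) (G := (Functor.const ℕ).obj K)
    (fun k => ι K k) (fun k => by
      simp only [Functor.ofSequence_map_homOfLE_succ, Functor.const_obj_obj,
        Functor.const_obj_map, Category.comp_id]
      exact tr_ι K k)

@[simp]
lemma cocone_ι_app (K : CochainComplex A ℤ) (k : ℕ) : (cocone K).ι.app k = ι K k := rfl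

/-- `K` is the colimit of its brutal truncations `σ≥-k K` -/
noncomputable def isColimitCocone (K : CochainComplex A ℤ) : IsColimit (cocone K) :=
  isColimitOfEval _ _ (fun i => isColimitOfEventuallyIso _ (-i).toNat (fun k hk => by
    change IsIso ((ι K k).f i)
    exact isIso_ι_f K k i (by omega)))

end Groth.Agent.Lib.Helper6.SigmaGE
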