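import Mathlib

/-!
# `F.mapHomologicalComplex` commutes with the extension of complexes along an embedding
-/

set_option autoImplicit false
open CategoryTheory CategoryTheory.Limits ZeroObject

namespace Groth.Agent.Lib.Helper6.ExtendFunctor

variable {ι ι' : Type*} {c : ComplexShape ι} {c' : ComplexShape ι'} (e : c.Embedding c')
  {C D : Type*} [Category C] [Category D] [HasZeroObject C] [HasZeroObject D]
  [Preadditive C] [Preadditive D] (F : C ⥤ D) [F.Additive]

open HomologicalComplex

/-- auxiliary isomorphism on the `Option`-indexed objects -/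
noncomputable def XIsoAux (K : HomologicalComplex C c) : ∀ (o : Option ι),
    F.obj (extend.X K o) ≅ extend.X ((F.mapHomologicalComplex c).obj K) o
  | some _ => Iso.refl _
  | none => IsZero.iso (F.map_isZero (isZero_zero C)) (isZero_zero D)

lemma XIsoAux_d (K : HomologicalComplex C c) (o o' : Option ι) :
    F.map (extend.d K o o') ≫ (XIsoAux F K o').hom =
      (XIsoAux F K o).hom ≫ extend.d ((F.mapHomologicalComplex c).obj K) o o' := by
  match o, o' with
  | none, _ =>
    rw [extend.d_none_eq_zero _ _ _ rfl, extend.d_none_eq_zero _ _ _ rfl, F.map_zero, zero_comp,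
      comp_zero]
  | some i, some j =>
    show F.map (K.d i j) ≫ 𝟙 (F.obj (K.X j)) = 𝟙 (F.obj (K.X i)) ≫ F.map (K.d i j)
    rw [Category.comp_id, Category.id_comp]
  | some _, none =>
    rw [extend.d_none_eq_zero' _ _ _ rfl, extend.d_none_eq_zero' _ _ _ rfl, F.map_zero, zero_comp,
      comp_zero]

lemma XIsoAux_map {K L : HomologicalComplex C c} (φ : K ⟶ L) (o : Option ι) :
    F.map (extend.mapX φ o) ≫ (XIsoAux F L o).hom =
      (XIsoAux F K o).hom ≫ extend.mapX ((F.mapHomologicalComplex c).map φ) o := by
  match o with
  | none =>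
    rw [extend.mapX_none _ rfl, extend.mapX_none _ rfl, F.map_zero, zero_comp, comp_zero]
  | some i =>
    show F.map (φ.f i) ≫ 𝟙 (F.obj (L.X i)) = 𝟙 (F.obj (K.X i)) ≫ F.map (φ.f i)
    rw [Category.comp_id, Category.id_comp]

/-- `F` applied to the extension is the extension of `F` applied. -/
noncomputable def mapExtendIso (K : HomologicalComplex C c) :
    (F.mapHomologicalComplex c').obj (K.extend e) ≅
      ((F.mapHomologicalComplex c).obj K).extend e :=
  Hom.isoOfComponents (fun i' => XIsoAux F K (e.r i')) (fun i' j' _ => by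
    exact (XIsoAux_d F K (e.r i') (e.r j')).symm)

lemma mapExtendIso_naturality {K L : HomologicalComplex C c} (φ : K ⟶ L) :
    (F.mapHomologicalComplex c').map (extendMap φ e) ≫ (mapExtendIso e F L).hom =
      (mapExtendIso e F K).hom ≫ extendMap ((F.mapHomologicalComplex c).map φ) e := by
  ext i'
  exact XIsoAux_map F φ (e.r i')

end Groth.Agent.Lib.Helper6.ExtendFunctor
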