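import Groth.Agent.Lib.Helper6.RDPlus3

/-!
# Acyclic objects and Leray's acyclicity lemma for `F.rightDerivedFunctorPlus`
-/

set_option autoImplicit false
universe w w' v v' u u'
open CategoryTheory CategoryTheory.Limits

namespace Groth.Agent.Lib.Helper6.RDPlus

variable {C : Type u} [Category.{v} C] [Abelian C] [HasDerivedCategory.{w} C]
  {D : Type u'} [Category.{v'} D] [Abelian D] [HasDerivedCategory.{w'} D]
  (F : C ⥤ D) [F.Additive]

section Classical

omit [HasDerivedCategory.{w} C] [HasDerivedCategory.{w'} D]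

variable {X : C} (R : InjectiveResolution X)

lemma quasiIsoAt_map_extendMap_iff {K L : CochainComplex C ℕ} (f : K ⟶ L) (n : ℕ) :
    QuasiIsoAt ((F.mapHomologicalComplex (ComplexShape.up ℤ)).map
        (HomologicalComplex.extendMap f ComplexShape.embeddingUpNat)) (n : ℤ) ↔
      QuasiIsoAt ((F.mapHomologicalComplex (ComplexShape.up ℕ)).map f) n := by
  rw [← HomologicalComplex.quasiIsoAt_extendMap_iff
    ((F.mapHomologicalComplex (ComplexShape.up ℕ)).map f) ComplexShape.embeddingUpNat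
    (j := n) (j' := (n : ℤ)) (by simp)]
  have nat := ExtendFunctor.mapExtendIso_naturality ComplexShape.embeddingUpNat F f
  rw [← quasiIsoAt_iff_comp_right _
    (ExtendFunctor.mapExtendIso ComplexShape.embeddingUpNat F L).hom, nat,
    quasiIsoAt_iff_comp_left]

/-- degreewise version of `quasiIso_map_ι'_iff` -/
lemma quasiIsoAt_map_ι'_iff (n : ℕ) :
    QuasiIsoAt ((F.mapHomologicalComplex (ComplexShape.up ℤ)).map R.ι') (n : ℤ) ↔
      QuasiIsoAt ((F.mapHomologicalComplex (ComplexShape.up ℕ)).map R.ι) n := by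
  have gen : ∀ {P Q Rr : CochainComplex C ℤ} (a : P ⟶ Q) [IsIso a] (b : Q ⟶ Rr),
      QuasiIsoAt ((F.mapHomologicalComplex (ComplexShape.up ℤ)).map (a ≫ b)) (n : ℤ) ↔
        QuasiIsoAt ((F.mapHomologicalComplex (ComplexShape.up ℤ)).map b) (n : ℤ) := by
    intro P Q Rr a _ b
    rw [Functor.map_comp, quasiIsoAt_iff_comp_left]
  have h1 : R.ι' = (HomologicalComplex.extendSingleIso _ _ _ _ (by simp)).inv ≫
      HomologicalComplex.extendMap R.ι ComplexShape.embeddingUpNat := rfl
  rw [h1]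
  refine (@gen _ _ _ _ (Iso.isIso_inv _) _).trans ?_
  exact quasiIsoAt_map_extendMap_iff F R.ι n

end Classical

section

variable [EnoughInjectives C]

/-- `τ⁰` is an isomorphism iff `F X ⟶ Z⁰(F I)` is. -/
lemma isIso_τ_zero_iff {X : C} (R : InjectiveResolution X) :
    IsIso ((τ F 0).app X) ↔ IsIso (R.toRightDerivedZero' F) := by
  let T : CochainComplex.Plus C := ⟨R.cochainComplex, 0, inferInstance⟩
  let φ : (sing C).obj X ⟶ T := ObjectProperty.homMk R.ι'
  have hφ : QuasiIso φ.hom := inferInstanceAs (QuasiIso R.ι')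
  have hT : ∀ n, Injective (T.obj.X n) := fun n => inferInstanceAs (Injective (R.cochainComplex.X n))
  rw [← quasiIsoAt_zero_iff F R, ← quasiIsoAt_map_ι'_iff F R 0]
  show IsIso ((η' F 0).app ((sing C).obj X)) ↔ _
  rw [isIso_η'_app_iff F φ hφ hT 0, quasiIsoAt_iff_isIso_homologyMap]
  rfl

/-- For a left exact functor, `τ⁰ : F X ⟶ R⁰F X` is an isomorphism. -/
instance isIso_τ_zero [PreservesFiniteLimits F] (X : C) : IsIso ((τ F 0).app X) := by
  rw [isIso_τ_zero_iff F (injectiveResolution X)]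
  infer_instance

/-- right `F`-acyclic objects: `RⁿF X = 0` for `n > 0`. -/
def Acyc (X : C) : Prop := ∀ n : ℤ, 0 < n → IsZero ((R F n).obj X)

lemma acyc_of_isZero {X : C} (hX : IsZero X) : Acyc F X := fun n _ =>
  IsZero.of_iso (isZero_R_obj_zero F n) ((R F n).mapIso (hX.iso (isZero_zero C)))

lemma acyc_of_iso {X Y : C} (e : X ≅ Y) (hX : Acyc F X) : Acyc F Y := fun n hn =>
  IsZero.of_iso (hX n hn) ((R F n).mapIso e.symm)

lemma acyc_of_injective (X : C) [Injective X] : Acyc F X := fun n hn =>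
  isZero_R_obj_of_injective F X n hn.ne'

lemma acyc_X₃ (S : ShortComplex C) (hS : S.ShortExact) (h₁ : Acyc F S.X₁) (h₂ : Acyc F S.X₂) :
    Acyc F S.X₃ := fun n hn => by
  obtain ⟨δ, w₁, w₂, w₃, e₁, e₂, e₃⟩ := les_R F S hS n
  exact e₂.isZero_X₂ ((h₂ n hn).eq_of_src _ _) ((h₁ (n + 1) (by lia)).eq_of_tgt _ _)

lemma acyc_X₂ (S : ShortComplex C) (hS : S.ShortExact) (h₁ : Acyc F S.X₁) (h₃ : Acyc F S.X₃) :
    Acyc F S.X₂ := fun n hn => by
  obtain ⟨δ, w₁, w₂, w₃, e₁, e₂, e₃⟩ := les_R F S hS n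
  exact e₁.isZero_X₂ ((h₁ n hn).eq_of_src _ _) ((h₃ n hn).eq_of_tgt _ _)

lemma acyc_biprod {X Y : C} (hX : Acyc F X) (hY : Acyc F Y) : Acyc F (X ⊞ Y) := by
  let S : ShortComplex C := ShortComplex.mk (biprod.inl : X ⟶ X ⊞ Y) biprod.snd (by simp)
  have hS : S.ShortExact := (ShortComplex.Splitting.ofHasBinaryBiproduct X Y).shortExact
  exact acyc_X₂ F S hS hX hY

lemma acyc_iff_unit [PreservesFiniteLimits F] (X : C) :
    Acyc F X ↔
      IsIso (F.rightDerivedFunctorPlusUnit.app ((HomotopyCategory.Plus.singleFunctor C 0).obj X)) := by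
  rw [isIso_unit_single_iff']
  exact ⟨fun h => ⟨inferInstance, h⟩, fun h => h.2⟩

lemma acyc_iff_classical [PreservesFiniteLimits F] (X : C) :
    Acyc F X ↔ ∀ i : ℕ, 0 < i → IsZero ((F.rightDerived i).obj X) := by
  rw [acyc_iff_unit, isIso_unit_single_iff_classical]
  exact ⟨fun h => h.2, fun h => ⟨inferInstance, h⟩⟩

/-- A left exact functor preserves short exact sequences with acyclic kernel. -/
lemma shortExact_map_of_acyc [PreservesFiniteLimits F] (S : ShortComplex C) (hS : S.ShortExact)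
    (h₁ : Acyc F S.X₁) : (S.map F).ShortExact := by
  have := hS.mono_f
  obtain ⟨δ, w₁, w₂, w₃, e₁, e₂, e₃⟩ := les_R F S hS 0
  have hepi : Epi ((R F 0).map S.g) := e₂.epi_f ((h₁ (0 + 1) (by lia)).eq_of_tgt _ _)
  have hepiG : Epi ((G F 0).map S.g) := by
    have e : (G F 0).map S.g = (τ F 0).app S.X₂ ≫ (R F 0).map S.g ≫ inv ((τ F 0).app S.X₃) := by
      rw [← Category.assoc, ← (τ F 0).naturality S.g, Category.assoc, IsIso.hom_inv_id,
        Category.comp_id]
    rw [e]
    infer_instance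
  have hepiF : Epi (F.map S.g) := by
    have e : F.map S.g = (GZeroIso F).inv.app S.X₂ ≫ (G F 0).map S.g ≫ (GZeroIso F).hom.app S.X₃ := by
      rw [(GZeroIso F).hom.naturality S.g, Iso.inv_hom_id_app_assoc]
    rw [e]
    infer_instance
  exact
    { exact := hS.exact.map_of_mono_of_preservesKernel F inferInstance inferInstance
      mono_f := inferInstanceAs (Mono (F.map S.f))
      epi_g := hepiF }

end

section Cone

omit [HasDerivedCategory.{w} C] [HasDerivedCategory.{w'} D]

/-- A morphism of cochain complexes is a quasi-isomorphism iff its mapping cone is acyclic. -/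
lemma quasiIso_iff_acyclic_mappingCone {K L : CochainComplex C ℤ} (f : K ⟶ L) :
    QuasiIso f ↔ (CochainComplex.mappingCone f).Acyclic := by
  rw [← HomotopyCategory.quotient_obj_mem_subcategoryAcyclic_iff_acyclic,
    ← HomologicalComplex.mem_quasiIso_iff, ← HomotopyCategory.quotient_map_mem_quasiIso_iff,
    HomotopyCategory.quasiIso_eq_trW_subcategoryAcyclic]
  exact (HomotopyCategory.subcategoryAcyclic C).trW_iff_of_distinguished _
    (HomotopyCategory.mappingCone_triangleh_distinguished f)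

lemma exact_of_factor {𝒜 : Type*} [Category 𝒜] [Abelian 𝒜] {X₀ Z X Z' X' : 𝒜}
    (p : X₀ ⟶ Z) (i : Z ⟶ X) (q : X ⟶ Z') (j : Z' ⟶ X') [Epi p] [Mono j] (w : i ≫ q = 0)
    (h : (ShortComplex.mk i q w).Exact) (w' : (p ≫ i) ≫ (q ≫ j) = 0) :
    (ShortComplex.mk (p ≫ i) (q ≫ j) w').Exact := by
  have wa : (p ≫ i) ≫ q = 0 := by rw [Category.assoc, w, comp_zero]
  let α : ShortComplex.mk (p ≫ i) q wa ⟶ ShortComplex.mk i q w :=
    { τ₁ := p
      τ₂ := 𝟙 _
      τ₃ := 𝟙 _ }
  let β : ShortComplex.mk (p ≫ i) q wa ⟶ ShortComplex.mk (p ≫ i) (q ≫ j) w' :=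
    { τ₁ := 𝟙 _
      τ₂ := 𝟙 _
      τ₃ := j }
  have : Epi α.τ₁ := inferInstanceAs (Epi p)
  have : IsIso α.τ₂ := inferInstanceAs (IsIso (𝟙 _))
  have : Mono α.τ₃ := inferInstanceAs (Mono (𝟙 _))
  have : Epi β.τ₁ := inferInstanceAs (Epi (𝟙 _))
  have : IsIso β.τ₂ := inferInstanceAs (IsIso (𝟙 _))
  have : Mono β.τ₃ := inferInstanceAs (Mono j)
  exact (ShortComplex.exact_iff_of_epi_of_isIso_of_mono β).1
    ((ShortComplex.exact_iff_of_epi_of_isIso_of_mono α).2 h)

/-- the short exact sequence `0 ⟶ Zᵐ ⟶ Qᵐ ⟶ Zⁿ ⟶ 0` (`n = m + 1`) of an acyclic complex. -/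
noncomputable def cyclesSES (Q : CochainComplex C ℤ) (m n : ℤ) : ShortComplex C :=
  ShortComplex.mk (Q.iCycles m) (Q.toCycles m n) (by
    rw [← cancel_mono (Q.iCycles n), Category.assoc, HomologicalComplex.toCycles_i,
      HomologicalComplex.iCycles_d, zero_comp])

lemma cyclesSES_shortExact (Q : CochainComplex C ℤ) (hQ : Q.Acyclic) (m n : ℤ) (h : m + 1 = n) :
    (cyclesSES Q m n).ShortExact := by
  have ex : (cyclesSES Q m n).Exact := by
    have w2 : Q.iCycles m ≫ Q.d m n = 0 := Q.iCycles_d m n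
    let β : cyclesSES Q m n ⟶ ShortComplex.mk (Q.iCycles m) (Q.d m n) w2 :=
      { τ₁ := 𝟙 _
        τ₂ := 𝟙 _
        τ₃ := Q.iCycles n
        comm₁₂ := by
          dsimp [cyclesSES]
          rw [Category.id_comp, Category.comp_id]
        comm₂₃ := by
          dsimp [cyclesSES]
          rw [Category.id_comp, HomologicalComplex.toCycles_i] }
    have : Epi β.τ₁ := inferInstanceAs (Epi (𝟙 _))
    have : IsIso β.τ₂ := inferInstanceAs (IsIso (𝟙 _))
    have : Mono β.τ₃ := inferInstanceAs (Mono (Q.iCycles n))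
    rw [ShortComplex.exact_iff_of_epi_of_isIso_of_mono β]
    exact ShortComplex.exact_of_f_is_kernel _ (Q.cyclesIsKernel m n (by simp [← h]))
  have epi : Epi (Q.toCycles m n) := by
    have hz : IsZero (Q.homology n) := (hQ n).isZero_homology
    have e : (ShortComplex.mk (Q.toCycles m n) (Q.homologyπ n)
        (Q.toCycles_comp_homologyπ m n)).Exact :=
      ShortComplex.exact_of_g_is_cokernel _ (Q.homologyIsCokernel m n (by simp [← h]))
    exact e.epi_f (hz.eq_of_tgt _ _)
  exact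
    { exact := ex
      mono_f := inferInstanceAs (Mono (Q.iCycles m))
      epi_g := epi }

end Cone

section Leray

variable [EnoughInjectives C] [PreservesFiniteLimits F]

omit [PreservesFiniteLimits F] in
lemma acyc_cycles (Q : CochainComplex C ℤ) (a : ℤ) [Q.IsStrictlyGE a] (hQ : Q.Acyclic)
    (hA : ∀ n, Acyc F (Q.X n)) (n : ℤ) : Acyc F (Q.cycles n) := by
  have zero : ∀ n, n < a → Acyc F (Q.cycles n) := fun n hn =>
    acyc_of_isZero F (IsZero.of_mono (Q.iCycles n) (Q.isZero_of_isStrictlyGE a n hn))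
  by_cases hn : n < a
  · exact zero n hn
  · have hn' : a - 1 ≤ n := by lia
    induction n, hn' using Int.leInduction with
    | base => exact zero _ (by lia)
    | succ n hn ih =>
      by_cases h : n < a
      · exact acyc_X₃ F _ (cyclesSES_shortExact Q hQ n (n + 1) rfl) (zero n h) (hA n)
      · exact acyc_X₃ F _ (cyclesSES_shortExact Q hQ n (n + 1) rfl) (ih h) (hA n)

/-- `F` sends bounded below acyclic complexes of `F`-acyclic objects to acyclic complexes. -/
lemma acyclic_map_of_acyc (Q : CochainComplex C ℤ) (a : ℤ) [Q.IsStrictlyGE a] (hQ : Q.Acyclic)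
    (hA : ∀ n, Acyc F (Q.X n)) :
    ((F.mapHomologicalComplex (ComplexShape.up ℤ)).obj Q).Acyclic := by
  intro n
  rw [HomologicalComplex.exactAt_iff' _ (n - 1) n (n + 1) (by simp) (by simp)]
  have h1 := shortExact_map_of_acyc F _ (cyclesSES_shortExact Q hQ (n - 1) n (by lia))
    (acyc_cycles F Q a hQ hA (n - 1))
  have h2 := shortExact_map_of_acyc F _ (cyclesSES_shortExact Q hQ n (n + 1) rfl)
    (acyc_cycles F Q a hQ hA n)
  have h3 := shortExact_map_of_acyc F _ (cyclesSES_shortExact Q hQ (n + 1) (n + 1 + 1) rfl)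
    (acyc_cycles F Q a hQ hA (n + 1))
  have : Epi (F.map (Q.toCycles (n - 1) n)) := h1.epi_g
  have : Mono (F.map (Q.iCycles (n + 1))) := h3.mono_f
  have w' : (F.map (Q.toCycles (n - 1) n) ≫ F.map (Q.iCycles n)) ≫
      (F.map (Q.toCycles n (n + 1)) ≫ F.map (Q.iCycles (n + 1))) = 0 := by
    rw [← F.map_comp, ← F.map_comp, ← F.map_comp, HomologicalComplex.toCycles_i,
      HomologicalComplex.toCycles_i, Q.d_comp_d, F.map_zero]
  have key := exact_of_factor (F.map (Q.toCycles (n - 1) n)) (F.map (Q.iCycles n))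
    (F.map (Q.toCycles n (n + 1))) (F.map (Q.iCycles (n + 1)))
    ((cyclesSES Q n (n + 1)).map F).zero h2.exact w'
  refine ShortComplex.exact_of_iso (ShortComplex.isoMk
    (S₁ := ShortComplex.mk _ _ w')
    (S₂ := ((F.mapHomologicalComplex (ComplexShape.up ℤ)).obj Q).sc' (n - 1) n (n + 1))
    (Iso.refl _) (Iso.refl _) (Iso.refl _) ?_ ?_) key
  · show 𝟙 (F.obj (Q.X (n - 1))) ≫ F.map (Q.d (n - 1) n) =
      (F.map (Q.toCycles (n - 1) n) ≫ F.map (Q.iCycles n)) ≫ 𝟙 (F.obj (Q.X n))
    rw [Category.id_comp, Category.comp_id, ← F.map_comp, HomologicalComplex.toCycles_i]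
  · show 𝟙 (F.obj (Q.X n)) ≫ F.map (Q.d n (n + 1)) =
      (F.map (Q.toCycles n (n + 1)) ≫ F.map (Q.iCycles (n + 1))) ≫ 𝟙 (F.obj (Q.X (n + 1)))
    rw [Category.id_comp, Category.comp_id, ← F.map_comp, HomologicalComplex.toCycles_i]

/-- **Leray's acyclicity lemma**: the unit of `F.rightDerivedFunctorPlus` is an isomorphism on
bounded below complexes of `F`-acyclic objects. -/
theorem isIso_unit_of_acyc (K : CochainComplex.Plus C) (hK : ∀ m, Acyc F (K.obj.X m)) :
    IsIso (F.rightDerivedFunctorPlusUnit.app ((HomotopyCategory.Plus.quotient C).obj K)) := by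
  obtain ⟨a, ha⟩ := K.property
  obtain ⟨L, j, hL, hinj, -, hq⟩ := InjRes.exists_mono_quasiIso_injective K.obj a
  let T : CochainComplex.Plus C := ⟨L, a, hL⟩
  let φ : K ⟶ T := ObjectProperty.homMk j
  rw [isIso_unit_iff_quasiIso F φ hq hinj, quasiIso_iff_acyclic_mappingCone]
  have hcone : (CochainComplex.mappingCone j).Acyclic := (quasiIso_iff_acyclic_mappingCone j).1 hq
  have hge : (CochainComplex.mappingCone j).IsStrictlyGE (a - 1) := by
    rw [CochainComplex.isStrictlyGE_iff]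
    intro i hi
    rw [CochainComplex.mappingCone.isZero_X_iff]
    exact ⟨K.obj.isZero_of_isStrictlyGE a _ (by lia), L.isZero_of_isStrictlyGE a _ (by lia)⟩
  have hterms : ∀ n, Acyc F ((CochainComplex.mappingCone j).X n) := fun n => by
    have := hinj n
    exact acyc_of_iso F (HomologicalComplex.homotopyCofiber.XIsoBiprod j n (n + 1) rfl).symm
      (acyc_biprod F (hK (n + 1)) (acyc_of_injective F (L.X n)))
  have := acyclic_map_of_acyc F (CochainComplex.mappingCone j) (a - 1) hcone hterms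
  intro n
  exact (this n).of_iso (CochainComplex.mappingCone.mapHomologicalComplexIso j F)

end Leray

end Groth.Agent.Lib.Helper6.RDPlus
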