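import Mathlib
import Groth.Agent.Lib.Helper99.KInjDerK

/-!
# The total right derived functor and distinguished triangles on K-injective complexes (helper6)
-/

set_option autoImplicit false
set_option linter.style.haveILetI false
set_option linter.unusedSectionVars false

universe w w' v v' u u'

namespace Groth.Agent.Lib.Helper6.RFTriangle

open CategoryTheory CategoryTheory.Limits CategoryTheory.Pretriangulated

section Tri

variable {D : Type u} [Category.{v} D] [Preadditive D] [HasZeroObject D] [HasShift D ℤ]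
  [∀ n : ℤ, (shiftFunctor D n).Additive] [Pretriangulated D]

/-- transport of a distinguished triangle along isomorphisms, keeping a prescribed middle map -/
lemma exists_triangle_of_iso (T : Triangle D) (hT : T ∈ distTriang D) {X₁ X₂ X₃ : D}
    (e₁ : X₁ ≅ T.obj₁) (e₂ : X₂ ≅ T.obj₂) (e₃ : X₃ ≅ T.obj₃) (m : X₂ ⟶ X₃)
    (hm : m ≫ e₃.hom = e₂.hom ≫ T.mor₂) :
    ∃ (a : X₁ ⟶ X₂) (c : X₃ ⟶ (shiftFunctor D (1 : ℤ)).obj X₁),
      Triangle.mk a m c ∈ distTriang D := by
  refine ⟨e₁.hom ≫ T.mor₁ ≫ e₂.inv, e₃.hom ≫ T.mor₃ ≫ (shiftFunctor D (1 : ℤ)).map e₁.inv, ?_⟩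
  refine isomorphic_distinguished _ hT _ (Triangle.isoMk _ _ e₁ e₂ e₃ ?_ ?_ ?_)
  · change (e₁.hom ≫ T.mor₁ ≫ e₂.inv) ≫ e₂.hom = e₁.hom ≫ T.mor₁
    simp only [Category.assoc, Iso.inv_hom_id, Category.comp_id]
  · exact hm
  · change (e₃.hom ≫ T.mor₃ ≫ (shiftFunctor D (1 : ℤ)).map e₁.inv) ≫
      (shiftFunctor D (1 : ℤ)).map e₁.hom = e₃.hom ≫ T.mor₃
    simp only [Category.assoc, ← Functor.map_comp, Iso.inv_hom_id]
    rw [CategoryTheory.Functor.map_id, Category.comp_id]

/-- uniqueness of the fibre of a morphism -/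
lemma nonempty_iso_obj₁ (T T' : Triangle D) (hT : T ∈ distTriang D) (hT' : T' ∈ distTriang D)
    (e₂ : T.obj₂ ≅ T'.obj₂) (e₃ : T.obj₃ ≅ T'.obj₃)
    (comm : T.mor₂ ≫ e₃.hom = e₂.hom ≫ T'.mor₂) : Nonempty (T.obj₁ ≅ T'.obj₁) := by
  obtain ⟨e, -, -⟩ := exists_iso_of_arrow_iso T.rotate T'.rotate (rot_of_distTriang _ hT)
    (rot_of_distTriang _ hT') (Arrow.isoMk e₂ e₃ comm.symm)
  have e3 : (shiftFunctor D (1 : ℤ)).obj T.obj₁ ≅ (shiftFunctor D (1 : ℤ)).obj T'.obj₁ :=
    Triangle.π₃.mapIso e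
  exact ⟨(shiftFunctor D (1 : ℤ)).preimageIso e3⟩

end Tri

section RF

open DerivedCategory

variable {A : Type u} [Category.{v} A] [Abelian A] [HasDerivedCategory.{w} A]
  {B : Type u'} [Category.{v'} B] [Abelian B] [HasDerivedCategory.{w'} B]
  (F : A ⥤ B) [F.Additive]

/-- `Ψ(quotient X) ≅ Q (F X)` -/
noncomputable def ξ (X : CochainComplex A ℤ) :
    (F.mapHomotopyCategory (ComplexShape.up ℤ) ⋙ Qh).obj
      ((HomotopyCategory.quotient _ _).obj X) ≅
      Q.obj ((F.mapHomologicalComplex (ComplexShape.up ℤ)).obj X) :=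
  Qh.mapIso ((F.mapHomotopyCategoryFactors (ComplexShape.up ℤ)).app X) ≪≫
    (quotientCompQhIso B).app _

lemma ξ_naturality {X Y : CochainComplex A ℤ} (g : X ⟶ Y) :
    (F.mapHomotopyCategory (ComplexShape.up ℤ) ⋙ Qh).map
      ((HomotopyCategory.quotient _ _).map g) ≫ (ξ F Y).hom =
      (ξ F X).hom ≫ Q.map ((F.mapHomologicalComplex (ComplexShape.up ℤ)).map g) := by
  dsimp only [ξ, Iso.trans_hom, Functor.mapIso_hom, Iso.app_hom, Functor.comp_map]
  have h1 := (F.mapHomotopyCategoryFactors (ComplexShape.up ℤ)).hom.naturality g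
  dsimp only [Functor.comp_map] at h1
  have h2 := quotientCompQhIso_hom_naturality (C := B)
    ((F.mapHomologicalComplex (ComplexShape.up ℤ)).map g)
  rw [Category.assoc, ← h2, ← Category.assoc, ← Category.assoc, ← Functor.map_comp,
    ← Functor.map_comp, h1]

variable [IsGrothendieckAbelian.{v} A]
  (RF : DerivedCategory A ⥤ DerivedCategory B)
  (β : F.mapHomotopyCategory (ComplexShape.up ℤ) ⋙ Qh ⟶ Qh ⋙ RF)
  [RF.IsRightDerivedFunctor β (HomotopyCategory.quasiIso A (ComplexShape.up ℤ))]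

lemma isIso_β_app (X : HomotopyCategory A (ComplexShape.up ℤ))
    (hX : Groth.Agent.Lib.Helper99.KInj.kInjK A X) : IsIso (β.app X) :=
  Groth.Agent.Lib.Helper99.KInj.isIso_app_of_kInjK _ RF β X hX

/-- `RF (Q X) ≅ Q (F X)` for `X` K-injective -/
noncomputable def ζ (X : CochainComplex A ℤ) [hX : X.IsKInjective] :
    RF.obj (Q.obj X) ≅ Q.obj ((F.mapHomologicalComplex (ComplexShape.up ℤ)).obj X) :=
  haveI := isIso_β_app F RF β ((HomotopyCategory.quotient _ _).obj X) hX
  RF.mapIso ((quotientCompQhIso A).app X).symm ≪≫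
    (asIso (β.app ((HomotopyCategory.quotient _ _).obj X))).symm ≪≫ ξ F X

lemma ζ_naturality {X Y : CochainComplex A ℤ} [hX : X.IsKInjective] [hY : Y.IsKInjective]
    (g : X ⟶ Y) :
    RF.map (Q.map g) ≫ (ζ F RF β Y).hom =
      (ζ F RF β X).hom ≫ Q.map ((F.mapHomologicalComplex (ComplexShape.up ℤ)).map g) := by
  haveI := isIso_β_app F RF β ((HomotopyCategory.quotient _ _).obj X) hX
  haveI := isIso_β_app F RF β ((HomotopyCategory.quotient _ _).obj Y) hY
  dsimp only [ζ, Iso.trans_hom, Iso.symm_hom, Functor.mapIso_hom, asIso_inv, Iso.app_inv,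
    Functor.mapIso_inv, Iso.symm_inv, Iso.app_hom]
  have h1 := quotientCompQhIso_inv_naturality (C := A) g
  have h2 := β.naturality ((HomotopyCategory.quotient _ _).map g)
  dsimp only [Functor.comp_map] at h2
  have h3 := ξ_naturality F g
  dsimp only [Functor.comp_map] at h3
  simp only [Category.assoc]
  rw [← h3, ← RF.map_comp_assoc, h1, RF.map_comp_assoc]
  congr 1
  rw [← Category.assoc, ← Category.assoc]
  congr 1
  rw [← cancel_mono (β.app ((HomotopyCategory.quotient _ _).obj Y)), Category.assoc,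
    IsIso.inv_hom_id, Category.comp_id, Category.assoc, h2, IsIso.inv_hom_id_assoc]

include β in
/-- `RF` sends the fibre of a map of K-injective complexes to the fibre of its image under `F` -/
theorem exists_distinguished_RF {X Y : CochainComplex A ℤ} [hX : X.IsKInjective]
    [hY : Y.IsKInjective] (φ : X ⟶ Y) (L : DerivedCategory A) (a : L ⟶ Q.obj X)
    (c : Q.obj Y ⟶ (shiftFunctor (DerivedCategory A) (1 : ℤ)).obj L)
    (hT : Triangle.mk a (Q.map φ) c ∈ distTriang (DerivedCategory A)) :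
    ∃ (a' : RF.obj L ⟶ Q.obj ((F.mapHomologicalComplex (ComplexShape.up ℤ)).obj X))
      (c' : Q.obj ((F.mapHomologicalComplex (ComplexShape.up ℤ)).obj Y) ⟶
        (shiftFunctor (DerivedCategory B) (1 : ℤ)).obj (RF.obj L)),
      Triangle.mk a' (Q.map ((F.mapHomologicalComplex (ComplexShape.up ℤ)).map φ)) c' ∈
        distTriang (DerivedCategory B) := by
  -- the fibre in the homotopy category
  obtain ⟨𝒥, f, h, hK⟩ := distinguished_cocone_triangle₁
    ((HomotopyCategory.quotient A (ComplexShape.up ℤ)).map φ)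
  have h𝒥 : Groth.Agent.Lib.Helper99.KInj.kInjK A 𝒥 := by
    obtain ⟨J, rfl⟩ := HomotopyCategory.quotient_obj_surjective 𝒥
    change CochainComplex.IsKInjective J
    rw [CochainComplex.isKInjective_iff_rightOrthogonal]
    refine ObjectProperty.ext_of_isTriangulatedClosed₁ _ _ hK ?_ ?_
    · exact (CochainComplex.isKInjective_iff_rightOrthogonal X).1 hX
    · exact (CochainComplex.isKInjective_iff_rightOrthogonal Y).1 hY
  -- its image in `D(A)` is `L`
  have hK1 := (Qh (C := A)).map_distinguished _ hK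
  obtain ⟨eL⟩ := nonempty_iso_obj₁ _ _ hK1 hT ((quotientCompQhIso A).app X)
    ((quotientCompQhIso A).app Y) (quotientCompQhIso_hom_naturality φ)
  change Qh.obj 𝒥 ≅ L at eL
  -- its image in `D(B)`
  have hK2 := (F.mapHomotopyCategory (ComplexShape.up ℤ) ⋙ Qh (C := B)).map_distinguished _ hK
  haveI := isIso_β_app F RF β 𝒥 h𝒥
  let e₁ : RF.obj L ≅ (F.mapHomotopyCategory (ComplexShape.up ℤ) ⋙ Qh (C := B)).obj 𝒥 :=
    RF.mapIso eL.symm ≪≫ (asIso (β.app 𝒥)).symm
  exact exists_triangle_of_iso _ hK2 e₁ (ξ F X).symm (ξ F Y).symm _ (by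
    change Q.map ((F.mapHomologicalComplex (ComplexShape.up ℤ)).map φ) ≫ (ξ F Y).inv =
      (ξ F X).inv ≫ (F.mapHomotopyCategory (ComplexShape.up ℤ) ⋙ Qh (C := B)).map
        ((HomotopyCategory.quotient A (ComplexShape.up ℤ)).map φ)
    rw [Iso.comp_inv_eq, Category.assoc, ξ_naturality, Iso.inv_hom_id_assoc])

end RF

end Groth.Agent.Lib.Helper6.RFTriangle
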