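import Mathlib
import Groth.Agent.Lib.Helper6.RFTriangle

/-!
# The total right derived functor sends distinguished triangles to distinguished triangles
(up to the choice of the third map) (helper6)
-/

set_option autoImplicit false
set_option linter.style.haveILetI false
set_option linter.unusedSectionVars false

universe w w' v v' u u'

namespace Groth.Agent.Lib.Helper6.RFTriangle2

open CategoryTheory CategoryTheory.Limits CategoryTheory.Pretriangulated DerivedCategory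

section Tri

variable {D : Type u} [Category.{v} D] [Preadditive D] [HasZeroObject D] [HasShift D ℤ]
  [∀ n : ℤ, (shiftFunctor D n).Additive] [Pretriangulated D]

/-- transport of a distinguished triangle along isomorphisms, keeping the first two maps -/
lemma exists_mor₃_of_iso (T : Triangle D) (hT : T ∈ distTriang D) {X₁ X₂ X₃ : D}
    (e₁ : X₁ ≅ T.obj₁) (e₂ : X₂ ≅ T.obj₂) (e₃ : X₃ ≅ T.obj₃) (a : X₁ ⟶ X₂) (b : X₂ ⟶ X₃)
    (ha : a ≫ e₂.hom = e₁.hom ≫ T.mor₁) (hb : b ≫ e₃.hom = e₂.hom ≫ T.mor₂) :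
    ∃ c : X₃ ⟶ X₁⟦(1 : ℤ)⟧, Triangle.mk a b c ∈ distTriang D := by
  refine ⟨e₃.hom ≫ T.mor₃ ≫ e₁.inv⟦(1 : ℤ)⟧', isomorphic_distinguished _ hT _
    (Triangle.isoMk _ _ e₁ e₂ e₃ ha hb ?_)⟩
  change (e₃.hom ≫ T.mor₃ ≫ e₁.inv⟦(1 : ℤ)⟧') ≫ e₁.hom⟦(1 : ℤ)⟧' = e₃.hom ≫ T.mor₃
  rw [Category.assoc, Category.assoc, ← Functor.map_comp, Iso.inv_hom_id,
    CategoryTheory.Functor.map_id, Category.comp_id]

end Tri

section Aux

variable {𝒞 : Type*} [Category 𝒞] {𝒟 : Type*} [Category 𝒟] (G : 𝒞 ⥤ 𝒟)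

lemma square_aux {X₁ X₂ Y₁ Y₂ : 𝒞} (m : X₁ ⟶ X₂) (ε₁ : X₁ ⟶ Y₁) (ε₂ : X₂ ⟶ Y₂) (q : Y₁ ⟶ Y₂)
    (h1 : m ≫ ε₂ = ε₁ ≫ q) {P₁ P₂ : 𝒟} (B₁ : P₁ ≅ G.obj Y₁) (B₂ : P₂ ≅ G.obj Y₂) (p : P₁ ⟶ P₂)
    (h2 : p ≫ B₂.hom = B₁.hom ≫ G.map q) :
    G.map m ≫ (G.map ε₂ ≫ B₂.inv) = (G.map ε₁ ≫ B₁.inv) ≫ p := by
  have h3 : G.map q ≫ B₂.inv = B₁.inv ≫ p := by
    rw [Iso.eq_inv_comp, ← Category.assoc, Iso.comp_inv_eq]
    exact h2.symm
  rw [← Category.assoc, ← G.map_comp, h1, G.map_comp, Category.assoc, h3, Category.assoc]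

end Aux

section RF

variable {A : Type u} [Category.{v} A] [Abelian A] [HasDerivedCategory.{w} A]
  [IsGrothendieckAbelian.{v} A]
  {B : Type u'} [Category.{v'} B] [Abelian B] [HasDerivedCategory.{w'} B]
  (F : A ⥤ B) [F.Additive]
  (RF : DerivedCategory A ⥤ DerivedCategory B)
  (β : F.mapHomotopyCategory (ComplexShape.up ℤ) ⋙ Qh ⟶ Qh ⋙ RF)
  [RF.IsRightDerivedFunctor β (HomotopyCategory.quasiIso A (ComplexShape.up ℤ))]

open Groth.Agent.Lib.Helper99.KInj Groth.Agent.Lib.Helper6.RFTriangle in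
include β in
/-- `RF` sends distinguished triangles to distinguished triangles (for some third map). -/
theorem exists_distinguished_map (T : Triangle (DerivedCategory A))
    (hT : T ∈ distTriang (DerivedCategory A)) :
    ∃ c : RF.obj T.obj₃ ⟶ (RF.obj T.obj₁)⟦(1 : ℤ)⟧,
      Triangle.mk (RF.map T.mor₁) (RF.map T.mor₂) c ∈ distTriang (DerivedCategory B) := by
  let E := (kInjK A).ι ⋙ (Qh : _ ⥤ DerivedCategory A)
  obtain ⟨I₁, ⟨e₁⟩⟩ : ∃ I₁ : (kInjK A).FullSubcategory, Nonempty (E.obj I₁ ≅ T.obj₁) :=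
    ⟨E.objPreimage T.obj₁, ⟨E.objObjPreimageIso T.obj₁⟩⟩
  obtain ⟨I₂, ⟨e₂⟩⟩ : ∃ I₂ : (kInjK A).FullSubcategory, Nonempty (E.obj I₂ ≅ T.obj₂) :=
    ⟨E.objPreimage T.obj₂, ⟨E.objObjPreimageIso T.obj₂⟩⟩
  obtain ⟨φ, hφ⟩ := E.map_surjective (e₁.hom ≫ T.mor₁ ≫ e₂.inv)
  replace hφ : Qh.map φ.hom = e₁.hom ≫ T.mor₁ ≫ e₂.inv := hφ
  obtain ⟨I₃, g, h, hK⟩ := distinguished_cocone_triangle φ.hom
  have hI₃ : kInjK A I₃ := by
    obtain ⟨J, rfl⟩ := HomotopyCategory.quotient_obj_surjective I₃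
    change CochainComplex.IsKInjective J
    rw [CochainComplex.isKInjective_iff_rightOrthogonal]
    refine ObjectProperty.ext_of_isTriangulatedClosed₃ _ _ hK ?_ ?_
    · have h1 : CochainComplex.IsKInjective I₁.obj.as := I₁.property
      exact (CochainComplex.isKInjective_iff_rightOrthogonal I₁.obj.as).1 h1
    · have h2 : CochainComplex.IsKInjective I₂.obj.as := I₂.property
      exact (CochainComplex.isKInjective_iff_rightOrthogonal I₂.obj.as).1 h2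
  have hK1 := (Qh (C := A)).map_distinguished _ hK
  have hK2 := (F.mapHomotopyCategory (ComplexShape.up ℤ) ⋙ Qh (C := B)).map_distinguished _ hK
  let e : T ≅ (Qh (C := A)).mapTriangle.obj (Triangle.mk φ.hom g h) :=
    isoTriangleOfIso₁₂ T _ hT hK1 e₁.symm e₂.symm (by
      change T.mor₁ ≫ e₂.inv = e₁.inv ≫ Qh.map φ.hom
      rw [hφ, Iso.inv_hom_id_assoc])
  haveI hb₁ : IsIso (β.app I₁.obj) := isIso_β_app F RF β I₁.obj I₁.property
  haveI hb₂ : IsIso (β.app I₂.obj) := isIso_β_app F RF β I₂.obj I₂.property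
  haveI hb₃ : IsIso (β.app I₃) := isIso_β_app F RF β I₃ hI₃
  let B₁ := asIso (β.app I₁.obj)
  let B₂ := asIso (β.app I₂.obj)
  let B₃ := asIso (β.app I₃)
  let E₁ := RF.mapIso (Triangle.π₁.mapIso e) ≪≫ B₁.symm
  let E₂ := RF.mapIso (Triangle.π₂.mapIso e) ≪≫ B₂.symm
  let E₃ := RF.mapIso (Triangle.π₃.mapIso e) ≪≫ B₃.symm
  refine exists_mor₃_of_iso _ hK2 E₁ E₂ E₃ _ _ ?_ ?_
  · exact square_aux RF T.mor₁ e.hom.hom₁ e.hom.hom₂ (Qh.map φ.hom) e.hom.comm₁ B₁ B₂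
      ((F.mapHomotopyCategory (ComplexShape.up ℤ) ⋙ Qh (C := B)).map φ.hom) (β.naturality φ.hom)
  · exact square_aux RF T.mor₂ e.hom.hom₂ e.hom.hom₃ (Qh.map g) e.hom.comm₂ B₂ B₃
      ((F.mapHomotopyCategory (ComplexShape.up ℤ) ⋙ Qh (C := B)).map g) (β.naturality g)

end RF

end Groth.Agent.Lib.Helper6.RFTriangle2
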