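import Mathlib
import Groth.Agent.Lib.Helper6.RFTriangle2
import Groth.Agent.Lib.Helper6.RDPlus4
import Groth.Agent.Lib.Helper6.InjRes

/-!
# The unit of the unbounded right derived functor on complexes of acyclic objects (helper6)
-/

set_option autoImplicit false
set_option linter.style.haveILetI false
set_option linter.unusedSectionVars false

universe w w' v v' u u'

namespace Groth.Agent.Lib.Helper6.RFAcyc

open CategoryTheory CategoryTheory.Limits DerivedCategory
open Groth.Agent.Lib.Helper6.RFTriangle (ξ ξ_naturality isIso_β_app)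

section Aux

variable {𝒟 : Type*} [Category 𝒟]

lemma nat_aux {P₁ P₂ Q₁ Q₂ R₁ R₂ S₁ S₂ : 𝒟} (x₁ : P₁ ≅ Q₁) (x₂ : P₂ ≅ Q₂)
    (p : P₁ ⟶ P₂) (q : Q₁ ⟶ Q₂) (hx : p ≫ x₂.hom = x₁.hom ≫ q)
    (b₁ : P₁ ⟶ R₁) (b₂ : P₂ ⟶ R₂) (r : R₁ ⟶ R₂) (hb : p ≫ b₂ = b₁ ≫ r)
    (y₁ : R₁ ⟶ S₁) (y₂ : R₂ ⟶ S₂) (s : S₁ ⟶ S₂) (hy : r ≫ y₂ = y₁ ≫ s) :
    q ≫ (x₂.inv ≫ b₂ ≫ y₂) = (x₁.inv ≫ b₁ ≫ y₁) ≫ s := by
  have h : q ≫ x₂.inv = x₁.inv ≫ p := by
    rw [Iso.eq_inv_comp, ← Category.assoc, Iso.comp_inv_eq]
    exact hx.symm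
  rw [← Category.assoc, h, Category.assoc, reassoc_of% hb, hy, Category.assoc, Category.assoc]

end Aux

variable {A : Type u} [Category.{v} A] [Abelian A] [HasDerivedCategory.{w} A]
  [IsGrothendieckAbelian.{v} A]
  {B : Type u'} [Category.{v'} B] [Abelian B] [HasDerivedCategory.{w'} B]
  (F : A ⥤ B) [F.Additive]
  (RF : DerivedCategory A ⥤ DerivedCategory B)
  (β : F.mapHomotopyCategory (ComplexShape.up ℤ) ⋙ Qh ⟶ Qh ⋙ RF)
  [RF.IsRightDerivedFunctor β (HomotopyCategory.quasiIso A (ComplexShape.up ℤ))]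

/-- the unit at the level of complexes -/
noncomputable def bC : F.mapHomologicalComplex (ComplexShape.up ℤ) ⋙ Q ⟶ Q ⋙ RF where
  app X := (ξ F X).inv ≫ β.app ((HomotopyCategory.quotient _ _).obj X) ≫
    RF.map ((quotientCompQhIso A).hom.app X)
  naturality X Y g := by
    refine nat_aux (ξ F X) (ξ F Y)
      ((F.mapHomotopyCategory (ComplexShape.up ℤ) ⋙ Qh).map ((HomotopyCategory.quotient _ _).map g))
      _ (ξ_naturality F g) _ _ (RF.map (Qh.map ((HomotopyCategory.quotient _ _).map g)))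
      (β.naturality ((HomotopyCategory.quotient _ _).map g)) _ _ _ ?_
    change RF.map (Qh.map ((HomotopyCategory.quotient _ _).map g)) ≫
      RF.map ((quotientCompQhIso A).hom.app Y) =
      RF.map ((quotientCompQhIso A).hom.app X) ≫ RF.map (Q.map g)
    rw [← RF.map_comp, ← RF.map_comp, quotientCompQhIso_hom_naturality]

lemma isIso_bC_iff (X : CochainComplex A ℤ) :
    IsIso ((bC F RF β).app X) ↔ IsIso (β.app ((HomotopyCategory.quotient _ _).obj X)) := by
  dsimp only [bC]
  constructor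
  · intro h
    have h2 : IsIso (β.app ((HomotopyCategory.quotient _ _).obj X) ≫
        RF.map ((quotientCompQhIso A).hom.app X)) := IsIso.of_isIso_comp_left (ξ F X).inv _
    exact IsIso.of_isIso_comp_right _ (RF.map ((quotientCompQhIso A).hom.app X))
  · intro h
    infer_instance

include β in
lemma isIso_bC_of_isKInjective (I : CochainComplex A ℤ) [hI : I.IsKInjective] :
    IsIso ((bC F RF β).app I) := by
  rw [isIso_bC_iff]
  exact isIso_β_app F RF β _ hI

/-- criterion: `bC` is an isomorphism at `K` if `F` maps a K-injective resolution of `K` to a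
quasi-isomorphism -/
lemma isIso_bC_of_quasiIso {K I : CochainComplex A ℤ} [I.IsKInjective] (s : K ⟶ I) [QuasiIso s]
    (h : QuasiIso ((F.mapHomologicalComplex (ComplexShape.up ℤ)).map s)) :
    IsIso ((bC F RF β).app K) := by
  have h1 := (bC F RF β).naturality s
  dsimp only [Functor.comp_map] at h1
  haveI : IsIso (Q.map s) := by rw [isIso_Q_map_iff_quasiIso]; infer_instance
  haveI : IsIso (Q.map ((F.mapHomologicalComplex (ComplexShape.up ℤ)).map s)) := by
    rw [isIso_Q_map_iff_quasiIso]; exact h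
  haveI := isIso_bC_of_isKInjective F RF β I
  have h2 : (bC F RF β).app K = (Q.map ((F.mapHomologicalComplex (ComplexShape.up ℤ)).map s) ≫
      (bC F RF β).app I) ≫ inv (RF.map (Q.map s)) := by
    rw [h1, Category.assoc, IsIso.hom_inv_id, Category.comp_id]
  rw [h2]
  infer_instance

open Groth.Agent.Lib.Helper6.RDPlus in
/-- Step 1: bounded below complexes of acyclic objects -/
theorem isIso_bC_of_isStrictlyGE [PreservesFiniteLimits F] (K : CochainComplex A ℤ) (a : ℤ)
    [K.IsStrictlyGE a]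
    (hK : ∀ (m : ℤ) (i : ℕ), 0 < i → IsZero ((F.rightDerived i).obj (K.X m))) :
    IsIso ((bC F RF β).app K) := by
  obtain ⟨L, j, hL, hinj, -, hq⟩ := InjRes.exists_mono_quasiIso_injective K a
  haveI : L.IsKInjective := CochainComplex.isKInjective_of_injective L a
  refine isIso_bC_of_quasiIso F RF β j ?_
  rw [quasiIso_iff_acyclic_mappingCone]
  have hcone : (CochainComplex.mappingCone j).Acyclic := (quasiIso_iff_acyclic_mappingCone j).1 hq
  have hge : (CochainComplex.mappingCone j).IsStrictlyGE (a - 1) := by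
    rw [CochainComplex.isStrictlyGE_iff]
    intro i hi
    rw [CochainComplex.mappingCone.isZero_X_iff]
    exact ⟨K.isZero_of_isStrictlyGE a _ (by lia), L.isZero_of_isStrictlyGE a _ (by lia)⟩
  have hterms : ∀ n, Acyc F ((CochainComplex.mappingCone j).X n) := fun n => by
    have := hinj n
    exact acyc_of_iso F (HomologicalComplex.homotopyCofiber.XIsoBiprod j n (n + 1) rfl).symm
      (acyc_biprod F ((acyc_iff_classical F _).2 (hK (n + 1))) (acyc_of_injective F (L.X n)))
  have := acyclic_map_of_acyc F (CochainComplex.mappingCone j) (a - 1) hcone hterms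
  intro n
  exact (this n).of_iso (CochainComplex.mappingCone.mapHomologicalComplexIso j F)

end Groth.Agent.Lib.Helper6.RFAcyc
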