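import Mathlib
import Groth.Prelude.Def_WeakSerre
import Groth.Agent.Lib.Helper6.ProdCx
import Groth.Agent.Lib.Helper99.KInjRes

/-!
# `D(P) ⥤ D_P(𝒜)` for a coreflective Serre class (helper6)

`P` a Serre class of a Grothendieck abelian category `𝒜` with a coreflection `t` (largest
`P`-subobject).  If for every termwise injective complex `I` with cohomology in `P` the
subcomplex `t(I) ⟶ I` is a quasi-isomorphism, then `D(P) ⥤ D(𝒜)` is fully faithful with
essential image the complexes with cohomology in `P`.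
-/

set_option autoImplicit false
set_option linter.unusedSectionVars false
set_option linter.style.haveILetI false

universe w w' v u

namespace Groth.Agent.Lib.Helper6.SerreDerived

open CategoryTheory CategoryTheory.Limits HomologicalComplex

variable {𝒜 : Type u} [Category.{v} 𝒜] [Abelian 𝒜] (P : ObjectProperty 𝒜)

/-- a coreflection onto `P`: a largest `P`-subobject of every object -/
structure Corefl where
  /-- the largest subobject -/
  t : 𝒜 → 𝒜
  /-- its inclusion -/
  j : ∀ G, t G ⟶ G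
  mono : ∀ G, Mono (j G)
  prop : ∀ G, P (t G)
  factor : ∀ {X G : 𝒜} (_ : P X) (f : X ⟶ G), ∃ f' : X ⟶ t G, f' ≫ j G = f

variable {P} (c : Corefl P)

section Sub

variable (I : CochainComplex 𝒜 ℤ)

/-- the induced differential -/
noncomputable def dT (m n : ℤ) : c.t (I.X m) ⟶ c.t (I.X n) :=
  (c.factor (c.prop _) (c.j (I.X m) ≫ I.d m n)).choose

@[reassoc]
lemma dT_j (m n : ℤ) : dT c I m n ≫ c.j (I.X n) = c.j (I.X m) ≫ I.d m n :=
  (c.factor (c.prop _) (c.j (I.X m) ≫ I.d m n)).choose_spec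

/-- the subcomplex of largest `P`-subobjects, as a complex in `P` -/
noncomputable def T' : CochainComplex P.FullSubcategory ℤ where
  X m := ⟨c.t (I.X m), c.prop _⟩
  d m n := ObjectProperty.homMk (dT c I m n)
  shape m n h := by
    apply ObjectProperty.hom_ext
    haveI := c.mono (I.X n)
    change dT c I m n = 0
    rw [← cancel_mono (c.j (I.X n)), dT_j, I.shape m n h, Limits.comp_zero, Limits.zero_comp]
  d_comp_d' m n k _ _ := by
    apply ObjectProperty.hom_ext
    haveI := c.mono (I.X k)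
    change dT c I m n ≫ dT c I n k = 0
    rw [← cancel_mono (c.j (I.X k)), Category.assoc, dT_j, dT_j_assoc, I.d_comp_d,
      Limits.comp_zero, Limits.zero_comp]

/-- the same complex in `𝒜` -/
noncomputable abbrev iT : CochainComplex 𝒜 ℤ :=
  (P.ι.mapHomologicalComplex (ComplexShape.up ℤ)).obj (T' c I)

/-- the inclusion of the subcomplex -/
noncomputable def jT : iT c I ⟶ I where
  f m := c.j (I.X m)
  comm' m n _ := (dT_j c I m n).symm

instance (m : ℤ) : Mono ((jT c I).f m) := c.mono _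

variable {I}

/-- lifting chain maps from complexes in `P` -/
noncomputable def lift (X' : CochainComplex P.FullSubcategory ℤ)
    (g : (P.ι.mapHomologicalComplex (ComplexShape.up ℤ)).obj X' ⟶ I) : X' ⟶ T' c I where
  f m := ObjectProperty.homMk (c.factor (X'.X m).property (g.f m)).choose
  comm' m n _ := by
    apply ObjectProperty.hom_ext
    haveI := c.mono (I.X n)
    change (c.factor (X'.X m).property (g.f m)).choose ≫ dT c I m n =
      (X'.d m n).hom ≫ (c.factor (X'.X n).property (g.f n)).choose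
    rw [← cancel_mono (c.j (I.X n)), Category.assoc, dT_j,
      ← Category.assoc, (c.factor (X'.X m).property (g.f m)).choose_spec, Category.assoc,
      (c.factor (X'.X n).property (g.f n)).choose_spec]
    exact g.comm m n

lemma lift_jT (X' : CochainComplex P.FullSubcategory ℤ)
    (g : (P.ι.mapHomologicalComplex (ComplexShape.up ℤ)).obj X' ⟶ I) :
    (P.ι.mapHomologicalComplex (ComplexShape.up ℤ)).map (lift c X' g) ≫ jT c I = g := by
  ext m
  exact (c.factor (X'.X m).property (g.f m)).choose_spec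

end Sub

section Tri

open Pretriangulated

variable {𝒞 𝒟 : Type*} [Category 𝒞] [Category 𝒟] [Preadditive 𝒞] [Preadditive 𝒟]
  [HasZeroObject 𝒞] [HasZeroObject 𝒟] [HasShift 𝒞 ℤ] [HasShift 𝒟 ℤ]
  [∀ n : ℤ, (shiftFunctor 𝒞 n).Additive] [∀ n : ℤ, (shiftFunctor 𝒟 n).Additive]
  [Pretriangulated 𝒞] [Pretriangulated 𝒟]
  (F : 𝒞 ⥤ 𝒟) [F.CommShift ℤ] [F.IsTriangulated] [F.Additive]

/-- a full triangulated functor with trivial kernel is faithful -/
lemma faithful_of_full_of_isZero [F.Full] (h0 : ∀ X : 𝒞, IsZero (F.obj X) → IsZero X) :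
    F.Faithful := by
  have key : ∀ {X Y : 𝒞} (f : X ⟶ Y), F.map f = 0 → f = 0 := by
    intro X Y f hf
    obtain ⟨Z, g, h, hT⟩ := distinguished_cocone_triangle f
    have hFT := F.map_distinguished _ hT
    obtain ⟨r, hr⟩ := Triangle.yoneda_exact₂ _ hFT (𝟙 (F.obj Y))
      (by change F.map f ≫ 𝟙 _ = 0; rw [hf, Limits.zero_comp])
    have hr' : F.map g ≫ r = 𝟙 (F.obj Y) := hr.symm
    obtain ⟨ρ, rfl⟩ := F.map_surjective r
    let u := g ≫ ρ
    have hFu : F.map u = 𝟙 _ := (F.map_comp g ρ).trans hr'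
    obtain ⟨W, a, b, hT'⟩ := distinguished_cocone_triangle u
    have hFT' := F.map_distinguished _ hT'
    have hW : IsZero (F.obj W) := by
      refine (Triangle.isZero₃_iff_isIso₁ _ hFT').2 ?_
      change IsIso (F.map u)
      rw [hFu]
      infer_instance
    have hu : IsIso u := (Triangle.isZero₃_iff_isIso₁ _ hT').1 (h0 W hW)
    have h12 : f ≫ g = 0 := comp_distTriang_mor_zero₁₂ _ hT
    have hfu : f ≫ u = 0 := by
      change f ≫ g ≫ ρ = 0
      rw [← Category.assoc, h12, Limits.zero_comp]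
    rw [← cancel_mono u, hfu, Limits.zero_comp]
  exact ⟨fun {X Y} f g h => sub_eq_zero.1 (key (f - g) (by rw [F.map_sub, h, sub_self]))⟩

end Tri

section Der

open DerivedCategory

/-- an exact functor commutes with cohomology objects (after helper32) -/
noncomputable def homologyMapIso {C₁ C₂ : Type*} [Category C₁] [Category C₂] [Abelian C₁]
    [Abelian C₂] [HasDerivedCategory.{w} C₁] [HasDerivedCategory.{w'} C₂]
    (F : C₁ ⥤ C₂) [F.Additive] [PreservesFiniteLimits F] [PreservesFiniteColimits F]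
    (K : DerivedCategory C₁) (n : ℤ) :
    (homologyFunctor C₂ n).obj (F.mapDerivedCategory.obj K) ≅
      F.obj ((homologyFunctor C₁ n).obj K) := by
  let K₀ := (Q (C := C₁)).objPreimage K
  let e : Q.obj K₀ ≅ K := (Q (C := C₁)).objObjPreimageIso K
  refine (homologyFunctor C₂ n).mapIso (F.mapDerivedCategory.mapIso e.symm) ≪≫ ?_ ≪≫
    F.mapIso ((homologyFunctor C₁ n).mapIso e)
  refine (homologyFunctor C₂ n).mapIso (F.mapDerivedCategoryFactors.app K₀) ≪≫ ?_ ≪≫
    F.mapIso ((homologyFunctorFactors C₁ n).app K₀).symm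
  refine (homologyFunctorFactors C₂ n).app _ ≪≫ ?_
  exact (K₀.sc n).mapHomologyIso F

lemma isZero_of_homology {C : Type*} [Category C] [Abelian C] [HasDerivedCategory.{w} C]
    (X : DerivedCategory C) (h : ∀ n, IsZero ((DerivedCategory.homologyFunctor C n).obj X)) :
    IsZero X := by
  have : X.IsLE 0 := (isLE_iff X 0).2 (fun i _ => h i)
  have : X.IsGE 1 := (isGE_iff X 1).2 (fun i _ => h i)
  exact TStructure.t.isZero X 0 1 (by omega)

end Der

section Pre

variable [P.IsSerreClass]

lemma prop_homology_map (X' : CochainComplex P.FullSubcategory ℤ) (n : ℤ) :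
    P (((P.ι.mapHomologicalComplex (ComplexShape.up ℤ)).obj X').homology n) :=
  P.prop_of_iso ((X'.sc n).mapHomologyIso P.ι).symm (X'.homology n).property

/-- the hypothesis: `t(I) ⟶ I` is a quasi-isomorphism for termwise injective `I` with
cohomology in `P` -/
def HB : Prop := ∀ I : CochainComplex 𝒜 ℤ, (∀ n, Injective (I.X n)) → (∀ n, P (I.homology n)) →
  QuasiIso (jT c I)

end Pre

section Main

open DerivedCategory

variable [IsGrothendieckAbelian.{v} 𝒜] [P.IsSerreClass]
  [HasDerivedCategory.{w} 𝒜] [HasDerivedCategory.{w'} P.FullSubcategory]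

variable {c}

lemma exists_map_eq (hB : HB c) (X' Y' : CochainComplex P.FullSubcategory ℤ)
    (φ : P.ι.mapDerivedCategory.obj (Q.obj X') ⟶ P.ι.mapDerivedCategory.obj (Q.obj Y')) :
    ∃ ψ : Q.obj X' ⟶ Q.obj Y', P.ι.mapDerivedCategory.map ψ = φ := by
  let Φ := P.ι.mapHomologicalComplex (ComplexShape.up ℤ)
  let e := P.ι.mapDerivedCategoryFactors
  let φ' : Q.obj (Φ.obj X') ⟶ Q.obj (Φ.obj Y') := e.inv.app X' ≫ φ ≫ e.hom.app Y'
  obtain ⟨I, s, hI, hs, -, hinj⟩ :=
    Groth.Agent.Lib.Helper99.KInj.exists_kInjective_resolution (Φ.obj Y')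
  obtain ⟨f, hf⟩ := Groth.Agent.Lib.Helper6.ProdCx.exists_Q_map_eq (Φ.obj X') I (φ' ≫ Q.map s)
  have hP : ∀ n, P (I.homology n) := fun n =>
    P.prop_of_iso (asIso (HomologicalComplex.homologyMap s n)) (prop_homology_map Y' n)
  have hj : QuasiIso (jT c I) := hB I hinj hP
  let f' := lift c X' f
  let s' := lift c Y' s
  have hs' : QuasiIso s' := by
    have h1 : QuasiIso (Φ.map s' ≫ jT c I) := by rw [lift_jT]; exact hs
    have h2 : QuasiIso (Φ.map s') := quasiIso_of_comp_right _ (jT c I)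
    exact (quasiIso_map_iff_of_preservesHomology s' P.ι).1 h2
  have : IsIso (Q.map s') := by
    rw [DerivedCategory.isIso_Q_map_iff_quasiIso]; exact hs'
  have : IsIso (Q.map (jT c I)) := by
    rw [DerivedCategory.isIso_Q_map_iff_quasiIso]; exact hj
  refine ⟨Q.map f' ≫ inv (Q.map s'), ?_⟩
  rw [Functor.map_comp, Functor.map_inv, IsIso.comp_inv_eq]
  have hiso : IsIso (e.hom.app (T' c I) ≫ Q.map (jT c I)) := inferInstance
  rw [← cancel_mono (e.hom.app (T' c I) ≫ Q.map (jT c I))]
  have h1 : P.ι.mapDerivedCategory.map (Q.map f') ≫ e.hom.app (T' c I) =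
      e.hom.app X' ≫ Q.map (Φ.map f') := P.ι.mapDerivedCategoryFactors_hom_naturality f'
  have h2 : P.ι.mapDerivedCategory.map (Q.map s') ≫ e.hom.app (T' c I) =
      e.hom.app Y' ≫ Q.map (Φ.map s') := P.ι.mapDerivedCategoryFactors_hom_naturality s'
  have h3 : Φ.map f' ≫ jT c I = f := lift_jT c X' f
  have h4 : Φ.map s' ≫ jT c I = s := lift_jT c Y' s
  calc P.ι.mapDerivedCategory.map (Q.map f') ≫ e.hom.app (T' c I) ≫ Q.map (jT c I)
      = e.hom.app X' ≫ Q.map (Φ.map f' ≫ jT c I) := by
        rw [← Category.assoc, h1, Category.assoc, ← Functor.map_comp]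
    _ = e.hom.app X' ≫ φ' ≫ Q.map s := by rw [h3, hf]
    _ = φ ≫ e.hom.app Y' ≫ Q.map (Φ.map s' ≫ jT c I) := by
        rw [h4]; simp only [φ', Category.assoc, Iso.hom_inv_id_app_assoc]
    _ = (φ ≫ P.ι.mapDerivedCategory.map (Q.map s')) ≫ e.hom.app (T' c I) ≫ Q.map (jT c I) := by
        simp only [Functor.map_comp, Category.assoc]
        rw [reassoc_of% h2]

lemma full (hB : HB c) : (P.ι.mapDerivedCategory).Full := by
  refine ⟨fun {X Y} φ => ?_⟩
  let eX := (Q (C := P.FullSubcategory)).objObjPreimageIso X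
  let eY := (Q (C := P.FullSubcategory)).objObjPreimageIso Y
  obtain ⟨ψ, hψ⟩ := exists_map_eq hB _ _
    (P.ι.mapDerivedCategory.map eX.hom ≫ φ ≫ P.ι.mapDerivedCategory.map eY.inv)
  refine ⟨eX.inv ≫ ψ ≫ eY.hom, ?_⟩
  rw [Functor.map_comp, Functor.map_comp, hψ]
  simp only [Category.assoc, ← Functor.map_comp, Iso.inv_hom_id, Iso.inv_hom_id_assoc,
    CategoryTheory.Functor.map_id, Category.comp_id]
  rw [← Functor.map_comp_assoc, Iso.inv_hom_id, CategoryTheory.Functor.map_id, Category.id_comp]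

lemma isZero_of_isZero_map (X : DerivedCategory P.FullSubcategory)
    (hX : IsZero (P.ι.mapDerivedCategory.obj X)) : IsZero X := by
  apply isZero_of_homology
  intro n
  have h1 : IsZero ((DerivedCategory.homologyFunctor 𝒜 n).obj (P.ι.mapDerivedCategory.obj X)) :=
    (DerivedCategory.homologyFunctor 𝒜 n).map_isZero hX
  have h2 : IsZero (P.ι.obj ((DerivedCategory.homologyFunctor P.FullSubcategory n).obj X)) :=
    h1.of_iso (homologyMapIso P.ι X n).symm
  rw [IsZero.iff_id_eq_zero] at h2 ⊢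
  apply P.ι.map_injective
  rw [CategoryTheory.Functor.map_id, h2, Functor.map_zero]

lemma faithful (hB : HB c) : (P.ι.mapDerivedCategory).Faithful :=
  haveI := full hB
  faithful_of_full_of_isZero _ isZero_of_isZero_map

lemma cohIn_iff_essImage (hB : HB c) (K : DerivedCategory 𝒜) :
    WSerre.cohIn P K ↔ (P.ι.mapDerivedCategory).essImage K := by
  constructor
  · intro hK
    obtain ⟨K₀, ⟨e⟩⟩ : ∃ K₀ : CochainComplex 𝒜 ℤ, Nonempty (Q.obj K₀ ≅ K) :=
      ⟨_, ⟨(Q (C := 𝒜)).objObjPreimageIso K⟩⟩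
    obtain ⟨I, s, hI, hs, -, hinj⟩ :=
      Groth.Agent.Lib.Helper99.KInj.exists_kInjective_resolution K₀
    have hP : ∀ n, P (I.homology n) := fun n => by
      have e3 : K₀.homology n ≅ I.homology n := asIso (HomologicalComplex.homologyMap s n)
      refine P.prop_of_iso ?_ (hK n)
      exact (DerivedCategory.homologyFunctor 𝒜 n).mapIso e.symm ≪≫
        (homologyFunctorFactors 𝒜 n).app K₀ ≪≫ e3
    have hj : QuasiIso (jT c I) := hB I hinj hP
    have : IsIso (Q.map s) := by
      rw [DerivedCategory.isIso_Q_map_iff_quasiIso]; exact hs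
    have : IsIso (Q.map (jT c I)) := by
      rw [DerivedCategory.isIso_Q_map_iff_quasiIso]; exact hj
    refine ⟨Q.obj (T' c I), ⟨?_⟩⟩
    exact P.ι.mapDerivedCategoryFactors.app (T' c I) ≪≫ asIso (Q.map (jT c I)) ≪≫
      (asIso (Q.map s)).symm ≪≫ e
  · rintro ⟨X, ⟨e⟩⟩ n
    refine P.prop_of_iso ?_
      ((DerivedCategory.homologyFunctor P.FullSubcategory n).obj X).property
    exact (homologyMapIso P.ι X n).symm ≪≫ (DerivedCategory.homologyFunctor 𝒜 n).mapIso e

end Main

section Tors

variable [P.IsSerreClass]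

variable (P) in
/-- abstract properties of the class of torsion objects -/
structure TorsionLike : Prop where
  of_nsmul : ∀ (N : 𝒜) (k : ℕ), 0 < k → k • 𝟙 N = 0 → P N
  epi_nsmul : ∀ (G : 𝒜), Injective G → ∀ (k : ℕ), 0 < k → Epi (k • 𝟙 G)
  isZero : ∀ (N : 𝒜), P N → (∀ k : ℕ, 0 < k → Mono (k • 𝟙 N)) → IsZero N

variable (hP : TorsionLike P)

include hP in
lemma isIso_nsmul_X₃ (S : ShortComplex 𝒜) (hS : S.ShortExact) (hinj : Injective S.X₂)
    (h₁ : P S.X₁)
    (hmax : ∀ {X : 𝒜} (_ : P X) (f : X ⟶ S.X₂), ∃ f' : X ⟶ S.X₁, f' ≫ S.f = f)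
    (k : ℕ) (hk : 0 < k) : IsIso (k • 𝟙 S.X₃) := by
  have := hS.mono_f
  have := hS.epi_g
  have hnat : (k • 𝟙 S.X₂) ≫ S.g = S.g ≫ (k • 𝟙 S.X₃) := by
    rw [Preadditive.nsmul_comp, Preadditive.comp_nsmul, Category.id_comp, Category.comp_id]
  have hepi : Epi (k • 𝟙 S.X₃) := by
    have := hP.epi_nsmul S.X₂ hinj k hk
    have : Epi (S.g ≫ (k • 𝟙 S.X₃)) := by rw [← hnat]; infer_instance
    exact epi_of_epi S.g _
  have hmono : Mono (k • 𝟙 S.X₃) := by
    apply Preadditive.mono_of_cancel_zero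
    intro W x hx
    obtain ⟨W', p, hp, y, hy⟩ := surjective_up_to_refinements_of_epi S.g x
    let ι : kernel ((k • 𝟙 S.X₂) ≫ S.g) ⟶ S.X₂ := kernel.ι _
    have hι : (ι ≫ (k • 𝟙 S.X₂)) ≫ S.g = 0 := by
      rw [Category.assoc]; exact kernel.condition _
    let φ : kernel ((k • 𝟙 S.X₂) ≫ S.g) ⟶ S.X₁ := hS.exact.lift (ι ≫ (k • 𝟙 S.X₂)) hι
    have hφ : φ ≫ S.f = ι ≫ (k • 𝟙 S.X₂) := hS.exact.lift_f _ _
    have hker : P (kernel φ) := by
      apply hP.of_nsmul _ k hk
      rw [← cancel_mono (kernel.ι φ ≫ ι), Limits.zero_comp]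
      calc (k • 𝟙 (kernel φ)) ≫ kernel.ι φ ≫ ι = kernel.ι φ ≫ ι ≫ (k • 𝟙 S.X₂) := by
            simp only [Preadditive.nsmul_comp, Preadditive.comp_nsmul, Category.id_comp,
              Category.comp_id]
        _ = 0 := by rw [← hφ, kernel.condition_assoc, Limits.zero_comp]
    have hGk : P (kernel ((k • 𝟙 S.X₂) ≫ S.g)) :=
      P.prop_X₂_of_exact (S := ShortComplex.mk (kernel.ι φ) φ (kernel.condition φ))
        (ShortComplex.exact_kernel φ) hker h₁
    obtain ⟨ι', hι'⟩ := hmax hGk ι
    have hy0 : y ≫ ((k • 𝟙 S.X₂) ≫ S.g) = 0 := by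
      rw [hnat, ← Category.assoc, ← hy, Category.assoc, hx, Limits.comp_zero]
    have hyπ : y ≫ S.g = 0 := by
      have h1 : kernel.lift _ y hy0 ≫ ι = y := kernel.lift_ι _ y hy0
      rw [← h1, ← hι', Category.assoc, Category.assoc, S.zero, Limits.comp_zero,
        Limits.comp_zero]
    rw [← cancel_epi p, hy, hyπ, Limits.comp_zero]
  exact isIso_of_mono_of_epi _

include hP in
lemma hB_of_torsionLike : HB c := by
  intro I hinj hH
  let S : ShortComplex (CochainComplex 𝒜 ℤ) :=
    ShortComplex.mk (jT c I) (cokernel.π (jT c I)) (cokernel.condition _)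
  have hmono : Mono (jT c I) := HomologicalComplex.mono_of_mono_f _ (fun m => inferInstance)
  have hS : S.ShortExact :=
    ShortComplex.ShortExact.mk' (ShortComplex.exact_cokernel _) hmono
      (inferInstanceAs (Epi (cokernel.π (jT c I))))
  have hk : ∀ k : ℕ, 0 < k → IsIso (k • 𝟙 S.X₃) := by
    intro k hk
    have : ∀ m, IsIso ((k • 𝟙 S.X₃).f m) := fun m => by
      have hSm := hS.map_of_exact (HomologicalComplex.eval 𝒜 (ComplexShape.up ℤ) m)
      have := isIso_nsmul_X₃ hP (S.map (HomologicalComplex.eval 𝒜 (ComplexShape.up ℤ) m)) hSm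
        (hinj m) (c.prop _) (fun hX f => c.factor hX f) k hk
      rw [HomologicalComplex.nsmul_f_apply, HomologicalComplex.id_f]
      exact this
    exact HomologicalComplex.Hom.isIso_of_components _
  have hH3 : ∀ n, P (S.X₃.homology n) := fun n =>
    P.prop_X₂_of_exact (hS.homology_exact₃ n (n + 1) rfl) (hH n)
      (prop_homology_map (T' c I) (n + 1))
  have hZ : ∀ n, IsZero (S.X₃.homology n) := fun n => by
    apply hP.isZero _ (hH3 n)
    intro k hk'
    have := hk k hk'
    have h1 : IsIso (HomologicalComplex.homologyMap (k • 𝟙 S.X₃) n) := inferInstance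
    have e : HomologicalComplex.homologyMap (k • 𝟙 S.X₃) n = k • 𝟙 _ := by
      have := (HomologicalComplex.homologyFunctor 𝒜 (ComplexShape.up ℤ) n).map_nsmul
        (f := 𝟙 S.X₃) (n := k)
      rw [CategoryTheory.Functor.map_id] at this
      exact this
    rw [← e]; infer_instance
  rw [quasiIso_iff]
  intro n
  rw [quasiIsoAt_iff_isIso_homologyMap]
  have hm : Mono (HomologicalComplex.homologyMap S.f n) :=
    (hS.homology_exact₁ (n - 1) n (by simp)).mono_g ((hZ (n - 1)).eq_of_src _ _)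
  have he : Epi (HomologicalComplex.homologyMap S.f n) :=
    (hS.homology_exact₂ n).epi_f ((hZ n).eq_of_tgt _ _)
  exact isIso_of_mono_of_epi _

end Tors

section CoreflOfCoprod

variable [IsGrothendieckAbelian.{v} 𝒜] [P.IsSerreClass]
  (hcop : ∀ {ι : Type v} (X : ι → 𝒜), (∀ i, P (X i)) → P (∐ X))

/-- the index type of `P`-subobjects -/
abbrev SubIdx (G : 𝒜) : Type v := Shrink.{v} {s : Subobject G // P (s : 𝒜)}

/-- the `P`-subobject of an index -/
noncomputable def subOf (G : 𝒜) (i : SubIdx (P := P) G) : Subobject G :=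
  ((equivShrink {s : Subobject G // P (s : 𝒜)}).symm i).1

lemma prop_subOf (G : 𝒜) (i : SubIdx (P := P) G) : P (subOf G i : 𝒜) :=
  ((equivShrink {s : Subobject G // P (s : 𝒜)}).symm i).2

lemma exists_subOf_eq (G : 𝒜) (s : Subobject G) (hs : P (s : 𝒜)) :
    ∃ i : SubIdx (P := P) G, subOf G i = s :=
  ⟨equivShrink _ ⟨s, hs⟩, by simp [subOf]⟩

/-- the map from the coproduct of all `P`-subobjects -/
noncomputable def descAll (G : 𝒜) : (∐ fun i : SubIdx (P := P) G => (subOf G i : 𝒜)) ⟶ G :=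
  Sigma.desc fun i => (subOf G i).arrow

include hcop in
lemma prop_image_descAll (G : 𝒜) : P (Abelian.image (descAll (P := P) G)) :=
  P.prop_of_epi (Abelian.factorThruImage (descAll (P := P) G))
    (hcop _ (fun i => prop_subOf G i))

lemma exists_factor_descAll {X G : 𝒜} (hX : P X) (f : X ⟶ G) :
    ∃ f' : X ⟶ Abelian.image (descAll (P := P) G), f' ≫ Abelian.image.ι _ = f := by
  let s : Subobject G := Subobject.mk (Abelian.image.ι f)
  have hs : P (s : 𝒜) :=
    P.prop_of_iso (Subobject.underlyingIso (Abelian.image.ι f)).symm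
      (P.prop_of_epi (Abelian.factorThruImage f) hX)
  obtain ⟨i, hi⟩ := exists_subOf_eq G s hs
  refine ⟨Abelian.factorThruImage f ≫ (Subobject.underlyingIso (Abelian.image.ι f)).inv ≫
    Subobject.ofLE s (subOf G i) (le_of_eq hi.symm) ≫
    Sigma.ι (fun i : SubIdx (P := P) G => (subOf G i : 𝒜)) i ≫
    Abelian.factorThruImage (descAll (P := P) G), ?_⟩
  simp only [Category.assoc, Abelian.image.fac]
  rw [descAll, Sigma.ι_desc, Subobject.ofLE_arrow, Subobject.underlyingIso_arrow,
    Abelian.image.fac]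

/-- the coreflection onto a Serre class closed under coproducts -/
noncomputable def coreflOfCoprod : Corefl P where
  t G := Abelian.image (descAll (P := P) G)
  j G := Abelian.image.ι _
  mono G := inferInstance
  prop G := prop_image_descAll hcop G
  factor hX f := exists_factor_descAll hX f

end CoreflOfCoprod

section Final

variable [IsGrothendieckAbelian.{v} 𝒜] [P.IsSerreClass]
  [HasDerivedCategory.{w} 𝒜] [HasDerivedCategory.{w'} P.FullSubcategory]

/-- **`D(P) ≃ D_P(𝒜)`** for a torsion-like Serre class closed under coproducts. -/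
theorem main (hcop : ∀ {ι : Type v} (X : ι → 𝒜), (∀ i, P (X i)) → P (∐ X))
    (hP : TorsionLike P) :
    (P.ι.mapDerivedCategory).Full ∧ (P.ι.mapDerivedCategory).Faithful ∧
      ∀ K : DerivedCategory 𝒜, WSerre.cohIn P K ↔ (P.ι.mapDerivedCategory).essImage K :=
  have hB : HB (coreflOfCoprod hcop) := hB_of_torsionLike _ hP
  ⟨full hB, faithful hB, cohIn_iff_essImage hB⟩

end Final

end Groth.Agent.Lib.Helper6.SerreDerived
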