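import Mathlib
import Groth.Prelude.Def_DRing3
import Groth.Agent.Lib.Helper32.Matlis
import Groth.Agent.Lib.Helper34.RGammaI

/-!
# `Γ_I J ⟶ J` is a quasi-isomorphism for complexes of injectives with `I`-power torsion cohomology
(over a Noetherian ring)
-/

set_option autoImplicit false
universe u
open CategoryTheory CategoryTheory.Limits

namespace Groth.Agent.Lib.Helper6.PowTorsHB

variable {A : Type u} [CommRing A]

/-- over a Noetherian ring, an injective module `E` maps onto its localization `E_f`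
(elementwise form). -/
theorem exists_div_pow [IsNoetherianRing A] (E : Type u) [AddCommGroup E] [Module A E]
    [Module.Injective A E] (f : A) (n : ℕ) (x : E) :
    ∃ (y : E) (c : ℕ), f ^ c • (f ^ n • y - x) = 0 := by
  let F : ℕ →o Submodule A A :=
    ⟨fun k => LinearMap.ker (LinearMap.toSpanSingleton A A (f ^ k)), by
      intro k l hkl a ha
      rw [LinearMap.mem_ker, LinearMap.toSpanSingleton_apply] at ha ⊢
      obtain ⟨j, rfl⟩ := Nat.exists_eq_add_of_le hkl
      rw [pow_add, smul_eq_mul, ← mul_assoc, ← smul_eq_mul (a := a), ha, zero_mul]⟩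
  obtain ⟨c, hc⟩ := monotone_stabilizes_iff_noetherian.2 (inferInstance : IsNoetherian A A) F
  let g₁ : A →ₗ[A] A := LinearMap.toSpanSingleton A A (f ^ (n + c))
  let g₂ : A →ₗ[A] E := LinearMap.toSpanSingleton A E (f ^ c • x)
  have hle : LinearMap.ker g₁ ≤ LinearMap.ker g₂ := by
    intro a ha
    have h1 : a ∈ F (n + c) := ha
    rw [← hc (n + c) (Nat.le_add_left c n)] at h1
    have h2 : a • f ^ c = 0 := h1
    rw [LinearMap.mem_ker, LinearMap.toSpanSingleton_apply, smul_smul, ← smul_eq_mul, h2,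
      zero_smul]
  let φ₁ : (A ⧸ LinearMap.ker g₁) →ₗ[A] A := (LinearMap.ker g₁).liftQ g₁ le_rfl
  let φ₂ : (A ⧸ LinearMap.ker g₁) →ₗ[A] E := (LinearMap.ker g₁).liftQ g₂ hle
  have hφ₁ : Function.Injective φ₁ :=
    LinearMap.ker_eq_bot.1 (Submodule.ker_liftQ_eq_bot _ _ _ le_rfl)
  obtain ⟨h, hh⟩ := Module.Injective.extension_property A E _ _ φ₁ hφ₁ φ₂
  refine ⟨h 1, c, ?_⟩
  have h3 : h (f ^ (n + c)) = f ^ c • x := by
    have e1 : φ₁ (Submodule.Quotient.mk 1) = f ^ (n + c) := by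
      change g₁ 1 = _
      simp [g₁]
    have e2 : φ₂ (Submodule.Quotient.mk 1) = f ^ c • x := by
      change g₂ 1 = _
      simp [g₂]
    have := LinearMap.congr_fun hh (Submodule.Quotient.mk 1)
    rw [LinearMap.comp_apply, e1, e2] at this
    exact this
  have h4 : h (f ^ (n + c)) = f ^ (n + c) • h 1 := by
    rw [← map_smul, smul_eq_mul, mul_one]
  rw [smul_sub, smul_smul, ← pow_add, add_comm c n, ← h4, h3, sub_self]

section Elementwise

variable (J : CochainComplex (ModuleCat.{u} A) ℤ)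

lemma d_d_apply (i j k : ℤ) (x : J.X i) : (J.d j k).hom ((J.d i j).hom x) = 0 := by
  rw [← LinearMap.comp_apply, ← ModuleCat.hom_comp, J.d_comp_d]
  rfl

/-- a cycle lifts to `J.cycles` -/
lemma exists_cycle (j k : ℤ) (hjk : j + 1 = k) (z : J.X j) (hz : (J.d j k).hom z = 0) :
    ∃ z' : J.cycles j, (J.iCycles j).hom z' = z := by
  have hex : (ShortComplex.mk (J.iCycles j) (J.d j k) (J.iCycles_d j k)).Exact :=
    ShortComplex.exact_of_f_is_kernel _ (J.cyclesIsKernel j k (by simp [← hjk]))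
  exact (ShortComplex.moduleCat_exact_iff _).1 hex z hz

/-- a cycle whose class vanishes is a boundary -/
lemma exists_boundary (i j : ℤ) (hij : i + 1 = j) (z' : J.cycles j)
    (hz : (J.homologyπ j).hom z' = 0) :
    ∃ w : J.X i, (J.d i j).hom w = (J.iCycles j).hom z' := by
  have hex : (ShortComplex.mk (J.toCycles i j) (J.homologyπ j)
      (J.toCycles_comp_homologyπ i j)).Exact :=
    ShortComplex.exact_of_g_is_cokernel _ (J.homologyIsCokernel i j (by simp [← hij]))
  obtain ⟨w, hw⟩ := (ShortComplex.moduleCat_exact_iff _).1 hex z' hz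
  refine ⟨w, ?_⟩
  have hw' : (J.toCycles i j).hom w = z' := hw
  rw [← hw', ← LinearMap.comp_apply, ← ModuleCat.hom_comp, J.toCycles_i]

/-- if `H^j(J)` is `I`-power torsion, cycles are killed by a power of `I` up to boundaries -/
lemma exists_boundary_of_isPowerTorsion (I : Ideal A) (i j k : ℤ) (hij : i + 1 = j)
    (hjk : j + 1 = k) (hH : LocCoh.IsPowerTorsion I (J.homology j))
    (z : J.X j) (hz : (J.d j k).hom z = 0) :
    ∃ m : ℕ, ∀ a ∈ I ^ m, ∃ w : J.X i, (J.d i j).hom w = a • z := by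
  obtain ⟨z', rfl⟩ := exists_cycle J j k hjk z hz
  obtain ⟨m, hm⟩ := hH ((J.homologyπ j).hom z')
  refine ⟨m, fun a ha => ?_⟩
  have h1 : (J.homologyπ j).hom (a • z') = 0 := by
    rw [map_smul]; exact hm a ha
  obtain ⟨w, hw⟩ := exists_boundary J i j hij (a • z') h1
  exact ⟨w, by rw [hw, map_smul]⟩

end Elementwise

section HBE

open Groth.Agent.Lib.Helper34.RGammaI

/-- elementwise form of "`J / Γ_I J` is acyclic" -/
def HBE (I : Ideal A) (J : CochainComplex (ModuleCat.{u} A) ℤ) : Prop :=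
  ∀ (i j k : ℤ) (_ : i + 1 = j) (_ : j + 1 = k) (z : J.X j),
    (J.d j k).hom z ∈ DRing.torsionSub I (J.X k) →
      ∃ w : J.X i, z - (J.d i j).hom w ∈ DRing.torsionSub I (J.X j)

/-- the principal case -/
theorem hbe_span_singleton [IsNoetherianRing A] (f : A)
    (J : CochainComplex (ModuleCat.{u} A) ℤ) (hinj : ∀ n, Injective (J.X n))
    (hH : ∀ n, LocCoh.IsPowerTorsion (Ideal.span {f}) (J.homology n)) :
    HBE (Ideal.span {f}) J := by
  intro i j k hij hjk z hz
  obtain ⟨l, hl⟩ := hz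
  have hfl : f ^ l • (J.d j k).hom z = 0 :=
    hl _ (Ideal.pow_mem_pow (Ideal.mem_span_singleton_self f) l)
  have hcyc : (J.d j k).hom (f ^ l • z) = 0 := by rw [map_smul, hfl]
  obtain ⟨m, hm⟩ := exists_boundary_of_isPowerTorsion J (Ideal.span {f}) i j k hij hjk (hH j)
    (f ^ l • z) hcyc
  obtain ⟨w', hw'⟩ := hm (f ^ m) (Ideal.pow_mem_pow (Ideal.mem_span_singleton_self f) m)
  haveI : Injective (ModuleCat.of A (J.X i)) := hinj i
  haveI : Module.Injective A (J.X i) := Module.injective_module_of_injective_object A (J.X i)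
  obtain ⟨w, c, hw⟩ := exists_div_pow (J.X i) f (m + l) w'
  refine ⟨w, c + (m + l), fun a ha => ?_⟩
  rw [Ideal.span_singleton_pow, Ideal.mem_span_singleton'] at ha
  obtain ⟨b, rfl⟩ := ha
  have h1 : f ^ (c + (m + l)) • (z - (J.d i j).hom w) = 0 := by
    have h2 : f ^ (m + l) • z = (J.d i j).hom w' := by
      rw [hw', smul_smul, ← pow_add]
    calc f ^ (c + (m + l)) • (z - (J.d i j).hom w)
        = f ^ c • (f ^ (m + l) • z - (J.d i j).hom (f ^ (m + l) • w)) := by
          rw [pow_add, ← smul_smul, smul_sub, map_smul]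
      _ = - (J.d i j).hom (f ^ c • (f ^ (m + l) • w - w')) := by
          rw [h2, ← map_sub, ← map_smul, ← map_neg, ← smul_neg, neg_sub]
      _ = 0 := by rw [hw, map_zero, neg_zero]
  rw [← smul_smul, h1, smul_zero]

/-- the inclusion `Γ_I J ⟶ J` -/
noncomputable def iotaCx (I : Ideal A) (J : CochainComplex (ModuleCat.{u} A) ℤ) :
    gammaCx I J ⟶ J where
  f n := (DRing.gammaIι I).app (J.X n)
  comm' i j _ := ((DRing.gammaIι I).naturality (J.d i j)).symm

lemma iotaCx_f_apply (I : Ideal A) (J : CochainComplex (ModuleCat.{u} A) ℤ) (n : ℤ)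
    (t : DRing.torsionSub I (J.X n)) : ((iotaCx I J).f n).hom t = t.1 := rfl

instance (I : Ideal A) (J : CochainComplex (ModuleCat.{u} A) ℤ) : Mono (iotaCx I J) := by
  have : ∀ n, Mono ((iotaCx I J).f n) := fun n => by
    rw [ModuleCat.mono_iff_injective]
    intro x y hxy
    exact Subtype.ext hxy
  exact HomologicalComplex.mono_of_mono_f _ this

/-- a short exact sequence of complexes with acyclic cokernel -/
lemma quasiIso_f_of_acyclic {C : Type*} [Category C] [Abelian C]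
    (S : ShortComplex (CochainComplex C ℤ)) (hS : S.ShortExact)
    (hZ : ∀ n, IsZero (S.X₃.homology n)) : QuasiIso S.f := by
  rw [quasiIso_iff]
  intro n
  rw [quasiIsoAt_iff_isIso_homologyMap]
  have hm : Mono (HomologicalComplex.homologyMap S.f n) :=
    (hS.homology_exact₁ (n - 1) n (by simp)).mono_g ((hZ (n - 1)).eq_of_src _ _)
  have he : Epi (HomologicalComplex.homologyMap S.f n) :=
    (hS.homology_exact₂ n).epi_f ((hZ n).eq_of_tgt _ _)
  exact isIso_of_mono_of_epi _

theorem quasiIso_iotaCx_of_hbe (I : Ideal A) (J : CochainComplex (ModuleCat.{u} A) ℤ)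
    (h : HBE I J) : QuasiIso (iotaCx I J) := by
  let S : ShortComplex (CochainComplex (ModuleCat.{u} A) ℤ) :=
    ShortComplex.mk (iotaCx I J) (cokernel.π (iotaCx I J)) (cokernel.condition _)
  have hS : S.ShortExact :=
    ShortComplex.ShortExact.mk' (ShortComplex.exact_cokernel _) (inferInstanceAs (Mono (iotaCx I J)))
      (inferInstanceAs (Epi (cokernel.π (iotaCx I J))))
  refine quasiIso_f_of_acyclic S hS (fun j => ?_)
  rw [← HomologicalComplex.exactAt_iff_isZero_homology,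
    HomologicalComplex.exactAt_iff' _ (j - 1) j (j + 1) (by simp) (by simp),
    ShortComplex.moduleCat_exact_iff]
  intro q hq
  have hSe : ∀ n, (S.map (HomologicalComplex.eval _ (ComplexShape.up ℤ) n)).ShortExact :=
    fun n => hS.map_of_exact (HomologicalComplex.eval _ (ComplexShape.up ℤ) n)
  -- lift `q`
  have hsurj : ∀ n, Function.Surjective (S.g.f n).hom := fun n =>
    (ModuleCat.epi_iff_surjective (S.g.f n)).1 (hSe n).epi_g
  have hex : ∀ n (x : J.X n), (S.g.f n).hom x = 0 →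
      ∃ t : DRing.torsionSub I (J.X n), t.1 = x := fun n x hx => by
    obtain ⟨t, ht⟩ := (ShortComplex.moduleCat_exact_iff _).1 (hSe n).exact x hx
    exact ⟨t, ht⟩
  have hzero : ∀ n (x : J.X n), x ∈ DRing.torsionSub I (J.X n) → (S.g.f n).hom x = 0 :=
    fun n x hx => by
      have h1 : ((iotaCx I J).f n ≫ S.g.f n) = 0 := by
        rw [← HomologicalComplex.comp_f]
        have : iotaCx I J ≫ S.g = 0 := S.zero
        rw [this]; rfl
      have h2 : (S.g.f n).hom (((iotaCx I J).f n).hom ⟨x, hx⟩) = 0 := by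
        rw [← LinearMap.comp_apply, ← ModuleCat.hom_comp, h1]; rfl
      exact h2
  have hcomm : ∀ (a b : ℤ) (x : J.X a), (S.X₃.d a b).hom ((S.g.f a).hom x) =
      (S.g.f b).hom ((J.d a b).hom x) := fun a b x => by
    rw [← LinearMap.comp_apply, ← LinearMap.comp_apply, ← ModuleCat.hom_comp,
      ← ModuleCat.hom_comp, S.g.comm a b]
  obtain ⟨z, rfl⟩ := hsurj j q
  have hq' : (S.X₃.d j (j + 1)).hom ((S.g.f j).hom z) = 0 := hq
  rw [hcomm] at hq'
  obtain ⟨t, ht⟩ := hex _ _ hq'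
  obtain ⟨w, hw⟩ := h (j - 1) j (j + 1) (by simp) rfl z (by rw [← ht]; exact t.2)
  refine ⟨(S.g.f (j - 1)).hom w, ?_⟩
  change (S.X₃.d (j - 1) j).hom ((S.g.f (j - 1)).hom w) = (S.g.f j).hom z
  rw [hcomm]
  have := hzero _ _ hw
  rw [map_sub, sub_eq_zero] at this
  exact this.symm

lemma torsionSub_eq_powTors (I : Ideal A) (M : Type u) [AddCommGroup M] [Module A M] :
    DRing.torsionSub I M = Groth.Agent.Lib.Helper32.powTors I M := by
  ext x
  rw [Groth.Agent.Lib.Helper32.mem_powTors_iff]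
  rfl

lemma injective_gammaI_obj [IsNoetherianRing A] (I : Ideal A) (M : ModuleCat.{u} A)
    [Injective M] : Injective ((DRing.gammaI I).obj M) := by
  haveI : Injective (ModuleCat.of A M) := ‹_›
  haveI : Module.Injective A M := Module.injective_module_of_injective_object A M
  have : Module.Injective A (DRing.torsionSub I M) := by
    rw [torsionSub_eq_powTors]
    exact Groth.Agent.Lib.Helper32.injective_powTors I M inferInstance
  exact Module.injective_object_of_injective_module A _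

lemma isPowerTorsion_of_le {I₁ I₂ : Ideal A} (h : I₁ ≤ I₂) {M : Type u} [AddCommGroup M]
    [Module A M] (hM : LocCoh.IsPowerTorsion I₂ M) : LocCoh.IsPowerTorsion I₁ M := by
  intro m
  obtain ⟨n, hn⟩ := hM m
  exact ⟨n, fun a ha => hn a (Ideal.pow_right_mono h n ha)⟩

lemma isPowerTorsion_of_linearEquiv (I : Ideal A) {M N : Type u} [AddCommGroup M]
    [Module A M] [AddCommGroup N] [Module A N] (e : M ≃ₗ[A] N)
    (hM : LocCoh.IsPowerTorsion I M) : LocCoh.IsPowerTorsion I N := by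
  intro m
  obtain ⟨n, hn⟩ := hM (e.symm m)
  refine ⟨n, fun a ha => ?_⟩
  have := congrArg e (hn a ha)
  rw [map_smul, map_zero, LinearEquiv.apply_symm_apply] at this
  exact this

lemma isPowerTorsion_of_iso (I : Ideal A) {M N : ModuleCat.{u} A} (e : M ≅ N)
    (hM : LocCoh.IsPowerTorsion I M) : LocCoh.IsPowerTorsion I N :=
  isPowerTorsion_of_linearEquiv I e.toLinearEquiv hM

lemma mem_torsionSub_sup (I₁ I₂ : Ideal A) {M : Type u} [AddCommGroup M] [Module A M] (x : M)
    (h₁ : x ∈ DRing.torsionSub I₁ M) (h₂ : x ∈ DRing.torsionSub I₂ M) :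
    x ∈ DRing.torsionSub (I₁ ⊔ I₂) M := by
  obtain ⟨n₁, hn₁⟩ := h₁
  obtain ⟨n₂, hn₂⟩ := h₂
  refine ⟨n₁ + n₂, fun a ha => ?_⟩
  have ha' := Ideal.sup_pow_add_le_pow_sup_pow ha
  obtain ⟨a₁, ha₁, a₂, ha₂, rfl⟩ := Submodule.mem_sup.1 ha'
  rw [add_smul, hn₁ a₁ ha₁, hn₂ a₂ ha₂, add_zero]

lemma torsionSub_mono {I₁ I₂ : Ideal A} (h : I₁ ≤ I₂) {M : Type u} [AddCommGroup M]
    [Module A M] {x : M} (hx : x ∈ DRing.torsionSub I₂ M) : x ∈ DRing.torsionSub I₁ M := by
  obtain ⟨n, hn⟩ := hx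
  exact ⟨n, fun a ha => hn a (Ideal.pow_right_mono h n ha)⟩

/-- `HBI I`: the elementwise statement for all complexes of injectives with `I`-power torsion
cohomology -/
def HBI (I : Ideal A) : Prop :=
  ∀ J : CochainComplex (ModuleCat.{u} A) ℤ, (∀ n, Injective (J.X n)) →
    (∀ n, LocCoh.IsPowerTorsion I (J.homology n)) → HBE I J

theorem hbi_sup [IsNoetherianRing A] (I₁ I₂ : Ideal A) (h₁ : HBI I₁) (h₂ : HBI I₂) :
    HBI (I₁ ⊔ I₂) := by
  intro J hinj hH
  have e₂ : HBE I₂ J := h₂ J hinj (fun n => isPowerTorsion_of_le le_sup_right (hH n))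
  have q₂ : QuasiIso (iotaCx I₂ J) := quasiIso_iotaCx_of_hbe I₂ J e₂
  have hinj₂ : ∀ n, Injective ((gammaCx I₂ J).X n) := fun n => by
    haveI := hinj n
    exact injective_gammaI_obj I₂ (J.X n)
  have hH₁ : ∀ n, LocCoh.IsPowerTorsion I₁ ((gammaCx I₂ J).homology n) := fun n => by
    have : IsIso (HomologicalComplex.homologyMap (iotaCx I₂ J) n) := inferInstance
    exact isPowerTorsion_of_iso I₁ (asIso (HomologicalComplex.homologyMap (iotaCx I₂ J) n)).symm
      (isPowerTorsion_of_le le_sup_left (hH n))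
  have e₁ : HBE I₁ (gammaCx I₂ J) := h₁ _ hinj₂ hH₁
  intro i j k hij hjk z hz
  obtain ⟨w₂, hw₂⟩ := e₂ i j k hij hjk z (torsionSub_mono le_sup_right hz)
  let z₂ : (gammaCx I₂ J).X j := ⟨z - (J.d i j).hom w₂, hw₂⟩
  have hdz₂ : (((gammaCx I₂ J).d j k).hom z₂).1 = (J.d j k).hom z := by
    change (J.d j k).hom (z - (J.d i j).hom w₂) = _
    rw [map_sub, d_d_apply, sub_zero]
  have hz₂ : ((gammaCx I₂ J).d j k).hom z₂ ∈ DRing.torsionSub I₁ ((gammaCx I₂ J).X k) := by
    obtain ⟨l, hl⟩ := hz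
    refine ⟨l, fun a ha => ?_⟩
    apply Subtype.ext
    change a • (((gammaCx I₂ J).d j k).hom z₂).1 = 0
    rw [hdz₂]
    exact hl a (Ideal.pow_right_mono le_sup_left l ha)
  obtain ⟨w₁, hw₁⟩ := e₁ i j k hij hjk z₂ hz₂
  refine ⟨w₂ + w₁.1, ?_⟩
  have hval : z - (J.d i j).hom (w₂ + w₁.1) = (z₂ - ((gammaCx I₂ J).d i j).hom w₁).1 := by
    change _ = (z - (J.d i j).hom w₂) - (J.d i j).hom w₁.1
    rw [map_add, sub_sub]
  rw [hval]
  refine mem_torsionSub_sup I₁ I₂ _ ?_ (z₂ - ((gammaCx I₂ J).d i j).hom w₁).2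
  obtain ⟨n₁, hn₁⟩ := hw₁
  exact ⟨n₁, fun a ha => congrArg Subtype.val (hn₁ a ha)⟩

theorem hbi [IsNoetherianRing A] (I : Ideal A) : HBI I := by
  refine Submodule.fg_induction (R := A) (M := A) (motive := fun I _ => HBI I) ?_ ?_ I
    (IsNoetherian.noetherian I)
  · intro f J hinj hH
    exact hbe_span_singleton f J hinj hH
  · intro I₁ I₂ _ _ h₁ h₂
    exact hbi_sup I₁ I₂ h₁ h₂

/-- **Main**: over a Noetherian ring, `Γ_I J ⟶ J` is a quasi-isomorphism for complexes of
injectives with `I`-power torsion cohomology -/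
theorem quasiIso_iotaCx [IsNoetherianRing A] (I : Ideal A)
    (J : CochainComplex (ModuleCat.{u} A) ℤ) (hinj : ∀ n, Injective (J.X n))
    (hH : ∀ n, LocCoh.IsPowerTorsion I (J.homology n)) : QuasiIso (iotaCx I J) :=
  quasiIso_iotaCx_of_hbe I J (hbi I J hinj hH)

end HBE

end Groth.Agent.Lib.Helper6.PowTorsHB
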