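import Mathlib
import Groth.Prelude.Def_DRing3
import Groth.Agent.Lib.Helper6.PowTorsHB

/-!
# `RΓ_I` over a Noetherian ring: `RΓ_I K ≅ K` for `K` with torsion cohomology, and the adjunction
-/

set_option autoImplicit false
universe u
open CategoryTheory CategoryTheory.Limits

attribute [local instance] HasDerivedCategory.standard

namespace Groth.Agent.Lib.Helper6.RGammaAdj

open Groth.Agent.Lib.Helper99.KInj Groth.Agent.Lib.Helper34.RGammaI
  Groth.Agent.Lib.Helper6.PowTorsHB

variable {A : Type u} [CommRing A] (I : Ideal A)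

/-- the quotient functor to the homotopy category -/
abbrev quot : CochainComplex (ModuleCat.{u} A) ℤ ⥤
    HomotopyCategory (ModuleCat.{u} A) (ComplexShape.up ℤ) :=
  HomotopyCategory.quotient (ModuleCat.{u} A) (ComplexShape.up ℤ)

/-- the localization functor `K(A) ⥤ D(A)` -/
noncomputable abbrev Qh' : HomotopyCategory (ModuleCat.{u} A) (ComplexShape.up ℤ) ⥤
    DerivedCategory (ModuleCat.{u} A) :=
  DerivedCategory.Qh

lemma gammaIτ_app_quotient (J : CochainComplex (ModuleCat.{u} A) ℤ) :
    (DRing.gammaIτ I).app (quot.obj J) =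
      Qh'.map (((DRing.gammaI I).mapHomotopyCategoryFactors (ComplexShape.up ℤ)).hom.app J) ≫
        Qh'.map (quot.map (iotaCx I J)) := by
  have h1 : (DRing.gammaIτ I).app (quot.obj J) = (DRing.gammaIτ0 I).app J := rfl
  rw [h1]
  have h2 : (NatTrans.mapHomologicalComplex (DRing.gammaIι I) (ComplexShape.up ℤ)).app J ≫
      (Functor.mapHomologicalComplexIdIso (ModuleCat.{u} A) (ComplexShape.up ℤ)).hom.app J =
      iotaCx I J := by
    ext n : 2
    simp [iotaCx]
    rfl
  simp only [DRing.gammaIτ0, NatTrans.comp_app, Functor.associator_inv_app,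
    Functor.associator_hom_app, Functor.whiskerRight_app, Functor.leftUnitor_hom_app,
    Category.id_comp, Category.comp_id, Functor.comp_map]
  rw [← h2, Functor.map_comp, Functor.map_comp]
  erw [Category.comp_id]

lemma isIso_Qh_quot_map_of_quasiIso {K L : CochainComplex (ModuleCat.{u} A) ℤ} (φ : K ⟶ L)
    [QuasiIso φ] : IsIso (Qh'.map (quot.map φ)) :=
  Localization.inverts DerivedCategory.Qh (HomotopyCategory.quasiIso _ _) _
    ((HomotopyCategory.quotient_map_mem_quasiIso_iff _).2 ‹QuasiIso φ›)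

lemma isIso_gammaIτ_app (J : CochainComplex (ModuleCat.{u} A) ℤ) (h : QuasiIso (iotaCx I J)) :
    IsIso ((DRing.gammaIτ I).app (quot.obj J)) := by
  rw [gammaIτ_app_quotient]
  have := isIso_Qh_quot_map_of_quasiIso (iotaCx I J)
  infer_instance

/-- the unit of the total right derived functor `RΓ_I` -/
noncomputable abbrev α [DRing.HasRgammaI I] : DRing.gammaIKh I ⟶ Qh' ⋙ DRing.RgammaI I :=
  (DRing.gammaIKh I).totalRightDerivedUnit DerivedCategory.Qh
    (HomotopyCategory.quasiIso (ModuleCat.{u} A) (ComplexShape.up ℤ))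

lemma α_ε_app [DRing.HasRgammaI I] (X : HomotopyCategory (ModuleCat.{u} A) (ComplexShape.up ℤ)) :
    (α I).app X ≫ (DRing.RgammaIε I).app (Qh'.obj X) = (DRing.gammaIτ I).app X := by
  have := Functor.rightDerived_fac_app (DRing.RgammaI I) (α I)
    (HomotopyCategory.quasiIso (ModuleCat.{u} A) (ComplexShape.up ℤ)) (𝟭 _)
    (DRing.gammaIτ I ≫ (Functor.rightUnitor _).inv) X
  simpa [DRing.RgammaIε] using this

lemma isIso_α_app [DRing.HasRgammaI I] (J : CochainComplex (ModuleCat.{u} A) ℤ)
    [J.IsKInjective] : IsIso ((α I).app (quot.obj J)) :=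
  isIso_app_of_kInjK (DRing.gammaIKh I) (DRing.RgammaI I) (α I) (quot.obj J)
    (inferInstanceAs J.IsKInjective)

theorem isIso_ε_app_of_kInj [DRing.HasRgammaI I] (J : CochainComplex (ModuleCat.{u} A) ℤ)
    [J.IsKInjective] (h : QuasiIso (iotaCx I J)) :
    IsIso ((DRing.RgammaIε I).app (Qh'.obj (quot.obj J))) := by
  have h1 := α_ε_app I (quot.obj J)
  have := isIso_α_app I J
  have := isIso_gammaIτ_app I J h
  have h2 : (DRing.RgammaIε I).app (Qh'.obj (quot.obj J)) =
      inv ((α I).app (quot.obj J)) ≫ (DRing.gammaIτ I).app (quot.obj J) := by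
    rw [← h1, IsIso.inv_hom_id_assoc]
  rw [h2]
  infer_instance

/-- a K-injective, termwise injective model of an object of `D(A)` -/
theorem exists_model (K : Dual.D A) :
    ∃ (J : CochainComplex (ModuleCat.{u} A) ℤ) (_ : J.IsKInjective)
      (_ : ∀ n, Injective (J.X n)), Nonempty (Qh'.obj (quot.obj J) ≅ K) := by
  let M := (DerivedCategory.Q (C := ModuleCat.{u} A)).objPreimage K
  let e : DerivedCategory.Q.obj M ≅ K := DerivedCategory.Q.objObjPreimageIso K
  obtain ⟨J, f, hJ, hf, -, hinj⟩ := exists_kInjective_resolution M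
  exact ⟨J, hJ, hinj, ⟨(DerivedCategory.quotientCompQhIso (ModuleCat.{u} A)).app J ≪≫
    (asIso (DerivedCategory.Q.map f)).symm ≪≫ e⟩⟩

/-- cohomology of `Qh (quot J)` -/
noncomputable def homologyIso (J : CochainComplex (ModuleCat.{u} A) ℤ) (n : ℤ) :
    (DerivedCategory.homologyFunctor (ModuleCat.{u} A) n).obj (Qh'.obj (quot.obj J)) ≅
      J.homology n :=
  (DerivedCategory.homologyFunctor (ModuleCat.{u} A) n).mapIso
    ((DerivedCategory.quotientCompQhIso (ModuleCat.{u} A)).app J) ≪≫
    (DerivedCategory.homologyFunctorFactors (ModuleCat.{u} A) n).app J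

/-- **S1813** -/
theorem isIso_ε_app [IsNoetherianRing A] [DRing.HasRgammaI I] (K : Dual.D A)
    (hK : ∀ i : ℤ, LocCoh.IsPowerTorsion I (Dual.HD A K i)) :
    IsIso ((DRing.RgammaIε I).app K) := by
  obtain ⟨J, hJ, hinj, ⟨e⟩⟩ := exists_model K
  rw [← NatTrans.isIso_app_iff_of_iso _ e]
  apply isIso_ε_app_of_kInj
  apply quasiIso_iotaCx I J hinj
  intro n
  exact isPowerTorsion_of_iso I
    ((DerivedCategory.homologyFunctor (ModuleCat.{u} A) n).mapIso e.symm ≪≫ homologyIso J n)
    (hK n)

end Groth.Agent.Lib.Helper6.RGammaAdj
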