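import Mathlib
import Groth.Prelude.Def_DRing3
import Groth.Agent.Lib.Helper6.RGammaAdj

/-!
# `RΓ_I` over a Noetherian ring is right adjoint to the inclusion of objects with torsion cohomology
-/

set_option autoImplicit false
universe u
open CategoryTheory CategoryTheory.Limits

attribute [local instance] HasDerivedCategory.standard

namespace Groth.Agent.Lib.Helper6.RGammaAdj

open Groth.Agent.Lib.Helper99.KInj Groth.Agent.Lib.Helper34.RGammaI
  Groth.Agent.Lib.Helper6.PowTorsHB

section Abstract

variable {C : Type*} [Category C] (P : ObjectProperty C) (R : C ⥤ C) (ε : R ⟶ 𝟭 C)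
  (h : ∀ X, P (R.obj X)) (h1 : ∀ X, P X → IsIso (ε.app X)) (h2 : ∀ Y, IsIso (R.map (ε.app Y)))

include h h1 h2 in
lemma map_ε_app_eq (Y : C) : R.map (ε.app Y) = ε.app (R.obj Y) := by
  have := h2 Y
  have := h1 _ (h (R.obj Y))
  have e1 : R.map (R.map (ε.app Y)) = R.map (ε.app (R.obj Y)) := by
    rw [← cancel_mono (R.map (ε.app Y)), ← R.map_comp, ← R.map_comp]
    congr 1
    exact ε.naturality (ε.app Y)
  have n1 := ε.naturality (R.map (ε.app Y))
  have n2 := ε.naturality (ε.app (R.obj Y))
  rw [e1] at n1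
  rw [← cancel_epi (ε.app (R.obj (R.obj Y)))]
  exact n1.symm.trans n2

include h1 h2 in
/-- an augmented endofunctor which is idempotent on `P` is right adjoint to the inclusion -/
theorem nonempty_adj : Nonempty (P.ι ⊣ P.lift R h) := by
  have hX : ∀ X : P.FullSubcategory, IsIso (ε.app X.obj) := fun X => h1 _ X.property
  refine ⟨Adjunction.mkOfHomEquiv
    { homEquiv := fun X Y =>
        { toFun := fun φ => ObjectProperty.homMk (inv (ε.app X.obj) ≫ R.map φ)
          invFun := fun ψ => ψ.hom ≫ ε.app Y
          left_inv := fun φ => by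
            have := ε.naturality φ
            dsimp at this ⊢
            rw [Category.assoc, this, IsIso.inv_hom_id_assoc]
          right_inv := fun ψ => by
            ext
            have := ε.naturality ψ.hom
            dsimp at this ⊢
            rw [R.map_comp, map_ε_app_eq P R ε h h1 h2 Y, this, IsIso.inv_hom_id_assoc] }
      homEquiv_naturality_left_symm := ?_
      homEquiv_naturality_right := ?_ }⟩
  · intro X' X Y f g
    dsimp
    rw [Category.assoc]
  · intro X Y Y' f g
    ext
    dsimp
    rw [R.map_comp, Category.assoc]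

end Abstract

variable {A : Type u} [CommRing A] (I : Ideal A)

/-- the cohomology of a complex of `I`-power torsion modules is `I`-power torsion -/
lemma isPowerTorsion_homology_gammaCx (J : CochainComplex (ModuleCat.{u} A) ℤ) (n : ℤ) :
    LocCoh.IsPowerTorsion I ((gammaCx I J).homology n) := by
  intro x
  obtain ⟨z, rfl⟩ := (ModuleCat.epi_iff_surjective ((gammaCx I J).homologyπ n)).1 inferInstance x
  obtain ⟨k, hk⟩ := ((gammaCx I J).iCycles n z).2
  refine ⟨k, fun a ha => ?_⟩
  have hz : a • z = 0 := by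
    apply (ModuleCat.mono_iff_injective ((gammaCx I J).iCycles n)).1 inferInstance
    rw [map_smul, map_zero]
    apply Subtype.ext
    exact hk a ha
  change a • ((gammaCx I J).homologyπ n) z = 0
  rw [← map_smul, hz, map_zero]

/-- `Γ_I T ⟶ T` is an isomorphism when `T = Γ_I J` -/
instance isIso_iotaCx_gammaCx (J : CochainComplex (ModuleCat.{u} A) ℤ) :
    IsIso (iotaCx I (gammaCx I J)) := by
  have : ∀ n, IsIso ((iotaCx I (gammaCx I J)).f n) := fun n => by
    rw [ConcreteCategory.isIso_iff_bijective]
    constructor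
    · intro x y hxy
      exact Subtype.ext hxy
    · intro y
      obtain ⟨k, hk⟩ := y.2
      exact ⟨⟨y, k, fun a ha => Subtype.ext (hk a ha)⟩, rfl⟩
  exact HomologicalComplex.Hom.isIso_of_components _

lemma gammaCx_map_iotaCx (J : CochainComplex (ModuleCat.{u} A) ℤ) :
    ((DRing.gammaI I).mapHomologicalComplex (ComplexShape.up ℤ)).map (iotaCx I J) =
      iotaCx I (gammaCx I J) := rfl

lemma iotaCx_naturality {K L : CochainComplex (ModuleCat.{u} A) ℤ} (φ : K ⟶ L) :
    ((DRing.gammaI I).mapHomologicalComplex (ComplexShape.up ℤ)).map φ ≫ iotaCx I L =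
      iotaCx I K ≫ φ := by
  ext n : 1
  exact (DRing.gammaIι I).naturality (φ.f n)

/-- the functor induced by `Γ_I` on the homotopy category -/
noncomputable abbrev G : HomotopyCategory (ModuleCat.{u} A) (ComplexShape.up ℤ) ⥤
    HomotopyCategory (ModuleCat.{u} A) (ComplexShape.up ℤ) :=
  (DRing.gammaI I).mapHomotopyCategory (ComplexShape.up ℤ)

lemma G_map_quot_map {K L : CochainComplex (ModuleCat.{u} A) ℤ} (φ : K ⟶ L) :
    (G I).map (quot.map φ) =
      ((DRing.gammaI I).mapHomotopyCategoryFactors (ComplexShape.up ℤ)).hom.app K ≫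
        quot.map (((DRing.gammaI I).mapHomologicalComplex (ComplexShape.up ℤ)).map φ) ≫
        ((DRing.gammaI I).mapHomotopyCategoryFactors (ComplexShape.up ℤ)).inv.app L := by
  have := ((DRing.gammaI I).mapHomotopyCategoryFactors (ComplexShape.up ℤ)).hom.naturality φ
  rw [Functor.comp_map, Functor.comp_map] at this
  rw [← Category.assoc, ← this, Category.assoc, Iso.hom_inv_id_app]
  erw [Category.comp_id]

/-- key: `RΓ_I` inverts `ε` on K-injective models -/
theorem isIso_map_ε_app_of_kInj [IsNoetherianRing A] [DRing.HasRgammaI I]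
    (J : CochainComplex (ModuleCat.{u} A) ℤ) [J.IsKInjective] :
    IsIso ((DRing.RgammaI I).map ((DRing.RgammaIε I).app (Qh'.obj (quot.obj J)))) := by
  obtain ⟨J', r, hJ', hr, -, hinj'⟩ := exists_kInjective_resolution (gammaCx I J)
  haveI := hJ'
  haveI := hr
  have hH' : ∀ n, LocCoh.IsPowerTorsion I (J'.homology n) := fun n =>
    isPowerTorsion_of_iso I (asIso (HomologicalComplex.homologyMap r n))
      (isPowerTorsion_homology_gammaCx I J n)
  have q' : QuasiIso (iotaCx I J') := quasiIso_iotaCx I J' hinj' hH'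
  have qΓr : QuasiIso (((DRing.gammaI I).mapHomologicalComplex (ComplexShape.up ℤ)).map r) := by
    have e := iotaCx_naturality I r
    have : QuasiIso (((DRing.gammaI I).mapHomologicalComplex (ComplexShape.up ℤ)).map r ≫
        iotaCx I J') := by
      rw [e]; infer_instance
    exact quasiIso_of_comp_right _ (iotaCx I J')
  have hloc := isLocal_quotient_obj J
  obtain ⟨s', hs'⟩ := (hloc (quot.map r)
    ((HomotopyCategory.quotient_map_mem_quasiIso_iff _).2 hr)).2 (quot.map (iotaCx I J))
  replace hs' : quot.map r ≫ s' = quot.map (iotaCx I J) := hs'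
  have i1 : IsIso (Qh'.map ((G I).map (quot.map r))) := by
    rw [G_map_quot_map, Functor.map_comp, Functor.map_comp]
    have := isIso_Qh_quot_map_of_quasiIso
      (((DRing.gammaI I).mapHomologicalComplex (ComplexShape.up ℤ)).map r)
    infer_instance
  have i2 : IsIso (Qh'.map ((G I).map (quot.map (iotaCx I J)))) := by
    rw [G_map_quot_map, gammaCx_map_iotaCx]
    infer_instance
  have i3 : IsIso (Qh'.map ((G I).map s')) := by
    have e : Qh'.map ((G I).map (quot.map r)) ≫ Qh'.map ((G I).map s') =
        Qh'.map ((G I).map (quot.map (iotaCx I J))) := by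
      rw [← Functor.map_comp, ← Functor.map_comp, hs']
    have : IsIso (Qh'.map ((G I).map (quot.map r)) ≫ Qh'.map ((G I).map s')) := by
      rw [e]; exact i2
    exact IsIso.of_isIso_comp_left (Qh'.map ((G I).map (quot.map r))) _
  have nat := (α I).naturality s'
  have := isIso_α_app I J
  have := isIso_α_app I J'
  have i4 : IsIso ((DRing.RgammaI I).map (Qh'.map s')) := by
    have e : (DRing.RgammaI I).map (Qh'.map s') = inv ((α I).app (quot.obj J')) ≫
        Qh'.map ((G I).map s') ≫ (α I).app (quot.obj J) := by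
      rw [IsIso.eq_inv_comp]; exact nat.symm
    rw [e]; infer_instance
  have i5 : IsIso ((DRing.RgammaI I).map (Qh'.map (quot.map r))) := by
    have := isIso_Qh_quot_map_of_quasiIso r
    infer_instance
  have i6 : IsIso ((DRing.RgammaI I).map (Qh'.map (quot.map (iotaCx I J)))) := by
    rw [← hs', Functor.map_comp, Functor.map_comp]; infer_instance
  have h1 := α_ε_app I (quot.obj J)
  have h2 : (DRing.RgammaIε I).app (Qh'.obj (quot.obj J)) =
      inv ((α I).app (quot.obj J)) ≫ (DRing.gammaIτ I).app (quot.obj J) := by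
    rw [← h1, IsIso.inv_hom_id_assoc]
  rw [h2, gammaIτ_app_quotient, Functor.map_comp, Functor.map_comp]
  infer_instance

theorem isIso_map_ε_app [IsNoetherianRing A] [DRing.HasRgammaI I] (Y : Dual.D A) :
    IsIso ((DRing.RgammaI I).map ((DRing.RgammaIε I).app Y)) := by
  obtain ⟨J, hJ, hinj, ⟨e⟩⟩ := exists_model Y
  have := isIso_map_ε_app_of_kInj I J
  have nat := (DRing.RgammaIε I).naturality e.hom
  have h : (DRing.RgammaIε I).app Y = (DRing.RgammaI I).map e.inv ≫
      (DRing.RgammaIε I).app (Qh'.obj (quot.obj J)) ≫ e.hom := by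
    rw [← Functor.id_map e.hom, ← nat, ← Functor.map_comp_assoc, e.inv_hom_id,
      CategoryTheory.Functor.map_id, Category.id_comp]
  rw [h, Functor.map_comp, Functor.map_comp]
  infer_instance

theorem prop_RgammaI_obj [DRing.HasRgammaI I] (K : Dual.D A) (i : ℤ) :
    LocCoh.IsPowerTorsion I (Dual.HD A ((DRing.RgammaI I).obj K) i) := by
  obtain ⟨J, hJ, hinj, ⟨e⟩⟩ := exists_model K
  have := isIso_α_app I J
  let e1 : (DRing.RgammaI I).obj K ≅ Qh'.obj (quot.obj (gammaCx I J)) :=
    (DRing.RgammaI I).mapIso e.symm ≪≫ (asIso ((α I).app (quot.obj J))).symm ≪≫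
      Qh'.mapIso (((DRing.gammaI I).mapHomotopyCategoryFactors (ComplexShape.up ℤ)).app J)
  exact isPowerTorsion_of_iso I
    ((DerivedCategory.homologyFunctor (ModuleCat.{u} A) i).mapIso e1 ≪≫
      homologyIso (gammaCx I J) i).symm (isPowerTorsion_homology_gammaCx I J i)

/-- **S1817** -/
theorem exists_adj [IsNoetherianRing A] [DRing.HasRgammaI I] :
    ∃ h : ∀ K : Dual.D A, (fun L : Dual.D A => ∀ i : ℤ, LocCoh.IsPowerTorsion I (Dual.HD A L i))
        ((DRing.RgammaI I).obj K),
      Nonempty (ObjectProperty.ι (fun L : Dual.D A => ∀ i : ℤ,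
        LocCoh.IsPowerTorsion I (Dual.HD A L i)) ⊣
        ObjectProperty.lift (fun L : Dual.D A => ∀ i : ℤ,
          LocCoh.IsPowerTorsion I (Dual.HD A L i)) (DRing.RgammaI I) h) :=
  ⟨fun K i => prop_RgammaI_obj I K i,
    nonempty_adj _ (DRing.RgammaI I) (DRing.RgammaIε I) _ (fun X hX => isIso_ε_app I X hX)
      (fun Y => isIso_map_ε_app I Y)⟩

end Groth.Agent.Lib.Helper6.RGammaAdj
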