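import Mathlib
import Groth.Prelude.Def_DRing3
import Groth.Agent.Lib.Helper6.RGammaAdj2
import Groth.Agent.Lib.Helper6.RDPlus4

/-!
# `RΓ_J ∘ RΓ_I ≅ RΓ_{I + J}` over a Noetherian ring
-/

set_option autoImplicit false
universe u
open CategoryTheory CategoryTheory.Limits

attribute [local instance] HasDerivedCategory.standard

namespace Groth.Agent.Lib.Helper6.RGammaAdj

open Groth.Agent.Lib.Helper99.KInj Groth.Agent.Lib.Helper34.RGammaI
  Groth.Agent.Lib.Helper6.PowTorsHB

variable {A : Type u} [CommRing A] (I : Ideal A)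

/-- over a Noetherian ring `Γ_I` preserves quasi-isomorphisms between complexes of injectives -/
theorem quasiIso_gammaCx_map [IsNoetherianRing A] {K L : CochainComplex (ModuleCat.{u} A) ℤ}
    (φ : K ⟶ L) [hφ : QuasiIso φ] (hK : ∀ n, Injective (K.X n)) (hL : ∀ n, Injective (L.X n)) :
    QuasiIso (((DRing.gammaI I).mapHomologicalComplex (ComplexShape.up ℤ)).map φ) := by
  rw [Groth.Agent.Lib.Helper6.RDPlus.quasiIso_iff_acyclic_mappingCone]
  have hcone : (CochainComplex.mappingCone φ).Acyclic :=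
    (Groth.Agent.Lib.Helper6.RDPlus.quasiIso_iff_acyclic_mappingCone φ).1 hφ
  have hinj : ∀ n, Injective ((CochainComplex.mappingCone φ).X n) := fun n => by
    have := hK (n + 1)
    have := hL n
    exact Injective.of_iso (HomologicalComplex.homotopyCofiber.XIsoBiprod φ n (n + 1) rfl).symm
      inferInstance
  have hZ : ∀ n, IsZero ((CochainComplex.mappingCone φ).homology n) := fun n =>
    (HomologicalComplex.exactAt_iff_isZero_homology _ _).1 (hcone n)
  have hH : ∀ n, LocCoh.IsPowerTorsion I ((CochainComplex.mappingCone φ).homology n) := by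
    intro n m
    have := (ModuleCat.isZero_iff_subsingleton.1 (hZ n))
    exact ⟨0, fun a _ => Subsingleton.elim _ _⟩
  have q := quasiIso_iotaCx I (CochainComplex.mappingCone φ) hinj hH
  have hacyc : (gammaCx I (CochainComplex.mappingCone φ)).Acyclic := fun n => by
    rw [HomologicalComplex.exactAt_iff_isZero_homology]
    exact IsZero.of_iso (hZ n)
      (asIso (HomologicalComplex.homologyMap (iotaCx I (CochainComplex.mappingCone φ)) n))
  intro n
  exact (hacyc n).of_iso (CochainComplex.mappingCone.mapHomologicalComplexIso φ (DRing.gammaI I))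

/-- `Γ_J (Γ_I M) ≃ Γ_{I ⊔ J} M` -/
def torsionSubSupEquiv (I J : Ideal A) (M : Type u) [AddCommGroup M] [Module A M] :
    DRing.torsionSub J (DRing.torsionSub I M) ≃ₗ[A] DRing.torsionSub (I ⊔ J) M where
  toFun x := ⟨x.1.1, mem_torsionSub_sup I J _ x.1.2 (by
    obtain ⟨n, hn⟩ := x.2
    exact ⟨n, fun a ha => congrArg Subtype.val (hn a ha)⟩)⟩
  invFun y := ⟨⟨y.1, torsionSub_mono le_sup_left y.2⟩, by
    obtain ⟨n, hn⟩ := y.2
    exact ⟨n, fun a ha => Subtype.ext (hn a (Ideal.pow_right_mono le_sup_right n ha))⟩⟩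
  map_add' _ _ := rfl
  map_smul' _ _ := rfl
  left_inv _ := rfl
  right_inv _ := rfl

/-- `Γ_J (Γ_I X) ≅ Γ_{I ⊔ J} X` for complexes -/
noncomputable def gammaCxSupIso (I J : Ideal A) (X : CochainComplex (ModuleCat.{u} A) ℤ) :
    gammaCx J (gammaCx I X) ≅ gammaCx (I ⊔ J) X :=
  HomologicalComplex.Hom.isoOfComponents
    (fun n => (torsionSubSupEquiv I J (X.X n)).toModuleIso) (fun i j _ => rfl)

/-- `RΓ_I (Q J₀) ≅ Q (Γ_I J₀)` for `J₀` K-injective -/
noncomputable def rgammaIso [DRing.HasRgammaI I] (J₀ : CochainComplex (ModuleCat.{u} A) ℤ)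
    [J₀.IsKInjective] :
    (DRing.RgammaI I).obj (Qh'.obj (quot.obj J₀)) ≅ Qh'.obj (quot.obj (gammaCx I J₀)) :=
  haveI := isIso_α_app I J₀
  (asIso ((α I).app (quot.obj J₀))).symm ≪≫
    Qh'.mapIso (((DRing.gammaI I).mapHomotopyCategoryFactors (ComplexShape.up ℤ)).app J₀)

/-- **S1816** -/
theorem nonempty_comp_iso [IsNoetherianRing A] (I J : Ideal A) [DRing.HasRgammaI I]
    [DRing.HasRgammaI J] [DRing.HasRgammaI (I ⊔ J)] (K : Dual.D A) :
    Nonempty ((DRing.RgammaI J).obj ((DRing.RgammaI I).obj K) ≅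
      (DRing.RgammaI (I ⊔ J)).obj K) := by
  obtain ⟨J₀, hJ₀, hinj₀, ⟨e⟩⟩ := exists_model K
  obtain ⟨J', r, hJ', hr, -, hinj'⟩ := exists_kInjective_resolution (gammaCx I J₀)
  haveI := hJ'
  haveI := hr
  have hinjΓ : ∀ n, Injective ((gammaCx I J₀).X n) := fun n => by
    haveI := hinj₀ n
    exact injective_gammaI_obj I (J₀.X n)
  have q := quasiIso_gammaCx_map J r hinjΓ hinj'
  have i1 := isIso_Qh_quot_map_of_quasiIso r
  have i2 := isIso_Qh_quot_map_of_quasiIso
    (((DRing.gammaI J).mapHomologicalComplex (ComplexShape.up ℤ)).map r)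
  exact ⟨(DRing.RgammaI J).mapIso ((DRing.RgammaI I).mapIso e.symm ≪≫ rgammaIso I J₀ ≪≫
      asIso (Qh'.map (quot.map r))) ≪≫ rgammaIso J J' ≪≫
    (asIso (Qh'.map (quot.map
      (((DRing.gammaI J).mapHomologicalComplex (ComplexShape.up ℤ)).map r)))).symm ≪≫
    Qh'.mapIso (quot.mapIso (gammaCxSupIso I J J₀)) ≪≫ (rgammaIso (I ⊔ J) J₀).symm ≪≫
    (DRing.RgammaI (I ⊔ J)).mapIso e⟩

end Groth.Agent.Lib.Helper6.RGammaAdj
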