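import Mathlib
import Groth.Prelude.Def_DRing3
import Groth.Prelude.Def_DualLC
import Groth.Agent.Lib.Helper6.RGammaComp

/-!
# `H^q(RΓ_I K)` as the colimit of `Hom(A/I^n, K[q])`
-/

set_option autoImplicit false
universe u
open CategoryTheory CategoryTheory.Limits

attribute [local instance] HasDerivedCategory.standard

namespace Groth.Agent.Lib.Helper6.RGammaColim

section Single

variable {C : Type*} [Category C] [Abelian C] {M : C} {L : CochainComplex C ℤ}

/-- the single complex in degree `0` -/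
noncomputable abbrev S (M : C) : CochainComplex C ℤ :=
  (HomologicalComplex.single C (ComplexShape.up ℤ) 0).obj M

/-- the degree `0` component of a chain map from a single complex -/
noncomputable def u (f : S M ⟶ L) : M ⟶ L.X 0 :=
  (HomologicalComplex.singleObjXSelf (ComplexShape.up ℤ) 0 M).inv ≫ f.f 0

lemma u_d (f : S M ⟶ L) : u f ≫ L.d 0 1 = 0 := by
  unfold u
  rw [Category.assoc, f.comm 0 1, HomologicalComplex.single_obj_d, zero_comp, comp_zero]

lemma u_add (f g : S M ⟶ L) : u (f + g) = u f + u g := by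
  unfold u
  rw [HomologicalComplex.add_f_apply, Preadditive.comp_add]

lemma u_comp {M' : C} (a : M' ⟶ M) (f : S M ⟶ L) :
    u ((HomologicalComplex.single C (ComplexShape.up ℤ) 0).map a ≫ f) = a ≫ u f := by
  unfold u
  rw [HomologicalComplex.comp_f, HomologicalComplex.single_map_f_self]
  simp

lemma ext_u (f g : S M ⟶ L) (h : u f = u g) : f = g := by
  apply HomologicalComplex.from_single_hom_ext
  have := congrArg (fun t => (HomologicalComplex.singleObjXSelf (ComplexShape.up ℤ) 0 M).hom ≫ t) h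
  simpa [u] using this

/-- chain maps from a single complex -/
noncomputable def mkS (φ : M ⟶ L.X 0) (hφ : φ ≫ L.d 0 1 = 0) : S M ⟶ L :=
  HomologicalComplex.mkHomFromSingle φ (by
    intro k hk
    obtain rfl : k = 1 := by simpa using hk.symm
    exact hφ)

lemma u_mkS (φ : M ⟶ L.X 0) (hφ : φ ≫ L.d 0 1 = 0) : u (mkS φ hφ) = φ := by
  unfold u mkS
  rw [HomologicalComplex.mkHomFromSingle_f]
  simp

/-- homotopies between maps from a single complex -/
noncomputable def homotopyOfSingle (f g : S M ⟶ L) (y : M ⟶ L.X (-1))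
    (h : u f = y ≫ L.d (-1) 0 + u g) : Homotopy f g where
  hom i j := if hi : i = 0 then if hj : j = -1 then
      eqToHom (by rw [hi]) ≫ (HomologicalComplex.singleObjXSelf (ComplexShape.up ℤ) 0 M).hom ≫ y ≫
        eqToHom (by rw [hj]) else 0 else 0
  zero i j hij := by
    by_cases hi : i = 0
    · by_cases hj : j = -1
      · exfalso
        apply hij
        subst hi hj
        simp
      · simp [hi, hj]
    · simp [hi]
  comm i := by
    by_cases hi : i = 0
    · subst hi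
      rw [dNext_eq _ (show (ComplexShape.up ℤ).Rel 0 1 by simp),
        prevD_eq _ (show (ComplexShape.up ℤ).Rel (-1) 0 by simp)]
      have h' := congrArg
        (fun t => (HomologicalComplex.singleObjXSelf (ComplexShape.up ℤ) 0 M).hom ≫ t) h
      simp only [u, Preadditive.comp_add, Iso.hom_inv_id_assoc] at h'
      simp [h']
    · apply (HomologicalComplex.isZero_single_obj_X (ComplexShape.up ℤ) 0 M i hi).eq_of_src

lemma exists_of_homotopy (f g : S M ⟶ L) (h : Homotopy f g) :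
    ∃ y : M ⟶ L.X (-1), u f = y ≫ L.d (-1) 0 + u g := by
  refine ⟨(HomologicalComplex.singleObjXSelf (ComplexShape.up ℤ) 0 M).inv ≫ h.hom 0 (-1), ?_⟩
  have := h.comm 0
  rw [dNext_eq _ (show (ComplexShape.up ℤ).Rel 0 1 by simp),
    prevD_eq _ (show (ComplexShape.up ℤ).Rel (-1) 0 by simp),
    HomologicalComplex.single_obj_d, zero_comp, zero_add] at this
  unfold u
  rw [this, Preadditive.comp_add, Category.assoc]

end Single

section QMap

variable {A : Type u} [CommRing A] {X L : CochainComplex (ModuleCat.{u} A) ℤ}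

lemma Q_map_eq (f : X ⟶ L) : DerivedCategory.Q.map f =
    (DerivedCategory.quotientCompQhIso (ModuleCat.{u} A)).inv.app X ≫
      DerivedCategory.Qh.map ((HomotopyCategory.quotient _ _).map f) ≫
      (DerivedCategory.quotientCompQhIso (ModuleCat.{u} A)).hom.app L := by
  have := (DerivedCategory.quotientCompQhIso (ModuleCat.{u} A)).hom.naturality f
  rw [Functor.comp_map] at this
  rw [this, Iso.inv_hom_id_app_assoc]

lemma Q_map_surjective [L.IsKInjective] (φ : DerivedCategory.Q.obj X ⟶ DerivedCategory.Q.obj L) :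
    ∃ f : X ⟶ L, DerivedCategory.Q.map f = φ := by
  obtain ⟨ψ, hψ⟩ := (CochainComplex.IsKInjective.Qh_map_bijective
    ((HomotopyCategory.quotient _ _).obj X) L).2
      ((DerivedCategory.quotientCompQhIso (ModuleCat.{u} A)).hom.app X ≫ φ ≫
        (DerivedCategory.quotientCompQhIso (ModuleCat.{u} A)).inv.app L)
  obtain ⟨f, rfl⟩ := (HomotopyCategory.quotient _ _).map_surjective ψ
  refine ⟨f, ?_⟩
  rw [Q_map_eq, hψ]
  simp

lemma nonempty_homotopy_of_Q_map_eq [L.IsKInjective] (f g : X ⟶ L)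
    (h : DerivedCategory.Q.map f = DerivedCategory.Q.map g) : Nonempty (Homotopy f g) := by
  rw [Q_map_eq, Q_map_eq] at h
  have h1 : DerivedCategory.Qh.map ((HomotopyCategory.quotient _ _).map f) =
      DerivedCategory.Qh.map ((HomotopyCategory.quotient _ _).map g) := by
    have := congrArg (fun t => (DerivedCategory.quotientCompQhIso (ModuleCat.{u} A)).hom.app X ≫ t ≫
      (DerivedCategory.quotientCompQhIso (ModuleCat.{u} A)).inv.app L) h
    simpa using this
  exact ⟨HomotopyCategory.homotopyOfEq _ _ ((CochainComplex.IsKInjective.Qh_map_bijective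
    ((HomotopyCategory.quotient _ _).obj X) L).1 h1)⟩

end QMap

section Cls

variable {A : Type u} [CommRing A] (X : CochainComplex (ModuleCat.{u} A) ℤ)

/-- the class of a cycle -/
noncomputable def clsL (j k : ℤ) (hjk : j + 1 = k) :
    LinearMap.ker (X.d j k).hom →ₗ[A] X.homology j :=
  (X.liftCycles (ModuleCat.ofHom (LinearMap.ker (X.d j k).hom).subtype) k (by simp [← hjk])
    (by ext x; exact x.2) ≫ X.homologyπ j).hom

lemma clsL_apply (j k : ℤ) (hjk : j + 1 = k) (x : LinearMap.ker (X.d j k).hom) :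
    clsL X j k hjk x = (X.homologyπ j).hom ((X.liftCycles (ModuleCat.ofHom
      (LinearMap.ker (X.d j k).hom).subtype) k (by simp [← hjk]) (by ext x; exact x.2)).hom x) :=
  rfl

lemma clsL_surjective (j k : ℤ) (hjk : j + 1 = k) : Function.Surjective (clsL X j k hjk) := by
  intro h
  obtain ⟨z, rfl⟩ := (ModuleCat.epi_iff_surjective (X.homologyπ j)).1 inferInstance h
  have hz : (X.d j k).hom ((X.iCycles j).hom z) = 0 := by
    rw [← LinearMap.comp_apply, ← ModuleCat.hom_comp, X.iCycles_d]; rfl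
  refine ⟨⟨(X.iCycles j).hom z, hz⟩, ?_⟩
  rw [clsL_apply]
  congr 1
  apply (ModuleCat.mono_iff_injective (X.iCycles j)).1 inferInstance
  rw [← LinearMap.comp_apply, ← ModuleCat.hom_comp, X.liftCycles_i]
  rfl

lemma clsL_eq_zero_iff (i j k : ℤ) (hij : i + 1 = j) (hjk : j + 1 = k)
    (x : LinearMap.ker (X.d j k).hom) :
    clsL X j k hjk x = 0 ↔ ∃ y : X.X i, (X.d i j).hom y = x.1 := by
  have hlift : (X.iCycles j).hom ((X.liftCycles (ModuleCat.ofHom
      (LinearMap.ker (X.d j k).hom).subtype) k (by simp [← hjk]) (by ext x; exact x.2)).hom x) =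
      x.1 := by
    rw [← LinearMap.comp_apply, ← ModuleCat.hom_comp, X.liftCycles_i]
    rfl
  constructor
  · intro h
    rw [clsL_apply] at h
    obtain ⟨w, hw⟩ := Groth.Agent.Lib.Helper6.PowTorsHB.exists_boundary X i j hij _ h
    exact ⟨w, hw.trans hlift⟩
  · rintro ⟨y, hy⟩
    have h1 : (X.liftCycles (ModuleCat.ofHom
        (LinearMap.ker (X.d j k).hom).subtype) k (by simp [← hjk]) (by ext x; exact x.2)).hom x =
        (X.toCycles i j).hom y := by
      apply (ModuleCat.mono_iff_injective (X.iCycles j)).1 inferInstance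
      rw [hlift, ← LinearMap.comp_apply, ← ModuleCat.hom_comp, X.toCycles_i, hy]
    rw [clsL_apply, h1, ← LinearMap.comp_apply, ← ModuleCat.hom_comp, X.toCycles_comp_homologyπ]
    rfl

end Cls

section Main

open Groth.Agent.Lib.Helper34.RGammaI Groth.Agent.Lib.Helper6.PowTorsHB

variable {A : Type u} [CommRing A] (I : Ideal A) (J : CochainComplex (ModuleCat.{u} A) ℤ) (q : ℤ)

/-- `J⟦q⟧` -/
noncomputable abbrev Lq : CochainComplex (ModuleCat.{u} A) ℤ :=
  (shiftFunctor (CochainComplex (ModuleCat.{u} A) ℤ) q).obj J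

lemma u_smul {M : ModuleCat.{u} A} {L : CochainComplex (ModuleCat.{u} A) ℤ} (a : A)
    (f : S M ⟶ L) : u (a • f) = a • u f := by
  unfold u
  rw [HomologicalComplex.smul_f_apply, Linear.comp_smul]

/-- evaluation of the degree `0` component at an element -/
noncomputable def ev {M : ModuleCat.{u} A} (m : M) : (S M ⟶ Lq J q) →ₗ[A] J.X (0 + q) where
  toFun f := (u f).hom m
  map_add' f g := by rw [u_add]; rfl
  map_smul' a f := by rw [u_smul]; rfl

lemma ev_apply {M : ModuleCat.{u} A} (m : M) (f : S M ⟶ Lq J q) :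
    ev J q m f = (u f).hom m := rfl

lemma ev_smul {M : ModuleCat.{u} A} (a : A) (m : M) (f : S M ⟶ Lq J q) :
    ev J q (a • m) f = a • ev J q m f := (u f).hom.map_smul a m

lemma ev_zero {M : ModuleCat.{u} A} (f : S M ⟶ Lq J q) :
    ev J q (0 : M) f = 0 := (u f).hom.map_zero

lemma d_ev {M : ModuleCat.{u} A} (m : M) (f : S M ⟶ Lq J q) :
    (J.d (0 + q) (1 + q)).hom (ev J q m f) = 0 := by
  have h := congrArg (fun t => t.hom m) (u_d f)
  have e : ∀ x : J.X (0 + q), ((Lq J q).d 0 1).hom x =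
      q.negOnePow • (J.d (0 + q) (1 + q)).hom x := fun x => rfl
  have h' : ((Lq J q).d 0 1).hom (ev J q m f) = 0 := h
  exact (smul_eq_zero_iff_eq (q.negOnePow)).1 ((e (ev J q m f)).symm.trans h')

/-- `A / I^n` as an object -/
abbrev Mn (n : ℕ) : ModuleCat.{u} A := ModuleCat.of A (A ⧸ I ^ n)

/-- the element `1` of `A / I^n` -/
abbrev one (n : ℕ) : Mn I n := (Submodule.Quotient.mk (1 : A) : A ⧸ I ^ n)

lemma ev_one_mem (n : ℕ) (f : S (Mn I n) ⟶ Lq J q) :
    ev J q (one I n) f ∈ DRing.torsionSub I (J.X (0 + q)) := by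
  refine ⟨n, fun a ha => ?_⟩
  have : a • one I n = 0 := by
    change a • (Submodule.Quotient.mk (1 : A) : A ⧸ I ^ n) = 0
    rw [← Submodule.Quotient.mk_smul, smul_eq_mul, mul_one]
    exact (Submodule.Quotient.mk_eq_zero _).2 ha
  rw [← ev_smul, this, ev_zero]

/-- the cycle of `Γ_I J` attached to a chain map `A/I^n[0] ⟶ J⟦q⟧` -/
noncomputable def ξ (n : ℕ) : (S (Mn I n) ⟶ Lq J q) →ₗ[A]
    LinearMap.ker ((gammaCx I J).d (0 + q) (1 + q)).hom :=
  LinearMap.codRestrict _
    (LinearMap.codRestrict (DRing.torsionSub I (J.X (0 + q))) (ev J q (one I n))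
      (ev_one_mem I J q n))
    (fun f => by
      rw [LinearMap.mem_ker]
      apply Subtype.ext
      exact d_ev J q (one I n) f)

lemma ξ_val (n : ℕ) (f : S (Mn I n) ⟶ Lq J q) : ((ξ I J q n f).1).1 = ev J q (one I n) f := rfl

/-- the class in `H^q(Γ_I J)` -/
noncomputable def Ψ (n : ℕ) : (S (Mn I n) ⟶ Lq J q) →ₗ[A] (gammaCx I J).homology (0 + q) :=
  clsL (gammaCx I J) (0 + q) (1 + q) (by lia) ∘ₗ ξ I J q n

lemma Ψ_apply (n : ℕ) (f : S (Mn I n) ⟶ Lq J q) : Ψ I J q n f =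
    clsL (gammaCx I J) (0 + q) (1 + q) (by lia) (ξ I J q n f) := rfl

variable {J} {K : Dual.D A} (e : DerivedCategory.Q.obj J ≅ K)

/-- `Q (J⟦q⟧) ≅ K⟦q⟧` -/
noncomputable def σ : DerivedCategory.Q.obj (Lq J q) ≅ K⟦q⟧ :=
  (DerivedCategory.Q.commShiftIso q).app J ≪≫ (shiftFunctor (Dual.D A) q).mapIso e

/-- the map from chain maps to morphisms in `D(A)` -/
noncomputable def p (M : ModuleCat.{u} A) : (S M ⟶ Lq J q) →ₗ[A]
    (DerivedCategory.Q.obj (S M) ⟶ K⟦q⟧) :=
  (Linear.rightComp A (DerivedCategory.Q.obj (S M)) (σ q e).hom) ∘ₗ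
    (DerivedCategory.Q.mapLinearMap A)

lemma p_apply (M : ModuleCat.{u} A) (f : S M ⟶ Lq J q) :
    p q e M f = DerivedCategory.Q.map f ≫ (σ q e).hom := rfl

lemma p_surjective [J.IsKInjective] (M : ModuleCat.{u} A) : Function.Surjective (p q e M) := by
  intro φ
  obtain ⟨f, hf⟩ := Q_map_surjective (X := S M) (L := Lq J q) (φ ≫ (σ q e).inv)
  refine ⟨f, ?_⟩
  rw [p_apply, hf, Category.assoc, Iso.inv_hom_id, Category.comp_id]

lemma nonempty_homotopy_of_p_eq [J.IsKInjective] (M : ModuleCat.{u} A) (f g : S M ⟶ Lq J q)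
    (h : p q e M f = p q e M g) : Nonempty (Homotopy f g) := by
  rw [p_apply, p_apply, cancel_mono] at h
  exact nonempty_homotopy_of_Q_map_eq f g h

lemma p_eq_of_homotopy (M : ModuleCat.{u} A) (f g : S M ⟶ Lq J q) (h : Homotopy f g) :
    p q e M f = p q e M g := by
  rw [p_apply, p_apply, DerivedCategory.Q_map_eq_of_homotopy _ h]

section Key

variable (J)

lemma Lq_d_apply (x : J.X (-1 + q)) : ((Lq J q).d (-1) 0).hom x =
    ((q.negOnePow : ℤˣ) : ℤ) • (J.d (-1 + q) (0 + q)).hom x := rfl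

lemma Lq_d_apply' (x : J.X (0 + q)) : ((Lq J q).d 0 1).hom x =
    ((q.negOnePow : ℤˣ) : ℤ) • (J.d (0 + q) (1 + q)).hom x := rfl

lemma negOnePow_smul_smul {N : Type*} [AddCommGroup N] (x : N) :
    ((q.negOnePow : ℤˣ) : ℤ) • (((q.negOnePow : ℤˣ) : ℤ) • x) = x := by
  rw [smul_smul, ← Units.val_mul, Int.units_mul_self, Units.val_one, one_smul]

/-- the map `A/I^n ⟶ N` attached to an element killed by `I^n` -/
noncomputable def ofElem (n : ℕ) (N : ModuleCat.{u} A) (x : N) (hx : ∀ a ∈ I ^ n, a • x = 0) :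
    Mn I n ⟶ N :=
  ModuleCat.ofHom ((I ^ n).liftQ (LinearMap.toSpanSingleton A N x) (fun a ha => by
    rw [LinearMap.mem_ker, LinearMap.toSpanSingleton_apply]
    exact hx a ha))

lemma ofElem_one (n : ℕ) (N : ModuleCat.{u} A) (x : N) (hx : ∀ a ∈ I ^ n, a • x = 0) :
    (ofElem I n N x hx).hom (one I n) = x := by
  change (LinearMap.toSpanSingleton A N x) 1 = x
  simp

lemma hom_ext_one (n : ℕ) {N : ModuleCat.{u} A} (f g : Mn I n ⟶ N)
    (h : f.hom (one I n) = g.hom (one I n)) : f = g := by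
  apply ModuleCat.hom_ext
  apply Submodule.linearMap_qext
  apply LinearMap.ext_ring
  exact h

lemma Ψ_eq_zero_of_homotopy (n : ℕ) (f : S (Mn I n) ⟶ Lq J q) (h : Homotopy f 0) :
    Ψ I J q n f = 0 := by
  obtain ⟨y, hy⟩ := exists_of_homotopy f 0 h
  have hu0 : u (0 : S (Mn I n) ⟶ Lq J q) = 0 := by
    unfold u
    rw [HomologicalComplex.zero_f, comp_zero]
  rw [hu0, add_zero] at hy
  let y1 : J.X (-1 + q) := y.hom (one I n)
  have hy1 : y1 ∈ DRing.torsionSub I (J.X (-1 + q)) := by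
    refine ⟨n, fun a ha => ?_⟩
    have : a • one I n = 0 := by
      change a • (Submodule.Quotient.mk (1 : A) : A ⧸ I ^ n) = 0
      rw [← Submodule.Quotient.mk_smul, smul_eq_mul, mul_one]
      exact (Submodule.Quotient.mk_eq_zero _).2 ha
    have h2 : a • y1 = y.hom (a • one I n) := (y.hom.map_smul a (one I n)).symm
    rw [h2, this]
    exact y.hom.map_zero
  have hev : ev J q (one I n) f = ((q.negOnePow : ℤˣ) : ℤ) • (J.d (-1 + q) (0 + q)).hom y1 := by
    have := congrArg (fun t => t.hom (one I n)) hy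
    exact this
  let w : (gammaCx I J).X (-1 + q) :=
    ⟨((q.negOnePow : ℤˣ) : ℤ) • y1, (DRing.torsionSub I (J.X (-1 + q))).smul_of_tower_mem _ hy1⟩
  change clsL (gammaCx I J) (0 + q) (1 + q) (by lia) (ξ I J q n f) = 0
  rw [clsL_eq_zero_iff (gammaCx I J) (-1 + q) (0 + q) (1 + q) (by lia) (by lia)]
  refine ⟨w, ?_⟩
  apply Subtype.ext
  change (J.d (-1 + q) (0 + q)).hom (((q.negOnePow : ℤˣ) : ℤ) • y1) = ev J q (one I n) f
  rw [hev, map_zsmul]

/-- the transition maps `A/I^m ⟶ A/I^n` -/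
noncomputable def πmn {n m : ℕ} (h : n ≤ m) : Mn I m ⟶ Mn I n :=
  ModuleCat.ofHom (Submodule.mapQ _ _ LinearMap.id (Ideal.pow_le_pow_right h))

lemma πmn_one {n m : ℕ} (h : n ≤ m) : (πmn I h).hom (one I m) = one I n := rfl

/-- the induced maps on single complexes -/
noncomputable abbrev Sπ {n m : ℕ} (h : n ≤ m) : S (Mn I m) ⟶ S (Mn I n) :=
  (HomologicalComplex.single (ModuleCat.{u} A) (ComplexShape.up ℤ) 0).map (πmn I h)

lemma ev_Sπ {n m : ℕ} (h : n ≤ m) (f : S (Mn I n) ⟶ Lq J q) :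
    ev J q (one I m) (Sπ I h ≫ f) = ev J q (one I n) f := by
  rw [ev_apply, u_comp]
  rfl

lemma Ψ_Sπ {n m : ℕ} (h : n ≤ m) (f : S (Mn I n) ⟶ Lq J q) :
    Ψ I J q m (Sπ I h ≫ f) = Ψ I J q n f := by
  have : ξ I J q m (Sπ I h ≫ f) = ξ I J q n f :=
    Subtype.ext (Subtype.ext (ev_Sπ I J q h f))
  exact congrArg (clsL (gammaCx I J) (0 + q) (1 + q) (by lia)) this

lemma exists_homotopy_of_Ψ_eq_zero (n : ℕ) (f : S (Mn I n) ⟶ Lq J q)
    (h : Ψ I J q n f = 0) :
    ∃ (m : ℕ) (hm : n ≤ m), Nonempty (Homotopy (Sπ I hm ≫ f) 0) := by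
  have h' : clsL (gammaCx I J) (0 + q) (1 + q) (by lia) (ξ I J q n f) = 0 := h
  rw [clsL_eq_zero_iff (gammaCx I J) (-1 + q) (0 + q) (1 + q) (by lia) (by lia)] at h'
  obtain ⟨w, hw⟩ := h'
  obtain ⟨l, hl⟩ := w.2
  have hw' : (J.d (-1 + q) (0 + q)).hom w.1 = ev J q (one I n) f :=
    congrArg Subtype.val hw
  let m := max n l
  have hx : ∀ a ∈ I ^ m, a • (((q.negOnePow : ℤˣ) : ℤ) • w.1) = 0 := fun a ha => by
    rw [smul_comm, hl a (Ideal.pow_le_pow_right (le_max_right n l) ha), smul_zero]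
  let y : Mn I m ⟶ (Lq J q).X (-1) := ofElem I m (J.X (-1 + q)) _ hx
  refine ⟨m, le_max_left n l, ⟨homotopyOfSingle _ _ y ?_⟩⟩
  have hu0 : u (0 : S (Mn I m) ⟶ Lq J q) = 0 := by
    unfold u
    rw [HomologicalComplex.zero_f, comp_zero]
  rw [hu0, add_zero]
  apply hom_ext_one
  have h1 : (u (Sπ I (le_max_left n l) ≫ f)).hom (one I m) = ev J q (one I n) f :=
    ev_Sπ I J q _ f
  have h2 : (y ≫ (Lq J q).d (-1) 0).hom (one I m) =
      ((Lq J q).d (-1) 0).hom (((q.negOnePow : ℤˣ) : ℤ) • w.1) := by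
    have : y.hom (one I m) = ((q.negOnePow : ℤˣ) : ℤ) • w.1 := ofElem_one I m _ _ hx
    rw [ModuleCat.hom_comp, LinearMap.comp_apply]
    exact congrArg _ this
  rw [h1, h2, Lq_d_apply, map_zsmul, negOnePow_smul_smul, hw']

lemma exists_Ψ_eq (h : (gammaCx I J).homology (0 + q)) :
    ∃ (n : ℕ) (f : S (Mn I n) ⟶ Lq J q), Ψ I J q n f = h := by
  obtain ⟨x, rfl⟩ := clsL_surjective (gammaCx I J) (0 + q) (1 + q) (by lia) h
  obtain ⟨n, hn⟩ := x.1.2
  have hx0 : (J.d (0 + q) (1 + q)).hom x.1.1 = 0 := congrArg Subtype.val x.2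
  let φ : Mn I n ⟶ (Lq J q).X 0 := ofElem I n (J.X (0 + q)) x.1.1 hn
  have hφ1 : φ.hom (one I n) = x.1.1 := ofElem_one I n _ _ hn
  have hφ : φ ≫ (Lq J q).d 0 1 = 0 := by
    apply hom_ext_one
    rw [ModuleCat.hom_comp, LinearMap.comp_apply]
    have : ((Lq J q).d 0 1).hom (φ.hom (one I n)) = 0 := by
      have e1 : ((Lq J q).d 0 1).hom (φ.hom (one I n)) = ((Lq J q).d 0 1).hom x.1.1 :=
        congrArg _ hφ1
      exact e1.trans ((Lq_d_apply' J q x.1.1).trans
        ((congrArg (fun t => ((q.negOnePow : ℤˣ) : ℤ) • t) hx0).trans (smul_zero _)))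
    rw [this]
    rfl
  refine ⟨n, mkS φ hφ, ?_⟩
  have : ξ I J q n (mkS φ hφ) = x := by
    apply Subtype.ext
    apply Subtype.ext
    change ev J q (one I n) (mkS φ hφ) = x.1.1
    rw [ev_apply, u_mkS]
    exact hφ1
  exact congrArg (clsL (gammaCx I J) (0 + q) (1 + q) (by lia)) this

end Key

end Main

section ColimRep

universe w v₁ u₁

/-- elements of a filtered colimit of modules come from some stage (any universes) -/
theorem colimit_exists_rep' {A : Type u} [Ring A] {Jc : Type u₁} [Category.{v₁} Jc] [IsFiltered Jc]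
    (F : Jc ⥤ ModuleCat.{w} A) [HasColimit F] (c : (colimit F : ModuleCat.{w} A)) :
    ∃ (j : Jc) (x : F.obj j), (colimit.ι F j).hom x = c := by
  let N : Submodule A (colimit F : ModuleCat.{w} A) := ⨆ j, LinearMap.range (colimit.ι F j).hom
  have hN : N = ⊤ := by
    have h0 : ModuleCat.ofHom N.mkQ = 0 := by
      apply colimit.hom_ext
      intro j
      rw [comp_zero]
      ext x
      change N.mkQ ((colimit.ι F j).hom x) = 0
      rw [Submodule.mkQ_apply, Submodule.Quotient.mk_eq_zero]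
      exact Submodule.mem_iSup_of_mem j ⟨x, rfl⟩
    rw [eq_top_iff]
    intro c _
    have := congrArg (fun t => t.hom c) h0
    change N.mkQ c = 0 at this
    rwa [Submodule.mkQ_apply, Submodule.Quotient.mk_eq_zero] at this
  have hdir : Directed (· ≤ ·) (fun j => LinearMap.range (colimit.ι F j).hom) := by
    intro j j'
    refine ⟨IsFiltered.max j j', ?_, ?_⟩
    · rintro _ ⟨x, rfl⟩
      refine ⟨(F.map (IsFiltered.leftToMax j j')).hom x, ?_⟩
      rw [← LinearMap.comp_apply, ← ModuleCat.hom_comp, colimit.w]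
    · rintro _ ⟨x, rfl⟩
      refine ⟨(F.map (IsFiltered.rightToMax j j')).hom x, ?_⟩
      rw [← LinearMap.comp_apply, ← ModuleCat.hom_comp, colimit.w]
  have hc : c ∈ N := by rw [hN]; trivial
  haveI : Nonempty Jc := IsFiltered.nonempty
  obtain ⟨j, x, hx⟩ := (Submodule.mem_iSup_of_directed _ hdir).1 hc
  exact ⟨j, x, hx⟩

end ColimRep

section Final

open Groth.Agent.Lib.Helper34.RGammaI Groth.Agent.Lib.Helper6.PowTorsHB

variable {A : Type u} [CommRing A] (I : Ideal A) {J : CochainComplex (ModuleCat.{u} A) ℤ}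
  [J.IsKInjective] (q : ℤ) {K : Dual.D A} (e : DerivedCategory.Q.obj J ≅ K)

lemma Ψ_eq_zero_of_p_eq_zero (n : ℕ) (f : S (Mn I n) ⟶ Lq J q) (h : p q e (Mn I n) f = 0) :
    Ψ I J q n f = 0 := by
  have : p q e (Mn I n) f = p q e (Mn I n) 0 := by rw [h, map_zero]
  obtain ⟨hh⟩ := nonempty_homotopy_of_p_eq q e _ f 0 this
  exact Ψ_eq_zero_of_homotopy I J q n f hh

/-- the legs of the cocone -/
noncomputable def ψ (n : ℕ) : (DerivedCategory.Q.obj (S (Mn I n)) ⟶ K⟦q⟧) →ₗ[A]
    (gammaCx I J).homology (0 + q) :=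
  (LinearMap.ker (p q e (Mn I n))).liftQ (Ψ I J q n)
      (fun f hf => Ψ_eq_zero_of_p_eq_zero I q e n f hf) ∘ₗ
    ((p q e (Mn I n)).quotKerEquivOfSurjective (p_surjective q e _)).symm.toLinearMap

lemma ψ_p (n : ℕ) (f : S (Mn I n) ⟶ Lq J q) :
    ψ I q e n (p q e (Mn I n) f) = Ψ I J q n f := by
  unfold ψ
  rw [LinearMap.comp_apply]
  have : ((p q e (Mn I n)).quotKerEquivOfSurjective (p_surjective q e _)).symm
      (p q e (Mn I n) f) = Submodule.Quotient.mk f := by
    rw [LinearEquiv.symm_apply_eq]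
    rfl
  rw [LinearEquiv.coe_coe, this]
  rfl

lemma ψ_trans {n m : ℕ} (h : n ≤ m) (φ : DerivedCategory.Q.obj (S (Mn I n)) ⟶ K⟦q⟧) :
    ψ I q e m (DerivedCategory.Q.map (Sπ I h) ≫ φ) = ψ I q e n φ := by
  obtain ⟨f, rfl⟩ := p_surjective q e _ φ
  have : DerivedCategory.Q.map (Sπ I h) ≫ p q e (Mn I n) f = p q e (Mn I m) (Sπ I h ≫ f) := by
    rw [p_apply, p_apply, Functor.map_comp, Category.assoc]
  rw [this, ψ_p, ψ_p, Ψ_Sπ]

lemma ψ_surjective (h : (gammaCx I J).homology (0 + q)) :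
    ∃ (n : ℕ) (φ : DerivedCategory.Q.obj (S (Mn I n)) ⟶ K⟦q⟧), ψ I q e n φ = h := by
  obtain ⟨n, f, hf⟩ := exists_Ψ_eq I J q h
  exact ⟨n, p q e _ f, by rw [ψ_p, hf]⟩

lemma exists_trans_eq_zero (n : ℕ) (φ : DerivedCategory.Q.obj (S (Mn I n)) ⟶ K⟦q⟧)
    (h : ψ I q e n φ = 0) :
    ∃ (m : ℕ) (hm : n ≤ m), DerivedCategory.Q.map (Sπ I hm) ≫ φ = 0 := by
  obtain ⟨f, rfl⟩ := p_surjective q e _ φ
  rw [ψ_p] at h
  obtain ⟨m, hm, ⟨hh⟩⟩ := exists_homotopy_of_Ψ_eq_zero I J q n f h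
  refine ⟨m, hm, ?_⟩
  have : DerivedCategory.Q.map (Sπ I hm) ≫ p q e (Mn I n) f = p q e (Mn I m) (Sπ I hm ≫ f) := by
    rw [p_apply, p_apply, Functor.map_comp, Category.assoc]
  rw [this, p_eq_of_homotopy q e _ _ 0 hh, map_zero]

/-- the diagram defining `HDI` -/
noncomputable abbrev diag (K' : Dual.D A) : ℕᵒᵖᵒᵖ ⥤ ModuleCat.{u + 1} A :=
  (localCohomology.ringModIdeals (localCohomology.idealPowersDiagram I) ⋙
    DerivedCategory.singleFunctor (ModuleCat.{u} A) 0).op ⋙ (linearYoneda A (Dual.D A)).obj K'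

/-- the cocone -/
noncomputable def cocone : Cocone (diag I (K⟦q⟧)) where
  pt := ModuleCat.of A (ULift.{u + 1} ((gammaCx I J).homology (0 + q)))
  ι :=
    { app := fun j => ModuleCat.ofHom
        (ULift.moduleEquiv.symm.toLinearMap ∘ₗ ψ I q e j.unop.unop)
      naturality := fun j j' w => by
        ext φ
        have h : j.unop.unop ≤ j'.unop.unop := leOfHom w.unop.unop
        have := ψ_trans I q e h φ
        exact congrArg ULift.up this }

lemma cocone_ι_app (j : ℕᵒᵖᵒᵖ) (φ : DerivedCategory.Q.obj (S (Mn I j.unop.unop)) ⟶ K⟦q⟧) :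
    ((cocone I q e).ι.app j).hom φ = ULift.up (ψ I q e j.unop.unop φ) := rfl

theorem bijective_desc :
    Function.Bijective (colimit.desc (diag I (K⟦q⟧)) (cocone I q e)).hom := by
  constructor
  · rw [← LinearMap.ker_eq_bot, LinearMap.ker_eq_bot']
    intro c hc
    obtain ⟨j, x, rfl⟩ := colimit_exists_rep' (diag I (K⟦q⟧)) c
    have h1 : (colimit.desc (diag I (K⟦q⟧)) (cocone I q e)).hom
        ((colimit.ι (diag I (K⟦q⟧)) j).hom x) = ((cocone I q e).ι.app j).hom x := by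
      rw [← LinearMap.comp_apply, ← ModuleCat.hom_comp, colimit.ι_desc]
    have hc' : ((cocone I q e).ι.app j).hom x = 0 := h1.symm.trans hc
    have h2 : ψ I q e j.unop.unop x = 0 := congrArg ULift.down hc'
    obtain ⟨m, hm, h3⟩ := exists_trans_eq_zero I q e _ x h2
    let w : j ⟶ Opposite.op (Opposite.op m) := (homOfLE hm).op.op
    have h4 : ((diag I (K⟦q⟧)).map w).hom x = 0 := h3
    have h5 := colimit.w (diag I (K⟦q⟧)) w
    have h6 : (colimit.ι (diag I (K⟦q⟧)) j).hom x =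
        (colimit.ι (diag I (K⟦q⟧)) (Opposite.op (Opposite.op m))).hom
          (((diag I (K⟦q⟧)).map w).hom x) := by
      rw [← h5]
      rfl
    rw [h6, h4, map_zero]
  · intro h
    obtain ⟨n, φ, hφ⟩ := ψ_surjective I q e h.down
    refine ⟨(colimit.ι (diag I (K⟦q⟧)) (Opposite.op (Opposite.op n))).hom φ, ?_⟩
    rw [← LinearMap.comp_apply, ← ModuleCat.hom_comp, colimit.ι_desc]
    exact congrArg ULift.up hφ

end Final

section Statement

open Groth.Agent.Lib.Helper34.RGammaI Groth.Agent.Lib.Helper6.PowTorsHB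
  Groth.Agent.Lib.Helper6.RGammaAdj

variable {A : Type u} [CommRing A] (I : Ideal A)

/-- **S1812** -/
theorem nonempty_HD_equiv [DRing.HasRgammaI I] (K : Dual.D A) (q : ℤ) :
    Nonempty (Dual.HD A ((DRing.RgammaI I).obj K) q ≃ₗ[A] Dual2.HDI A I K q) := by
  obtain ⟨J, hJ, -, ⟨e'⟩⟩ := exists_model K
  let e : DerivedCategory.Q.obj J ≅ K :=
    (DerivedCategory.quotientCompQhIso (ModuleCat.{u} A)).symm.app J ≪≫ e'
  suffices ∀ (q' : ℤ) (_ : q' = 0 + q),
      Nonempty (Dual.HD A ((DRing.RgammaI I).obj K) q' ≃ₗ[A] Dual2.HDI A I K q) from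
    this q (zero_add q).symm
  intro q' h
  subst h
  let e1 : (DerivedCategory.homologyFunctor (ModuleCat.{u} A) (0 + q)).obj
      ((DRing.RgammaI I).obj K) ≅ (gammaCx I J).homology (0 + q) :=
    (DerivedCategory.homologyFunctor (ModuleCat.{u} A) (0 + q)).mapIso
      ((DRing.RgammaI I).mapIso e'.symm ≪≫ rgammaIso I J) ≪≫ homologyIso (gammaCx I J) (0 + q)
  exact ⟨e1.toLinearEquiv ≪≫ₗ ULift.moduleEquiv.symm ≪≫ₗ
    (LinearEquiv.ofBijective (colimit.desc (diag I (K⟦q⟧)) (cocone I q e)).hom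
      (bijective_desc I q e)).symm⟩

end Statement

end Groth.Agent.Lib.Helper6.RGammaColim
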