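import Groth.Prelude.Def_CohDer
import Mathlib.CategoryTheory.Triangulated.Subcategory
import Mathlib.CategoryTheory.Triangulated.Generators
import Mathlib.CategoryTheory.Limits.Preserves.Shapes.Products
import Mathlib.CategoryTheory.Adjunction.Limits
import Mathlib.CategoryTheory.Adjunction.Additive

/-!
# Compact objects (helper6 library)

`CohDer.IsCompactObject K` asks that `homSumToHomCoprod K X` be bijective for every family `X`.
Injectivity is automatic (the coproduct inclusions are split), so surjectivity suffices.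
We show compact objects are stable under shifts, extensions, retracts, and under left adjoints
whose right adjoint preserves coproducts.
-/

set_option autoImplicit false
universe v u u'

open CategoryTheory CategoryTheory.Limits

namespace Groth.Agent.Lib.Helper6

section basic

variable {D : Type u} [Category.{v} D] [Preadditive D]

lemma homSumToHomCoprod_of (K : D) {κ : Type v} (X : κ → D) [HasCoproduct X] [DecidableEq κ]
    (i : κ) (f : K ⟶ X i) :
    CohDer.homSumToHomCoprod K X (DirectSum.of (fun i => K ⟶ X i) i f) = f ≫ Sigma.ι X i := by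
  classical
  unfold CohDer.homSumToHomCoprod
  convert DirectSum.toAddMonoid_of (fun i => Preadditive.rightComp K (Sigma.ι X i)) i f using 3
  rfl

/-- single terms are in the range -/
lemma comp_ι_mem_range (K : D) {κ : Type v} (X : κ → D) [HasCoproduct X] (i : κ) (f : K ⟶ X i) :
    f ≫ Sigma.ι X i ∈ (CohDer.homSumToHomCoprod K X).range := by
  classical
  exact ⟨DirectSum.of (fun i => K ⟶ X i) i f, homSumToHomCoprod_of K X i f⟩

lemma homSumToHomCoprod_injective (K : D) {κ : Type v} (X : κ → D) [HasCoproduct X] :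
    Function.Injective (CohDer.homSumToHomCoprod K X) := by
  classical
  rw [injective_iff_map_eq_zero]
  intro x hx
  refine DFinsupp.ext fun j => ?_
  -- the composite with the projection is the component map
  have key : ((Preadditive.rightComp K (Sigma.π X j)).comp (CohDer.homSumToHomCoprod K X)) =
      DFinsupp.evalAddMonoidHom j := by
    refine DirectSum.addHom_ext fun i f => ?_
    simp only [AddMonoidHom.comp_apply, homSumToHomCoprod_of]
    change (f ≫ Sigma.ι X i) ≫ Sigma.π X j = (DirectSum.of (fun i => K ⟶ X i) i f) j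
    rw [Category.assoc, Sigma.ι_π]
    by_cases h : i = j
    · subst h
      simp [DirectSum.of_eq_same]
    · simp [h, DirectSum.of_eq_of_ne _ _ _ (Ne.symm h)]
  have := DFunLike.congr_fun key x
  simp only [AddMonoidHom.comp_apply, hx, map_zero] at this
  exact this.symm

end basic

section compact

variable {D : Type u} [Category.{v} D] [Preadditive D] [HasCoproducts.{v} D]

lemma isCompactObject_iff_mem_range (K : D) :
    CohDer.IsCompactObject K ↔ ∀ (κ : Type v) (X : κ → D) (φ : K ⟶ ∐ X),
      φ ∈ (CohDer.homSumToHomCoprod K X).range := by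
  constructor
  · intro h κ X φ
    exact (h κ X).2 φ
  · intro h κ X
    exact ⟨homSumToHomCoprod_injective K X, fun φ => h κ X φ⟩

lemma exists_finset_of_mem_range {K : D} {κ : Type v} {X : κ → D} {φ : K ⟶ ∐ X}
    (h : φ ∈ (CohDer.homSumToHomCoprod K X).range) :
    ∃ (s : Finset κ) (ψ : ∀ i, K ⟶ X i), φ = ∑ i ∈ s, ψ i ≫ Sigma.ι X i := by
  classical
  obtain ⟨x, rfl⟩ := h
  refine ⟨DFinsupp.support x, fun i => x i, ?_⟩
  conv_lhs => rw [← DirectSum.sum_support_of x]
  rw [map_sum]
  exact Finset.sum_congr rfl fun i _ => homSumToHomCoprod_of K X i (x i)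

lemma exists_finset_of_isCompactObject {K : D} (hK : CohDer.IsCompactObject K) {κ : Type v}
    (X : κ → D) (φ : K ⟶ ∐ X) :
    ∃ (s : Finset κ) (ψ : ∀ i, K ⟶ X i), φ = ∑ i ∈ s, ψ i ≫ Sigma.ι X i :=
  exists_finset_of_mem_range ((isCompactObject_iff_mem_range K).1 hK κ X φ)

lemma sum_comp_ι_mem_range (K : D) {κ : Type v} (X : κ → D) (s : Finset κ) (ψ : ∀ i, K ⟶ X i) :
    ∑ i ∈ s, ψ i ≫ Sigma.ι X i ∈ (CohDer.homSumToHomCoprod K X).range :=
  AddSubgroup.sum_mem _ fun i _ => comp_ι_mem_range K X i (ψ i)

lemma isCompactObject_of_retract {K L : D} (r : Retract K L) (hL : CohDer.IsCompactObject L) :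
    CohDer.IsCompactObject K := by
  rw [isCompactObject_iff_mem_range]
  intro κ X φ
  obtain ⟨s, ψ, hψ⟩ := exists_finset_of_isCompactObject hL X (r.r ≫ φ)
  have : φ = ∑ i ∈ s, (r.i ≫ ψ i) ≫ Sigma.ι X i := by
    calc φ = r.i ≫ r.r ≫ φ := by simp
      _ = _ := by rw [hψ, Preadditive.comp_sum]; simp
  rw [this]
  exact sum_comp_ι_mem_range K X s _

lemma isCompactObject_of_iso {K L : D} (e : K ≅ L) (hL : CohDer.IsCompactObject L) :
    CohDer.IsCompactObject K :=
  isCompactObject_of_retract ⟨e.hom, e.inv, e.hom_inv_id⟩ hL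

lemma isCompactObject_of_isZero {K : D} (hK : IsZero K) : CohDer.IsCompactObject K := by
  rw [isCompactObject_iff_mem_range]
  intro κ X φ
  rw [hK.eq_of_src φ 0]
  exact zero_mem _

/-- A left adjoint whose right adjoint preserves coproducts preserves compact objects. -/
lemma isCompactObject_of_adjunction {E : Type u'} [Category.{v} E] [Preadditive E]
    [HasCoproducts.{v} E] {F : D ⥤ E} {G : E ⥤ D} (adj : F ⊣ G) [F.Additive]
    [∀ (κ : Type v), PreservesColimitsOfShape (Discrete κ) G] {K : D}
    (hK : CohDer.IsCompactObject K) : CohDer.IsCompactObject (F.obj K) := by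
  rw [isCompactObject_iff_mem_range]
  intro κ X φ
  obtain ⟨s, ψ, hψ⟩ := exists_finset_of_isCompactObject hK (fun i => G.obj (X i))
    (adj.homEquiv K (∐ X) φ ≫ inv (sigmaComparison G X))
  have h1 : adj.homEquiv K (∐ X) φ = ∑ i ∈ s, ψ i ≫ G.map (Sigma.ι X i) := by
    rw [← cancel_mono (inv (sigmaComparison G X)), hψ, Preadditive.sum_comp]
    refine Finset.sum_congr rfl fun i _ => ?_
    rw [Category.assoc, ← ι_comp_sigmaComparison G X i, Category.assoc, IsIso.hom_inv_id,
      Category.comp_id]
  have h2 : φ = ∑ i ∈ s, (F.map (ψ i) ≫ adj.counit.app (X i)) ≫ Sigma.ι X i := by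
    rw [← (adj.homEquiv K (∐ X)).symm_apply_apply φ, h1, Adjunction.homEquiv_counit,
      Functor.map_sum, Preadditive.sum_comp]
    refine Finset.sum_congr rfl fun i _ => ?_
    simp
  rw [h2]
  exact sum_comp_ι_mem_range _ X s _

end compact

section triangulated

open Pretriangulated ZeroObject

variable {D : Type u} [Category.{v} D] [Preadditive D] [HasZeroObject D] [HasShift D ℤ]
  [∀ n : ℤ, (shiftFunctor D n).Additive] [Pretriangulated D] [HasCoproducts.{v} D]

omit [HasZeroObject D] [Pretriangulated D] in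
lemma isCompactObject_shift {K : D} (hK : CohDer.IsCompactObject K) (n : ℤ) :
    CohDer.IsCompactObject ((shiftFunctor D n).obj K) :=
  isCompactObject_of_adjunction (F := shiftFunctor D n) (G := shiftFunctor D (-n))
    (shiftEquiv D n).toAdjunction hK

lemma isCompactObject_ext₂ (T : Triangle D) (hT : T ∈ distTriang D)
    (h₁ : CohDer.IsCompactObject T.obj₁) (h₃ : CohDer.IsCompactObject T.obj₃) :
    CohDer.IsCompactObject T.obj₂ := by
  classical
  rw [isCompactObject_iff_mem_range]
  intro κ X φ
  obtain ⟨s, ψ, hψ⟩ := exists_finset_of_isCompactObject h₁ X (T.mor₁ ≫ φ)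
  -- the components are determined by the projections
  have hcomp : ∀ i ∈ s, ψ i = T.mor₁ ≫ φ ≫ Sigma.π X i := by
    intro i hi
    have := congrArg (· ≫ Sigma.π X i) hψ
    simp only [Category.assoc, Preadditive.sum_comp] at this
    rw [this, Finset.sum_eq_single i]
    · simp
    · intro j _ hj
      rw [Sigma.ι_π_of_ne X hj, comp_zero]
    · intro h; exact absurd hi h
  set φ₁ : T.obj₂ ⟶ ∐ X := ∑ i ∈ s, (φ ≫ Sigma.π X i) ≫ Sigma.ι X i with hφ₁
  have h0 : T.mor₁ ≫ (φ - φ₁) = 0 := by
    rw [Preadditive.comp_sub, hψ, hφ₁, Preadditive.comp_sum, sub_eq_zero]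
    refine Finset.sum_congr rfl fun i hi => ?_
    rw [hcomp i hi]
    simp
  obtain ⟨γ, hγ⟩ := Triangle.yoneda_exact₂ T hT (φ - φ₁) h0
  obtain ⟨s', c, hc⟩ := exists_finset_of_isCompactObject h₃ X γ
  have : φ = φ₁ + ∑ i ∈ s', (T.mor₂ ≫ c i) ≫ Sigma.ι X i := by
    rw [sub_eq_iff_eq_add'] at hγ
    rw [hγ, hc, Preadditive.comp_sum]
    simp
  rw [this]
  exact add_mem (sum_comp_ι_mem_range _ X s _) (sum_comp_ι_mem_range _ X s' _)

instance : ObjectProperty.IsClosedUnderIsomorphisms (fun K : D => CohDer.IsCompactObject K) where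
  of_iso e h := isCompactObject_of_iso e.symm h

instance : ObjectProperty.IsStableUnderRetracts (fun K : D => CohDer.IsCompactObject K) where
  of_retract r h := isCompactObject_of_retract r h

instance isTriangulated_isCompactObject :
    ObjectProperty.IsTriangulated (fun K : D => CohDer.IsCompactObject K) where
  exists_zero := ⟨0, isZero_zero D, isCompactObject_of_isZero (isZero_zero D)⟩
  isStableUnderShiftBy n := ⟨fun _ hK => isCompactObject_shift hK n⟩
  ext₂' T hT h₁ h₃ := ObjectProperty.le_isoClosure _ _ (isCompactObject_ext₂ T hT h₁ h₃)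

end triangulated

end Groth.Agent.Lib.Helper6
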