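import Groth.Agent.Lib.Helper6.Compact
import Groth.Prelude.Def_DerLim
import Mathlib.Logic.Small.Defs
import Mathlib.CategoryTheory.Triangulated.Triangulated

/-!
# Compact generators and homotopy colimits (helper6 library)
-/

set_option autoImplicit false
universe w v u u'

open CategoryTheory CategoryTheory.Limits

namespace Groth.Agent.Lib.Helper6

section small

variable {D : Type u} [Category.{v} D] [Preadditive D]

/-- if `φ` is a finite sum through the coproduct inclusions, its components are the projections -/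
lemma eq_sum_π_of_eq_sum {K : D} {κ : Type w} [DecidableEq κ] (X : κ → D) [HasCoproduct X]
    (φ : K ⟶ ∐ X) {J : Type*} (g : J → κ) (hg : Function.Injective g) (t' : Finset J)
    (ψ : ∀ j, K ⟶ X (g j)) (h : φ = ∑ j ∈ t', ψ j ≫ Sigma.ι X (g j)) :
    φ = ∑ k ∈ t'.image g, (φ ≫ Sigma.π X k) ≫ Sigma.ι X k := by
  classical
  rw [Finset.sum_image (fun _ _ _ _ h => hg h)]
  have key : ∀ j ∈ t', φ ≫ Sigma.π X (g j) = ψ j := by
    intro j hj
    rw [h, Preadditive.sum_comp, Finset.sum_eq_single j]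
    · simp
    · intro j' _ hj'
      rw [Category.assoc, Sigma.ι_π_of_ne X (fun h' => hj' (hg h')), comp_zero]
    · intro hj'; exact absurd hj hj'
  conv_lhs => rw [h]
  exact Finset.sum_congr rfl fun j hj => by rw [key j hj]

variable [HasCoproducts.{v} D]

/-- compactness for coproducts indexed by a small type (in any universe) -/
lemma exists_finset_π_of_isCompactObject {K : D} (hK : CohDer.IsCompactObject K) {κ : Type w}
    [Small.{v} κ] [DecidableEq κ] (X : κ → D) [HasCoproduct X] (φ : K ⟶ ∐ X) :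
    ∃ t : Finset κ, φ = ∑ k ∈ t, (φ ≫ Sigma.π X k) ≫ Sigma.ι X k := by
  classical
  let e := (equivShrink.{v} κ).symm
  obtain ⟨t', ψ, hψ⟩ := exists_finset_of_isCompactObject hK (X ∘ e) (φ ≫ (Sigma.reindex e X).inv)
  have h : φ = ∑ j ∈ t', ψ j ≫ Sigma.ι X (e j) := by
    have := congrArg (· ≫ (Sigma.reindex e X).hom) hψ
    simp only [Category.assoc, Iso.inv_hom_id, Category.comp_id, Preadditive.sum_comp,
      Sigma.ι_reindex_hom] at this
    exact this
  exact ⟨t'.image e, eq_sum_π_of_eq_sum X φ e e.injective t' ψ h⟩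

lemma eq_zero_of_comp_π_eq_zero {K : D} (hK : CohDer.IsCompactObject K) {κ : Type w}
    [Small.{v} κ] [DecidableEq κ] (X : κ → D) [HasCoproduct X] (φ : K ⟶ ∐ X)
    (h : ∀ k, φ ≫ Sigma.π X k = 0) : φ = 0 := by
  obtain ⟨t, ht⟩ := exists_finset_π_of_isCompactObject hK X φ
  rw [ht]
  exact Finset.sum_eq_zero fun k _ => by rw [h k, zero_comp]

end small

section generators

open Pretriangulated ZeroObject

variable {D : Type u} [Category.{v} D] [Preadditive D] [HasZeroObject D] [HasShift D ℤ]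
  [∀ n : ℤ, (shiftFunctor D n).Additive] [Pretriangulated D]

omit [HasZeroObject D] [Pretriangulated D] in
lemma isZero_of_generates {ι : Type*} {E : ι → D} (hg : CohDer.Generates E) (Z : D)
    (h : ∀ (i : ι) (m : ℤ) (χ : (shiftFunctor D m).obj (E i) ⟶ Z), χ = 0) : IsZero Z := by
  apply hg Z
  intro i n f
  have h1 := h i (-n) ((shiftFunctor D (-n)).map f ≫
    (shiftFunctorCompIsoId D n (-n) (by simp)).hom.app Z)
  have h2 : (shiftFunctor D (-n)).map f = 0 := by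
    rw [← cancel_mono ((shiftFunctorCompIsoId D n (-n) (by simp)).hom.app Z), zero_comp]
    exact h1
  exact (shiftFunctor D (-n)).map_injective (by rw [h2, Functor.map_zero])

/-- a morphism inducing bijections on maps from all shifts of a generating family is an iso -/
lemma isIso_of_generates {ι : Type*} {E : ι → D} (hg : CohDer.Generates E) {L X : D} (θ : L ⟶ X)
    (hsurj : ∀ (i : ι) (m : ℤ) (χ : (shiftFunctor D m).obj (E i) ⟶ X),
      ∃ χ' : (shiftFunctor D m).obj (E i) ⟶ L, χ' ≫ θ = χ)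
    (hinj : ∀ (i : ι) (m : ℤ) (χ : (shiftFunctor D m).obj (E i) ⟶ L), χ ≫ θ = 0 → χ = 0) :
    IsIso θ := by
  obtain ⟨Z, g, h, hT⟩ := distinguished_cocone_triangle θ
  refine (Triangle.isZero₃_iff_isIso₁ _ hT).1 ?_
  apply isZero_of_generates hg
  intro i m χ
  change (shiftFunctor D m).obj (E i) ⟶ Z at χ
  -- first `χ ≫ h = 0`
  have hχh : χ ≫ h = 0 := by
    let e : (shiftFunctor D (1 : ℤ)).obj ((shiftFunctor D (m - 1)).obj (E i)) ≅
        (shiftFunctor D m).obj (E i) :=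
      ((shiftFunctorAdd' D (m - 1) 1 m (by lia)).app (E i)).symm
    let w' : (shiftFunctor D (m - 1)).obj (E i) ⟶ L :=
      (shiftFunctor D (1 : ℤ)).preimage (e.hom ≫ χ ≫ h)
    have hw' : (shiftFunctor D (1 : ℤ)).map w' = e.hom ≫ χ ≫ h := Functor.map_preimage _ _
    have h0 : w' ≫ θ = 0 := by
      apply (shiftFunctor D (1 : ℤ)).map_injective
      rw [Functor.map_comp, hw', Functor.map_zero, Category.assoc, Category.assoc]
      have : h ≫ (shiftFunctor D (1 : ℤ)).map θ = 0 := comp_distTriang_mor_zero₃₁ _ hT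
      rw [this, comp_zero, comp_zero]
    have h1 : w' = 0 := hinj i (m - 1) w' h0
    rw [h1, Functor.map_zero] at hw'
    rw [← cancel_epi e.hom, comp_zero]
    exact hw'.symm
  obtain ⟨χ', hχ'⟩ : ∃ χ' : (shiftFunctor D m).obj (E i) ⟶ X, χ = χ' ≫ g :=
    Triangle.coyoneda_exact₃ _ hT χ hχh
  obtain ⟨χ'', hχ''⟩ := hsurj i m χ'
  have : θ ≫ g = 0 := comp_distTriang_mor_zero₁₂ _ hT
  change χ = 0
  rw [hχ', ← hχ'', Category.assoc, this, comp_zero]

end generators

section hocolim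

open Pretriangulated

variable {D : Type u} [Category.{v} D] [Preadditive D]

omit [Preadditive D] in
@[reassoc]
lemma ι_shiftMap (K : ℕ → D) (f : ∀ n, K n ⟶ K (n + 1)) [HasCoproduct K] (n : ℕ) :
    Sigma.ι K n ≫ DerLim.shiftMap K f = f n ≫ Sigma.ι K (n + 1) := by
  simp [DerLim.shiftMap]

lemma shiftMap_π_zero (K : ℕ → D) (f : ∀ n, K n ⟶ K (n + 1)) [HasCoproduct K] :
    DerLim.shiftMap K f ≫ Sigma.π K 0 = 0 := by
  refine Sigma.hom_ext _ _ fun n => ?_
  rw [ι_shiftMap_assoc, Sigma.ι_π_of_ne K (Nat.succ_ne_zero n), comp_zero, comp_zero]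

lemma shiftMap_π_succ (K : ℕ → D) (f : ∀ n, K n ⟶ K (n + 1)) [HasCoproduct K] (k : ℕ) :
    DerLim.shiftMap K f ≫ Sigma.π K (k + 1) = Sigma.π K k ≫ f k := by
  refine Sigma.hom_ext _ _ fun n => ?_
  rw [ι_shiftMap_assoc]
  by_cases h : n = k
  · subst h
    simp
  · rw [Sigma.ι_π_of_ne K (fun h' => h (Nat.succ_injective h')), comp_zero,
      Sigma.ι_π_of_ne_assoc K h, zero_comp]

lemma comp_π_eq_zero_of_comp_one_sub_shiftMap (K : ℕ → D) (f : ∀ n, K n ⟶ K (n + 1))
    [HasCoproduct K] {C : D} (χ : C ⟶ ∐ K) (h : χ ≫ (𝟙 _ - DerLim.shiftMap K f) = 0) (k : ℕ) :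
    χ ≫ Sigma.π K k = 0 := by
  have h' : χ = χ ≫ DerLim.shiftMap K f := by
    rw [Preadditive.comp_sub, Category.comp_id, sub_eq_zero] at h
    exact h
  induction k with
  | zero => rw [h', Category.assoc, shiftMap_π_zero, comp_zero]
  | succ k ih => rw [h', Category.assoc, shiftMap_π_succ, ← Category.assoc, ih, zero_comp]

variable [HasCoproducts.{v} D]

lemma eq_zero_of_comp_one_sub_shiftMap (K : ℕ → D) (f : ∀ n, K n ⟶ K (n + 1))
    [HasCoproduct K] {C : D} (hC : CohDer.IsCompactObject C) (χ : C ⟶ ∐ K)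
    (h : χ ≫ (𝟙 _ - DerLim.shiftMap K f) = 0) : χ = 0 :=
  eq_zero_of_comp_π_eq_zero hC K χ (comp_π_eq_zero_of_comp_one_sub_shiftMap K f χ h)

variable [HasZeroObject D] [HasShift D ℤ]
  [∀ n : ℤ, (shiftFunctor D n).Additive] [Pretriangulated D]

omit [HasZeroObject D] [Pretriangulated D] in
lemma eq_zero_of_comp_shift_one_sub_shiftMap (K : ℕ → D) (f : ∀ n, K n ⟶ K (n + 1))
    [HasCoproduct K] {C : D} (hC : CohDer.IsCompactObject C)
    (χ : C ⟶ (shiftFunctor D (1 : ℤ)).obj (∐ K))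
    (h : χ ≫ (shiftFunctor D (1 : ℤ)).map (𝟙 _ - DerLim.shiftMap K f) = 0) : χ = 0 := by
  let e : (shiftFunctor D (1 : ℤ)).obj ((shiftFunctor D (-1 : ℤ)).obj C) ≅ C :=
    (shiftFunctorCompIsoId D (-1 : ℤ) 1 (by simp)).app C
  let χ' : (shiftFunctor D (-1 : ℤ)).obj C ⟶ ∐ K := (shiftFunctor D (1 : ℤ)).preimage (e.hom ≫ χ)
  have hχ' : (shiftFunctor D (1 : ℤ)).map χ' = e.hom ≫ χ := Functor.map_preimage _ _
  have h0 : χ' ≫ (𝟙 _ - DerLim.shiftMap K f) = 0 := by
    apply (shiftFunctor D (1 : ℤ)).map_injective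
    rw [Functor.map_comp, hχ', Category.assoc, h, comp_zero, Functor.map_zero]
  have h1 : χ' = 0 := eq_zero_of_comp_one_sub_shiftMap K f (isCompactObject_shift hC (-1)) χ' h0
  rw [h1, Functor.map_zero] at hχ'
  rw [← cancel_epi e.hom, comp_zero]
  exact hχ'.symm

omit [HasCoproducts.{v} D] in
lemma isHocolim_w {K : ℕ → D} {f : ∀ n, K n ⟶ K (n + 1)} [HasCoproduct K] {L : D}
    {i : ∀ n, K n ⟶ L} (hL : DerLim.IsHocolim K f L i) (n : ℕ) : f n ≫ i (n + 1) = i n := by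
  obtain ⟨c, hT⟩ := hL
  have h : (𝟙 (∐ K) - DerLim.shiftMap K f) ≫ Sigma.desc i = 0 := comp_distTriang_mor_zero₁₂ _ hT
  have := congrArg (Sigma.ι K n ≫ ·) h
  simp only [Preadditive.sub_comp, Preadditive.comp_sub, Category.id_comp, comp_zero,
    ι_shiftMap_assoc, colimit.ι_desc, Cofan.mk_ι_app] at this
  rw [sub_eq_zero] at this
  exact this.symm

omit [HasCoproducts.{v} D] [HasZeroObject D] [∀ n : ℤ, (shiftFunctor D n).Additive] [Pretriangulated D] in
lemma exists_lift_of_le {K : ℕ → D} {f : ∀ n, K n ⟶ K (n + 1)} {L : D}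
    {i : ∀ n, K n ⟶ L} (hw : ∀ n, f n ≫ i (n + 1) = i n) {C : D} {n N : ℕ} (hnN : n ≤ N)
    (ψ : C ⟶ K n) : ∃ ψ' : C ⟶ K N, ψ ≫ i n = ψ' ≫ i N := by
  induction N, hnN using Nat.le_induction with
  | base => exact ⟨ψ, rfl⟩
  | succ N _ ih =>
    obtain ⟨ψ', hψ'⟩ := ih
    exact ⟨ψ' ≫ f N, by rw [hψ', Category.assoc, hw]⟩

/-- a map from a compact object to a homotopy colimit factors through a finite stage -/
lemma exists_factor_of_isHocolim {K : ℕ → D} {f : ∀ n, K n ⟶ K (n + 1)} [HasCoproduct K] {L : D}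
    {i : ∀ n, K n ⟶ L} (hL : DerLim.IsHocolim K f L i) {C : D} (hC : CohDer.IsCompactObject C)
    (ψ : C ⟶ L) : ∃ (N : ℕ) (ψ' : C ⟶ K N), ψ = ψ' ≫ i N := by
  classical
  have hw := isHocolim_w hL
  obtain ⟨c, hT⟩ := hL
  have h0 : ψ ≫ c = 0 := by
    apply eq_zero_of_comp_shift_one_sub_shiftMap K f hC
    have : c ≫ (shiftFunctor D (1 : ℤ)).map (𝟙 (∐ K) - DerLim.shiftMap K f) = 0 :=
      comp_distTriang_mor_zero₃₁ _ hT
    rw [Category.assoc, this, comp_zero]
  obtain ⟨ψ₀, hψ₀⟩ : ∃ ψ₀ : C ⟶ ∐ K, ψ = ψ₀ ≫ Sigma.desc i :=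
    Triangle.coyoneda_exact₃ _ hT ψ h0
  obtain ⟨t, ht⟩ := exists_finset_π_of_isCompactObject hC K ψ₀
  have hsum : ψ = ∑ n ∈ t, (ψ₀ ≫ Sigma.π K n) ≫ i n := by
    rw [hψ₀]
    conv_lhs => rw [ht]
    rw [Preadditive.sum_comp]
    exact Finset.sum_congr rfl fun n _ => by simp
  -- push every term to a common stage
  have key : ∀ (t : Finset ℕ) (g : ∀ n, C ⟶ K n),
      ∃ (N : ℕ) (ψ' : C ⟶ K N), ∑ n ∈ t, g n ≫ i n = ψ' ≫ i N := by
    intro t g
    induction t using Finset.induction_on with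
    | empty => exact ⟨0, 0, by simp⟩
    | insert n t hn ih =>
      obtain ⟨N, ψ', hψ'⟩ := ih
      obtain ⟨a, ha⟩ := exists_lift_of_le hw (le_max_left n N) (g n)
      obtain ⟨b, hb⟩ := exists_lift_of_le hw (le_max_right n N) ψ'
      exact ⟨max n N, a + b, by rw [Finset.sum_insert hn, hψ', ha, hb, Preadditive.add_comp]⟩
  obtain ⟨N, ψ', hψ'⟩ := key t (fun n => ψ₀ ≫ Sigma.π K n)
  exact ⟨N, ψ', hsum.trans hψ'⟩

end hocolim

end Groth.Agent.Lib.Helper6
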