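import Mathlib
import Groth.Prelude.Def_CohDer
import Groth.Agent.Lib.Helper6.Compact
import Groth.Agent.Lib.Helper6.CompactGen
import Groth.Agent.Lib.Helper68.DerCoprod

/-!
# Compact generation of `D(C)` for an abelian category with a small projective generator (helper6)
-/

set_option autoImplicit false
set_option linter.style.haveILetI false
set_option linter.unusedSectionVars false

universe v u

namespace Groth.Agent.Lib.Helper6.DerCompactGen

open CategoryTheory CategoryTheory.Limits Groth.Agent.Lib.Helper68.DerCoprod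

variable {C : Type u} [Category.{v} C] [Abelian C]

/-- the complex `P` placed in degree `m` -/
noncomputable abbrev sg (P : C) (m : ℤ) : CochainComplex C ℤ :=
  (HomologicalComplex.single C (ComplexShape.up ℤ) m).obj P

instance (P : C) [Projective P] (m n : ℤ) : Projective ((sg P m).X n) := by
  by_cases h : n = m
  · subst h
    exact Projective.of_iso (HomologicalComplex.singleObjXSelf (ComplexShape.up ℤ) n P).symm
      inferInstance
  · exact (HomologicalComplex.isZero_single_obj_X (ComplexShape.up ℤ) m P n h).projective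

instance (P : C) [Projective P] (m : ℤ) : (sg P m).IsKProjective :=
  CochainComplex.isKProjective_of_projective _ m

section lift

variable [HasDerivedCategory.{v} C]

lemma exists_Q_map_eq {S L : CochainComplex C ℤ} [S.IsKProjective]
    (φ : DerivedCategory.Q.obj S ⟶ DerivedCategory.Q.obj L) :
    ∃ f : S ⟶ L, DerivedCategory.Q.map f = φ := by
  obtain ⟨g', hg'⟩ := (CochainComplex.IsKProjective.Qh_map_bijective S
    ((HomotopyCategory.quotient _ _).obj L)).2
    ((DerivedCategory.quotientCompQhIso C).hom.app S ≫ φ ≫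
      (DerivedCategory.quotientCompQhIso C).inv.app L)
  obtain ⟨g, rfl⟩ := (HomotopyCategory.quotient _ _).map_surjective g'
  refine ⟨g, ?_⟩
  have := DerivedCategory.quotientCompQhIso_hom_naturality (C := C) g
  rw [hg'] at this
  simp only [Category.assoc, Iso.inv_hom_id_app, Category.comp_id] at this
  exact ((cancel_epi _).1 this).symm

lemma homotopy_zero_of_Q_map_eq_zero {S L : CochainComplex C ℤ} [S.IsKProjective]
    (f : S ⟶ L) (hf : DerivedCategory.Q.map f = 0) : Nonempty (Homotopy f 0) := by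
  have h1 : DerivedCategory.Qh.map ((HomotopyCategory.quotient _ _).map f) =
      DerivedCategory.Qh.map (0 : (HomotopyCategory.quotient _ _).obj S ⟶
        (HomotopyCategory.quotient _ _).obj L) := by
    rw [← cancel_mono ((DerivedCategory.quotientCompQhIso C).hom.app L),
      DerivedCategory.quotientCompQhIso_hom_naturality, hf]
    simp
  have h2 := (CochainComplex.IsKProjective.Qh_map_bijective S
    ((HomotopyCategory.quotient _ _).obj L)).1 h1
  rw [HomotopyCategory.quotient_map_eq_zero_iff] at h2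
  exact h2

end lift

section cofan

/-- transport of a colimit cofan along isomorphisms of the family -/
def isColimitCofanOfIso {D : Type*} [Category D] {κ : Type*} {X Y : κ → D}
    (e : ∀ j, X j ≅ Y j) (c : Cofan Y) (hc : IsColimit c) :
    IsColimit (Cofan.mk c.pt (fun j => (e j).hom ≫ c.inj j)) :=
  Cofan.IsColimit.mk _ (fun t => Cofan.IsColimit.desc hc (fun j => (e j).inv ≫ t.inj j))
    (fun t j => by simp)
    (fun t m hm => Cofan.IsColimit.hom_ext hc _ _ (fun j => by
      have := hm j
      simp only [Cofan.mk_pt] at this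
      simp [← this]))

lemma sigma_π_naturality {D : Type*} [Category D] [HasZeroMorphisms D] {κ : Type*}
    [DecidableEq κ] {X Y : κ → D}
    [HasCoproduct X] [HasCoproduct Y] (a : ∀ j, X j ⟶ Y j) (j : κ) :
    Limits.Sigma.map a ≫ Sigma.π Y j = Sigma.π X j ≫ a j := by
  apply Sigma.hom_ext
  intro i
  rw [Sigma.ι_map_assoc]
  by_cases h : i = j
  · subst h
    simp
  · rw [Sigma.ι_π_of_ne Y h, Sigma.ι_π_of_ne_assoc X h, comp_zero, zero_comp]

end cofan

section main

variable [HasDerivedCategory.{v} C] [HasCoproducts.{v} C]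
  [∀ J : Type v, HasExactColimitsOfShape (Discrete J) C]

instance : HasCoproducts.{v} (DerivedCategory C) := fun J => hasCoproductsOfShape C J

theorem isCompactObject_Q_sg (P : C) [Projective P]
    (hP : ∀ (J : Type v) (X : J → C) (g : P ⟶ ∐ X), ∃ (s : Finset J) (γ : ∀ j, P ⟶ X j),
      g = ∑ j ∈ s, γ j ≫ Sigma.ι X j) (m : ℤ) :
    CohDer.IsCompactObject (DerivedCategory.Q.obj (sg P m)) := by
  classical
  rw [isCompactObject_iff_mem_range]
  intro κ X φ
  have hK : ∀ j, ∃ K : CochainComplex C ℤ, Nonempty (X j ≅ DerivedCategory.Q.obj K) :=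
    fun j => ⟨_, ⟨(DerivedCategory.Q.objObjPreimageIso _).symm⟩⟩
  choose K e using hK
  let e' := fun j => (e j).some
  let c := Cofan.mk (DerivedCategory.Q.obj (sigmaC K))
    (fun j => (e' j).hom ≫ DerivedCategory.Q.map (ιC K j))
  have hc : IsColimit c := isColimitCofanOfIso e' _ (isColimitCofan K)
  let iso : ∐ X ≅ DerivedCategory.Q.obj (sigmaC K) :=
    (coproductIsCoproduct X).coconePointUniqueUpToIso hc
  have hiso : ∀ j, Sigma.ι X j ≫ iso.hom = (e' j).hom ≫ DerivedCategory.Q.map (ιC K j) :=
    fun j => (coproductIsCoproduct X).comp_coconePointUniqueUpToIso_hom hc ⟨j⟩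
  obtain ⟨f, hf⟩ := exists_Q_map_eq (φ ≫ iso.hom)
  -- the degree `m` component
  let f₀ : P ⟶ ∐ (fun j => (K j).X m) :=
    (HomologicalComplex.singleObjXSelf (ComplexShape.up ℤ) m P).inv ≫ f.f m
  obtain ⟨s, γ, hγ⟩ := hP κ (fun j => (K j).X m) f₀
  have hγ' := eq_sum_π_of_eq_sum (fun j => (K j).X m) f₀ id Function.injective_id s γ hγ
  simp only [Finset.image_id] at hγ'
  have hd0 : f₀ ≫ Limits.Sigma.map (fun j => (K j).d m (m + 1)) = 0 := by
    have h1 : f.f m ≫ (sigmaC K).d m (m + 1) = 0 := by
      rw [f.comm m (m + 1), HomologicalComplex.single_obj_d, zero_comp]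
    have h2 : f.f m ≫ Limits.Sigma.map (fun j => (K j).d m (m + 1)) = 0 := h1
    exact (Category.assoc _ _ _).trans ((congrArg (fun t =>
      (HomologicalComplex.singleObjXSelf (ComplexShape.up ℤ) m P).inv ≫ t) h2).trans comp_zero)
  have hd : ∀ j, (f₀ ≫ Sigma.π (fun j => (K j).X m) j) ≫ (K j).d m (m + 1) = 0 := by
    intro j
    rw [Category.assoc, ← sigma_π_naturality (fun j => (K j).d m (m + 1)) j,
      reassoc_of% hd0, zero_comp]
  let g : ∀ j, sg P m ⟶ K j := fun j =>
    HomologicalComplex.mkHomFromSingle (f₀ ≫ Sigma.π (fun j => (K j).X m) j) (by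
      intro k hk
      obtain rfl : m + 1 = k := by simpa using hk
      exact hd j)
  have hfg : f = ∑ j ∈ s, g j ≫ ιC K j := by
    apply HomologicalComplex.from_single_hom_ext
    have hsum : (∑ j ∈ s, g j ≫ ιC K j).f m = ∑ j ∈ s, (g j ≫ ιC K j).f m :=
      map_sum (HomologicalComplex.Hom.fAddMonoidHom (C₁ := sg P m) (C₂ := sigmaC K) m) _ s
    rw [hsum]
    have h3 : f.f m = (HomologicalComplex.singleObjXSelf (ComplexShape.up ℤ) m P).hom ≫ f₀ :=
      (Iso.hom_inv_id_assoc _ _).symm
    rw [h3]
    have h4 : (HomologicalComplex.singleObjXSelf (ComplexShape.up ℤ) m P).hom ≫ f₀ =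
        ∑ j ∈ s, (HomologicalComplex.singleObjXSelf (ComplexShape.up ℤ) m P).hom ≫
          (f₀ ≫ Sigma.π (fun j => (K j).X m) j) ≫ Sigma.ι (fun j => (K j).X m) j := by
      conv_lhs => rw [hγ']
      rw [Preadditive.comp_sum]
    refine h4.trans (Finset.sum_congr rfl (fun j _ => ?_))
    have h5 : (g j ≫ ιC K j).f m = (g j).f m ≫ Sigma.ι (fun j => (K j).X m) j := rfl
    rw [h5, HomologicalComplex.mkHomFromSingle_f]
    simp only [Category.assoc]
  have hφ : φ = ∑ j ∈ s, (DerivedCategory.Q.map (g j) ≫ (e' j).inv) ≫ Sigma.ι X j := by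
    rw [← cancel_mono iso.hom, ← hf, hfg, Functor.map_sum, Preadditive.sum_comp]
    refine Finset.sum_congr rfl (fun j _ => ?_)
    rw [Category.assoc, hiso, Category.assoc, Iso.inv_hom_id_assoc]
    exact DerivedCategory.Q.map_comp _ _
  rw [hφ]
  exact sum_comp_ι_mem_range _ X s _

open ZeroObject in
omit [HasCoproducts.{v} C] [∀ J : Type v, HasExactColimitsOfShape (Discrete J) C] in
lemma isZero_Q_obj_of_exactAt (K : CochainComplex C ℤ) (hK : ∀ n, K.ExactAt n) :
    IsZero (DerivedCategory.Q.obj K) := by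
  have h0 : IsZero (0 : CochainComplex C ℤ) := isZero_zero _
  have hq : QuasiIso (0 : K ⟶ 0) := by
    constructor
    intro n
    rw [quasiIsoAt_iff_exactAt' _ _ ((HomologicalComplex.acyclic_of_isZero _ h0) n)]
    exact hK n
  have : IsIso (DerivedCategory.Q.map (0 : K ⟶ 0)) := by
    rw [DerivedCategory.isIso_Q_map_iff_quasiIso]
    exact hq
  exact IsZero.of_iso (DerivedCategory.Q.map_isZero h0) (asIso (DerivedCategory.Q.map (0 : K ⟶ 0)))

omit [HasCoproducts.{v} C] [∀ J : Type v, HasExactColimitsOfShape (Discrete J) C] in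
theorem generates_Q_sg (P : C) [Projective P]
    (hgen : ∀ X : C, (∀ f : P ⟶ X, f = 0) → IsZero X) :
    CohDer.Generates (fun m : ULift.{v} ℤ => DerivedCategory.Q.obj (sg P m.down)) := by
  intro K hK
  let K' := DerivedCategory.Q.objPreimage K
  let eK : DerivedCategory.Q.obj K' ≅ K := DerivedCategory.Q.objObjPreimageIso K
  have h0 : ∀ (m : ℤ) (f : sg P m ⟶ K'), DerivedCategory.Q.map f = 0 := by
    intro m f
    have h1 := hK ⟨m⟩ 0 (DerivedCategory.Q.map f ≫
      (eK ≪≫ ((shiftFunctorZero _ ℤ).app K).symm).hom)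
    exact zero_of_comp_mono _ h1
  apply IsZero.of_iso _ eK.symm
  apply isZero_Q_obj_of_exactAt
  intro n
  rw [HomologicalComplex.exactAt_iff_isZero_homology]
  apply hgen
  intro f
  -- lift to cycles
  let f' : P ⟶ K'.cycles n := Projective.factorThru f (K'.homologyπ n)
  have hf' : f' ≫ K'.homologyπ n = f := Projective.factorThru_comp _ _
  let x : P ⟶ K'.X n := f' ≫ K'.iCycles n
  have hx : x ≫ K'.d n (n + 1) = 0 := by
    dsimp only [x]
    rw [Category.assoc, HomologicalComplex.iCycles_d, comp_zero]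
  let g : sg P n ⟶ K' := HomologicalComplex.mkHomFromSingle x (by
    intro k hk
    obtain rfl : n + 1 = k := by simpa using hk
    exact hx)
  obtain ⟨H⟩ := homotopy_zero_of_Q_map_eq_zero g (h0 n g)
  have hcomm := H.comm n
  rw [dNext_eq H.hom (show (ComplexShape.up ℤ).Rel n (n + 1) by simp),
    prevD_eq H.hom (show (ComplexShape.up ℤ).Rel (n - 1) n by simp),
    HomologicalComplex.single_obj_d, zero_comp, zero_add, HomologicalComplex.zero_f, add_zero,
    HomologicalComplex.mkHomFromSingle_f] at hcomm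
  let y : P ⟶ K'.X (n - 1) :=
    (HomologicalComplex.singleObjXSelf (ComplexShape.up ℤ) n P).inv ≫ H.hom n (n - 1)
  have hy : y ≫ K'.d (n - 1) n = x := by
    dsimp only [y]
    rw [Category.assoc, ← hcomm, Iso.inv_hom_id_assoc]
  have hf'' : f' = y ≫ K'.toCycles (n - 1) n := by
    rw [← cancel_mono (K'.iCycles n), Category.assoc, HomologicalComplex.toCycles_i, hy]
  rw [← hf', hf'', Category.assoc, HomologicalComplex.toCycles_comp_homologyπ, comp_zero]

theorem isCompactlyGenerated (P : C) [Projective P]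
    (hP : ∀ (J : Type v) (X : J → C) (g : P ⟶ ∐ X), ∃ (s : Finset J) (γ : ∀ j, P ⟶ X j),
      g = ∑ j ∈ s, γ j ≫ Sigma.ι X j)
    (hgen : ∀ X : C, (∀ f : P ⟶ X, f = 0) → IsZero X) :
    CohDer.IsCompactlyGenerated (DerivedCategory C) :=
  ⟨ULift.{v} ℤ, fun m => DerivedCategory.Q.obj (sg P m.down),
    fun m => isCompactObject_Q_sg P hP m.down, generates_Q_sg P hgen⟩

end main

section ModuleCat

variable (R : Type v) [Ring R]

instance projective_self : Projective (ModuleCat.of R R) :=
  ModuleCat.projective_of_free (Module.Basis.singleton PUnit.{1} R)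

lemma exists_finset_module (J : Type v) (X : J → ModuleCat.{v} R)
    (g : ModuleCat.of R R ⟶ ∐ X) :
    ∃ (s : Finset J) (γ : ∀ j, ModuleCat.of R R ⟶ X j), g = ∑ j ∈ s, γ j ≫ Sigma.ι X j := by
  classical
  let iso := ModuleCat.coprodIsoDirectSum X
  let x : DirectSum J (fun j => X j) := (g ≫ iso.hom).hom (1 : R)
  let γ : ∀ j, ModuleCat.of R R ⟶ X j := fun j =>
    ModuleCat.ofHom (LinearMap.toSpanSingleton R (X j) (x j))
  refine ⟨DFinsupp.support x, γ, ?_⟩
  rw [← cancel_mono iso.hom, Preadditive.sum_comp]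
  apply ModuleCat.hom_ext
  apply LinearMap.ext_ring
  have h1 : (g ≫ iso.hom).hom (1 : R) = x := rfl
  rw [h1]
  have h2 : ∀ j, (γ j ≫ Sigma.ι X j) ≫ iso.hom =
      ModuleCat.ofHom ((DirectSum.lof R J (fun j => X j) j).comp
        (LinearMap.toSpanSingleton R (X j) (x j))) := by
    intro j
    rw [Category.assoc, ModuleCat.ι_coprodIsoDirectSum_hom]
    rfl
  simp only [h2]
  rw [ModuleCat.hom_sum, LinearMap.sum_apply]
  conv_lhs => rw [← DirectSum.sum_support_of x]
  refine Finset.sum_congr rfl (fun j _ => ?_)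
  simp
  rfl

lemma isZero_of_forall_eq_zero (X : ModuleCat.{v} R)
    (h : ∀ f : ModuleCat.of R R ⟶ X, f = 0) : IsZero X := by
  haveI : Subsingleton X := by
    constructor
    intro a b
    have ha := h (ModuleCat.ofHom (LinearMap.toSpanSingleton R X a))
    have hb := h (ModuleCat.ofHom (LinearMap.toSpanSingleton R X b))
    have ha' : a = 0 := by
      have := congrArg (fun f => f.hom (1 : R)) ha
      simpa using this
    have hb' : b = 0 := by
      have := congrArg (fun f => f.hom (1 : R)) hb
      simpa using this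
    rw [ha', hb']
  exact ModuleCat.isZero_of_subsingleton X

theorem isCompactlyGenerated_moduleCat [HasDerivedCategory.{v} (ModuleCat.{v} R)] :
    CohDer.IsCompactlyGenerated (DerivedCategory (ModuleCat.{v} R)) :=
  isCompactlyGenerated (ModuleCat.of R R) (exists_finset_module R) (isZero_of_forall_eq_zero R)

end ModuleCat

end Groth.Agent.Lib.Helper6.DerCompactGen
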