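import Mathlib
import Groth.Agent.Lib.Helper94.CellRes

/-!
# Left orthogonals of classes of complexes at the cochain level (helper6)

For a class `𝒵` of cochain complexes, `LeftOrth 𝒵 K` says that every cocycle of the `Hom`-complex
from `K` to a member of `𝒵` is a coboundary (in every degree).

* `leftOrth_of_d_eq_zero`: complexes with zero differential and `𝒵`-relatively projective terms;
* `extProp_inr`: the extension property for the inclusion into a mapping cone of a map from a
  member of `LeftOrth 𝒵`;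
* `leftOrth_of_isColimit`: closure under colimits of sequences with the extension property;
* `exists_resolution`: cellular resolutions (built on helper94's `CellRes`) are in `LeftOrth 𝒵`.
-/

set_option autoImplicit false
set_option linter.unusedSectionVars false
universe w v u
open CategoryTheory CategoryTheory.Limits CochainComplex HomComplex ZeroObject

namespace Groth.Agent.Lib.Helper6.CellOrth

variable {A : Type u} [Category.{v} A] [Abelian A]

section Basic

variable (𝒵 : CochainComplex A ℤ → Prop)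

/-- every cocycle with values in a member of `𝒵` is a coboundary -/
def LeftOrth (K : CochainComplex A ℤ) : Prop :=
  ∀ Z, 𝒵 Z → ∀ (n m : ℤ) (_ : m + 1 = n) (z : Cochain K Z n), δ n (n + 1) z = 0 →
    ∃ y : Cochain K Z m, δ m n y = z

/-- objects which are projective relatively to the members of `𝒵` -/
def RelProj (M : A) : Prop :=
  ∀ Z, 𝒵 Z → ∀ (q' q : ℤ) (_ : q' + 1 = q) (u : M ⟶ Z.X q), u ≫ Z.d q (q + 1) = 0 →
    ∃ v : M ⟶ Z.X q', v ≫ Z.d q' q = u

variable {𝒵}

lemma leftOrth_of_d_eq_zero (V : CochainComplex A ℤ) (hd : ∀ i j, V.d i j = 0)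
    (hV : ∀ p, RelProj 𝒵 (V.X p)) : LeftOrth 𝒵 V := by
  intro Z hZ n m hm z hz
  have hp : ∀ p : ℤ, z.v p (p + n) rfl ≫ Z.d (p + n) (p + n + 1) = 0 := by
    intro p
    have := Cochain.congr_v hz p (p + n + 1) (by lia)
    rw [δ_v n (n + 1) rfl z p (p + n + 1) (by lia) (p + n) (p + 1) (by lia) rfl] at this
    simpa [hd] using this
  choose v hv using fun p => hV p Z hZ (p + m) (p + n) (by lia) (z.v p (p + n) rfl) (hp p)
  refine ⟨Cochain.mk (fun p q hpq => v p ≫ (Z.XIsoOfEq hpq).hom), ?_⟩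
  ext p q hpq
  obtain rfl : q = p + n := by lia
  rw [δ_v m n hm _ p (p + n) rfl (p + m) (p + 1) (by lia) rfl]
  simp [hd, hv]

/-- the extension property for coboundary-primitives along `j` -/
def ExtProp (𝒵 : CochainComplex A ℤ → Prop) {K K' : CochainComplex A ℤ} (j : K ⟶ K') : Prop :=
  ∀ Z, 𝒵 Z → ∀ (n m : ℤ) (_ : m + 1 = n) (z' : Cochain K' Z n), δ n (n + 1) z' = 0 →
    ∀ y : Cochain K Z m, δ m n y = (Cochain.ofHom j).comp z' (zero_add n) →
      ∃ y' : Cochain K' Z m, δ m n y' = z' ∧ (Cochain.ofHom j).comp y' (zero_add m) = y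

lemma extProp_inr {V K : CochainComplex A ℤ} (φ : V ⟶ K) (hV : LeftOrth 𝒵 V) :
    ExtProp 𝒵 (mappingCone.inr φ) := by
  intro Z hZ n m hm z' hz' y hy
  -- extension of `y` by zero
  let y₀ : Cochain (mappingCone φ) Z m := (mappingCone.snd φ).comp y (zero_add m)
  have hy₀ : (Cochain.ofHom (mappingCone.inr φ)).comp y₀ (zero_add m) = y := by
    simp [y₀]
  let z'' : Cochain (mappingCone φ) Z n := z' - δ m n y₀
  have hz'' : δ n (n + 1) z'' = 0 := by
    simp [z'', hz', δ_δ]
  have hinr : (Cochain.ofHom (mappingCone.inr φ)).comp z'' (zero_add n) = 0 := by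
    have h1 : (Cochain.ofHom (mappingCone.inr φ)).comp (δ m n y₀) (zero_add n) = δ m n y := by
      rw [← hy₀, δ_ofHom_comp]
    simp only [z'', Cochain.comp_sub, h1, hy, sub_self]
  let w : Cochain V Z m := (mappingCone.inl φ).comp z'' (by lia)
  have hw : δ m n w = 0 := by
    dsimp only [w]
    rw [δ_comp (mappingCone.inl φ) z'' (show -1 + n = m by lia) 0 (n + 1) n hm
      (neg_add_cancel 1) rfl, hz'', Cochain.comp_zero, zero_add, mappingCone.δ_inl,
      Cochain.ofHom_comp, Cochain.comp_assoc_of_first_is_zero_cochain, hinr, Cochain.comp_zero,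
      smul_zero]
  obtain ⟨α, hα⟩ := hV Z hZ m (m - 1) (by lia) w (by subst hm; exact hw)
  refine ⟨y₀ + (mappingCone.fst φ).1.comp α (by lia), ?_, ?_⟩
  · have e : z'' = (mappingCone.fst φ).1.comp w (show 1 + m = n by lia) := by
      rw [mappingCone.ext_cochain_from_iff φ m n hm]
      constructor
      · simp [w]
      · rw [hinr]
        simp
    have e2 : δ m n ((mappingCone.fst φ).1.comp α (show 1 + (m - 1) = m by lia)) =
        (mappingCone.fst φ).1.comp w (show 1 + m = n by lia) := by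
      rw [δ_comp (mappingCone.fst φ).1 α (show 1 + (m - 1) = m by lia) 2 m n hm (by lia)
        (by lia), hα]
      simp
    rw [δ_add, e2, ← e]
    simp [z'']
  · rw [Cochain.comp_add, hy₀]
    simp

end Basic

section Seq

variable {𝒵 : CochainComplex A ℤ → Prop} [HasColimitsOfShape ℕ A]
  (T : ℕ ⥤ CochainComplex A ℤ) (c : Cocone T) (hc : IsColimit c)
  (h0 : LeftOrth 𝒵 (T.obj 0))
  (hext : ∀ i : ℕ, ExtProp 𝒵 (T.map (homOfLE (Nat.le_succ i))))

include hc h0 hext in
/-- closure of `LeftOrth` under colimits of sequences with the extension property -/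
theorem leftOrth_of_isColimit : LeftOrth 𝒵 c.pt := by
  intro Z hZ n m hm z hz
  let zi : ∀ i, Cochain (T.obj i) Z n := fun i => (Cochain.ofHom (c.ι.app i)).comp z (zero_add n)
  have hzi : ∀ i, δ n (n + 1) (zi i) = 0 := fun i => by
    dsimp only [zi]
    rw [δ_ofHom_comp, hz, Cochain.comp_zero]
  have hzi' : ∀ i, (Cochain.ofHom (T.map (homOfLE (Nat.le_succ i)))).comp (zi (i + 1))
      (zero_add n) = zi i := by
    intro i
    dsimp only [zi]
    rw [← Cochain.comp_assoc_of_first_is_zero_cochain, ← Cochain.ofHom_comp, c.w]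
  let S : ℕ → Type _ := fun i => {y : Cochain (T.obj i) Z m // δ m n y = zi i}
  have step : ∀ (i : ℕ) (y : S i), ∃ y' : S (i + 1),
      (Cochain.ofHom (T.map (homOfLE (Nat.le_succ i)))).comp y'.1 (zero_add m) = y.1 := by
    intro i y
    obtain ⟨y', h1, h2⟩ := hext i Z hZ n m hm (zi (i + 1)) (hzi (i + 1)) y.1
      (by rw [y.2, hzi'])
    exact ⟨⟨y', h1⟩, h2⟩
  choose stp hstp using step
  obtain ⟨y0, hy0⟩ := h0 Z hZ n m hm (zi 0) (hzi 0)
  let s : ∀ i, S i := fun i => Nat.rec (motive := S) ⟨y0, hy0⟩ (fun i y => stp i y) i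
  have hs : ∀ i, (Cochain.ofHom (T.map (homOfLE (Nat.le_succ i)))).comp (s (i + 1)).1
      (zero_add m) = (s i).1 := fun i => hstp i (s i)
  have hcp : ∀ p : ℤ, IsColimit ((HomologicalComplex.eval A (ComplexShape.up ℤ) p).mapCocone c) :=
    fun p => isColimitOfPreserves _ hc
  let cc : ∀ (p q : ℤ) (_ : p + m = q),
      Cocone (T ⋙ HomologicalComplex.eval A (ComplexShape.up ℤ) p) := fun p q hpq =>
    { pt := Z.X q
      ι := NatTrans.ofSequence (fun i => (s i).1.v p q hpq) (fun i => by
        have := Cochain.congr_v (hs i) p q hpq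
        rw [Cochain.zero_cochain_comp_v, Cochain.ofHom_v] at this
        change (T.map (homOfLE (Nat.le_succ i))).f p ≫ _ = _ ≫ 𝟙 _
        rw [this, Category.comp_id]) }
  let y : Cochain c.pt Z m := Cochain.mk (fun p q hpq => (hcp p).desc (cc p q hpq))
  have hy : ∀ (i : ℕ) (p q : ℤ) (hpq : p + m = q),
      (c.ι.app i).f p ≫ y.v p q hpq = (s i).1.v p q hpq := fun i p q hpq =>
    (hcp p).fac (cc p q hpq) i
  refine ⟨y, ?_⟩
  ext p q hpq
  apply (hcp p).hom_ext
  intro i
  change (c.ι.app i).f p ≫ (δ m n y).v p q hpq = (c.ι.app i).f p ≫ z.v p q hpq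
  have e1 : (c.ι.app i).f p ≫ z.v p q hpq = (δ m n (s i).1).v p q hpq := by
    rw [(s i).2]
    dsimp only [zi]
    rw [Cochain.zero_cochain_comp_v, Cochain.ofHom_v]
  have hcomm : (c.ι.app i).f p ≫ c.pt.d p (p + 1) =
      (T.obj i).d p (p + 1) ≫ (c.ι.app i).f (p + 1) := (c.ι.app i).comm p (p + 1)
  rw [e1, δ_v m n hm y p q hpq (q - 1) (p + 1) rfl rfl,
    δ_v m n hm (s i).1 p q hpq (q - 1) (p + 1) rfl rfl, Preadditive.comp_add,
    Linear.comp_units_smul, ← Category.assoc, hy, ← Category.assoc ((c.ι.app i).f p),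
    hcomm, Category.assoc, hy]

end Seq

section Res

open Groth.Agent.Lib.Helper94.CellRes

variable [HasColimitsOfShape ℕ A] [HasExactColimitsOfShape ℕ A] (𝒵 : CochainComplex A ℤ → Prop)

/-- cells: zero differential and relatively projective terms -/
def Cell (V : CochainComplex A ℤ) : Prop := (∀ i j, V.d i j = 0) ∧ ∀ p, RelProj 𝒵 (V.X p)

variable {𝒵}

lemma leftOrth_of_isZero (K : CochainComplex A ℤ) (hK : IsZero K) : LeftOrth 𝒵 K := by
  have hX : ∀ p, IsZero (K.X p) := fun p =>
    (HomologicalComplex.eval A (ComplexShape.up ℤ) p).map_isZero hK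
  refine leftOrth_of_d_eq_zero K (fun i j => (hX i).eq_of_src _ _) (fun p => ?_)
  intro Z _ q' q _ u _
  exact ⟨0, (hX p).eq_of_src _ _⟩

variable (hepi : ∀ X : A, ∃ (M : A) (p : M ⟶ X), Epi p ∧ RelProj 𝒵 M)

include hepi in
lemma hcover (Z : ℤ → A) : ∃ V : CochainComplex A ℤ, Cell 𝒵 V ∧ (∀ i j : ℤ, V.d i j = 0) ∧
    ∃ e : ∀ n : ℤ, V.X n ⟶ Z n, ∀ n : ℤ, Epi (e n) := by
  choose M p hp hM using fun n => hepi (Z n)
  let V : CochainComplex A ℤ :=
    { X := M
      d := fun _ _ => 0
      shape := fun _ _ _ => rfl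
      d_comp_d' := fun _ _ _ _ _ => zero_comp }
  exact ⟨V, ⟨fun _ _ => rfl, hM⟩, fun _ _ => rfl, p, hp⟩

include hepi in
/-- cellular resolutions belong to the left orthogonal -/
theorem exists_resolution (G : CochainComplex A ℤ) :
    ∃ (K : CochainComplex A ℤ) (f : K ⟶ G), QuasiIso f ∧ LeftOrth 𝒵 K := by
  let st : ∀ X : Over G, Step (Cell 𝒵) X := fun X =>
    (nonempty_step (Cell 𝒵) (hcover hepi) X).some
  let X₀ : Over G := Over.mk (0 : (0 : CochainComplex A ℤ) ⟶ G)
  let F := seqFunctor st X₀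
  let c := colimit.cocone (F ⋙ Over.forget G)
  let hc : IsColimit c := colimit.isColimit _
  refine ⟨c.pt, colimHom F c hc, ?_, ?_⟩
  · rw [Groth.Agent.Lib.Helper94.KFlatAbs.quasiIso_iff_acyclic_mappingCone]
    refine acyclic_of_isColimit_of_homologyMap_eq_zero _ (isColimitConeCocone F c hc)
      (fun i n => ?_)
    have h1 : F.map (homOfLE (Nat.le_succ i)) = (st (seq st X₀ i)).nextMap :=
      Functor.ofSequence_map_homOfLE_succ _ i
    change HomologicalComplex.homologyMap
      ((coneFunctor G).map (F.map (homOfLE (Nat.le_succ i)))) n = 0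
    rw [h1]
    exact (st (seq st X₀ i)).zero n
  · refine leftOrth_of_isColimit (F ⋙ Over.forget G) c hc
      (show LeftOrth 𝒵 (0 : CochainComplex A ℤ) from leftOrth_of_isZero _ (isZero_zero _))
      (fun i => ?_)
    have h1 : F.map (homOfLE (Nat.le_succ i)) = (st (seq st X₀ i)).nextMap :=
      Functor.ofSequence_map_homOfLE_succ _ i
    have h2 : (F ⋙ Over.forget G).map (homOfLE (Nat.le_succ i)) =
        mappingCone.inr (st (seq st X₀ i)).φ := by
      change (F.map (homOfLE (Nat.le_succ i))).left = _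
      rw [h1]
      rfl
    rw [h2]
    exact extProp_inr _ (leftOrth_of_d_eq_zero _ (st (seq st X₀ i)).hV.1 (st (seq st X₀ i)).hV.2)

end Res

end Groth.Agent.Lib.Helper6.CellOrth
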