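import Mathlib

/-!
# Extending a natural isomorphism from a resolving class of complexes to `D(A)` (helper6)

Let `H₁ H₂ : D(A) ⥤ E` be functors and `PX` a class of cochain complexes such that every complex
admits a quasi-isomorphism from a complex in `PX`.  A family of isomorphisms
`H₁ (Q X) ≅ H₂ (Q X)` for `X` in `PX`, natural with respect to chain maps between complexes in `PX`,
extends to a natural isomorphism `H₁ ≅ H₂`.
-/

set_option autoImplicit false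
universe w v u
open CategoryTheory CategoryTheory.Limits DerivedCategory

namespace Groth.Agent.Lib.Helper6.ExtNatIso

variable {A : Type u} [Category.{v} A] [Abelian A] [HasDerivedCategory.{w} A]
  {E : Type*} [Category E] (H₁ H₂ : DerivedCategory A ⥤ E)
  (PX : CochainComplex A ℤ → Prop)
  (hres : ∀ K : CochainComplex A ℤ, ∃ (Y : CochainComplex A ℤ) (f : Y ⟶ K), QuasiIso f ∧ PX Y)
  (δ : ∀ X : CochainComplex A ℤ, PX X → (H₁.obj (Q.obj X) ≅ H₂.obj (Q.obj X)))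
  (hδ : ∀ (X X' : CochainComplex A ℤ) (hX : PX X) (hX' : PX X') (f : X ⟶ X'),
    H₁.map (Q.map f) ≫ (δ X' hX').hom = (δ X hX).hom ≫ H₂.map (Q.map f))

include hres hδ in
lemma nat_of_hom (X X' : CochainComplex A ℤ) (hX : PX X) (hX' : PX X') (ψ : Q.obj X ⟶ Q.obj X') :
    H₁.map ψ ≫ (δ X' hX').hom = (δ X hX).hom ≫ H₂.map ψ := by
  obtain ⟨X₂, s, hs, g, rfl⟩ := right_fac ψ
  obtain ⟨X₃, p, hp, hX₃⟩ := hres X₂
  have hp' : IsIso (Q.map p) := by rw [isIso_Q_map_iff_quasiIso]; exact hp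
  have hps : IsIso (Q.map (p ≫ s)) := by rw [Q.map_comp]; infer_instance
  have e1 : inv (Q.map s) ≫ Q.map g = inv (Q.map (p ≫ s)) ≫ Q.map (p ≫ g) := by
    rw [IsIso.eq_inv_comp, Q.map_comp, Q.map_comp, Category.assoc, IsIso.hom_inv_id_assoc]
  rw [e1, H₁.map_comp, H₂.map_comp, Category.assoc, hδ X₃ X' hX₃ hX' (p ≫ g),
    Functor.map_inv, Functor.map_inv, ← Category.assoc, ← Category.assoc]
  congr 1
  rw [IsIso.inv_comp_eq, ← Category.assoc, IsIso.eq_comp_inv]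
  exact (hδ X₃ X hX₃ hX (p ≫ s)).symm

include hres hδ in
theorem nonempty_natIso : Nonempty (H₁ ≅ H₂) := by
  have hobj : ∀ Z : DerivedCategory A, ∃ (Y : CochainComplex A ℤ) (_ : PX Y),
      Nonempty (Q.obj Y ≅ Z) := by
    intro Z
    obtain ⟨Y, f, hf, hY⟩ := hres (Q.objPreimage Z)
    have : IsIso (Q.map f) := by rw [isIso_Q_map_iff_quasiIso]; exact hf
    exact ⟨Y, hY, ⟨asIso (Q.map f) ≪≫ Q.objObjPreimageIso Z⟩⟩
  choose Y hY e using hobj
  let e' : ∀ Z, Q.obj (Y Z) ≅ Z := fun Z => (e Z).some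
  refine ⟨NatIso.ofComponents
    (fun Z => H₁.mapIso (e' Z).symm ≪≫ δ (Y Z) (hY Z) ≪≫ H₂.mapIso (e' Z)) ?_⟩
  intro Z Z' φ
  have h := nat_of_hom H₁ H₂ PX hres δ hδ (Y Z) (Y Z') (hY Z) (hY Z')
    ((e' Z).hom ≫ φ ≫ (e' Z').inv)
  dsimp only [Iso.trans_hom, Functor.mapIso_hom, Iso.symm_hom]
  rw [H₁.map_comp, H₁.map_comp, H₂.map_comp, H₂.map_comp] at h
  simp only [Category.assoc] at h ⊢
  have h1 : H₁.map φ ≫ H₁.map (e' Z').inv = H₁.map (e' Z).inv ≫ H₁.map (e' Z).hom ≫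
      H₁.map φ ≫ H₁.map (e' Z').inv := by
    rw [← H₁.map_comp_assoc, Iso.inv_hom_id, H₁.map_id, Category.id_comp]
  rw [reassoc_of% h1]
  have h2 := congrArg (fun t => H₁.map (e' Z).inv ≫ t ≫ H₂.map (e' Z').hom) h
  simp only [Category.assoc] at h2
  rw [h2]
  simp only [← Functor.map_comp, Category.assoc, Iso.inv_hom_id, Category.comp_id]

end Groth.Agent.Lib.Helper6.ExtNatIso
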