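import Mathlib
import Groth.Agent.Lib.Helper6.CellOrth
import Groth.Agent.Lib.Helper6.ExtNatIso

/-!
# Left orthogonals and adjunctions (helper6)

For an adjunction `F ⊣ G` of additive functors between abelian categories, cochains
`F P ⟶ Z` correspond to cochains `P ⟶ G Z`, compatibly with the differential `δ`
(`tr`, `tr'`, `δ_tr`).  Consequently if `G` maps `𝒵B` into `𝒵A`, then `F` maps `LeftOrth 𝒵A` into
`LeftOrth 𝒵B` (`leftOrth_map`).

Also `nonempty_natIso_of_natTrans`: two functors on `D(A)` which receive natural transformations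
to a common functor on complexes, invertible on a resolving class, are isomorphic.
-/

set_option autoImplicit false
set_option linter.unusedSectionVars false
universe w v v' u u'
open CategoryTheory CategoryTheory.Limits CochainComplex HomComplex

namespace Groth.Agent.Lib.Helper6.AdjOrth

open Groth.Agent.Lib.Helper6.CellOrth

variable {A : Type u} [Category.{v} A] [Abelian A] {B : Type u'} [Category.{v'} B] [Abelian B]
  {F : A ⥤ B} {G : B ⥤ A} [F.Additive] [G.Additive] (adj : F ⊣ G)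
  (P : CochainComplex A ℤ) (Z : CochainComplex B ℤ)

/-- transposition of cochains -/
def tr {n : ℤ} (z : Cochain ((F.mapHomologicalComplex (ComplexShape.up ℤ)).obj P) Z n) :
    Cochain P ((G.mapHomologicalComplex (ComplexShape.up ℤ)).obj Z) n :=
  Cochain.mk (fun p q hpq => adj.homEquiv _ _ (z.v p q hpq))

/-- inverse transposition of cochains -/
def tr' {n : ℤ} (y : Cochain P ((G.mapHomologicalComplex (ComplexShape.up ℤ)).obj Z) n) :
    Cochain ((F.mapHomologicalComplex (ComplexShape.up ℤ)).obj P) Z n :=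
  Cochain.mk (fun p q hpq => (adj.homEquiv _ _).symm (y.v p q hpq))

lemma tr_tr' {n : ℤ} (y : Cochain P ((G.mapHomologicalComplex (ComplexShape.up ℤ)).obj Z) n) :
    tr adj P Z (tr' adj P Z y) = y := by
  ext p q hpq
  simp [tr, tr']

lemma tr'_tr {n : ℤ} (z : Cochain ((F.mapHomologicalComplex (ComplexShape.up ℤ)).obj P) Z n) :
    tr' adj P Z (tr adj P Z z) = z := by
  ext p q hpq
  simp [tr, tr']

lemma tr_zero (n : ℤ) :
    tr adj P Z (0 : Cochain ((F.mapHomologicalComplex (ComplexShape.up ℤ)).obj P) Z n) = 0 := by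
  ext p q hpq
  simp only [tr, Cochain.mk_v, Cochain.zero_v]
  exact adj.homAddEquiv_zero _ _

lemma aux {X X' : A} {Y Y' : B} (a : F.obj X ⟶ Y') (d : Y' ⟶ Y) (d' : X ⟶ X')
    (b : F.obj X' ⟶ Y) (ε : ℤˣ) :
    adj.homEquiv X Y' a ≫ G.map d + ε • (d' ≫ adj.homEquiv X' Y b) =
      adj.homEquiv X Y (a ≫ d + ε • (F.map d' ≫ b)) := by
  rw [Adjunction.homAddEquiv_add, Units.smul_def, Units.smul_def,
    ← Adjunction.homAddEquiv_apply adj X Y ((ε : ℤ) • (F.map d' ≫ b)), map_zsmul,
    Adjunction.homAddEquiv_apply, adj.homEquiv_naturality_right, adj.homEquiv_naturality_left]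

lemma δ_tr {n : ℤ} (z : Cochain ((F.mapHomologicalComplex (ComplexShape.up ℤ)).obj P) Z n)
    (m : ℤ) : δ n m (tr adj P Z z) = tr adj P Z (δ n m z) := by
  by_cases hnm : n + 1 = m
  · ext p q hpq
    rw [δ_v n m hnm _ p q hpq (q - 1) (p + 1) rfl rfl]
    simp only [tr, Cochain.mk_v]
    rw [δ_v n m hnm z p q hpq (q - 1) (p + 1) rfl rfl]
    exact aux adj _ _ _ _ _
  · rw [δ_shape _ _ hnm, δ_shape _ _ hnm, tr_zero]

include adj in
/-- if `G` maps `𝒵B` into `𝒵A`, then `F` maps the left orthogonal of `𝒵A` into that of `𝒵B` -/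
theorem leftOrth_map {𝒵A : CochainComplex A ℤ → Prop} {𝒵B : CochainComplex B ℤ → Prop}
    (hG : ∀ Z, 𝒵B Z → 𝒵A ((G.mapHomologicalComplex (ComplexShape.up ℤ)).obj Z))
    (hP : LeftOrth 𝒵A P) :
    LeftOrth 𝒵B ((F.mapHomologicalComplex (ComplexShape.up ℤ)).obj P) := by
  intro Z hZ n m hm z hz
  have hz' : δ n (n + 1) (tr adj P Z z) = 0 := by rw [δ_tr, hz, tr_zero]
  obtain ⟨y, hy⟩ := hP _ (hG Z hZ) n m hm (tr adj P Z z) hz'
  refine ⟨tr' adj P Z y, ?_⟩
  have h1 : tr adj P Z (δ m n (tr' adj P Z y)) = tr adj P Z z := by rw [← δ_tr, tr_tr', hy]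
  have h2 := congrArg (tr' adj P Z) h1
  rwa [tr'_tr, tr'_tr] at h2

section NatIso

variable {A : Type u} [Category.{v} A] [Abelian A] [HasDerivedCategory.{w} A]
  {E : Type*} [Category E]

/-- two functors on `D(A)` which receive natural transformations to a common functor on
complexes, both invertible on a resolving class of complexes, are isomorphic -/
theorem nonempty_natIso_of_natTrans (H₁ H₂ : DerivedCategory A ⥤ E)
    (R : CochainComplex A ℤ ⥤ E) (PX : CochainComplex A ℤ → Prop)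
    (hres : ∀ K : CochainComplex A ℤ, ∃ (Y : CochainComplex A ℤ) (f : Y ⟶ K),
      QuasiIso f ∧ PX Y)
    (T₁ : DerivedCategory.Q ⋙ H₁ ⟶ R) (T₂ : DerivedCategory.Q ⋙ H₂ ⟶ R)
    (h₁ : ∀ X, PX X → IsIso (T₁.app X)) (h₂ : ∀ X, PX X → IsIso (T₂.app X)) :
    Nonempty (H₁ ≅ H₂) := by
  refine ExtNatIso.nonempty_natIso H₁ H₂ PX hres
    (fun X hX => @asIso _ _ _ _ (T₁.app X) (h₁ X hX) ≪≫
      (@asIso _ _ _ _ (T₂.app X) (h₂ X hX)).symm) ?_
  intro X X' hX hX' f
  haveI := h₁ X hX
  haveI := h₁ X' hX'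
  haveI := h₂ X hX
  haveI := h₂ X' hX'
  have n1 := T₁.naturality f
  have n2 := T₂.naturality f
  dsimp at n1 n2 ⊢
  rw [← Category.assoc, n1, Category.assoc, Category.assoc]
  congr 1
  rw [IsIso.comp_inv_eq, Category.assoc, n2, IsIso.inv_hom_id_assoc]

end NatIso

end Groth.Agent.Lib.Helper6.AdjOrth
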