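import Mathlib
import Groth.Agent.Lib.Helper6.InjRes
import Groth.Agent.Lib.Helper6.ThickInj

/-!
# Injective amplitude: vanishing of `Hom(F[0], X[i])` and bounded complexes of injectives

* `hom_single_eq_zero_iff`: `∀ φ : F[0] ⟶ X⟦i⟧, φ = 0` iff `∀ ψ : F[-i] ⟶ X, ψ = 0`.
* `isZero_homology_of_vanishing`: vanishing of all maps from `singleFunctor i` kills `Hⁱ`.
* `exists_lift_of_vanishing`, `injective_cycles_of_vanishing`.
* `exists_bounded_injective_quasiIso`: truncation of a bounded below complex of injectives.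
* `hom_single_Q_eq_zero_of_isZero`.
-/

set_option autoImplicit false
universe w v u
open CategoryTheory CategoryTheory.Limits

namespace Groth.Agent.Lib.Helper6.BddInj

variable {C : Type u} [Category.{v} C] [Abelian C]

omit [Abelian C] in
lemma injective_of_retract {X Y : C} (i : X ⟶ Y) (r : Y ⟶ X) (h : i ≫ r = 𝟙 X) [Injective Y] :
    Injective X where
  factors {A B} g f _ := by
    refine ⟨Injective.factorThru (g ≫ i) f ≫ r, ?_⟩
    rw [Injective.comp_factorThru_assoc, Category.assoc, h, Category.comp_id]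

section Generic

variable {D : Type*} [Category D] [Preadditive D]

lemma eq_zero_of_iso_comp {X X' Y : D} (e : X ≅ X') (f : X' ⟶ Y) (h : e.hom ≫ f = 0) : f = 0 := by
  rwa [← cancel_epi e.hom, comp_zero]

lemma eq_zero_of_inv_comp {X X' Y : D} (e : X ≅ X') (f : X ⟶ Y) (h : e.inv ≫ f = 0) : f = 0 := by
  rwa [← cancel_epi e.inv, comp_zero]

lemma eq_zero_of_sq_right {A B A' B' : D} (a : A ≅ A') (b : B ≅ B') (f : A ⟶ B) (g : A' ⟶ B')
    (sq : f ≫ b.hom = a.hom ≫ g) (hf : f = 0) : g = 0 := by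
  rw [hf, zero_comp] at sq
  rw [← cancel_epi a.hom, comp_zero, ← sq]

lemma eq_zero_of_sq_left {A B A' B' : D} (a : A ≅ A') (b : B ≅ B') (f : A ⟶ B) (g : A' ⟶ B')
    (sq : f ≫ b.hom = a.hom ≫ g) (hg : g = 0) : f = 0 := by
  rw [hg, comp_zero] at sq
  rw [← cancel_mono b.hom, zero_comp, sq]

end Generic

section Derived

variable [HasDerivedCategory.{w} C]

open DerivedCategory

lemma hom_single_eq_zero_iff (X : DerivedCategory C) (i : ℤ) (F : C) :
    (∀ φ : (singleFunctor C 0).obj F ⟶ X⟦i⟧, φ = 0) ↔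
      ∀ ψ : (singleFunctor C i).obj F ⟶ X, ψ = 0 := by
  let e : ((singleFunctor C i).obj F)⟦i⟧ ≅ (singleFunctor C 0).obj F :=
    ((singleFunctors C).shiftIso i 0 i (by simp)).app F
  constructor
  · intro h ψ
    have h1 := h (e.inv ≫ ψ⟦i⟧')
    have h2 : ψ⟦i⟧' = 0 := by rw [← cancel_epi e.inv, h1, comp_zero]
    exact (shiftFunctor (DerivedCategory C) i).map_injective (by rw [h2, Functor.map_zero])
  · intro h φ
    obtain ⟨ψ, hψ⟩ := (shiftFunctor (DerivedCategory C) i).map_surjective (e.hom ≫ φ)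
    have : e.hom ≫ φ = 0 := by rw [← hψ, h ψ, Functor.map_zero]
    rw [← cancel_epi e.hom, this, comp_zero]

/-- the chain map from a single complex given by a cocycle -/
noncomputable def fromSingle (K : CochainComplex C ℤ) (m : ℤ) {Y : C} (u : Y ⟶ K.X m)
    (hu : u ≫ K.d m (m + 1) = 0) :
    (HomologicalComplex.single C (ComplexShape.up ℤ) m).obj Y ⟶ K :=
  HomologicalComplex.mkHomFromSingle u (fun k hk => by
    have hk' : m + 1 = k := hk
    subst hk'
    exact hu)

lemma Q_map_fromSingle_eq_zero (K : CochainComplex C ℤ) (m : ℤ)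
    (h : ∀ (F : C) (ψ : (singleFunctor C m).obj F ⟶ Q.obj K), ψ = 0)
    {Y : C} (u : Y ⟶ K.X m) (hu : u ≫ K.d m (m + 1) = 0) :
    Q.map (fromSingle K m u hu) = 0 := by
  have := h Y ((singleFunctorIsoCompQ C m).hom.app Y ≫ Q.map (fromSingle K m u hu))
  exact eq_zero_of_iso_comp ((singleFunctorIsoCompQ C m).app Y) _ this

lemma isZero_homology_of_vanishing (K : CochainComplex C ℤ) (i : ℤ)
    (h : ∀ (F : C) (ψ : (singleFunctor C i).obj F ⟶ Q.obj K), ψ = 0) :
    IsZero (K.homology i) := by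
  let ψ₀ := fromSingle K i (K.iCycles i) (by simp)
  let S := (HomologicalComplex.single C (ComplexShape.up ℤ) i).obj (K.cycles i)
  have h0 : Q.map ψ₀ = 0 := Q_map_fromSingle_eq_zero K i h _ _
  have h1 : HomologicalComplex.homologyMap ψ₀ i = 0 := by
    have nat := (homologyFunctorFactors C i).hom.naturality ψ₀
    have h0' : (homologyFunctor C i).map (Q.map ψ₀) = 0 := by rw [h0, Functor.map_zero]
    exact eq_zero_of_sq_right ((homologyFunctorFactors C i).app S)
      ((homologyFunctorFactors C i).app K) _ _ nat h0'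
  have h2 : HomologicalComplex.cyclesMap ψ₀ i ≫ K.homologyπ i = 0 := by
    rw [← HomologicalComplex.homologyπ_naturality, h1, comp_zero]
  have h3 : IsIso (S.iCycles i) := S.isIso_iCycles i (i + 1) (by simp) (by simp [S])
  have h4 : HomologicalComplex.cyclesMap ψ₀ i =
      S.iCycles i ≫ (HomologicalComplex.singleObjXSelf (ComplexShape.up ℤ) i (K.cycles i)).hom := by
    rw [← cancel_mono (K.iCycles i), HomologicalComplex.cyclesMap_i, Category.assoc]
    congr 1
    simp [ψ₀, fromSingle]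
  have h5 : IsIso (HomologicalComplex.cyclesMap ψ₀ i) := by rw [h4]; infer_instance
  have h6 : K.homologyπ i = 0 := by
    rw [← cancel_epi (HomologicalComplex.cyclesMap ψ₀ i), h2, comp_zero]
  exact IsZero.of_epi_eq_zero _ h6

lemma exists_lift_of_vanishing (J : CochainComplex C ℤ) [J.IsKInjective] (m' m : ℤ)
    (hm : m' + 1 = m)
    (h : ∀ (F : C) (ψ : (singleFunctor C m).obj F ⟶ Q.obj J), ψ = 0)
    {Y : C} (u : Y ⟶ J.X m) (hu : u ≫ J.d m (m + 1) = 0) :
    ∃ v : Y ⟶ J.X m', v ≫ J.d m' m = u := by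
  let ψ₀ := fromSingle J m u hu
  have h0 : Q.map ψ₀ = 0 := Q_map_fromSingle_eq_zero J m h _ _
  have h1 : Qh.map ((HomotopyCategory.quotient C (ComplexShape.up ℤ)).map ψ₀) =
      Qh.map (0 : (HomotopyCategory.quotient C (ComplexShape.up ℤ)).obj _ ⟶
        (HomotopyCategory.quotient C (ComplexShape.up ℤ)).obj J) := by
    have nat := (quotientCompQhIso C).hom.naturality ψ₀
    rw [Functor.map_zero]
    exact eq_zero_of_sq_left ((quotientCompQhIso C).app _) ((quotientCompQhIso C).app J) _ _ nat h0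
  have h2 := (CochainComplex.IsKInjective.Qh_map_bijective _ J).injective h1
  have H : Homotopy ψ₀ 0 := HomotopyCategory.homotopyOfEq _ _ (by simpa using h2)
  have hc := H.comm m
  have hrel : (ComplexShape.up ℤ).Rel m' m := hm
  have hrel' : (ComplexShape.up ℤ).Rel m (m + 1) := rfl
  rw [prevD_eq H.hom hrel, dNext_eq H.hom hrel'] at hc
  have hd : ((HomologicalComplex.single C (ComplexShape.up ℤ) m).obj Y).d m (m + 1) = 0 := by simp
  rw [hd, zero_comp, zero_add, HomologicalComplex.zero_f, add_zero] at hc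
  have hf : ψ₀.f m = (HomologicalComplex.singleObjXSelf (ComplexShape.up ℤ) m Y).hom ≫ u := by
    simp [ψ₀, fromSingle]
  refine ⟨(HomologicalComplex.singleObjXSelf (ComplexShape.up ℤ) m Y).inv ≫ H.hom m m', ?_⟩
  rw [Category.assoc, ← hc, hf, Iso.inv_hom_id_assoc]

lemma injective_cycles_of_vanishing (J : CochainComplex C ℤ) [J.IsKInjective]
    [∀ n, Injective (J.X n)] (n : ℤ)
    (h : ∀ (F : C) (ψ : (singleFunctor C (n + 1)).obj F ⟶ Q.obj J), ψ = 0) :
    Injective (J.cycles n) := by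
  obtain ⟨s, hs⟩ := exists_lift_of_vanishing J n (n + 1) rfl h (J.iCycles (n + 1)) (by simp)
  have hs' : s ≫ J.toCycles n (n + 1) = 𝟙 _ := by
    rw [← cancel_mono (J.iCycles (n + 1)), Category.assoc, J.toCycles_i, hs, Category.id_comp]
  have hz : J.iCycles n ≫ J.toCycles n (n + 1) = 0 := by
    rw [← cancel_mono (J.iCycles (n + 1)), Category.assoc, J.toCycles_i, zero_comp,
      J.iCycles_d]
  let ρ : J.X n ⟶ J.cycles n := J.liftCycles (𝟙 _ - J.toCycles n (n + 1) ≫ s) (n + 1) (by simp)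
    (by rw [Preadditive.sub_comp, Category.id_comp, Category.assoc, hs, J.toCycles_i, sub_self])
  have hρ : J.iCycles n ≫ ρ = 𝟙 _ := by
    rw [← cancel_mono (J.iCycles n), Category.assoc, J.liftCycles_i, Preadditive.comp_sub,
      Category.comp_id, reassoc_of% hz, zero_comp, sub_zero, Category.id_comp]
  exact injective_of_retract (J.iCycles n) ρ hρ

theorem exists_bounded_injective_quasiIso (J : CochainComplex C ℤ) (a n : ℤ) (han : a ≤ n)
    [J.IsStrictlyGE a] [∀ k, Injective (J.X k)]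
    (h : ∀ (m : ℤ), n < m → ∀ (F : C) (ψ : (singleFunctor C m).obj F ⟶ Q.obj J), ψ = 0) :
    ∃ (I : CochainComplex C ℤ) (g : J ⟶ I), I.IsStrictlyGE a ∧ I.IsStrictlyLE n ∧
      (∀ k, Injective (I.X k)) ∧ QuasiIso g := by
  have hJ : J.IsKInjective := CochainComplex.isKInjective_of_injective J a
  have hLE : J.IsLE n := by
    rw [CochainComplex.isLE_iff]
    intro i hi
    rw [HomologicalComplex.exactAt_iff_isZero_homology]
    exact isZero_homology_of_vanishing J i (h i hi)
  let I := J.truncLE n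
  have hI1 : I.IsStrictlyGE a := by
    rw [CochainComplex.isStrictlyGE_iff]
    intro i hi
    exact (J.isZero_of_isStrictlyGE a i hi).of_iso (J.truncLEXIso n i (by lia))
  have hI2 : I.IsStrictlyLE n := inferInstance
  have hI3 : ∀ k, Injective (I.X k) := by
    intro k
    obtain hk | rfl | hk := lt_trichotomy k n
    · exact Injective.of_iso (J.truncLEXIso n k hk).symm inferInstance
    · have := injective_cycles_of_vanishing J k (h (k + 1) (by lia))
      exact Injective.of_iso (J.truncLEXIsoCycles k).symm inferInstance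
    · exact (I.isZero_of_isStrictlyLE n k hk).injective
  have hI : I.IsKInjective := CochainComplex.isKInjective_of_injective I a
  have hq : QuasiIso (J.ιTruncLE n) := inferInstance
  obtain ⟨e, he⟩ := (CochainComplex.IsKInjective.quasiIso_iff (J.ιTruncLE n)).mp hq
  exact ⟨I, e.inv, hI1, hI2, hI3, inferInstance⟩

lemma hom_single_Q_eq_zero_of_isZero (I : CochainComplex C ℤ) [I.IsKInjective] (i : ℤ)
    (hI : IsZero (I.X i)) (Y : C) (ψ : (singleFunctor C i).obj Y ⟶ Q.obj I) : ψ = 0 := by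
  let S := (HomologicalComplex.single C (ComplexShape.up ℤ) i).obj Y
  let ψ' : Qh.obj ((HomotopyCategory.quotient C (ComplexShape.up ℤ)).obj S) ⟶
      Qh.obj ((HomotopyCategory.quotient C (ComplexShape.up ℤ)).obj I) :=
    (quotientCompQhIso C).hom.app S ≫ (singleFunctorIsoCompQ C i).inv.app Y ≫ ψ ≫
      (quotientCompQhIso C).inv.app I
  obtain ⟨f, hf⟩ := (CochainComplex.IsKInjective.Qh_map_bijective _ I).surjective ψ'
  obtain ⟨f₀, rfl⟩ := (HomotopyCategory.quotient C (ComplexShape.up ℤ)).map_surjective f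
  have hf₀ : f₀ = 0 := by
    apply HomologicalComplex.from_single_hom_ext
    exact hI.eq_of_tgt _ _
  rw [hf₀, Functor.map_zero, Functor.map_zero] at hf
  have h1 : (singleFunctorIsoCompQ C i).inv.app Y ≫ ψ ≫ (quotientCompQhIso C).inv.app I = 0 :=
    eq_zero_of_iso_comp ((quotientCompQhIso C).app S) _ hf.symm
  have h2 : ((singleFunctorIsoCompQ C i).inv.app Y ≫ ψ) ≫ (quotientCompQhIso C).inv.app I = 0 := by
    rw [Category.assoc]; exact h1
  have h3 : (singleFunctorIsoCompQ C i).inv.app Y ≫ ψ = 0 := by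
    rw [← cancel_mono ((quotientCompQhIso C).inv.app I), zero_comp]; exact h2
  exact eq_zero_of_inv_comp ((singleFunctorIsoCompQ C i).app Y) _ h3

/-- characterization of objects of `D(C)` represented by bounded complexes of injectives. -/
theorem exists_iso_Q_bounded_injective_iff [EnoughInjectives C] (X : DerivedCategory C) :
    (∃ (I : CochainComplex C ℤ) (b c : ℤ), I.IsStrictlyGE b ∧ I.IsStrictlyLE c ∧
        (∀ n : ℤ, Injective (I.X n)) ∧ Nonempty (X ≅ Q.obj I)) ↔
      (∃ a : ℤ, X.IsGE a) ∧ ∃ n₀ : ℤ, ∀ (m : ℤ), n₀ < m → ∀ (F : C)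
        (ψ : (singleFunctor C m).obj F ⟶ X), ψ = 0 := by
  constructor
  · rintro ⟨I, b, c, hb, hc, hI, ⟨e⟩⟩
    have hKI : I.IsKInjective := CochainComplex.isKInjective_of_injective I b
    refine ⟨⟨b, ?_⟩, c, fun m hm F ψ => ?_⟩
    · have h1 : I.IsGE b := inferInstance
      have h2 : (Q.obj I).IsGE b := by rw [DerivedCategory.isGE_Q_obj_iff]; exact h1
      exact TStructure.t.isGE_of_iso e.symm b
    · have h2 := hom_single_Q_eq_zero_of_isZero I m (I.isZero_of_isStrictlyLE c m hm) F (ψ ≫ e.hom)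
      rw [← cancel_mono e.hom, h2, zero_comp]
  · rintro ⟨⟨a, ha⟩, n₀, h⟩
    obtain ⟨J, hJ, hJ', ⟨e⟩⟩ := ThickInj.exists_iso_Q_injective X a
    have hvJ : ∀ (m : ℤ), max n₀ a < m → ∀ (F : C)
        (ψ : (singleFunctor C m).obj F ⟶ Q.obj J), ψ = 0 := by
      intro m hm F ψ
      have h2 := h m (by lia) F (ψ ≫ e.inv)
      rw [← cancel_mono e.inv, h2, zero_comp]
    obtain ⟨I, g, hI1, hI2, hI3, hg⟩ :=
      exists_bounded_injective_quasiIso J a (max n₀ a) (le_max_right _ _) hvJ
    have : IsIso (Q.map g) := by rw [isIso_Q_map_iff_quasiIso]; exact hg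
    exact ⟨I, a, max n₀ a, hI1, hI2, hI3, ⟨e ≪≫ asIso (Q.map g)⟩⟩

end Derived

end Groth.Agent.Lib.Helper6.BddInj
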