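import Mathlib
import Groth.Agent.Lib.Helper6.CellOrth

/-!
# Bounded complexes of relatively projective objects are in the left orthogonal (helper6)

`leftOrth_of_bounded`: a bounded complex whose terms are projective relatively to `𝒵` belongs to
`LeftOrth 𝒵`.
-/

set_option autoImplicit false
set_option linter.unusedSectionVars false
universe v u
open CategoryTheory CategoryTheory.Limits CochainComplex HomComplex

namespace Groth.Agent.Lib.Helper6.BddOrth

open Groth.Agent.Lib.Helper6.CellOrth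

variable {A : Type u} [Category.{v} A] [Abelian A] {𝒵 : CochainComplex A ℤ → Prop}
  (P Z : CochainComplex A ℤ)

/-- the cochain of degree `m` with a single non-zero component `v` at `p₀` -/
noncomputable def singleCochain (m p₀ : ℤ) (v : P.X p₀ ⟶ Z.X (p₀ + m)) : Cochain P Z m :=
  Cochain.mk (fun p q hpq => if h : p = p₀ then
    (P.XIsoOfEq h).hom ≫ v ≫ (Z.XIsoOfEq (show p₀ + m = q by rw [← hpq, h])).hom else 0)

lemma singleCochain_v_self (m p₀ : ℤ) (v : P.X p₀ ⟶ Z.X (p₀ + m)) (q : ℤ) (hq : p₀ + m = q) :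
    (singleCochain P Z m p₀ v).v p₀ q hq = v ≫ (Z.XIsoOfEq hq).hom := by
  simp [singleCochain]

lemma singleCochain_v_ne (m p₀ : ℤ) (v : P.X p₀ ⟶ Z.X (p₀ + m)) (p q : ℤ) (hpq : p + m = q)
    (hp : p ≠ p₀) : (singleCochain P Z m p₀ v).v p q hpq = 0 := by
  simp [singleCochain, hp]

variable {P Z}

lemma step (hZ : 𝒵 Z) (n m : ℤ) (hm : m + 1 = n) (p₀ : ℤ) (hp₀ : RelProj 𝒵 (P.X p₀))
    (r : Cochain P Z n) (hr : δ n (n + 1) r = 0)
    (hvan : ∀ (p q : ℤ) (hpq : p + n = q), p₀ < p → r.v p q hpq = 0) :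
    ∃ c : Cochain P Z m, ∀ (p q : ℤ) (hpq : p + n = q), p₀ ≤ p →
      (r - δ m n c).v p q hpq = 0 := by
  have hcyc : r.v p₀ (p₀ + n) rfl ≫ Z.d (p₀ + n) (p₀ + n + 1) = 0 := by
    have h := Cochain.congr_v hr p₀ (p₀ + n + 1) (by lia)
    rw [δ_v n (n + 1) rfl r p₀ (p₀ + n + 1) (by lia) (p₀ + n) (p₀ + 1) (by lia) rfl,
      hvan (p₀ + 1) (p₀ + n + 1) (by lia) (by lia)] at h
    simpa using h
  obtain ⟨v, hv⟩ := hp₀ Z hZ (p₀ + m) (p₀ + n) (by lia) (r.v p₀ (p₀ + n) rfl) hcyc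
  refine ⟨singleCochain P Z m p₀ v, ?_⟩
  intro p q hpq hp
  rw [Cochain.sub_v, δ_v m n hm _ p q hpq (q - 1) (p + 1) rfl rfl]
  by_cases h : p = p₀
  · subst h
    obtain rfl : q = p + n := hpq.symm
    rw [singleCochain_v_self P Z m p v (p + n - 1) (by lia),
      singleCochain_v_ne P Z m p v (p + 1) (p + n) (by lia) (by lia), comp_zero, smul_zero,
      add_zero, Category.assoc, HomologicalComplex.XIsoOfEq_hom_comp_d, hv, sub_self]
  · rw [singleCochain_v_ne P Z m p₀ v p (q - 1) (by lia) h,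
      singleCochain_v_ne P Z m p₀ v (p + 1) q (by lia) (by lia), zero_comp, comp_zero, smul_zero,
      add_zero, sub_zero]
    exact hvan p q hpq (lt_of_le_of_ne hp (Ne.symm h))

lemma aux (hZ : 𝒵 Z) (n m : ℤ) (hm : m + 1 = n) (a : ℤ) (hlow : ∀ p, p < a → IsZero (P.X p))
    (hP : ∀ p, RelProj 𝒵 (P.X p)) :
    ∀ (N : ℕ) (r : Cochain P Z n), δ n (n + 1) r = 0 →
      (∀ (p q : ℤ) (hpq : p + n = q), a + N ≤ p → r.v p q hpq = 0) →
      ∃ y : Cochain P Z m, δ m n y = r := by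
  intro N
  induction N with
  | zero =>
    intro r _ hvan
    refine ⟨0, ?_⟩
    rw [δ_zero]
    ext p q hpq
    by_cases hp : p < a
    · exact (hlow p hp).eq_of_src _ _
    · rw [Cochain.zero_v]
      exact (hvan p q hpq (by simpa using not_lt.1 hp)).symm
  | succ N ih =>
    intro r hr hvan
    obtain ⟨c, hc⟩ := step hZ n m hm (a + N) (hP _) r hr
      (fun p q hpq hp => hvan p q hpq (by push_cast; lia))
    obtain ⟨y', hy'⟩ := ih (r - δ m n c) (by rw [δ_sub, hr, δ_δ, sub_zero]) hc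
    exact ⟨y' + c, by rw [δ_add, hy', sub_add_cancel]⟩

/-- bounded complexes of relatively projective objects belong to the left orthogonal -/
theorem leftOrth_of_bounded (P : CochainComplex A ℤ) (a b : ℤ)
    (hlow : ∀ p, p < a → IsZero (P.X p)) (hup : ∀ p, b < p → IsZero (P.X p))
    (hP : ∀ p, RelProj 𝒵 (P.X p)) : LeftOrth 𝒵 P := by
  intro Z hZ n m hm z hz
  refine aux hZ n m hm a hlow hP (b + 1 - a).toNat z hz ?_
  intro p q hpq hp
  refine (hup p ?_).eq_of_src _ _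
  have := Int.self_le_toNat (b + 1 - a)
  lia

end Groth.Agent.Lib.Helper6.BddOrth
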