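import Groth.Agent.S0984
import Mathlib.CategoryTheory.Triangulated.Opposite.Pretriangulated
import Mathlib.CategoryTheory.Triangulated.HomologicalFunctor
import Mathlib.Algebra.Category.Grp.Basic
import Mathlib.Algebra.Category.Grp.Abelian
import Mathlib.Algebra.Category.Grp.Biproducts
import Mathlib.Algebra.Homology.ShortComplex.Ab
import Mathlib.CategoryTheory.Limits.Shapes.Opposites.Products
import Mathlib.CategoryTheory.Limits.EssentiallySmall

/-!
# Brown representability for compactly generated triangulated categories (helper6 library)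
-/

set_option autoImplicit false
set_option linter.unusedSectionVars false
universe w v u

open CategoryTheory CategoryTheory.Limits CategoryTheory.Pretriangulated
  CategoryTheory.Pretriangulated.Opposite Opposite ZeroObject

namespace Groth.Agent.Lib.Helper6.Brown

variable {D : Type u} [Category.{v} D] [Preadditive D] [HasZeroObject D] [HasShift D ℤ]
  [∀ n : ℤ, (shiftFunctor D n).Additive] [Pretriangulated D]
  (H : Dᵒᵖ ⥤ AddCommGrpCat.{v})

section exact

variable [H.IsHomological]

/-- half-exactness of `H` on elements -/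
lemma H_exact (T : Triangle D) (hT : T ∈ distTriang D) (b : H.obj (op T.obj₂))
    (hb : H.map T.mor₁.op b = 0) : ∃ c : H.obj (op T.obj₃), H.map T.mor₂.op c = b := by
  have := H.map_distinguished_op_exact T hT
  rw [ShortComplex.ab_exact_iff] at this
  exact this b hb

lemma H_map_add {X Y : D} (f g : X ⟶ Y) (a : H.obj (op Y)) :
    H.map (f + g).op a = H.map f.op a + H.map g.op a := by
  rw [op_add, Functor.map_add]
  rfl

lemma H_map_sub {X Y : D} (f g : X ⟶ Y) (a : H.obj (op Y)) :
    H.map (f - g).op a = H.map f.op a - H.map g.op a := by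
  rw [op_sub, Functor.map_sub]
  rfl

lemma H_map_zero {X Y : D} (a : H.obj (op Y)) :
    H.map (0 : X ⟶ Y).op a = 0 := by
  rw [op_zero, Functor.map_zero]
  rfl

end exact

lemma H_map_comp {X Y Z : D} (f : X ⟶ Y) (g : Y ⟶ Z) (a : H.obj (op Z)) :
    H.map (f ≫ g).op a = H.map f.op (H.map g.op a) := by
  rw [op_comp, Functor.map_comp]
  rfl

lemma H_map_id {X : D} (a : H.obj (op X)) : H.map (𝟙 X).op a = a := by
  rw [op_id, CategoryTheory.Functor.map_id]
  rfl

section products

variable [HasCoproducts.{v} D] [∀ (κ : Type v), PreservesLimitsOfShape (Discrete κ) H]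

/-- `H` sends coproducts to products: the comparison isomorphism -/
noncomputable def prodIso {κ : Type v} (X : κ → D) :
    H.obj (op (∐ X)) ≅ AddCommGrpCat.of (∀ k, H.obj (op (X k))) :=
  IsLimit.conePointUniqueUpToIso
    ((isLimitMapConeFanMkEquiv H (fun k => op (X k)) (fun k => (Sigma.ι X k).op))
      (isLimitOfPreserves H (Cofan.IsColimit.op (coproductIsCoproduct X))))
    (AddCommGrpCat.HasLimit.productLimitCone (fun k => H.obj (op (X k)))).isLimit

lemma prodIso_hom_apply {κ : Type v} (X : κ → D) (b : H.obj (op (∐ X))) (k : κ) :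
    (prodIso H X).hom b k = H.map (Sigma.ι X k).op b := by
  have := IsLimit.conePointUniqueUpToIso_hom_comp
    ((isLimitMapConeFanMkEquiv H (fun k => op (X k)) (fun k => (Sigma.ι X k).op))
      (isLimitOfPreserves H (Cofan.IsColimit.op (coproductIsCoproduct X))))
    (AddCommGrpCat.HasLimit.productLimitCone (fun k => H.obj (op (X k)))).isLimit ⟨k⟩
  exact congrArg (fun f => f b) (congrArg (fun f => (ConcreteCategory.hom f : _ → _)) this)

lemma H_prod_surj {κ : Type v} (X : κ → D) (a : ∀ k, H.obj (op (X k))) :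
    ∃ b : H.obj (op (∐ X)), ∀ k, H.map (Sigma.ι X k).op b = a k := by
  refine ⟨(prodIso H X).inv a, fun k => ?_⟩
  rw [← prodIso_hom_apply]
  have : (prodIso H X).hom ((prodIso H X).inv a) = a := by
    change ((prodIso H X).inv ≫ (prodIso H X).hom) a = a
    rw [Iso.inv_hom_id]
    rfl
  rw [this]

lemma H_prod_inj {κ : Type v} (X : κ → D) (b b' : H.obj (op (∐ X)))
    (h : ∀ k, H.map (Sigma.ι X k).op b = H.map (Sigma.ι X k).op b') : b = b' := by
  have h1 : (prodIso H X).hom b = (prodIso H X).hom b' := by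
    funext k
    rw [prodIso_hom_apply, prodIso_hom_apply, h k]
  have : ∀ c : H.obj (op (∐ X)), (prodIso H X).inv ((prodIso H X).hom c) = c := by
    intro c
    change ((prodIso H X).hom ≫ (prodIso H X).inv) c = c
    rw [Iso.hom_inv_id]
    rfl
  rw [← this b, ← this b', h1]

/-- version for index types in any universe which are `v`-small -/
lemma H_prod_surj' {κ : Type w} [Small.{v} κ] (X : κ → D) [HasCoproduct X]
    (a : ∀ k, H.obj (op (X k))) :
    ∃ b : H.obj (op (∐ X)), ∀ k, H.map (Sigma.ι X k).op b = a k := by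
  let e := (equivShrink.{v} κ).symm
  obtain ⟨b', hb'⟩ := H_prod_surj H (X ∘ e) (fun k' => a (e k'))
  refine ⟨H.map (Sigma.reindex e X).inv.op b', fun k => ?_⟩
  obtain ⟨k', rfl⟩ := e.surjective k
  rw [← H_map_comp, Sigma.ι_reindex_inv]
  exact hb' k'

lemma H_prod_inj' {κ : Type w} [Small.{v} κ] (X : κ → D) [HasCoproduct X]
    (b b' : H.obj (op (∐ X)))
    (h : ∀ k, H.map (Sigma.ι X k).op b = H.map (Sigma.ι X k).op b') : b = b' := by
  let e := (equivShrink.{v} κ).symm
  have h1 : H.map (Sigma.reindex e X).hom.op b = H.map (Sigma.reindex e X).hom.op b' := by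
    apply H_prod_inj H (X ∘ e)
    intro k'
    rw [← H_map_comp, ← H_map_comp, Sigma.ι_reindex_hom]
    exact h (e k')
  have h2 : ∀ c : H.obj (op (∐ X)),
      H.map (Sigma.reindex e X).inv.op (H.map (Sigma.reindex e X).hom.op c) = c := by
    intro c
    rw [← H_map_comp, Iso.inv_hom_id, H_map_id]
  rw [← h2 b, ← h2 b', h1]

end products

section comparison

variable [HasCoproducts.{v} D] [H.IsHomological]
  [∀ (κ : Type v), PreservesLimitsOfShape (Discrete κ) H]
variable {L : D} (α : H.obj (op L))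

/-- the comparison map `Hom(C, L) → H(C)` attached to an element `α ∈ H(L)` -/
def T (C : D) (φ : C ⟶ L) : H.obj (op C) := H.map φ.op α

lemma T_nat {C C' : D} (u : C' ⟶ C) (φ : C ⟶ L) :
    T H α C' (u ≫ φ) = H.map u.op (T H α C φ) := H_map_comp H u φ α

lemma T_add {C : D} (φ ψ : C ⟶ L) : T H α C (φ + ψ) = T H α C φ + T H α C ψ :=
  H_map_add H φ ψ α

lemma T_sub {C : D} (φ ψ : C ⟶ L) : T H α C (φ - ψ) = T H α C φ - T H α C ψ :=
  H_map_sub H φ ψ α

lemma T_zero {C : D} : T H α C 0 = 0 := H_map_zero H α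

lemma T_injective_iff {C : D} :
    Function.Injective (T H α C) ↔ ∀ φ : C ⟶ L, T H α C φ = 0 → φ = 0 := by
  constructor
  · intro h φ hφ
    exact h (hφ.trans (T_zero H α).symm)
  · intro h φ ψ hφψ
    rw [← sub_eq_zero]
    apply h
    rw [T_sub, hφψ, sub_self]

/-- `T` is bijective at `C` -/
def Good (C : D) : Prop := Function.Bijective (T H α C)

lemma good_of_iso {C C' : D} (e : C ≅ C') (h : Good H α C') : Good H α C := by
  constructor
  · rw [T_injective_iff]
    intro φ hφ
    have : e.inv ≫ φ = 0 := by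
      apply (T_injective_iff H α).1 h.1
      rw [T_nat, hφ, map_zero]
    rw [← cancel_epi e.inv, this, comp_zero]
  · intro b
    obtain ⟨ψ, hψ⟩ := h.2 (H.map e.inv.op b)
    refine ⟨e.hom ≫ ψ, ?_⟩
    rw [T_nat, hψ, ← H_map_comp, e.hom_inv_id, H_map_id]

lemma good_of_isZero {C : D} (hC : IsZero C) : Good H α C := by
  constructor
  · intro φ ψ _
    exact hC.eq_of_src _ _
  · intro b
    refine ⟨0, ?_⟩
    rw [T_zero, ← H_map_id H b, hC.eq_of_src (𝟙 C) 0, H_map_zero]

lemma good_coprod {κ : Type w} [Small.{v} κ] (X : κ → D) [HasCoproduct X]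
    (h : ∀ k, Good H α (X k)) : Good H α (∐ X) := by
  constructor
  · intro φ ψ hφψ
    refine Sigma.hom_ext _ _ fun k => (h k).1 ?_
    rw [T_nat, T_nat, hφψ]
  · intro b
    choose φ hφ using fun k => (h k).2 (H.map (Sigma.ι X k).op b)
    refine ⟨Sigma.desc φ, H_prod_inj' H X _ _ fun k => ?_⟩
    rw [← T_nat, Sigma.ι_desc, hφ]

/-- the five lemma step -/
lemma good_ext₂ (Tr : Triangle D) (hTr : Tr ∈ distTriang D)
    (h₁ : Good H α Tr.obj₁) (h₃ : Good H α Tr.obj₃)
    (h₁' : Function.Surjective (T H α ((shiftFunctor D (1 : ℤ)).obj Tr.obj₁)))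
    (h₃' : Function.Injective (T H α Tr.invRotate.obj₁)) : Good H α Tr.obj₂ := by
  constructor
  · rw [T_injective_iff]
    intro φ hφ
    have h1 : Tr.mor₁ ≫ φ = 0 := by
      apply (T_injective_iff H α).1 h₁.1
      rw [T_nat, hφ, map_zero]
    obtain ⟨ψ, rfl⟩ := Triangle.yoneda_exact₂ Tr hTr φ h1
    have h2 : H.map Tr.mor₂.op (T H α _ ψ) = 0 := by rw [← T_nat, hφ]
    obtain ⟨b, hb⟩ := H_exact H Tr.rotate (rot_of_distTriang _ hTr) (T H α _ ψ) h2
    obtain ⟨χ, rfl⟩ := h₁' b
    have h3 : ψ = Tr.mor₃ ≫ χ := by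
      apply h₃.1
      rw [T_nat]
      exact hb.symm
    rw [h3, ← Category.assoc, comp_distTriang_mor_zero₂₃ _ hTr, zero_comp]
  · intro b
    obtain ⟨α', hα'⟩ := h₁.2 (H.map Tr.mor₁.op b)
    have hinv := inv_rot_of_distTriang _ hTr
    let w : Tr.invRotate.obj₁ ⟶ Tr.obj₁ := Tr.invRotate.mor₁
    have hw : w ≫ Tr.mor₁ = 0 := comp_distTriang_mor_zero₁₂ _ hinv
    have h1 : w ≫ α' = 0 := by
      apply (T_injective_iff H α).1 h₃'
      rw [T_nat H α w α', hα', ← H_map_comp, hw, H_map_zero]
    obtain ⟨φ₀, hφ₀⟩ : ∃ φ₀ : Tr.obj₂ ⟶ L, α' = Tr.mor₁ ≫ φ₀ :=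
      Triangle.yoneda_exact₂ _ hinv α' h1
    have h2 : H.map Tr.mor₁.op (b - T H α _ φ₀) = 0 := by
      rw [map_sub, ← T_nat, ← hφ₀, hα', sub_self]
    obtain ⟨c, hc⟩ := H_exact H Tr hTr _ h2
    obtain ⟨ψ, rfl⟩ := h₃.2 c
    refine ⟨φ₀ + Tr.mor₂ ≫ ψ, ?_⟩
    rw [T_add, T_nat, hc]
    abel

/-- `T` is bijective at all shifts of `C` -/
def VeryGood (C : D) : Prop := ∀ n : ℤ, Good H α ((shiftFunctor D n).obj C)

lemma veryGood_of_iso {C C' : D} (e : C ≅ C') (h : VeryGood H α C') : VeryGood H α C :=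
  fun n => good_of_iso H α ((shiftFunctor D n).mapIso e) (h n)

lemma veryGood_shift {C : D} (h : VeryGood H α C) (a : ℤ) :
    VeryGood H α ((shiftFunctor D a).obj C) :=
  fun n => good_of_iso H α ((shiftFunctorAdd' D a n (a + n) rfl).app C).symm (h (a + n))

lemma veryGood_of_isZero {C : D} (hC : IsZero C) : VeryGood H α C :=
  fun n => good_of_isZero H α ((shiftFunctor D n).map_isZero hC)

lemma veryGood_coprod {κ : Type w} [Small.{v} κ] (X : κ → D) [HasCoproduct X]
    (h : ∀ k, VeryGood H α (X k)) : VeryGood H α (∐ X) := by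
  intro n
  have := hasCoproductsOfShape_of_small.{v} D κ
  exact good_of_iso H α (PreservesCoproduct.iso (shiftFunctor D n) X)
    (good_coprod H α _ fun k => h k n)

lemma veryGood_ext₂ (Tr : Triangle D) (hTr : Tr ∈ distTriang D)
    (h₁ : VeryGood H α Tr.obj₁) (h₃ : VeryGood H α Tr.obj₃) : VeryGood H α Tr.obj₂ := by
  intro n
  exact good_ext₂ H α ((Triangle.shiftFunctor D n).obj Tr) (Triangle.shift_distinguished Tr hTr n)
    (h₁ n) (h₃ n) (veryGood_shift H α h₁ n 1).2 (veryGood_shift H α h₃ n (-1)).1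

instance : ObjectProperty.IsClosedUnderIsomorphisms (VeryGood H α) where
  of_iso e h := veryGood_of_iso H α e.symm h

instance : ObjectProperty.IsTriangulated (VeryGood H α) where
  exists_zero := ⟨0, isZero_zero D, veryGood_of_isZero H α (isZero_zero D)⟩
  isStableUnderShiftBy n := ⟨fun _ hK => veryGood_shift H α hK n⟩
  ext₂' Tr hTr h₁ h₃ := ObjectProperty.le_isoClosure _ _ (veryGood_ext₂ H α Tr hTr h₁ h₃)

end comparison

section tower

variable [HasCoproducts.{v} D] [H.IsHomological]
  [∀ (κ : Type v), PreservesLimitsOfShape (Discrete κ) H]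
  {ι : Type v} (E : ι → D)

/-- a stage of the tower: an object with an element of `H` -/
structure Stage where
  /-- the object -/
  obj : D
  /-- the element -/
  elt : H.obj (op obj)

variable {H}

/-- index type for the relations at a stage -/
def Rel (S : Stage H) : Type v :=
  Σ (i : ι) (m : ℤ), {ψ : (shiftFunctor D m).obj (E i) ⟶ S.obj // H.map ψ.op S.elt = 0}

/-- the map from the sum of relations -/
noncomputable def relMap (S : Stage H) :
    (∐ fun k : Rel E S => (shiftFunctor D k.2.1).obj (E k.1)) ⟶ S.obj :=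
  Sigma.desc (fun k => k.2.2.1)

lemma H_relMap (S : Stage H) : H.map (relMap E S).op S.elt = 0 := by
  apply H_prod_inj H
  intro k
  rw [← H_map_comp, relMap, Sigma.ι_desc, map_zero]
  exact k.2.2.2

lemma exists_next (S : Stage H) :
    ∃ (K' : D) (f : S.obj ⟶ K')
      (z : K' ⟶ (shiftFunctor D (1 : ℤ)).obj
        (∐ fun k : Rel E S => (shiftFunctor D k.2.1).obj (E k.1)))
      (a' : H.obj (op K')), Triangle.mk (relMap E S) f z ∈ distTriang D ∧
        H.map f.op a' = S.elt := by
  obtain ⟨K', f, z, hT⟩ := distinguished_cocone_triangle (relMap E S)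
  obtain ⟨a', ha'⟩ := H_exact H _ hT S.elt (H_relMap E S)
  exact ⟨K', f, z, a', hT, ha'⟩

/-- the next stage -/
noncomputable def next (S : Stage H) : Stage H :=
  ⟨(exists_next E S).choose, (exists_next E S).choose_spec.choose_spec.choose_spec.choose⟩

/-- the transition map -/
noncomputable def nextMap (S : Stage H) : S.obj ⟶ (next E S).obj :=
  (exists_next E S).choose_spec.choose

lemma nextMap_elt (S : Stage H) : H.map (nextMap E S).op (next E S).elt = S.elt :=
  (exists_next E S).choose_spec.choose_spec.choose_spec.choose_spec.2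

lemma relMap_nextMap (S : Stage H) : relMap E S ≫ nextMap E S = 0 :=
  comp_distTriang_mor_zero₁₂ _ (exists_next E S).choose_spec.choose_spec.choose_spec.choose_spec.1

variable (H)

/-- the initial stage -/
noncomputable def stage0 : Stage H :=
  ⟨∐ fun k : (Σ (i : ι) (m : ℤ), H.obj (op ((shiftFunctor D m).obj (E i)))) =>
      (shiftFunctor D k.2.1).obj (E k.1),
    (H_prod_surj H _ (fun k => k.2.2)).choose⟩

lemma stage0_elt (k : Σ (i : ι) (m : ℤ), H.obj (op ((shiftFunctor D m).obj (E i)))) :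
    H.map (Sigma.ι (fun k : (Σ (i : ι) (m : ℤ), H.obj (op ((shiftFunctor D m).obj (E i)))) =>
      (shiftFunctor D k.2.1).obj (E k.1)) k).op (stage0 H E).elt = k.2.2 :=
  (H_prod_surj H _ (fun k => k.2.2)).choose_spec k

/-- the tower of stages -/
noncomputable def stage : ℕ → Stage H
  | 0 => stage0 H E
  | n + 1 => next E (stage n)

/-- **Brown representability**, element form. -/
theorem exists_representing [IsTriangulated D] (hc : ∀ i, CohDer.IsCompactObject (E i))
    (hg : CohDer.Generates E) :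
    ∃ (L : D) (α : H.obj (op L)), ∀ C : D, Function.Bijective (T H α C) := by
  classical
  have := hasCoproductsOfShape_of_small.{v} D ℕ
  let K : ℕ → D := fun n => (stage H E n).obj
  let f : ∀ n, K n ⟶ K (n + 1) := fun n => nextMap E (stage H E n)
  let a : ∀ n, H.obj (op (K n)) := fun n => (stage H E n).elt
  have ha : ∀ n, H.map (f n).op (a (n + 1)) = a n := fun n => nextMap_elt E (stage H E n)
  obtain ⟨L, j, c, hT⟩ := distinguished_cocone_triangle (𝟙 (∐ K) - DerLim.shiftMap K f)
  obtain ⟨abar, habar⟩ := H_prod_surj' H K a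
  have h5 : H.map (𝟙 (∐ K) - DerLim.shiftMap K f).op abar = 0 := by
    apply H_prod_inj' H K
    intro n
    rw [← H_map_comp, map_zero, Preadditive.comp_sub, Category.comp_id, ι_shiftMap, H_map_sub,
      H_map_comp, habar, habar, ha, sub_self]
  obtain ⟨α, hα⟩ : ∃ α : H.obj (op L), H.map j.op α = abar := H_exact H _ hT abar h5
  let i' : ∀ n, K n ⟶ L := fun n => Sigma.ι K n ≫ j
  have hi' : ∀ n, H.map (i' n).op α = a n := fun n => by rw [H_map_comp, hα, habar]
  have hj : j = Sigma.desc i' := Sigma.hom_ext _ _ fun n => by simp [i']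
  have hL : DerLim.IsHocolim K f L i' := ⟨c, by rw [← hj]; exact hT⟩
  refine ⟨L, α, ?_⟩
  -- Step A: the generators are very good
  have hE : ∀ i, VeryGood H α (E i) := by
    intro i m
    constructor
    · rw [T_injective_iff]
      intro φ hφ
      obtain ⟨N, φ', hφ'⟩ := exists_factor_of_isHocolim hL (isCompactObject_shift (hc i) m) φ
      have h1 : H.map φ'.op (a N) = 0 := by
        rw [← hi' N, ← H_map_comp, ← hφ']
        exact hφ
      have h2 : φ' = Sigma.ι (fun k : Rel E (stage H E N) => (shiftFunctor D k.2.1).obj (E k.1))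
          ⟨i, m, φ', h1⟩ ≫ relMap E (stage H E N) := by
        simp [relMap]
      have h4 : φ' ≫ f N = 0 := by
        rw [h2, Category.assoc]
        have : relMap E (stage H E N) ≫ f N = 0 := relMap_nextMap E (stage H E N)
        rw [this, comp_zero]
      rw [hφ', ← isHocolim_w hL N, ← Category.assoc, h4, zero_comp]
    · intro b
      obtain ⟨χ₀, hχ₀⟩ : ∃ χ₀ : (shiftFunctor D m).obj (E i) ⟶ K 0, H.map χ₀.op (a 0) = b :=
        ⟨Sigma.ι (fun k : (Σ (i : ι) (m : ℤ), H.obj (op ((shiftFunctor D m).obj (E i)))) =>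
          (shiftFunctor D k.2.1).obj (E k.1)) ⟨i, m, b⟩, stage0_elt H E ⟨i, m, b⟩⟩
      refine ⟨χ₀ ≫ i' 0, ?_⟩
      change H.map (χ₀ ≫ i' 0).op α = b
      rw [H_map_comp, hi' 0, hχ₀]
  -- Step B: every object is very good
  intro C
  obtain ⟨K', f', i'', hL', ⟨κ₀, a₀, m₀, ⟨e₀⟩⟩, hstep'⟩ := Groth.Agent.S0984.result E hc hg C
  have hK' : ∀ n, VeryGood H α (K' n) := by
    intro n
    induction n with
    | zero =>
      exact veryGood_of_iso H α e₀
        (veryGood_coprod H α _ fun k => veryGood_shift H α (hE (a₀ k)) (m₀ k))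
    | succ n ih =>
      obtain ⟨κ, a₁, m₁, y, z, hTn⟩ := hstep' n
      exact ObjectProperty.ext_of_isTriangulatedClosed₃ (VeryGood H α) _ hTn
        (veryGood_coprod H α _ fun k => veryGood_shift H α (hE (a₁ k)) (m₁ k)) ih
  obtain ⟨c', hT'⟩ := hL'
  have hC : VeryGood H α C := ObjectProperty.ext_of_isTriangulatedClosed₃ (VeryGood H α) _ hT'
    (veryGood_coprod H α K' hK') (veryGood_coprod H α K' hK')
  exact good_of_iso H α ((shiftFunctorZero D ℤ).app C).symm (hC 0)

/-- **Brown representability** for compactly generated triangulated categories. -/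
theorem isRepresentable [IsTriangulated D] (hD : CohDer.IsCompactlyGenerated D) :
    (H ⋙ forget AddCommGrpCat.{v}).IsRepresentable := by
  obtain ⟨ι, E, hc, hg⟩ := hD
  obtain ⟨L, α, hα⟩ := exists_representing H E hc hg
  exact ⟨L, ⟨{ homEquiv := fun {C} => Equiv.ofBijective (T H α C) (hα C)
               homEquiv_comp := fun {C C'} f g => H_map_comp H f g α }⟩⟩

end tower

end Groth.Agent.Lib.Helper6.Brown
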