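import Groth.Agent.Lib.Helper6.Brown
import Groth.Agent.S6593
import Mathlib.CategoryTheory.Triangulated.Yoneda
import Mathlib.CategoryTheory.Adjunction.PartialAdjoint
import Mathlib.CategoryTheory.Triangulated.Opposite.Functor
import Mathlib.CategoryTheory.Limits.Preserves.Opposites
import Mathlib.CategoryTheory.Preadditive.Yoneda.Limits

/-!
# Brown representability for perfectly generated triangulated categories (helper6 library)

`E : ι → D` is a family with the factorization property `Perfect E`: every map from a member of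
`E` into a countable coproduct `∐ X` factors as `E i ⟶ ∐ E (j n) ⟶ ∐ X` where the second map is
a coproduct of maps.  We prove Brown representability under this hypothesis (plus detection of
nonzero objects), following Krause's proof but arguing on elements.
-/

set_option autoImplicit false
set_option linter.unusedSectionVars false
universe w v u

open CategoryTheory CategoryTheory.Limits CategoryTheory.Pretriangulated
  CategoryTheory.Pretriangulated.Opposite Opposite ZeroObject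

namespace Groth.Agent.Lib.Helper6.Brown2

open Groth.Agent.Lib.Helper6 Groth.Agent.Lib.Helper6.Brown

variable {D : Type u} [Category.{v} D] [Preadditive D] [HasZeroObject D] [HasShift D ℤ]
  [∀ n : ℤ, (shiftFunctor D n).Additive] [Pretriangulated D]

/-- the factorization property -/
def Perfect [HasCoproductsOfShape ℕ D] {ι' : Type w} (E' : ι' → D) : Prop :=
  ∀ (X : ℕ → D) (k : ι') (α : E' k ⟶ ∐ X), ∃ (j : ℕ → ι') (β : ∀ n, E' (j n) ⟶ X n)
    (γ : E' k ⟶ ∐ (fun n => E' (j n))), α = γ ≫ Limits.Sigma.map β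

section const

variable [HasCoproductsOfShape ℕ D] (A : D)

/-- the shift map of the constant tower -/
noncomputable abbrev cshift : (∐ fun _ : ℕ => A) ⟶ ∐ fun _ : ℕ => A :=
  DerLim.shiftMap (fun _ : ℕ => A) (fun _ => 𝟙 A)

/-- for a constant tower, `1 - shift` is a split monomorphism -/
lemma const_split : ∃ r : (∐ fun _ : ℕ => A) ⟶ ∐ fun _ : ℕ => A,
    (𝟙 _ - cshift A) ≫ r = 𝟙 _ := by
  refine ⟨Sigma.desc fun n => - ∑ i ∈ Finset.range n, Sigma.ι (fun _ : ℕ => A) i, ?_⟩
  refine Sigma.hom_ext _ _ fun n => ?_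
  rw [Preadditive.sub_comp, Preadditive.comp_sub, Category.id_comp, Sigma.ι_desc,
    ι_shiftMap_assoc, Category.id_comp, Sigma.ι_desc, Category.comp_id, Finset.sum_range_succ]
  abel

end const

section shift

variable [HasCoproductsOfShape ℕ D]

/-- the factorization property passes to the family of all shifts -/
lemma perfect_shift {ι : Type w} (E : ι → D) (h2 : Perfect E) :
    Perfect (fun k : ι × ℤ => (shiftFunctor D k.2).obj (E k.1)) := by
  rintro X ⟨i, m⟩ α
  let F := shiftFunctor D m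
  let X' : ℕ → D := fun n => (shiftFunctor D (-m)).obj (X n)
  let e : ∀ n, F.obj (X' n) ≅ X n := fun n =>
    (shiftFunctorCompIsoId D (-m) m (by simp)).app (X n)
  let θ : F.obj (∐ X') ≅ ∐ X := PreservesCoproduct.iso F X' ≪≫ Sigma.mapIso e
  obtain ⟨α', hα'⟩ := F.map_surjective (α ≫ θ.inv)
  obtain ⟨j, β', γ', rfl⟩ := h2 X' i α'
  refine ⟨fun n => (j n, m), fun n => F.map (β' n) ≫ (e n).hom,
    F.map γ' ≫ (PreservesCoproduct.iso F (fun n => E (j n))).hom, ?_⟩
  have h1 : α = F.map γ' ≫ F.map (Limits.Sigma.map β') ≫ θ.hom := by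
    rw [← Category.assoc, ← F.map_comp, hα', Category.assoc, Iso.inv_hom_id, Category.comp_id]
  rw [h1, Category.assoc]
  congr 1
  rw [← cancel_epi (PreservesCoproduct.iso F (fun n => E (j n))).inv, Iso.inv_hom_id_assoc]
  refine Sigma.hom_ext _ _ fun n => ?_
  have h2 : ∀ (Z : ℕ → D) (n : ℕ), Sigma.ι (fun n => F.obj (Z n)) n ≫
      (PreservesCoproduct.iso F Z).inv = F.map (Sigma.ι Z n) := fun Z n => by
    rw [PreservesCoproduct.inv_hom, ι_comp_sigmaComparison]
  have h3 : ∀ (Z : ℕ → D) (n : ℕ), F.map (Sigma.ι Z n) ≫ (PreservesCoproduct.iso F Z).hom =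
      Sigma.ι (fun n => F.obj (Z n)) n := fun Z n => by
    rw [← h2, Category.assoc, Iso.inv_hom_id, Category.comp_id]
  rw [reassoc_of% (h2 (fun n => E (j n)) n), ← F.map_comp_assoc, Sigma.ι_map, F.map_comp_assoc]
  dsimp only [θ, Iso.trans_hom]
  rw [reassoc_of% (h3 X' n), Sigma.ι_mapIso_hom]
  erw [Sigma.ι_map]
  rw [Category.assoc]

end shift

section core

variable [HasCoproducts.{v} D] [HasCoproductsOfShape ℕ D]
  (H : Dᵒᵖ ⥤ AddCommGrpCat.{v}) [H.IsHomological]
  [∀ (κ : Type v), PreservesLimitsOfShape (Discrete κ) H]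
  {ι' : Type w} (E' : ι' → D) (h2 : Perfect E')
  (K : ℕ → D) (f : ∀ n, K n ⟶ K (n + 1)) (a : ∀ n, H.obj (op (K n)))
  (ha : ∀ n, H.map (f n).op (a (n + 1)) = a n)
  (hA : ∀ k (x : H.obj (op (E' k))), ∃ b : E' k ⟶ K 0, H.map b.op (a 0) = x)
  (hB : ∀ k n (ψ : E' k ⟶ K n), H.map ψ.op (a n) = 0 → ψ ≫ f n = 0)

/-- composite `K 1 ⟶ K (n+1)` -/
def comp1 : ∀ n, K 1 ⟶ K (n + 1)
  | 0 => 𝟙 _
  | n + 1 => comp1 n ≫ f (n + 1)

/-- composite `K 0 ⟶ K (n+1)` -/
def comp0 (n : ℕ) : K 0 ⟶ K (n + 1) := f 0 ≫ comp1 K f n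

lemma comp0_succ (n : ℕ) : comp0 K f (n + 1) = comp0 K f n ≫ f (n + 1) := by
  simp [comp0, comp1]

include ha in
lemma H_comp1 (n : ℕ) : H.map (comp1 K f n).op (a (n + 1)) = a 1 := by
  induction n with
  | zero => exact H_map_id H _
  | succ n ih => rw [comp1, H_map_comp, ha, ih]

include ha in
lemma H_comp0 (n : ℕ) : H.map (comp0 K f n).op (a (n + 1)) = a 0 := by
  rw [comp0, H_map_comp, H_comp1 H K f a ha, ha]

include ha hB in
lemma step2 (k : ι') (n : ℕ) (β : E' k ⟶ K n) (b : E' k ⟶ K 0)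
    (hb : H.map b.op (a 0) = H.map β.op (a n)) :
    β ≫ f n ≫ f (n + 1) = b ≫ comp0 K f (n + 1) := by
  have h : (β ≫ f n - b ≫ comp0 K f n) ≫ f (n + 1) = 0 := by
    apply hB k (n + 1)
    rw [H_map_sub, H_map_comp, H_map_comp, ha, H_comp0 H K f a ha, hb, sub_self]
  rw [Preadditive.sub_comp, sub_eq_zero, Category.assoc, Category.assoc] at h
  rw [h, comp0_succ]

include h2 ha hA hB in
/-- a map into `∐ K` on which the compatible family of classes vanishes dies in the homotopy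
colimit -/
lemma key_II (k : ι') (g : E' k ⟶ ∐ K) (abar : H.obj (op (∐ K)))
    (habar : ∀ n, H.map (Sigma.ι K n).op abar = a n) (hg : H.map g.op abar = 0)
    {L : D} (j : ∐ K ⟶ L) (hj : (𝟙 _ - DerLim.shiftMap K f) ≫ j = 0) : g ≫ j = 0 := by
  have hw : ∀ n, Sigma.ι K n ≫ j = f n ≫ Sigma.ι K (n + 1) ≫ j := by
    intro n
    have := congrArg (Sigma.ι K n ≫ ·) hj
    simp only [Preadditive.sub_comp, Preadditive.comp_sub, Category.id_comp, comp_zero,
      ι_shiftMap_assoc] at this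
    rwa [sub_eq_zero] at this
  have hw0 : ∀ n, comp0 K f n ≫ Sigma.ι K (n + 1) ≫ j = Sigma.ι K 0 ≫ j := by
    intro n
    induction n with
    | zero => rw [comp0, comp1, Category.comp_id, ← hw]
    | succ n ih => rw [comp0_succ, Category.assoc, ← hw, ih]
  obtain ⟨jj, β, γ, rfl⟩ := h2 K k g
  choose b hb using fun n => hA (jj n) (H.map (β n).op (a n))
  have key : ∀ n, β n ≫ Sigma.ι K n ≫ j = b n ≫ Sigma.ι K 0 ≫ j := by
    intro n
    rw [hw n, hw (n + 1), ← hw0 (n + 1),
      reassoc_of% (step2 H E' K f a ha hB (jj n) n (β n) (b n) (hb n))]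
  have h3 : Limits.Sigma.map β ≫ j = Sigma.desc b ≫ Sigma.ι K 0 ≫ j := by
    refine Sigma.hom_ext _ _ fun n => ?_
    rw [Sigma.ι_map_assoc, Sigma.ι_desc_assoc, key]
  have h4 : (γ ≫ Sigma.desc b) ≫ f 0 = 0 := by
    apply hB k 0
    rw [H_map_comp]
    have : H.map (Sigma.desc b).op (a 0) = H.map (Limits.Sigma.map β).op abar := by
      apply H_prod_inj' H (fun n => E' (jj n))
      intro n
      rw [← H_map_comp, ← H_map_comp, Sigma.ι_desc, Sigma.ι_map, H_map_comp, habar, hb]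
    rw [this, ← H_map_comp]
    exact hg
  rw [Category.assoc, h3, hw 0, ← Category.assoc, ← Category.assoc, h4, zero_comp]

include h2 ha hA hB in
/-- `1 - shift` is injective on maps from members of `E'` into `∐ K` -/
lemma key_I [IsTriangulated D] (k : ι') (w : E' k ⟶ ∐ K)
    (hw : w ≫ (𝟙 _ - DerLim.shiftMap K f) = 0) : w = 0 := by
  have hw' : w = w ≫ DerLim.shiftMap K f := by
    rw [Preadditive.comp_sub, Category.comp_id, sub_eq_zero] at hw
    exact hw
  obtain ⟨jj, β, γ, hγ⟩ := h2 K k w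
  choose b hb using fun n => hA (jj n) (H.map (β n).op (a n))
  let Ψ : (∐ fun _ : ℕ => K 0) ⟶ ∐ K :=
    Sigma.desc fun n => comp0 K f (n + 1) ≫ Sigma.ι K (n + 2)
  obtain ⟨v, hv⟩ : ∃ v : E' k ⟶ ∐ fun _ : ℕ => K 0, v = γ ≫ Limits.Sigma.map b := ⟨_, rfl⟩
  have h1 : w = v ≫ Ψ := by
    have : w = w ≫ DerLim.shiftMap K f ≫ DerLim.shiftMap K f := by
      rw [← Category.assoc, ← hw', ← hw']
    rw [this, hγ, hv]
    simp only [Category.assoc]
    congr 1
    refine Sigma.hom_ext _ _ fun n => ?_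
    rw [Sigma.ι_map_assoc, ι_shiftMap_assoc, ι_shiftMap, Sigma.ι_map_assoc, Sigma.ι_desc,
      reassoc_of% (step2 H E' K f a ha hB (jj n) n (β n) (b n) (hb n))]
  have h3 : Ψ ≫ DerLim.shiftMap K f = cshift (K 0) ≫ Ψ := by
    refine Sigma.hom_ext _ _ fun n => ?_
    rw [Sigma.ι_desc_assoc, Category.assoc, ι_shiftMap, ι_shiftMap_assoc, Category.id_comp,
      Sigma.ι_desc, comp0_succ K f (n + 1), Category.assoc]
  -- split off the reindexing
  let Ψ₀ : (∐ fun _ : ℕ => K 0) ⟶ ∐ fun n : ℕ => K (n + 2) :=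
    Limits.Sigma.map fun n => comp0 K f (n + 1)
  let J₂ : (∐ fun n : ℕ => K (n + 2)) ⟶ ∐ K := Sigma.desc fun n => Sigma.ι K (n + 2)
  let R₂ : (∐ K) ⟶ ∐ fun n : ℕ => K (n + 2) := Sigma.desc fun n =>
    match n with
    | 0 => 0
    | 1 => 0
    | n + 2 => Sigma.ι (fun n : ℕ => K (n + 2)) n
  have hJR : J₂ ≫ R₂ = 𝟙 _ := by
    refine Sigma.hom_ext _ _ fun n => ?_
    rw [Sigma.ι_desc_assoc, Sigma.ι_desc, Category.comp_id]
  have hΨ : Ψ = Ψ₀ ≫ J₂ := by
    refine Sigma.hom_ext _ _ fun n => ?_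
    rw [Sigma.ι_desc, Sigma.ι_map_assoc, Sigma.ι_desc]
  have h4 : (v ≫ (𝟙 _ - cshift (K 0))) ≫ Ψ₀ = 0 := by
    have : (v ≫ (𝟙 _ - cshift (K 0))) ≫ Ψ = 0 := by
      calc (v ≫ (𝟙 _ - cshift (K 0))) ≫ Ψ = v ≫ (Ψ - cshift (K 0) ≫ Ψ) := by
            rw [Category.assoc, Preadditive.sub_comp, Category.id_comp]
        _ = (v ≫ Ψ) ≫ (𝟙 _ - DerLim.shiftMap K f) := by
            rw [← h3, Category.assoc]
            congr 1
            rw [Preadditive.comp_sub, Category.comp_id]
        _ = 0 := by rw [← h1, hw]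
    rw [hΨ, ← Category.assoc] at this
    have h := congrArg (· ≫ R₂) this
    simpa only [Category.assoc, hJR, Category.comp_id, zero_comp] using h
  -- the triangle trick
  choose Z z hz hT using fun n : ℕ => distinguished_cocone_triangle₁ (comp0 K f (n + 1))
  have hcop := Groth.Agent.S6593.result (fun n => Triangle.mk (z n) (comp0 K f (n + 1)) (hz n)) hT
  obtain ⟨v₁, hv₁⟩ : ∃ v₁ : E' k ⟶ ∐ Z, v ≫ (𝟙 _ - cshift (K 0)) = v₁ ≫ Limits.Sigma.map z :=
    Triangle.coyoneda_exact₂ _ hcop (v ≫ (𝟙 _ - cshift (K 0))) h4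
  obtain ⟨jj₂, β₂, γ₂, hγ₂⟩ := h2 Z k v₁
  have hζ : ∀ n, (β₂ n ≫ z n) ≫ f 0 = 0 := by
    intro n
    apply hB (jj₂ n) 0
    have : (β₂ n ≫ z n) ≫ comp0 K f (n + 1) = 0 := by
      rw [Category.assoc]
      have : z n ≫ comp0 K f (n + 1) = 0 := comp_distTriang_mor_zero₁₂ _ (hT n)
      rw [this, comp_zero]
    rw [← H_comp0 H K f a ha (n + 1), ← H_map_comp, this, H_map_zero]
  let Φ₀ : (∐ fun _ : ℕ => K 0) ⟶ ∐ fun _ : ℕ => K 1 := Limits.Sigma.map fun _ => f 0
  have h5 : (v ≫ (𝟙 _ - cshift (K 0))) ≫ Φ₀ = 0 := by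
    rw [hv₁, hγ₂, Category.assoc, Category.assoc, Sigma.map_comp_map, Sigma.map_comp_map]
    have : (fun n => β₂ n ≫ z n ≫ f 0) = fun n => 0 :=
      funext fun n => by rw [← Category.assoc, hζ]
    rw [this]
    have : Limits.Sigma.map (fun n => (0 : E' (jj₂ n) ⟶ K 1)) = 0 := by
      refine Sigma.hom_ext _ _ fun n => ?_
      rw [Sigma.ι_map, zero_comp, comp_zero]
    rw [this, comp_zero]
  have h6 : (𝟙 _ - cshift (K 0)) ≫ Φ₀ = Φ₀ ≫ (𝟙 _ - cshift (K 1)) := by
    rw [Preadditive.sub_comp, Preadditive.comp_sub, Category.id_comp, Category.comp_id]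
    congr 1
    refine Sigma.hom_ext _ _ fun n => ?_
    rw [ι_shiftMap_assoc, Category.id_comp, Sigma.ι_map, Sigma.ι_map_assoc, ι_shiftMap,
      Category.id_comp]
  obtain ⟨r, hr⟩ := const_split (K 1)
  have h7 : v ≫ Φ₀ = 0 := by
    have : (v ≫ Φ₀) ≫ (𝟙 _ - cshift (K 1)) = 0 := by
      rw [Category.assoc, ← h6, ← Category.assoc, h5]
    have h := congrArg (· ≫ r) this
    simpa only [Category.assoc, hr, Category.comp_id, zero_comp] using h
  let Ψ' : (∐ fun _ : ℕ => K 1) ⟶ ∐ K :=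
    Sigma.desc fun n => comp1 K f (n + 1) ≫ Sigma.ι K (n + 2)
  have h8 : Ψ = Φ₀ ≫ Ψ' := by
    refine Sigma.hom_ext _ _ fun n => ?_
    rw [Sigma.ι_desc, Sigma.ι_map_assoc, Sigma.ι_desc, comp0, Category.assoc]
  rw [h1, h8, ← Category.assoc, h7, zero_comp]

include h2 ha hA hB in
/-- the comparison map is bijective at the members of `E'`, for the homotopy colimit of the
tower -/
lemma good_of_tower [IsTriangulated D]
    (hsh : ∀ k, ∃ k', Nonempty ((shiftFunctor D (1 : ℤ)).obj (E' k') ≅ E' k))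
    {L : D} (j : ∐ K ⟶ L) (c : L ⟶ (shiftFunctor D (1 : ℤ)).obj (∐ K))
    (hT : Triangle.mk (𝟙 (∐ K) - DerLim.shiftMap K f) j c ∈ distTriang D)
    (α : H.obj (op L)) (hα : ∀ n, H.map (Sigma.ι K n ≫ j).op α = a n) (k : ι') :
    Good H α (E' k) := by
  constructor
  · rw [T_injective_iff]
    intro φ hφ
    have h0 : φ ≫ c = 0 := by
      obtain ⟨k', ⟨u⟩⟩ := hsh k
      obtain ⟨w, hw⟩ := (shiftFunctor D (1 : ℤ)).map_surjective (u.hom ≫ φ ≫ c)
      have hw0 : w ≫ (𝟙 _ - DerLim.shiftMap K f) = 0 := by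
        apply (shiftFunctor D (1 : ℤ)).map_injective
        rw [Functor.map_comp, hw, Functor.map_zero, Category.assoc, Category.assoc]
        have : c ≫ (shiftFunctor D (1 : ℤ)).map (𝟙 _ - DerLim.shiftMap K f) = 0 :=
          comp_distTriang_mor_zero₃₁ _ hT
        rw [this, comp_zero, comp_zero]
      have hw1 := key_I H E' h2 K f a ha hA hB k' w hw0
      rw [hw1, Functor.map_zero] at hw
      rw [← cancel_epi u.hom, comp_zero]
      exact hw.symm
    obtain ⟨g, hg⟩ : ∃ g : E' k ⟶ ∐ K, φ = g ≫ j := Triangle.coyoneda_exact₃ _ hT φ h0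
    rw [hg]
    apply key_II H E' h2 K f a ha hA hB k g (H.map j.op α)
    · intro n
      rw [← H_map_comp]
      exact hα n
    · rw [← H_map_comp, ← hg]
      exact hφ
    · exact comp_distTriang_mor_zero₁₂ _ hT
  · intro x
    obtain ⟨b, hb⟩ := hA k x
    refine ⟨b ≫ Sigma.ι K 0 ≫ j, ?_⟩
    change H.map (b ≫ Sigma.ι K 0 ≫ j).op α = x
    rw [H_map_comp, hα 0, hb]

end core

section main

variable [HasCoproducts.{v} D] [HasCoproductsOfShape ℕ D] [IsTriangulated D]
  (H : Dᵒᵖ ⥤ AddCommGrpCat.{v}) [H.IsHomological]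
  [∀ (κ : Type v), PreservesLimitsOfShape (Discrete κ) H]
  {ι : Type v} (E : ι → D) (h2 : Perfect E)

lemma next_dist (S : Stage H) :
    ∃ z, Triangle.mk (relMap E S) (nextMap E S) z ∈ distTriang D :=
  ⟨_, (exists_next E S).choose_spec.choose_spec.choose_spec.choose_spec.1⟩

include h2 in
/-- Step A: an object `L` in the localizing subcategory generated by `E`, with a class `α`
for which the comparison map is bijective at all shifts of members of `E` -/
theorem exists_veryGood : ∃ (L : D) (α : H.obj (op L)), (∀ i, VeryGood H α (E i)) ∧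
    ∀ (P : ObjectProperty D) [P.IsTriangulated] [P.IsClosedUnderIsomorphisms],
      (∀ (κ : Type v) (X : κ → D), (∀ k, P (X k)) → P (∐ X)) →
      (∀ (X : ℕ → D), (∀ n, P (X n)) → P (∐ X)) → (∀ i, P (E i)) → P L := by
  classical
  let K : ℕ → D := fun n => (stage H E n).obj
  let f : ∀ n, K n ⟶ K (n + 1) := fun n => nextMap E (stage H E n)
  let a : ∀ n, H.obj (op (K n)) := fun n => (stage H E n).elt
  have ha : ∀ n, H.map (f n).op (a (n + 1)) = a n := fun n => nextMap_elt E (stage H E n)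
  obtain ⟨L, j, c, hT⟩ := distinguished_cocone_triangle (𝟙 (∐ K) - DerLim.shiftMap K f)
  obtain ⟨abar, habar⟩ := H_prod_surj' H K a
  have h5 : H.map (𝟙 (∐ K) - DerLim.shiftMap K f).op abar = 0 := by
    apply H_prod_inj' H K
    intro n
    rw [← H_map_comp, map_zero, Preadditive.comp_sub, Category.comp_id, ι_shiftMap, H_map_sub,
      H_map_comp, habar, habar, ha, sub_self]
  obtain ⟨α, hα⟩ : ∃ α : H.obj (op L), H.map j.op α = abar := H_exact H _ hT abar h5
  have hα' : ∀ n, H.map (Sigma.ι K n ≫ j).op α = a n := fun n => by rw [H_map_comp, hα, habar]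
  refine ⟨L, α, ?_, ?_⟩
  · intro i m
    let E' : ι × ℤ → D := fun k => (shiftFunctor D k.2).obj (E k.1)
    have hA : ∀ (k : ι × ℤ) (x : H.obj (op (E' k))), ∃ b : E' k ⟶ K 0,
        H.map b.op (a 0) = x := fun k x =>
      ⟨Sigma.ι (fun k : (Σ (i : ι) (m : ℤ), H.obj (op ((shiftFunctor D m).obj (E i)))) =>
          (shiftFunctor D k.2.1).obj (E k.1)) ⟨k.1, k.2, x⟩, stage0_elt H E ⟨k.1, k.2, x⟩⟩
    have hB : ∀ (k : ι × ℤ) (n : ℕ) (ψ : E' k ⟶ K n), H.map ψ.op (a n) = 0 → ψ ≫ f n = 0 := by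
      intro k n ψ hψ
      have h2' : ψ = Sigma.ι (fun k : Rel E (stage H E n) => (shiftFunctor D k.2.1).obj (E k.1))
          ⟨k.1, k.2, ψ, hψ⟩ ≫ relMap E (stage H E n) := by
        simp [relMap]
      rw [h2', Category.assoc]
      have : relMap E (stage H E n) ≫ f n = 0 := relMap_nextMap E (stage H E n)
      rw [this, comp_zero]
    have hsh : ∀ k : ι × ℤ, ∃ k', Nonempty ((shiftFunctor D (1 : ℤ)).obj (E' k') ≅ E' k) :=
      fun k => ⟨(k.1, k.2 - 1),
        ⟨((shiftFunctorAdd' D (k.2 - 1) 1 k.2 (by lia)).app (E k.1)).symm⟩⟩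
    exact good_of_tower H E' (perfect_shift E h2) K f a ha hA hB hsh j c hT α hα' (i, m)
  · intro P _ _ hPv hPN hPE
    have hPsh : ∀ i (m : ℤ), P ((shiftFunctor D m).obj (E i)) := fun i m =>
      P.le_shift m _ (hPE i)
    have hK : ∀ n, P (K n) := by
      intro n
      induction n with
      | zero => exact hPv _ _ fun k => hPsh k.1 k.2.1
      | succ n ih =>
        obtain ⟨z, hz⟩ := next_dist H E (stage H E n)
        exact P.ext_of_isTriangulatedClosed₃ _ hz (hPv _ _ fun k => hPsh k.1 k.2.1) ih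
    exact P.ext_of_isTriangulatedClosed₃ _ hT (hPN K hK) (hPN K hK)

omit [HasCoproducts.{v} D] [HasCoproductsOfShape ℕ D] [IsTriangulated D] in
/-- maps into the cone of `a` vanish when composition with `a` is bijective enough -/
lemma hom_cone_eq_zero {L' C C'' : D} (a : L' ⟶ C) (g : C ⟶ C'')
    (h : C'' ⟶ (shiftFunctor D (1 : ℤ)).obj L') (hT : Triangle.mk a g h ∈ distTriang D) (X : D)
    (hsurj : ∀ ψ : X ⟶ C, ∃ ψ' : X ⟶ L', ψ' ≫ a = ψ)
    (hinj : ∀ ψ : (shiftFunctor D (-1 : ℤ)).obj X ⟶ L', ψ ≫ a = 0 → ψ = 0)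
    (φ : X ⟶ C'') : φ = 0 := by
  have h0 : φ ≫ h = 0 := by
    let e : (shiftFunctor D (1 : ℤ)).obj ((shiftFunctor D (-1 : ℤ)).obj X) ≅ X :=
      (shiftFunctorCompIsoId D (-1 : ℤ) 1 (by simp)).app X
    obtain ⟨u', hu'⟩ := (shiftFunctor D (1 : ℤ)).map_surjective (e.hom ≫ φ ≫ h)
    have h1 : u' ≫ a = 0 := by
      apply (shiftFunctor D (1 : ℤ)).map_injective
      rw [Functor.map_comp, hu', Functor.map_zero, Category.assoc, Category.assoc]
      have : h ≫ (shiftFunctor D (1 : ℤ)).map a = 0 := comp_distTriang_mor_zero₃₁ _ hT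
      rw [this, comp_zero, comp_zero]
    rw [hinj u' h1, Functor.map_zero] at hu'
    rw [← cancel_epi e.hom, comp_zero]
    exact hu'.symm
  obtain ⟨ψ, hψ⟩ : ∃ ψ : X ⟶ C, φ = ψ ≫ g := Triangle.coyoneda_exact₃ _ hT φ h0
  obtain ⟨ψ', rfl⟩ := hsurj ψ
  have : a ≫ g = 0 := comp_distTriang_mor_zero₁₂ _ hT
  rw [hψ, Category.assoc, this, comp_zero]

include h2 in
/-- **Brown representability** for perfectly generated triangulated categories, element form -/
theorem exists_representing (h1 : ∀ X : D, ¬ IsZero X → ∃ (i : ι) (f : E i ⟶ X), f ≠ 0) :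
    ∃ (L : D) (α : H.obj (op L)), ∀ C : D, Function.Bijective (T H α C) := by
  obtain ⟨L, α, hE, -⟩ := exists_veryGood H E h2
  refine ⟨L, α, fun C => ?_⟩
  obtain ⟨L', a', hE', hLoc⟩ := exists_veryGood (preadditiveYoneda.obj C) E h2
  let a : L' ⟶ C := a'
  have hTa : ∀ (Y : D) (ψ : Y ⟶ L'), T (preadditiveYoneda.obj C) a' Y ψ = ψ ≫ a :=
    fun Y ψ => rfl
  obtain ⟨C'', g, h, hT⟩ := distinguished_cocone_triangle a
  have hzero : IsZero C'' := by
    by_contra hC
    obtain ⟨i, φ, hφ⟩ := h1 C'' hC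
    apply hφ
    apply hom_cone_eq_zero a g h hT (E i)
    · intro ψ
      have hg := good_of_iso (preadditiveYoneda.obj C) a'
        ((shiftFunctorZero D ℤ).app (E i)).symm (hE' i 0)
      obtain ⟨ψ', hψ'⟩ := hg.2 ψ
      exact ⟨ψ', hψ'⟩
    · intro ψ hψ
      exact (T_injective_iff (preadditiveYoneda.obj C) a').1 (hE' i (-1)).1 ψ hψ
  have hiso : IsIso a := (Triangle.isZero₃_iff_isIso₁ _ hT).1 hzero
  have hL' : VeryGood H α L' := by
    apply hLoc (VeryGood H α)
    · intro κ X hX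
      exact veryGood_coprod H α X hX
    · intro X hX
      exact veryGood_coprod H α X hX
    · exact hE
  have hC : VeryGood H α C := veryGood_of_iso H α (asIso a).symm hL'
  exact good_of_iso H α ((shiftFunctorZero D ℤ).app C).symm (hC 0)

include h2 in
/-- **Brown representability** for perfectly generated triangulated categories -/
theorem isRepresentable (h1 : ∀ X : D, ¬ IsZero X → ∃ (i : ι) (f : E i ⟶ X), f ≠ 0) :
    (H ⋙ forget AddCommGrpCat.{v}).IsRepresentable := by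
  obtain ⟨L, α, hα⟩ := exists_representing H E h2 h1
  exact ⟨L, ⟨{ homEquiv := fun {C} => Equiv.ofBijective (T H α C) (hα C)
               homEquiv_comp := fun {C C'} f g => H_map_comp H f g α }⟩⟩

end main

section adjoint

universe u'

open CategoryTheory.Pretriangulated.Opposite

variable [HasCoproducts.{v} D] [HasCoproductsOfShape ℕ D] [IsTriangulated D]
  {D' : Type u'} [Category.{v} D'] [Preadditive D'] [HasZeroObject D'] [HasShift D' ℤ]
  [∀ n : ℤ, (shiftFunctor D' n).Additive] [Pretriangulated D']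
  {ι : Type v} (E : ι → D) (h2 : Perfect E)

include h2 in
/-- a coproduct preserving triangulated functor out of a perfectly generated triangulated
category is a left adjoint -/
theorem isLeftAdjoint (h1 : ∀ X : D, ¬ IsZero X → ∃ (i : ι) (f : E i ⟶ X), f ≠ 0)
    (F : D ⥤ D') [F.CommShift ℤ] [F.IsTriangulated]
    [∀ (κ : Type v), PreservesColimitsOfShape (Discrete κ) F] : F.IsLeftAdjoint := by
  apply Functor.isLeftAdjoint_of_rightAdjointObjIsDefined_eq_top
  ext Y
  simp only [Pi.top_apply, Prop.top_eq_true, iff_true]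
  rw [Functor.rightAdjointObjIsDefined_iff]
  have hop : ∀ κ : Type v, PreservesLimitsOfShape (Discrete κ) F.op := fun κ => by
    have : PreservesColimitsOfShape (Discrete κ)ᵒᵖ F :=
      preservesColimitsOfShape_of_equiv (Discrete.opposite κ).symm F
    exact preservesLimitsOfShape_op (Discrete κ) F
  have : ∀ κ : Type v, PreservesLimitsOfShape (Discrete κ) (F.op ⋙ preadditiveYoneda.obj Y) :=
    fun κ => inferInstance
  exact isRepresentable (F.op ⋙ preadditiveYoneda.obj Y) E h2 h1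

end adjoint

end Groth.Agent.Lib.Helper6.Brown2
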