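import Mathlib

/-!
# Bridgeland's spanning class criterion for full faithfulness (helper6)
-/

set_option autoImplicit false
set_option linter.style.haveILetI false

universe v v' u u'

namespace Groth.Agent.Lib.Helper6.Spanning

open CategoryTheory CategoryTheory.Limits CategoryTheory.Pretriangulated

section LemmasAB

variable {D : Type u} [Category.{v} D] [Preadditive D] [HasZeroObject D] [HasShift D ℤ]
  [∀ n : ℤ, (shiftFunctor D n).Additive] [Pretriangulated D]

/-- Unshifted covariant vanishing. -/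
lemma hom_to_obj₃_eq_zero (T : Triangle D) (hT : T ∈ distTriang D) (E : D)
    (hsurj : Function.Surjective (fun φ : E ⟶ T.obj₁ => φ ≫ T.mor₁))
    (hinj : Function.Injective (fun φ : E ⟶ (shiftFunctor D (1 : ℤ)).obj T.obj₁ =>
      φ ≫ (shiftFunctor D (1 : ℤ)).map T.mor₁))
    (ψ : E ⟶ T.obj₃) : ψ = 0 := by
  have h1 : ψ ≫ T.mor₃ = 0 := by
    apply hinj
    change (ψ ≫ T.mor₃) ≫ (shiftFunctor D (1 : ℤ)).map T.mor₁ =
      0 ≫ (shiftFunctor D (1 : ℤ)).map T.mor₁
    rw [Category.assoc, comp_distTriang_mor_zero₃₁ T hT, comp_zero, zero_comp]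
  obtain ⟨ψ', hψ'⟩ := Triangle.coyoneda_exact₃ T hT ψ h1
  obtain ⟨ψ'', hψ''⟩ := hsurj ψ'
  dsimp only at hψ''
  rw [hψ', ← hψ'', Category.assoc, comp_distTriang_mor_zero₁₂ T hT, comp_zero]

/-- Covariant vanishing for all shifts of the cone. -/
lemma hom_to_shift_obj₃_eq_zero (T : Triangle D) (hT : T ∈ distTriang D) (E : D)
    (h : ∀ j : ℤ, Function.Bijective (fun φ : E ⟶ (shiftFunctor D j).obj T.obj₁ =>
      φ ≫ (shiftFunctor D j).map T.mor₁))
    (j : ℤ) (ψ : E ⟶ (shiftFunctor D j).obj T.obj₃) : ψ = 0 := by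
  have hT' := Triangle.shift_distinguished T hT j
  have hsurj : Function.Surjective (fun φ : E ⟶ (shiftFunctor D j).obj T.obj₁ =>
      φ ≫ (j.negOnePow • (shiftFunctor D j).map T.mor₁)) := by
    intro φ
    obtain ⟨φ', hφ'⟩ := (h j).2 φ
    refine ⟨j.negOnePow • φ', ?_⟩
    dsimp only at hφ' ⊢
    rw [Linear.units_smul_comp, Linear.comp_units_smul, smul_smul, Int.units_mul_self, one_smul,
      hφ']
  have hinj : Function.Injective
      (fun φ : E ⟶ (shiftFunctor D (1 : ℤ)).obj ((shiftFunctor D j).obj T.obj₁) =>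
      φ ≫ (shiftFunctor D (1 : ℤ)).map (j.negOnePow • (shiftFunctor D j).map T.mor₁)) := by
    intro φ₁ φ₂ h12
    dsimp only at h12
    rw [Functor.map_units_smul, Linear.comp_units_smul, Linear.comp_units_smul] at h12
    have h12' := smul_left_cancel _ h12
    -- transport along shiftFunctorAdd'
    let e := shiftFunctorAdd' D j 1 (j + 1) rfl
    have nat : ∀ φ : E ⟶ (shiftFunctor D (1 : ℤ)).obj ((shiftFunctor D j).obj T.obj₁),
        φ ≫ (shiftFunctor D (1 : ℤ)).map ((shiftFunctor D j).map T.mor₁) =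
          ((φ ≫ e.inv.app T.obj₁) ≫ (shiftFunctor D (j + 1)).map T.mor₁) ≫ e.hom.app T.obj₂ := by
      intro φ
      have := e.hom.naturality T.mor₁
      dsimp only [Functor.comp_map] at this
      rw [Category.assoc, Category.assoc, this, Iso.inv_hom_id_app_assoc]
    rw [nat, nat] at h12'
    have h3 := (cancel_mono _).1 h12'
    have h4 := (h (j + 1)).1 h3
    exact (cancel_mono _).1 h4
  exact hom_to_obj₃_eq_zero _ hT' E hsurj hinj ψ

/-- Contravariant vanishing, with shifts on the target. -/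
lemma hom_from_obj₃_eq_zero (T : Triangle D) (hT : T ∈ distTriang D) (E : D)
    (h : ∀ j : ℤ, Function.Bijective (fun φ : T.obj₂ ⟶ (shiftFunctor D j).obj E =>
      T.mor₁ ≫ φ))
    (j : ℤ) (ψ : T.obj₃ ⟶ (shiftFunctor D j).obj E) : ψ = 0 := by
  have h1 : T.mor₂ ≫ ψ = 0 := by
    apply (h j).1
    change T.mor₁ ≫ T.mor₂ ≫ ψ = T.mor₁ ≫ 0
    rw [comp_distTriang_mor_zero₁₂_assoc T hT, zero_comp, comp_zero]
  obtain ⟨ψ', hψ'⟩ := Triangle.yoneda_exact₃ T hT ψ h1
  -- ψ' : T.obj₁⟦1⟧ ⟶ E⟦j⟧
  let e := shiftFunctorAdd' D (j - 1) 1 j (by omega)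
  obtain ⟨χ, hχ⟩ := (shiftFunctor D (1 : ℤ)).map_surjective (ψ' ≫ e.hom.app E)
  obtain ⟨χ', hχ'⟩ := (h (j - 1)).2 χ
  dsimp only at hχ'
  have : ψ' = (shiftFunctor D (1 : ℤ)).map T.mor₁ ≫
      (shiftFunctor D (1 : ℤ)).map χ' ≫ e.inv.app E := by
    rw [← Functor.map_comp_assoc, hχ', hχ, Category.assoc, Iso.hom_inv_id_app, Category.comp_id]
  rw [hψ', this, comp_distTriang_mor_zero₃₁_assoc T hT, zero_comp]

end LemmasAB

section Main

variable {D : Type u} [Category.{v} D] [Preadditive D] [HasZeroObject D] [HasShift D ℤ]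
  [∀ n : ℤ, (shiftFunctor D n).Additive] [Pretriangulated D] [IsTriangulated D]
  {D' : Type u'} [Category.{v'} D'] [Preadditive D'] [HasZeroObject D'] [HasShift D' ℤ]
  [∀ n : ℤ, (shiftFunctor D' n).Additive] [Pretriangulated D'] [IsTriangulated D']

omit [HasZeroObject D] [∀ n : ℤ, (shiftFunctor D n).Additive] [Pretriangulated D]
  [IsTriangulated D] [HasZeroObject D'] [∀ n : ℤ, (shiftFunctor D' n).Additive]
  [Pretriangulated D'] [IsTriangulated D'] in
lemma map_eq_homEquiv_symm_unit {F : D ⥤ D'} {H : D' ⥤ D} (adj : F ⊣ H) {K Y : D}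
    (f : K ⟶ Y) : F.map f = (adj.homEquiv K (F.obj Y)).symm (f ≫ adj.unit.app Y) := by
  rw [Adjunction.homEquiv_counit, Functor.map_comp, Category.assoc,
    Adjunction.left_triangle_components, Category.comp_id]

omit [HasZeroObject D] [∀ n : ℤ, (shiftFunctor D n).Additive] [Pretriangulated D]
  [IsTriangulated D] [HasZeroObject D'] [∀ n : ℤ, (shiftFunctor D' n).Additive]
  [Pretriangulated D'] [IsTriangulated D'] in
lemma counit_comp_eq_homEquiv_symm_map {G : D' ⥤ D} {F : D ⥤ D'} (adj : G ⊣ F) {K Y : D}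
    (f : K ⟶ Y) : adj.counit.app K ≫ f = (adj.homEquiv (F.obj K) Y).symm (F.map f) := by
  rw [Adjunction.homEquiv_counit]
  exact (adj.counit.naturality f).symm

lemma bijective_comp_shift_unit {F : D ⥤ D'} {H : D' ⥤ D} (adj : F ⊣ H)
    [F.CommShift ℤ] [H.CommShift ℤ] [adj.CommShift ℤ] (E E' : D) (j : ℤ)
    (hb : Function.Bijective (fun f : E ⟶ (shiftFunctor D j).obj E' => F.map f)) :
    Function.Bijective (fun φ : E ⟶ (shiftFunctor D j).obj E' =>
      φ ≫ (shiftFunctor D j).map (adj.unit.app E')) := by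
  let iso : H.obj (F.obj ((shiftFunctor D j).obj E')) ≅
      (shiftFunctor D j).obj (H.obj (F.obj E')) :=
    H.mapIso ((F.commShiftIso j).app E') ≪≫ (H.commShiftIso j).app (F.obj E')
  have hu : (shiftFunctor D j).map (adj.unit.app E') =
      adj.unit.app ((shiftFunctor D j).obj E') ≫ iso.hom := by
    rw [adj.shift_unit_app j E']
    simp [iso]
  constructor
  · intro φ₁ φ₂ h12
    dsimp only at h12
    rw [hu, ← Category.assoc, ← Category.assoc, cancel_mono] at h12
    apply hb.1
    dsimp only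
    rw [map_eq_homEquiv_symm_unit adj, map_eq_homEquiv_symm_unit adj, h12]
  · intro χ
    obtain ⟨φ, hφ⟩ := hb.2 ((adj.homEquiv _ _).symm (χ ≫ iso.inv))
    dsimp only at hφ
    refine ⟨φ, ?_⟩
    dsimp only
    rw [map_eq_homEquiv_symm_unit adj] at hφ
    have := (adj.homEquiv _ _).symm.injective hφ
    rw [hu, ← Category.assoc, this, Category.assoc, Iso.inv_hom_id, Category.comp_id]

theorem full_faithful_of_spanning
    (F : D ⥤ D') [F.CommShift ℤ] [F.IsTriangulated] [F.IsLeftAdjoint] [F.IsRightAdjoint]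
    (S : Set D)
    (h2 : ∀ K : D, (∀ E ∈ S, ∀ (i : ℤ) (f : E ⟶ (shiftFunctor D i).obj K), f = 0) → IsZero K)
    (h3 : ∀ K : D, (∀ E ∈ S, ∀ (i : ℤ) (f : K ⟶ (shiftFunctor D i).obj E), f = 0) → IsZero K)
    (h4 : ∀ E ∈ S, ∀ E' ∈ S, ∀ i : ℤ,
      Function.Bijective (fun f : E ⟶ (shiftFunctor D i).obj E' => F.map f)) :
    F.Full ∧ F.Faithful := by
  let H := F.rightAdjoint
  let adjR : F ⊣ H := Adjunction.ofIsLeftAdjoint F
  let G := F.leftAdjoint
  let adjL : G ⊣ F := Adjunction.ofIsRightAdjoint F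
  letI : H.CommShift ℤ := adjR.rightAdjointCommShift ℤ
  haveI : adjR.CommShift ℤ := adjR.commShift_of_leftAdjoint ℤ
  -- Step 1: the unit of `adjR` is an isomorphism on shifts of objects of `S`
  have step1 : ∀ E' ∈ S, ∀ i : ℤ, IsIso (adjR.unit.app ((shiftFunctor D i).obj E')) := by
    intro E' hE' i
    have h0 : IsIso (adjR.unit.app E') := by
      obtain ⟨C, g, h, hT⟩ := distinguished_cocone_triangle (adjR.unit.app E')
      have hC : IsZero C := by
        apply h2
        intro E hE j ψ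
        refine hom_to_shift_obj₃_eq_zero _ hT E ?_ j ψ
        intro j
        exact bijective_comp_shift_unit adjR E E' j (h4 E hE E' hE' j)
      exact (Triangle.isZero₃_iff_isIso₁ _ hT).1 hC
    have hu := adjR.shift_unit_app i E'
    have : IsIso ((shiftFunctor D i).map (adjR.unit.app E')) := inferInstance
    rw [hu] at this
    have h5 : IsIso (H.map ((F.commShiftIso i).hom.app E') ≫
        (H.commShiftIso i).hom.app (F.obj E')) := inferInstance
    exact IsIso.of_isIso_comp_right _ (H.map ((F.commShiftIso i).hom.app E') ≫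
        (H.commShiftIso i).hom.app (F.obj E'))
  -- hence `F` is bijective on `Hom(K, E'⟦i⟧)` for all `K`
  have step1' : ∀ (K : D), ∀ E' ∈ S, ∀ i : ℤ,
      Function.Bijective (fun f : K ⟶ (shiftFunctor D i).obj E' => F.map f) := by
    intro K E' hE' i
    haveI := step1 E' hE' i
    constructor
    · intro f₁ f₂ h12
      dsimp only at h12
      rw [map_eq_homEquiv_symm_unit adjR, map_eq_homEquiv_symm_unit adjR] at h12
      have := (adjR.homEquiv _ _).symm.injective h12
      exact (cancel_mono _).1 this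
    · intro g
      refine ⟨(adjR.homEquiv _ _) g ≫ inv (adjR.unit.app ((shiftFunctor D i).obj E')), ?_⟩
      dsimp only
      rw [map_eq_homEquiv_symm_unit adjR, Category.assoc, IsIso.inv_hom_id, Category.comp_id,
        Equiv.symm_apply_apply]
  -- Step 2: the counit of `adjL` is an isomorphism
  have step2 : ∀ K : D, IsIso (adjL.counit.app K) := by
    intro K
    obtain ⟨C, g, h, hT⟩ := distinguished_cocone_triangle (adjL.counit.app K)
    have hC : IsZero C := by
      apply h3
      intro E hE j ψ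
      refine hom_from_obj₃_eq_zero _ hT E ?_ j ψ
      intro j
      change Function.Bijective (fun φ : K ⟶ (shiftFunctor D j).obj E => adjL.counit.app K ≫ φ)
      constructor
      · intro φ₁ φ₂ h12
        dsimp only at h12
        rw [counit_comp_eq_homEquiv_symm_map adjL, counit_comp_eq_homEquiv_symm_map adjL] at h12
        exact (step1' K E hE j).1 ((adjL.homEquiv _ _).symm.injective h12)
      · intro χ
        obtain ⟨φ, hφ⟩ := (step1' K E hE j).2 ((adjL.homEquiv _ _) χ)
        dsimp only at hφ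
        refine ⟨φ, ?_⟩
        dsimp only
        rw [counit_comp_eq_homEquiv_symm_map adjL, hφ, Equiv.symm_apply_apply]
    exact (Triangle.isZero₃_iff_isIso₁ _ hT).1 hC
  haveI : IsIso adjL.counit := NatIso.isIso_of_isIso_app _
  exact ⟨adjL.fullyFaithfulROfIsIsoCounit.full, adjL.fullyFaithfulROfIsIsoCounit.faithful⟩

end Main

end Groth.Agent.Lib.Helper6.Spanning
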