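import Mathlib
import Groth.Agent.Lib.Helper6.Brown
import Groth.Agent.Lib.Helper6.Spanning

/-!
# Transfer of Brown representability along a Bousfield localization (helper6)
-/

set_option autoImplicit false
set_option linter.style.haveILetI false
set_option linter.unusedSectionVars false

universe v u₁ u₂

namespace Groth.Agent.Lib.Helper6.BrownLoc

open CategoryTheory CategoryTheory.Limits CategoryTheory.Pretriangulated Opposite

variable {T : Type u₁} [Category.{v} T] [Preadditive T] [HasZeroObject T] [HasShift T ℤ]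
  [∀ n : ℤ, (shiftFunctor T n).Additive] [Pretriangulated T]
  {D : Type u₂} [Category.{v} D] [Preadditive D] [HasZeroObject D] [HasShift D ℤ]
  [∀ n : ℤ, (shiftFunctor D n).Additive] [Pretriangulated D]
  (L : T ⥤ D) [L.CommShift ℤ] [L.IsTriangulated] (ρ : D ⥤ T) (adj : L ⊣ ρ)

include adj in
lemma isIso_unit_of_local [IsIso adj.counit] (Y : T)
    (hY : ∀ (M : T), IsZero (L.obj M) → ∀ f : M ⟶ Y, f = 0) : IsIso (adj.unit.app Y) := by
  obtain ⟨C, g, h, hT⟩ := distinguished_cocone_triangle (adj.unit.app Y)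
  have h1 : IsIso (L.map (adj.unit.app Y)) := by
    have := adj.left_triangle_components Y
    have h2 : L.map (adj.unit.app Y) = inv (adj.counit.app (L.obj Y)) := by
      rw [← cancel_mono (adj.counit.app (L.obj Y)), this, IsIso.inv_hom_id]
      rfl
    rw [h2]
    infer_instance
  have hLC : IsZero (L.obj C) := by
    have hLT := L.map_distinguished _ hT
    exact (Triangle.isZero₃_iff_isIso₁ _ hLT).2 h1
  -- the inverse rotation
  have hT' := inv_rot_of_distTriang _ hT
  have hLC' : IsZero (L.obj ((shiftFunctor T (-1 : ℤ)).obj C)) :=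
    IsZero.of_iso ((shiftFunctor D (-1 : ℤ)).map_isZero hLC) ((L.commShiftIso (-1 : ℤ)).app C)
  have h3 : (Triangle.mk (adj.unit.app Y) g h).invRotate.mor₁ = 0 := hY _ hLC' _
  have h4 : Mono (adj.unit.app Y) := Triangle.mono₂ _ hT' h3
  have h5 : h = 0 := (Triangle.mor₃_eq_zero_iff_mono₁ _ hT).2 h4
  obtain ⟨s, hs⟩ := Triangle.coyoneda_exact₃ _ hT (𝟙 C) (by
    change 𝟙 C ≫ h = 0
    rw [h5, comp_zero])
  have hs0 : s = 0 := by
    apply (adj.homEquiv _ _).symm.injective
    exact hLC.eq_of_src _ _
  have hC : IsZero C := by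
    rw [IsZero.iff_id_eq_zero, hs, hs0, zero_comp]
    rfl
  exact (Triangle.isZero₃_iff_isIso₁ _ hT).1 hC

include adj in
theorem isRepresentable_of_localization [IsIso adj.counit]
    (H : Dᵒᵖ ⥤ AddCommGrpCat.{v}) [H.PreservesZeroMorphisms]
    (hrep : ((L.op ⋙ H) ⋙ forget AddCommGrpCat.{v}).IsRepresentable) :
    (H ⋙ forget AddCommGrpCat.{v}).IsRepresentable := by
  obtain ⟨Y, ⟨r⟩⟩ := hrep
  let α : H.obj (op (L.obj Y)) := r.homEquiv (𝟙 Y)
  have key : ∀ (M : T) (f : M ⟶ Y), r.homEquiv f = H.map (L.map f).op α := by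
    intro M f
    have := r.homEquiv_comp f (𝟙 Y)
    rw [Category.comp_id] at this
    exact this
  have hloc : ∀ (M : T), IsZero (L.obj M) → ∀ f : M ⟶ Y, f = 0 := by
    intro M hM f
    apply r.homEquiv.injective
    have hz : IsZero (H.obj (op (L.obj M))) := H.map_isZero hM.op
    haveI : Subsingleton (H.obj (op (L.obj M))) := AddCommGrpCat.subsingleton_of_isZero hz
    exact Subsingleton.elim (α := H.obj (op (L.obj M))) _ _
  haveI := isIso_unit_of_local L ρ adj Y hloc
  -- bijectivity of `L` on `Hom(M, Y)`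
  have hL : ∀ M : T, Function.Bijective (fun f : M ⟶ Y => L.map f) := by
    intro M
    constructor
    · intro f₁ f₂ h12
      dsimp only at h12
      rw [Spanning.map_eq_homEquiv_symm_unit adj, Spanning.map_eq_homEquiv_symm_unit adj] at h12
      exact (cancel_mono _).1 ((adj.homEquiv _ _).symm.injective h12)
    · intro g
      refine ⟨(adj.homEquiv _ _) g ≫ inv (adj.unit.app Y), ?_⟩
      dsimp only
      rw [Spanning.map_eq_homEquiv_symm_unit adj, Category.assoc, IsIso.inv_hom_id,
        Category.comp_id, Equiv.symm_apply_apply]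
  -- the comparison map
  have hTL : ∀ M : T, Function.Bijective (Brown.T H α (L.obj M)) := by
    intro M
    have h1 : Function.Bijective ((Brown.T H α (L.obj M)) ∘ (fun f : M ⟶ Y => L.map f)) := by
      have : (Brown.T H α (L.obj M)) ∘ (fun f : M ⟶ Y => L.map f) = r.homEquiv := by
        funext f
        exact (key M f).symm
      rw [this]
      exact r.homEquiv.bijective
    exact (Function.Bijective.of_comp_iff _ (hL M)).1 h1
  have hTZ : ∀ Z : D, Function.Bijective (Brown.T H α Z) := by
    intro Z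
    let e : L.obj (ρ.obj Z) ≅ Z := asIso (adj.counit.app Z)
    have h1 : Brown.T H α Z = (fun x => H.map e.inv.op x) ∘ (Brown.T H α (L.obj (ρ.obj Z))) ∘
        (fun g : Z ⟶ L.obj Y => e.hom ≫ g) := by
      funext g
      dsimp only [Function.comp, Brown.T]
      rw [← Brown.H_map_comp, Iso.inv_hom_id_assoc]
    rw [h1]
    refine Function.Bijective.comp ?_ (Function.Bijective.comp (hTL _) ?_)
    · exact ConcreteCategory.bijective_of_isIso (H.map e.inv.op)
    · exact (Iso.homFromEquiv e.symm).bijective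
  exact ⟨L.obj Y, ⟨{ homEquiv := fun {C} => Equiv.ofBijective (Brown.T H α C) (hTZ C)
                     homEquiv_comp := fun {C C'} f g => Brown.H_map_comp H f g α }⟩⟩

end Groth.Agent.Lib.Helper6.BrownLoc
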