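import Mathlib
import Groth.Agent.Lib.Helper6.BrownLoc
import Groth.Agent.Lib.Helper6.DerSmall
import Groth.Agent.Lib.Helper6.DerCompactGen
import Groth.Agent.Lib.Helper99.KInjDerAdjK

/-!
# Brown representability for the derived category of a Grothendieck abelian category (helper6)

Via Gabriel–Popescu: `D(A)` is a Bousfield localization of `D(Mod R)`.
-/

set_option autoImplicit false
set_option linter.style.haveILetI false
set_option linter.unusedSectionVars false

universe v u u'

namespace Groth.Agent.Lib.Helper6.BrownGroth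

open CategoryTheory CategoryTheory.Limits CategoryTheory.Pretriangulated Opposite

variable {A : Type u} [Category.{v} A] [Abelian A] [IsGrothendieckAbelian.{v} A]
  [HasDerivedCategory.{v} A]

theorem isRepresentable (H : (DerivedCategory A)ᵒᵖ ⥤ AddCommGrpCat.{v}) [H.IsHomological]
    [∀ (ι : Type v), PreservesLimitsOfShape (Discrete ι) H] :
    (H ⋙ forget AddCommGrpCat.{v}).IsRepresentable := by
  let G := separator A
  have hG : IsSeparator G := isSeparator_separator A
  letI : HasDerivedCategory.{v} (ModuleCat.{v} (End G)ᵐᵒᵖ) := DerSmall.hasDerivedCategory _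
  let F : ModuleCat.{v} (End G)ᵐᵒᵖ ⥤ A := IsGrothendieckAbelian.tensorObj G
  let Gf : A ⥤ ModuleCat.{v} (End G)ᵐᵒᵖ := preadditiveCoyonedaObj G
  let adj : F ⊣ Gf := IsGrothendieckAbelian.tensorObjPreadditiveCoyonedaObjAdjunction G
  haveI : PreservesFiniteLimits F :=
    IsGrothendieckAbelian.GabrielPopescu.preservesFiniteLimits G hG
  haveI : PreservesFiniteColimits F := by
    haveI := adj.leftAdjoint_preservesColimits
    infer_instance
  haveI : F.Additive := Functor.additive_of_preserves_binary_products _
  haveI : Gf.Full := IsGrothendieckAbelian.GabrielPopescu.full G hG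
  haveI : Gf.Faithful := (isSeparator_iff_faithful_preadditiveCoyonedaObj G).1 hG
  have hadj : ∀ X, IsIso (adj.counit.app X) := fun X => inferInstance
  -- the right derived functor of `Gf`
  let Ψ := Gf.mapHomotopyCategory (ComplexShape.up ℤ) ⋙
    (DerivedCategory.Qh : _ ⥤ DerivedCategory (ModuleCat.{v} (End G)ᵐᵒᵖ))
  haveI : Ψ.HasPointwiseRightDerivedFunctor (HomotopyCategory.quasiIso A (ComplexShape.up ℤ)) :=
    (Groth.Agent.Lib.Helper99.KInj.kInjK_derives Ψ).hasPointwiseRightDerivedFunctor
  let RG := Ψ.totalRightDerived DerivedCategory.Qh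
    (HomotopyCategory.quasiIso A (ComplexShape.up ℤ))
  let β := Ψ.totalRightDerivedUnit DerivedCategory.Qh
    (HomotopyCategory.quasiIso A (ComplexShape.up ℤ))
  let L := F.mapDerivedCategory
  let adjD : L ⊣ RG := Groth.Agent.Lib.Helper99.KInj.derivedAdjK F Gf adj RG β
  haveI : IsIso adjD.counit :=
    Groth.Agent.Lib.Helper99.KInj.isIso_derivedAdjK_counit F Gf adj RG β hadj
  -- Brown representability upstairs
  have hcg := DerCompactGen.isCompactlyGenerated_moduleCat (End G)ᵐᵒᵖ
  haveI : (L.op ⋙ H).IsHomological := inferInstance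
  have hop : ∀ κ : Type v, PreservesLimitsOfShape (Discrete κ) L.op := fun κ => by
    haveI := adjD.leftAdjoint_preservesColimits
    have : PreservesColimitsOfShape (Discrete κ)ᵒᵖ L := inferInstance
    exact preservesLimitsOfShape_op (Discrete κ) L
  haveI : ∀ κ : Type v, PreservesLimitsOfShape (Discrete κ) (L.op ⋙ H) := fun κ => inferInstance
  have hrep := Brown.isRepresentable (L.op ⋙ H) hcg
  exact BrownLoc.isRepresentable_of_localization L RG adjD H hrep

/-- a coproduct preserving triangulated functor out of `D(A)` is a left adjoint -/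
theorem isLeftAdjoint {D : Type u'} [Category.{v} D] [Preadditive D] [HasZeroObject D]
    [HasShift D ℤ] [∀ n : ℤ, (shiftFunctor D n).Additive] [Pretriangulated D]
    (F : DerivedCategory A ⥤ D) [F.CommShift ℤ] [F.IsTriangulated]
    [∀ (ι : Type v), PreservesColimitsOfShape (Discrete ι) F] : F.IsLeftAdjoint := by
  apply Functor.isLeftAdjoint_of_rightAdjointObjIsDefined_eq_top
  ext Y
  simp only [Pi.top_apply, Prop.top_eq_true, iff_true]
  rw [Functor.rightAdjointObjIsDefined_iff]
  have hop : ∀ κ : Type v, PreservesLimitsOfShape (Discrete κ) F.op := fun κ => by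
    have : PreservesColimitsOfShape (Discrete κ)ᵒᵖ F :=
      preservesColimitsOfShape_of_equiv (Discrete.opposite κ).symm F
    exact preservesLimitsOfShape_op (Discrete κ) F
  have : ∀ κ : Type v, PreservesLimitsOfShape (Discrete κ) (F.op ⋙ preadditiveYoneda.obj Y) :=
    fun κ => inferInstance
  exact isRepresentable (F.op ⋙ preadditiveYoneda.obj Y)

end Groth.Agent.Lib.Helper6.BrownGroth
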