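import Mathlib
import Groth.Prelude.Def_CE
import Groth.Agent.Lib.Helper47.Horseshoe

/-!
# Cartan–Eilenberg resolutions, part 1: recognising `CE.IsInjResolutionVia` (helper6 library)
-/

set_option autoImplicit false
universe v u
open CategoryTheory CategoryTheory.Limits

namespace Groth.Agent.Lib.Helper6.CEBase

open Groth.Agent.Lib.Helper47.Horseshoe

variable {A : Type u} [Category.{v} A] [Abelian A]

/-- a `ℤ`-indexed complex which vanishes in negative degrees and is identified in nonnegative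
degrees with an injective resolution is an injective resolution -/
lemma isInjResolutionVia_of_data (C : CochainComplex A ℤ) {M : A} (R : InjectiveResolution M)
    (hneg : ∀ q : ℤ, q < 0 → IsZero (C.X q))
    (θ : ∀ n : ℕ, C.X (n : ℤ) ≅ R.cocomplex.X n)
    (hθ : ∀ n : ℕ, C.d (n : ℤ) ((n + 1 : ℕ) : ℤ) ≫ (θ (n + 1)).hom =
      (θ n).hom ≫ R.cocomplex.d n (n + 1))
    (a : M ⟶ C.X ((0 : ℕ) : ℤ)) (ha : a ≫ (θ 0).hom = aug R) : CE.IsInjResolutionVia C M a := by
  have h0 : a ≫ C.d ((0 : ℕ) : ℤ) ((0 + 1 : ℕ) : ℤ) = 0 := by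
    rw [← cancel_mono (θ (0 + 1)).hom, Category.assoc, hθ 0, reassoc_of% ha, zero_comp]
    exact aug_d R
  refine ⟨h0, ?_, ?_, ?_, ?_, ?_⟩
  · rw [CochainComplex.isStrictlyGE_iff]
    intro i hi
    exact hneg i hi
  · intro q
    by_cases hq : q < 0
    · exact (hneg q hq).injective
    · obtain ⟨n, rfl⟩ : ∃ n : ℕ, q = (n : ℤ) := ⟨q.toNat, by lia⟩
      have := R.injective n
      exact Injective.of_iso (θ n).symm inferInstance
  · intro q hq0
    by_cases hq : q < 0
    · rw [HomologicalComplex.exactAt_iff]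
      exact ShortComplex.exact_of_isZero_X₂ _ (hneg q hq)
    · obtain ⟨n, rfl⟩ : ∃ n : ℕ, q = ((n + 1 : ℕ) : ℤ) := ⟨q.toNat - 1, by lia⟩
      rw [HomologicalComplex.exactAt_iff' C (n : ℤ) ((n + 1 : ℕ) : ℤ) ((n + 1 + 1 : ℕ) : ℤ)
        (by simp) (by simp)]
      have hR := R.cocomplex_exactAt_succ n
      rw [HomologicalComplex.exactAt_iff' _ n (n + 1) (n + 1 + 1) (by simp) (by simp)] at hR
      refine (ShortComplex.exact_iff_of_iso ?_).2 hR
      exact ShortComplex.isoMk (θ n) (θ (n + 1)) (θ (n + 1 + 1)) (hθ n).symm (hθ (n + 1)).symm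
  · have : Mono (a ≫ (θ 0).hom) := by rw [ha]; infer_instance
    exact mono_of_mono a (θ 0).hom
  · refine (ShortComplex.exact_iff_of_iso ?_).2 (aug_exact R)
    exact ShortComplex.isoMk (Iso.refl _) (θ 0) (θ (0 + 1)) (by simpa using ha.symm)
      (hθ 0).symm

section extend

variable (J : CochainComplex (CochainComplex A ℤ) ℕ) {K : CochainComplex A ℤ} (ε₀ : K ⟶ J.X 0)

/-- the extension of `J` to a `ℤ`-indexed complex of complexes -/
noncomputable abbrev ext : CochainComplex (CochainComplex A ℤ) ℤ :=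
  J.extend ComplexShape.embeddingUpNat

/-- the identification of the nonnegative part -/
noncomputable abbrev xiso (n : ℕ) : (ext J).X (n : ℤ) ≅ J.X n :=
  J.extendXIso ComplexShape.embeddingUpNat (i := n) rfl

/-- the augmentation of the extension -/
noncomputable abbrev extAug : K ⟶ (ext J).X ((0 : ℕ) : ℤ) := ε₀ ≫ (xiso J 0).inv

lemma ext_d (n : ℕ) : (ext J).d (n : ℤ) ((n + 1 : ℕ) : ℤ) =
    (xiso J n).hom ≫ J.d n (n + 1) ≫ (xiso J (n + 1)).inv :=
  J.extend_d_eq ComplexShape.embeddingUpNat (i := n) (j := n + 1) rfl rfl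

lemma isZero_ext_X (q : ℤ) (hq : q < 0) : IsZero ((ext J).X q) := by
  apply J.isZero_extend_X ComplexShape.embeddingUpNat
  intro i hi
  have : (i : ℤ) = q := hi
  lia

lemma extAug_d (h : ε₀ ≫ J.d 0 1 = 0) :
    extAug J ε₀ ≫ (ext J).d ((0 : ℕ) : ℤ) ((0 + 1 : ℕ) : ℤ) = 0 := by
  rw [ext_d, Category.assoc, Iso.inv_hom_id_assoc, reassoc_of% h, zero_comp]

lemma isInjResolutionVia_extend (Φ : CochainComplex A ℤ ⥤ A) [Φ.PreservesZeroMorphisms]
    (R : InjectiveResolution (Φ.obj K))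
    (θ : ∀ n, Φ.obj (J.X n) ≅ R.cocomplex.X n)
    (h1 : ∀ n, Φ.map (J.d n (n + 1)) ≫ (θ (n + 1)).hom = (θ n).hom ≫ R.cocomplex.d n (n + 1))
    (h2 : Φ.map ε₀ ≫ (θ 0).hom = aug R) :
    CE.IsInjResolutionVia ((Φ.mapHomologicalComplex (ComplexShape.up ℤ)).obj (ext J)) (Φ.obj K)
      (Φ.map (extAug J ε₀)) := by
  refine isInjResolutionVia_of_data _ R ?_ (fun n => Φ.mapIso (xiso J n) ≪≫ θ n) ?_ _ ?_
  · intro q hq
    exact Φ.map_isZero (isZero_ext_X J q hq)
  · intro n
    show Φ.map ((ext J).d (n : ℤ) ((n + 1 : ℕ) : ℤ)) ≫ Φ.map (xiso J (n + 1)).hom ≫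
      (θ (n + 1)).hom = (Φ.map (xiso J n).hom ≫ (θ n).hom) ≫ R.cocomplex.d n (n + 1)
    rw [ext_d, ← CategoryTheory.Functor.map_comp_assoc, Category.assoc, Category.assoc,
      Iso.inv_hom_id, Category.comp_id, CategoryTheory.Functor.map_comp, Category.assoc, h1,
      Category.assoc]
  · show Φ.map (ε₀ ≫ (xiso J 0).inv) ≫ Φ.map (xiso J 0).hom ≫ (θ 0).hom = aug R
    rw [← CategoryTheory.Functor.map_comp_assoc, Category.assoc, Iso.inv_hom_id,
      Category.comp_id, h2]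

end extend

end Groth.Agent.Lib.Helper6.CEBase
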