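import Mathlib
import Groth.Agent.Lib.Helper6.CEBase

/-!
# Cartan–Eilenberg resolutions, part 2: the construction (helper6 library)
-/

set_option autoImplicit false
universe v u
open CategoryTheory CategoryTheory.Limits

namespace Groth.Agent.Lib.Helper6.CEMain

open Groth.Agent.Lib.Helper47.Horseshoe Groth.Agent.Lib.Helper6.CEBase

variable {A : Type u} [Category.{v} A] [Abelian A] [EnoughInjectives A]

section horseshoe

variable {S : ShortComplex A} (hS : S.ShortExact)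
  (I₁ : InjectiveResolution S.X₁) (I₃ : InjectiveResolution S.X₃)

/-- the inclusion of the first summand of the middle resolution -/
noncomputable def hinl (n : ℕ) : I₁.cocomplex.X n ⟶ (res₂ hS I₁ I₃).cocomplex.X n :=
  (biprod.inl : I₁.cocomplex.X n ⟶ I₁.cocomplex.X n ⊞ I₃.cocomplex.X n)

/-- the inclusion of the second summand of the middle resolution -/
noncomputable def hinr (n : ℕ) : I₃.cocomplex.X n ⟶ (res₂ hS I₁ I₃).cocomplex.X n :=
  (biprod.inr : I₃.cocomplex.X n ⟶ I₁.cocomplex.X n ⊞ I₃.cocomplex.X n)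

/-- the projection to the first summand of the middle resolution -/
noncomputable def hfst (n : ℕ) : (res₂ hS I₁ I₃).cocomplex.X n ⟶ I₁.cocomplex.X n :=
  (biprod.fst : I₁.cocomplex.X n ⊞ I₃.cocomplex.X n ⟶ I₁.cocomplex.X n)

/-- the projection to the second summand of the middle resolution -/
noncomputable def hsnd (n : ℕ) : (res₂ hS I₁ I₃).cocomplex.X n ⟶ I₃.cocomplex.X n :=
  (biprod.snd : I₁.cocomplex.X n ⊞ I₃.cocomplex.X n ⟶ I₃.cocomplex.X n)

lemma hinl_hfst (n : ℕ) : hinl hS I₁ I₃ n ≫ hfst hS I₁ I₃ n = 𝟙 _ := biprod.inl_fst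
lemma hinl_hsnd (n : ℕ) : hinl hS I₁ I₃ n ≫ hsnd hS I₁ I₃ n = 0 := biprod.inl_snd
lemma hinr_hfst (n : ℕ) : hinr hS I₁ I₃ n ≫ hfst hS I₁ I₃ n = 0 := biprod.inr_fst
lemma hinr_hsnd (n : ℕ) : hinr hS I₁ I₃ n ≫ hsnd hS I₁ I₃ n = 𝟙 _ := biprod.inr_snd
lemma htotal (n : ℕ) : hfst hS I₁ I₃ n ≫ hinl hS I₁ I₃ n + hsnd hS I₁ I₃ n ≫ hinr hS I₁ I₃ n =
    𝟙 _ := biprod.total

instance (n : ℕ) : Mono (hinl hS I₁ I₃ n) := mono_of_mono_fac (hinl_hfst hS I₁ I₃ n)
instance (n : ℕ) : Epi (hsnd hS I₁ I₃ n) := epi_of_epi_fac (hinr_hsnd hS I₁ I₃ n)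

lemma hinl_d (n : ℕ) : hinl hS I₁ I₃ n ≫ (res₂ hS I₁ I₃).cocomplex.d n (n + 1) =
    I₁.cocomplex.d n (n + 1) ≫ hinl hS I₁ I₃ (n + 1) :=
  (ff hS I₁ I₃).comm n (n + 1)

lemma d_hsnd (n : ℕ) : (res₂ hS I₁ I₃).cocomplex.d n (n + 1) ≫ hsnd hS I₁ I₃ (n + 1) =
    hsnd hS I₁ I₃ n ≫ I₃.cocomplex.d n (n + 1) :=
  ((gg hS I₁ I₃).comm n (n + 1)).symm

lemma d_hfst (n : ℕ) : (res₂ hS I₁ I₃).cocomplex.d n (n + 1) ≫ hfst hS I₁ I₃ (n + 1) =
    hfst hS I₁ I₃ n ≫ I₁.cocomplex.d n (n + 1) + hsnd hS I₁ I₃ n ≫ th hS I₁ I₃ n := by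
  have h1 : (res₂ hS I₁ I₃).cocomplex.d n (n + 1) = d₂ hS I₁ I₃ n := cx₂_d hS I₁ I₃ n
  rw [h1]
  exact d₂_fst hS I₁ I₃ n

lemma aug_hfst : aug (res₂ hS I₁ I₃) ≫ hfst hS I₁ I₃ 0 = rho hS I₁ := by
  have h1 : aug (res₂ hS I₁ I₃) = aug₂ hS I₁ I₃ := ι₂_f_zero hS I₁ I₃
  rw [h1]
  exact aug₂_fst hS I₁ I₃

lemma aug_hsnd : aug (res₂ hS I₁ I₃) ≫ hsnd hS I₁ I₃ 0 = S.g ≫ aug I₃ := by
  have h1 : aug (res₂ hS I₁ I₃) = aug₂ hS I₁ I₃ := ι₂_f_zero hS I₁ I₃
  rw [h1]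
  exact aug₂_snd hS I₁ I₃

lemma f_aug_hfst : S.f ≫ aug (res₂ hS I₁ I₃) ≫ hfst hS I₁ I₃ 0 = aug I₁ := by
  rw [aug_hfst, f_rho]

lemma f_aug : S.f ≫ aug (res₂ hS I₁ I₃) = aug I₁ ≫ hinl hS I₁ I₃ 0 := by
  have h1 : aug (res₂ hS I₁ I₃) = aug₂ hS I₁ I₃ := ι₂_f_zero hS I₁ I₃
  rw [h1]
  exact f_aug₂ hS I₁ I₃

end horseshoe

section objects

variable (K : CochainComplex A ℤ)

/-- boundaries in degree `p` -/
noncomputable def B (p : ℤ) : A := kernel (K.homologyπ p)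

/-- the inclusion of the boundaries into the cycles -/
noncomputable def ιB (p : ℤ) : B K p ⟶ K.cycles p := kernel.ι (K.homologyπ p)

instance mono_ιB (p : ℤ) : Mono (ιB K p) := by
  show Mono (kernel.ι (K.homologyπ p))
  infer_instance

lemma ιB_π (p : ℤ) : ιB K p ≫ K.homologyπ p = 0 := kernel.condition _

/-- `0 ⟶ B ⟶ Z ⟶ H ⟶ 0` -/
noncomputable def sesZ (p : ℤ) : ShortComplex A :=
  ShortComplex.mk (ιB K p) (K.homologyπ p) (ιB_π K p)

lemma sesZ_shortExact (p : ℤ) : (sesZ K p).ShortExact where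
  exact := ShortComplex.exact_of_f_is_kernel _ (kernelIsKernel _)
  mono_f := inferInstanceAs (Mono (ιB K p))
  epi_g := inferInstanceAs (Epi (K.homologyπ p))

/-- `K^p ⟶ B^{p+1}` -/
noncomputable def β (p : ℤ) : K.X p ⟶ B K (p + 1) :=
  kernel.lift _ (K.toCycles p (p + 1)) (K.toCycles_comp_homologyπ p (p + 1))

lemma β_ι (p : ℤ) : β K p ≫ ιB K (p + 1) = K.toCycles p (p + 1) :=
  kernel.lift_ι _ _ _

lemma β_ι_i (p : ℤ) : β K p ≫ ιB K (p + 1) ≫ K.iCycles (p + 1) = K.d p (p + 1) := by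
  rw [← Category.assoc, β_ι, K.toCycles_i]

lemma iCycles_β (p : ℤ) : K.iCycles p ≫ β K p = 0 := by
  rw [← cancel_mono (ιB K (p + 1)), ← cancel_mono (K.iCycles (p + 1)),
    Category.assoc, Category.assoc, β_ι_i, K.iCycles_d, zero_comp, zero_comp]

instance epi_β (p : ℤ) : Epi (β K p) := by
  rw [epi_iff_surjective_up_to_refinements]
  intro T x
  have hx : (x ≫ ιB K (p + 1)) ≫ K.homologyπ (p + 1) = 0 := by
    rw [Category.assoc, ιB_π, comp_zero]
  have hex : (ShortComplex.mk (K.toCycles p (p + 1)) (K.homologyπ (p + 1))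
      (K.toCycles_comp_homologyπ p (p + 1))).Exact :=
    ShortComplex.exact_of_g_is_cokernel _ (K.homologyIsCokernel p (p + 1) (by simp))
  obtain ⟨T', π, hπ, y, hy⟩ := hex.exact_up_to_refinements _ hx
  refine ⟨T', π, hπ, y, ?_⟩
  rw [← cancel_mono (ιB K (p + 1)), Category.assoc, Category.assoc, β_ι]
  exact hy

/-- `0 ⟶ Z ⟶ K ⟶ B ⟶ 0` -/
noncomputable def sesK (p : ℤ) : ShortComplex A :=
  ShortComplex.mk (K.iCycles p) (β K p) (iCycles_β K p)

lemma sesK_shortExact (p : ℤ) : (sesK K p).ShortExact where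
  exact := by
    rw [ShortComplex.exact_iff_exact_up_to_refinements]
    intro T x hx
    obtain ⟨y, hy⟩ : ∃ y : T ⟶ K.X p, y = x := ⟨x, rfl⟩
    subst hy
    have hx' : y ≫ K.d p (p + 1) = 0 := by
      have : y ≫ β K p = 0 := hx
      rw [← β_ι_i, reassoc_of% this, zero_comp]
    refine ⟨T, 𝟙 T, inferInstance, K.liftCycles y (p + 1) (by simp) hx', ?_⟩
    show 𝟙 T ≫ y = K.liftCycles y (p + 1) (by simp) hx' ≫ K.iCycles p
    rw [Category.id_comp, K.liftCycles_i]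
  mono_f := inferInstanceAs (Mono (K.iCycles p))
  epi_g := inferInstanceAs (Epi (β K p))

end objects

section res

lemma exists_res (M : A) :
    ∃ R : InjectiveResolution M, IsZero M → ∀ n, IsZero (R.cocomplex.X n) := by
  by_cases h : IsZero M
  · have := h.injective
    refine ⟨InjectiveResolution.self M, fun _ n => ?_⟩
    cases n with
    | zero => exact h
    | succ n => exact HomologicalComplex.isZero_single_obj_X _ _ _ _ (by simp)
  · exact ⟨Classical.choice (HasInjectiveResolution.out (Z := M)), fun h' => absurd h' h⟩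

/-- a chosen injective resolution, zero for zero objects -/
noncomputable def res (M : A) : InjectiveResolution M := (exists_res M).choose

lemma isZero_res (M : A) (h : IsZero M) (n : ℕ) : IsZero ((res M).cocomplex.X n) :=
  (exists_res M).choose_spec h n

variable (K : CochainComplex A ℤ)

/-- resolutions of the boundaries -/
noncomputable def RB (p : ℤ) : InjectiveResolution (B K p) := res _

/-- resolutions of the cohomology -/
noncomputable def RH (p : ℤ) : InjectiveResolution (K.homology p) := res _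

/-- resolutions of the cycles -/
noncomputable def RZ (p : ℤ) : InjectiveResolution (K.cycles p) :=
  res₂ (sesZ_shortExact K p) (RB K p) (RH K p)

/-- resolutions of the terms -/
noncomputable def RK (p : ℤ) : InjectiveResolution (K.X p) :=
  res₂ (sesK_shortExact K p) (RZ K p) (RB K (p + 1))

lemma aug_RZ (p : ℤ) : aug (RZ K p) = aug₂ (sesZ_shortExact K p) (RB K p) (RH K p) :=
  ι₂_f_zero _ _ _

lemma aug_RK (p : ℤ) : aug (RK K p) = aug₂ (sesK_shortExact K p) (RZ K p) (RB K (p + 1)) :=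
  ι₂_f_zero _ _ _

/-! typed structure maps of `RZ` -/

/-- `RB p ⟶ RZ p` -/
noncomputable def zinl (p : ℤ) (n : ℕ) : (RB K p).cocomplex.X n ⟶ (RZ K p).cocomplex.X n :=
  hinl (sesZ_shortExact K p) (RB K p) (RH K p) n
/-- `RH p ⟶ RZ p` (degreewise) -/
noncomputable def zinr (p : ℤ) (n : ℕ) : (RH K p).cocomplex.X n ⟶ (RZ K p).cocomplex.X n :=
  hinr (sesZ_shortExact K p) (RB K p) (RH K p) n
/-- `RZ p ⟶ RB p` (degreewise) -/
noncomputable def zfst (p : ℤ) (n : ℕ) : (RZ K p).cocomplex.X n ⟶ (RB K p).cocomplex.X n :=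
  hfst (sesZ_shortExact K p) (RB K p) (RH K p) n
/-- `RZ p ⟶ RH p` -/
noncomputable def zsnd (p : ℤ) (n : ℕ) : (RZ K p).cocomplex.X n ⟶ (RH K p).cocomplex.X n :=
  hsnd (sesZ_shortExact K p) (RB K p) (RH K p) n

lemma zinl_zfst (p : ℤ) (n : ℕ) : zinl K p n ≫ zfst K p n = 𝟙 _ := hinl_hfst _ _ _ n
lemma zinl_zsnd (p : ℤ) (n : ℕ) : zinl K p n ≫ zsnd K p n = 0 := hinl_hsnd _ _ _ n
lemma zinr_zfst (p : ℤ) (n : ℕ) : zinr K p n ≫ zfst K p n = 0 := hinr_hfst _ _ _ n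
lemma zinr_zsnd (p : ℤ) (n : ℕ) : zinr K p n ≫ zsnd K p n = 𝟙 _ := hinr_hsnd _ _ _ n
lemma ztotal (p : ℤ) (n : ℕ) : zfst K p n ≫ zinl K p n + zsnd K p n ≫ zinr K p n = 𝟙 _ :=
  htotal _ _ _ n
instance (p : ℤ) (n : ℕ) : Mono (zinl K p n) := mono_of_mono_fac (zinl_zfst K p n)
instance (p : ℤ) (n : ℕ) : Epi (zsnd K p n) := epi_of_epi_fac (zinr_zsnd K p n)

lemma zinl_d (p : ℤ) (n : ℕ) : zinl K p n ≫ (RZ K p).cocomplex.d n (n + 1) =
    (RB K p).cocomplex.d n (n + 1) ≫ zinl K p (n + 1) := hinl_d _ _ _ n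
lemma d_zsnd (p : ℤ) (n : ℕ) : (RZ K p).cocomplex.d n (n + 1) ≫ zsnd K p (n + 1) =
    zsnd K p n ≫ (RH K p).cocomplex.d n (n + 1) := d_hsnd _ _ _ n
lemma aug_zsnd (p : ℤ) : aug (RZ K p) ≫ zsnd K p 0 = K.homologyπ p ≫ aug (RH K p) :=
  aug_hsnd _ _ _

/-! typed structure maps of `RK` -/

/-- `RZ p ⟶ RK p` -/
noncomputable def kinl (p : ℤ) (n : ℕ) : (RZ K p).cocomplex.X n ⟶ (RK K p).cocomplex.X n :=
  hinl (sesK_shortExact K p) (RZ K p) (RB K (p + 1)) n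
/-- `RB (p + 1) ⟶ RK p` (degreewise) -/
noncomputable def kinr (p : ℤ) (n : ℕ) : (RB K (p + 1)).cocomplex.X n ⟶ (RK K p).cocomplex.X n :=
  hinr (sesK_shortExact K p) (RZ K p) (RB K (p + 1)) n
/-- `RK p ⟶ RZ p` (degreewise) -/
noncomputable def kfst (p : ℤ) (n : ℕ) : (RK K p).cocomplex.X n ⟶ (RZ K p).cocomplex.X n :=
  hfst (sesK_shortExact K p) (RZ K p) (RB K (p + 1)) n
/-- `RK p ⟶ RB (p + 1)` -/
noncomputable def ksnd (p : ℤ) (n : ℕ) : (RK K p).cocomplex.X n ⟶ (RB K (p + 1)).cocomplex.X n :=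
  hsnd (sesK_shortExact K p) (RZ K p) (RB K (p + 1)) n
/-- the twisting maps of `RK` -/
noncomputable def kth (p : ℤ) (n : ℕ) :
    (RB K (p + 1)).cocomplex.X n ⟶ (RZ K p).cocomplex.X (n + 1) :=
  th (sesK_shortExact K p) (RZ K p) (RB K (p + 1)) n

lemma kinl_kfst (p : ℤ) (n : ℕ) : kinl K p n ≫ kfst K p n = 𝟙 _ := hinl_hfst _ _ _ n
lemma kinl_ksnd (p : ℤ) (n : ℕ) : kinl K p n ≫ ksnd K p n = 0 := hinl_hsnd _ _ _ n
lemma kinr_kfst (p : ℤ) (n : ℕ) : kinr K p n ≫ kfst K p n = 0 := hinr_hfst _ _ _ n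
lemma kinr_ksnd (p : ℤ) (n : ℕ) : kinr K p n ≫ ksnd K p n = 𝟙 _ := hinr_hsnd _ _ _ n
lemma ktotal (p : ℤ) (n : ℕ) : kfst K p n ≫ kinl K p n + ksnd K p n ≫ kinr K p n = 𝟙 _ :=
  htotal _ _ _ n
instance (p : ℤ) (n : ℕ) : Mono (kinl K p n) := mono_of_mono_fac (kinl_kfst K p n)
instance (p : ℤ) (n : ℕ) : Epi (ksnd K p n) := epi_of_epi_fac (kinr_ksnd K p n)

lemma kinl_d (p : ℤ) (n : ℕ) : kinl K p n ≫ (RK K p).cocomplex.d n (n + 1) =
    (RZ K p).cocomplex.d n (n + 1) ≫ kinl K p (n + 1) := hinl_d _ _ _ n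
lemma d_ksnd (p : ℤ) (n : ℕ) : (RK K p).cocomplex.d n (n + 1) ≫ ksnd K p (n + 1) =
    ksnd K p n ≫ (RB K (p + 1)).cocomplex.d n (n + 1) := d_hsnd _ _ _ n
lemma d_kfst (p : ℤ) (n : ℕ) : (RK K p).cocomplex.d n (n + 1) ≫ kfst K p (n + 1) =
    kfst K p n ≫ (RZ K p).cocomplex.d n (n + 1) + ksnd K p n ≫ kth K p n := d_hfst _ _ _ n
lemma iCycles_aug_kfst (p : ℤ) : K.iCycles p ≫ aug (RK K p) ≫ kfst K p 0 = aug (RZ K p) :=
  f_aug_hfst (sesK_shortExact K p) (RZ K p) (RB K (p + 1))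
lemma iCycles_aug (p : ℤ) : K.iCycles p ≫ aug (RK K p) = aug (RZ K p) ≫ kinl K p 0 :=
  f_aug (sesK_shortExact K p) (RZ K p) (RB K (p + 1))
lemma aug_ksnd (p : ℤ) : aug (RK K p) ≫ ksnd K p 0 = β K p ≫ aug (RB K (p + 1)) :=
  aug_hsnd (sesK_shortExact K p) (RZ K p) (RB K (p + 1))
lemma ιB_aug (p : ℤ) : ιB K p ≫ aug (RZ K p) = aug (RB K p) ≫ zinl K p 0 :=
  f_aug (sesZ_shortExact K p) (RB K p) (RH K p)

/-- the horizontal differential -/
noncomputable def δ (p : ℤ) (n : ℕ) : (RK K p).cocomplex.X n ⟶ (RK K (p + 1)).cocomplex.X n :=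
  ksnd K p n ≫ zinl K (p + 1) n ≫ kinl K (p + 1) n

lemma δ_δ (p : ℤ) (n : ℕ) : δ K p n ≫ δ K (p + 1) n = 0 := by
  unfold δ
  simp only [Category.assoc]
  rw [reassoc_of% (kinl_ksnd K (p + 1) n), zero_comp, comp_zero, comp_zero]

lemma δ_d (p : ℤ) (n : ℕ) : δ K p n ≫ (RK K (p + 1)).cocomplex.d n (n + 1) =
    (RK K p).cocomplex.d n (n + 1) ≫ δ K p (n + 1) := by
  unfold δ
  simp only [Category.assoc]
  rw [kinl_d, reassoc_of% (zinl_d K (p + 1) n), reassoc_of% (d_ksnd K p n)]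

lemma d_aug (p : ℤ) : K.d p (p + 1) ≫ aug (RK K (p + 1)) = aug (RK K p) ≫ δ K p 0 := by
  unfold δ
  rw [reassoc_of% (aug_ksnd K p), ← reassoc_of% (ιB_aug K (p + 1)), ← iCycles_aug, ← β_ι_i]
  simp only [Category.assoc]

/-- the `n`-th row -/
noncomputable def Row (n : ℕ) : CochainComplex A ℤ :=
  CochainComplex.of (fun p => (RK K p).cocomplex.X n) (fun p => δ K p n) (fun p => δ_δ K p n)

lemma Row_d (n : ℕ) (p : ℤ) : (Row K n).d p (p + 1) = δ K p n := by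
  show CochainComplex.of.d (fun p => (RK K p).cocomplex.X n) (fun p => δ K p n) p (p + 1) = _
  exact CochainComplex.of_d _ _ p

/-- the vertical differential -/
noncomputable def vert (n : ℕ) : Row K n ⟶ Row K (n + 1) :=
  CochainComplex.ofHom (X := Row K n) (Y := Row K (n + 1))
    (fun p => (RK K p).cocomplex.d n (n + 1)) (fun p => by
      rw [Row_d, Row_d]
      exact (δ_d K p n).symm)

lemma vert_f (n : ℕ) (p : ℤ) : (vert K n).f p = (RK K p).cocomplex.d n (n + 1) := rfl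

lemma vert_vert (n : ℕ) : vert K n ≫ vert K (n + 1) = 0 := by
  ext p
  rw [HomologicalComplex.comp_f, vert_f, vert_f, HomologicalComplex.zero_f]
  exact (RK K p).cocomplex.d_comp_d _ _ _

/-- the double complex, as an `ℕ`-indexed complex of rows -/
noncomputable def J : CochainComplex (CochainComplex A ℤ) ℕ :=
  CochainComplex.of (Row K) (vert K) (vert_vert K)

lemma J_d (n : ℕ) : (J K).d n (n + 1) = vert K n := by
  show CochainComplex.of.d (Row K) (vert K) n (n + 1) = _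
  exact CochainComplex.of_d _ _ n

/-- the augmentation, to the zeroth row -/
noncomputable def εRow : K ⟶ Row K 0 where
  f p := aug (RK K p)
  comm' p p' h := by
    obtain rfl : p + 1 = p' := h
    show aug (RK K p) ≫ (Row K 0).d p (p + 1) = K.d p (p + 1) ≫ aug (RK K (p + 1))
    rw [Row_d]
    exact (d_aug K p).symm

lemma εRow_f (p : ℤ) : (εRow K).f p = aug (RK K p) := rfl

/-- the augmentation -/
noncomputable def ε₀ : K ⟶ (J K).X 0 := εRow K

lemma ε₀_f (p : ℤ) : (ε₀ K).f p = aug (RK K p) := rfl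

lemma ε₀_d : ε₀ K ≫ (J K).d 0 1 = 0 := by
  ext p
  rw [HomologicalComplex.comp_f, HomologicalComplex.zero_f]
  show aug (RK K p) ≫ ((J K).d 0 (0 + 1)).f p = 0
  rw [J_d, vert_f]
  exact aug_d (RK K p)

section zero

variable {K} in
lemma isZero_cycles_of_isZero {p : ℤ} (h : IsZero (K.X p)) : IsZero (K.cycles p) :=
  IsZero.of_mono (K.iCycles p) h

variable {K} in
lemma isZero_homology_of_isZero {p : ℤ} (h : IsZero (K.X p)) : IsZero (K.homology p) := by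
  rw [IsZero.iff_id_eq_zero, ← cancel_epi (K.homologyπ p)]
  exact (isZero_cycles_of_isZero h).eq_of_src _ _

variable {K} in
lemma isZero_B_of_isZero {p : ℤ} (h : IsZero (K.X p)) : IsZero (B K p) :=
  IsZero.of_mono (ιB K p) (isZero_cycles_of_isZero h)

variable {K} in
lemma isZero_B_succ_of_isZero {p : ℤ} (h : IsZero (K.X p)) : IsZero (B K (p + 1)) := by
  rw [IsZero.iff_id_eq_zero, ← cancel_epi (β K p)]
  exact h.eq_of_src _ _

lemma isZero_RB {p : ℤ} (h : IsZero (B K p)) (n : ℕ) : IsZero ((RB K p).cocomplex.X n) :=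
  isZero_res _ h n

lemma isZero_RH {p : ℤ} (h : IsZero (K.homology p)) (n : ℕ) :
    IsZero ((RH K p).cocomplex.X n) :=
  isZero_res _ h n

lemma isZero_RZ {p : ℤ} (h : IsZero (K.X p)) (n : ℕ) : IsZero ((RZ K p).cocomplex.X n) := by
  rw [IsZero.iff_id_eq_zero, ← ztotal K p n,
    (isZero_RB K (isZero_B_of_isZero h) n).eq_of_tgt (zfst K p n) 0,
    (isZero_RH K (isZero_homology_of_isZero h) n).eq_of_tgt (zsnd K p n) 0, zero_comp, zero_comp,
    add_zero]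

lemma isZero_RK {p : ℤ} (h : IsZero (K.X p)) (n : ℕ) : IsZero ((RK K p).cocomplex.X n) := by
  rw [IsZero.iff_id_eq_zero, ← ktotal K p n,
    (isZero_RZ K h n).eq_of_tgt (kfst K p n) 0,
    (isZero_RB K (isZero_B_succ_of_isZero h) n).eq_of_tgt (ksnd K p n) 0, zero_comp, zero_comp,
    add_zero]

end zero

end res

end Groth.Agent.Lib.Helper6.CEMain
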