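import Mathlib
import Groth.Agent.Lib.Helper6.CEMain

/-!
# Cartan–Eilenberg resolutions, part 3: cycles and homology of the rows (helper6 library)
-/

set_option autoImplicit false
universe v u
open CategoryTheory CategoryTheory.Limits

namespace Groth.Agent.Lib.Helper6.CERes

open Groth.Agent.Lib.Helper47.Horseshoe Groth.Agent.Lib.Helper6.CEBase
  Groth.Agent.Lib.Helper6.CEMain

variable {A : Type u} [Category.{v} A] [Abelian A] [EnoughInjectives A]
  (K : CochainComplex A ℤ)

section cycles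

variable (n : ℕ) (p : ℤ)

/-- the inclusion of the cycles of a row -/
noncomputable def rowι : (Row K n).cycles p ⟶ (RK K p).cocomplex.X n := (Row K n).iCycles p

instance : Mono (rowι K n p) := inferInstanceAs (Mono ((Row K n).iCycles p))

lemma rowι_δ : rowι K n p ≫ δ K p n = 0 := by
  rw [← Row_d]
  exact (Row K n).iCycles_d p (p + 1)

lemma rowι_ksnd : rowι K n p ≫ ksnd K p n = 0 := by
  have h := rowι_δ K n p
  unfold δ at h
  rw [← Category.assoc, ← Category.assoc] at h
  have : Mono (zinl K (p + 1) n ≫ kinl K (p + 1) n) := mono_comp _ _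
  rw [Category.assoc] at h
  exact zero_of_comp_mono _ h

/-- lifting to the cycles of a row -/
noncomputable def rowLift {T : A} (x : T ⟶ (RK K p).cocomplex.X n) (hx : x ≫ δ K p n = 0) :
    T ⟶ (Row K n).cycles p :=
  (Row K n).liftCycles x (p + 1) (by simp) (by rw [Row_d]; exact hx)

lemma rowLift_ι {T : A} (x : T ⟶ (RK K p).cocomplex.X n) (hx : x ≫ δ K p n = 0) :
    rowLift K n p x hx ≫ rowι K n p = x :=
  (Row K n).liftCycles_i _ _ _ _

lemma kinl_δ : kinl K p n ≫ δ K p n = 0 := by
  unfold δ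
  rw [reassoc_of% (kinl_ksnd K p n), zero_comp]

/-- the cycles of the rows are the resolutions of the cycles -/
noncomputable def θZ : (Row K n).cycles p ≅ (RZ K p).cocomplex.X n where
  hom := rowι K n p ≫ kfst K p n
  inv := rowLift K n p (kinl K p n) (kinl_δ K n p)
  hom_inv_id := by
    rw [← cancel_mono (rowι K n p), Category.assoc, Category.assoc, rowLift_ι, Category.id_comp]
    have h : kfst K p n ≫ kinl K p n = 𝟙 _ - ksnd K p n ≫ kinr K p n :=
      eq_sub_of_add_eq (ktotal K p n)
    rw [h, Preadditive.comp_sub, Category.comp_id, reassoc_of% (rowι_ksnd K n p), zero_comp,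
      sub_zero]
  inv_hom_id := by
    rw [← Category.assoc, rowLift_ι, kinl_kfst]

lemma θZ_hom : (θZ K n p).hom = rowι K n p ≫ kfst K p n := rfl

lemma cyclesMap_vert_ι :
    HomologicalComplex.cyclesMap (vert K n) p ≫ rowι K (n + 1) p =
      rowι K n p ≫ (RK K p).cocomplex.d n (n + 1) :=
  HomologicalComplex.cyclesMap_i (vert K n) p

lemma cyclesMap_ε₀_ι :
    HomologicalComplex.cyclesMap (εRow K) p ≫ rowι K 0 p = K.iCycles p ≫ aug (RK K p) :=
  HomologicalComplex.cyclesMap_i (εRow K) p

lemma R1Z : HomologicalComplex.cyclesMap (vert K n) p ≫ (θZ K (n + 1) p).hom =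
    (θZ K n p).hom ≫ (RZ K p).cocomplex.d n (n + 1) := by
  rw [θZ_hom, θZ_hom, ← Category.assoc, cyclesMap_vert_ι, Category.assoc, d_kfst,
    Preadditive.comp_add, reassoc_of% (rowι_ksnd K n p), zero_comp, add_zero, Category.assoc]

lemma R2Z : HomologicalComplex.cyclesMap (εRow K) p ≫ (θZ K 0 p).hom = aug (RZ K p) := by
  rw [θZ_hom, ← Category.assoc, cyclesMap_ε₀_ι, Category.assoc, iCycles_aug_kfst]

end cycles

section homology

variable (n : ℕ) (p : ℤ)

/-- the projection from cycles to homology of a row -/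
noncomputable def rowπ : (Row K n).cycles p ⟶ (Row K n).homology p := (Row K n).homologyπ p

instance : Epi (rowπ K n p) := inferInstanceAs (Epi ((Row K n).homologyπ p))

/-- the map to the cycles of a row in degree `p + 1` -/
noncomputable def rowTo : (RK K p).cocomplex.X n ⟶ (Row K n).cycles (p + 1) :=
  (Row K n).toCycles p (p + 1)

lemma rowTo_ι : rowTo K n p ≫ rowι K n (p + 1) = δ K p n := by
  rw [← Row_d]
  exact (Row K n).toCycles_i p (p + 1)

lemma rowTo_π : rowTo K n p ≫ rowπ K n (p + 1) = 0 :=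
  (Row K n).toCycles_comp_homologyπ p (p + 1)

lemma rowTo_θZ_zsnd : rowTo K n p ≫ (θZ K n (p + 1)).hom ≫ zsnd K (p + 1) n = 0 := by
  rw [θZ_hom, Category.assoc, reassoc_of% (rowTo_ι K n p)]
  unfold δ
  simp only [Category.assoc]
  rw [reassoc_of% (kinl_kfst K (p + 1) n), zinl_zsnd, comp_zero]

/-- the map from the homology of a row to the resolution of the homology -/
noncomputable def θHhom : (Row K n).homology (p + 1) ⟶ (RH K (p + 1)).cocomplex.X n :=
  ((Row K n).homologyIsCokernel p (p + 1) (by simp)).desc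
    (CokernelCofork.ofπ ((θZ K n (p + 1)).hom ≫ zsnd K (p + 1) n) (rowTo_θZ_zsnd K n p))

lemma π_θHhom : rowπ K n (p + 1) ≫ θHhom K n p = (θZ K n (p + 1)).hom ≫ zsnd K (p + 1) n :=
  ((Row K n).homologyIsCokernel p (p + 1) (by simp)).fac
    (CokernelCofork.ofπ ((θZ K n (p + 1)).hom ≫ zsnd K (p + 1) n) (rowTo_θZ_zsnd K n p))
    WalkingParallelPair.one

lemma zinl_θZ_inv : zinl K (p + 1) n ≫ (θZ K n (p + 1)).inv = kinr K p n ≫ rowTo K n p := by
  rw [← cancel_mono (rowι K n (p + 1)), Category.assoc, Category.assoc, rowTo_ι]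
  show zinl K (p + 1) n ≫ rowLift K n (p + 1) (kinl K (p + 1) n) (kinl_δ K n (p + 1)) ≫
    rowι K n (p + 1) = _
  rw [rowLift_ι]
  unfold δ
  rw [reassoc_of% (kinr_ksnd K p n)]

/-- the homology of the rows are the resolutions of the homology -/
noncomputable def θH : (Row K n).homology (p + 1) ≅ (RH K (p + 1)).cocomplex.X n where
  hom := θHhom K n p
  inv := zinr K (p + 1) n ≫ (θZ K n (p + 1)).inv ≫ rowπ K n (p + 1)
  hom_inv_id := by
    rw [← cancel_epi (rowπ K n (p + 1)), reassoc_of% (π_θHhom K n p), Category.comp_id]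
    have h : zsnd K (p + 1) n ≫ zinr K (p + 1) n = 𝟙 _ - zfst K (p + 1) n ≫ zinl K (p + 1) n :=
      eq_sub_of_add_eq' (ztotal K (p + 1) n)
    rw [reassoc_of% h, Preadditive.sub_comp, Preadditive.comp_sub, Category.id_comp,
      Iso.hom_inv_id_assoc, Category.assoc, reassoc_of% (zinl_θZ_inv K n p), rowTo_π, comp_zero,
      comp_zero, comp_zero, sub_zero]
  inv_hom_id := by
    rw [Category.assoc, Category.assoc, π_θHhom, Iso.inv_hom_id_assoc, zinr_zsnd]

lemma θH_hom : (θH K n p).hom = θHhom K n p := rfl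

lemma R1H : HomologicalComplex.homologyMap (vert K n) (p + 1) ≫ (θH K (n + 1) p).hom =
    (θH K n p).hom ≫ (RH K (p + 1)).cocomplex.d n (n + 1) := by
  rw [← cancel_epi (rowπ K n (p + 1)), θH_hom, θH_hom, reassoc_of% (π_θHhom K n p)]
  have h1 : rowπ K n (p + 1) ≫ HomologicalComplex.homologyMap (vert K n) (p + 1) =
      HomologicalComplex.cyclesMap (vert K n) (p + 1) ≫ rowπ K (n + 1) (p + 1) :=
    HomologicalComplex.homologyπ_naturality (vert K n) (p + 1)
  rw [reassoc_of% h1, π_θHhom, reassoc_of% (R1Z K n (p + 1)), d_zsnd]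

lemma R2H : HomologicalComplex.homologyMap (εRow K) (p + 1) ≫ (θH K 0 p).hom =
    aug (RH K (p + 1)) := by
  rw [← cancel_epi (K.homologyπ (p + 1)), θH_hom]
  have h1 : K.homologyπ (p + 1) ≫ HomologicalComplex.homologyMap (εRow K) (p + 1) =
      HomologicalComplex.cyclesMap (εRow K) (p + 1) ≫ rowπ K 0 (p + 1) :=
    HomologicalComplex.homologyπ_naturality (εRow K) (p + 1)
  rw [reassoc_of% h1, π_θHhom, reassoc_of% (R2Z K (p + 1)), aug_zsnd]

end homology

end Groth.Agent.Lib.Helper6.CERes
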