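import Mathlib
import Groth.Agent.Lib.Helper6.CERes

/-!
# Cartan–Eilenberg resolutions, part 4: the theorem (helper6 library)
-/

set_option autoImplicit false
universe v u
open CategoryTheory CategoryTheory.Limits

namespace Groth.Agent.Lib.Helper6.CEFinal

open Groth.Agent.Lib.Helper47.Horseshoe Groth.Agent.Lib.Helper6.CEBase
  Groth.Agent.Lib.Helper6.CEMain Groth.Agent.Lib.Helper6.CERes

variable {A : Type u} [Category.{v} A] [Abelian A] [EnoughInjectives A]
  (K : CochainComplex A ℤ)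

lemma resX (p : ℤ) : CE.IsInjResolutionVia
    (((HomologicalComplex.eval A (ComplexShape.up ℤ) p).mapHomologicalComplex
      (ComplexShape.up ℤ)).obj (ext (J K))) (K.X p) ((extAug (J K) (ε₀ K)).f p) :=
  isInjResolutionVia_extend (J K) (ε₀ K) (HomologicalComplex.eval A (ComplexShape.up ℤ) p)
    (RK K p) (fun n => Iso.refl _) (fun n => by
      show ((J K).d n (n + 1)).f p ≫ 𝟙 _ = 𝟙 _ ≫ (RK K p).cocomplex.d n (n + 1)
      rw [J_d, vert_f]
      exact (Category.comp_id _).trans (Category.id_comp _).symm) (by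
      show (ε₀ K).f p ≫ 𝟙 _ = aug (RK K p)
      rw [Category.comp_id, ε₀_f])

lemma resZ (p : ℤ) : CE.IsInjResolutionVia
    (((HomologicalComplex.cyclesFunctor A (ComplexShape.up ℤ) p).mapHomologicalComplex
      (ComplexShape.up ℤ)).obj (ext (J K))) (K.cycles p)
      (HomologicalComplex.cyclesMap (extAug (J K) (ε₀ K)) p) :=
  isInjResolutionVia_extend (J K) (ε₀ K) (HomologicalComplex.cyclesFunctor A (ComplexShape.up ℤ) p)
    (RZ K p) (fun n => θZ K n p) (fun n => by
      show HomologicalComplex.cyclesMap ((J K).d n (n + 1)) p ≫ (θZ K (n + 1) p).hom =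
        (θZ K n p).hom ≫ (RZ K p).cocomplex.d n (n + 1)
      rw [J_d]
      exact R1Z K n p) (R2Z K p)

lemma resH' (p : ℤ) : CE.IsInjResolutionVia
    (((HomologicalComplex.homologyFunctor A (ComplexShape.up ℤ) (p + 1)).mapHomologicalComplex
      (ComplexShape.up ℤ)).obj (ext (J K))) (K.homology (p + 1))
      (HomologicalComplex.homologyMap (extAug (J K) (ε₀ K)) (p + 1)) :=
  isInjResolutionVia_extend (J K) (ε₀ K)
    (HomologicalComplex.homologyFunctor A (ComplexShape.up ℤ) (p + 1))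
    (RH K (p + 1)) (fun n => θH K n p) (fun n => by
      show HomologicalComplex.homologyMap ((J K).d n (n + 1)) (p + 1) ≫ (θH K (n + 1) p).hom =
        (θH K n p).hom ≫ (RH K (p + 1)).cocomplex.d n (n + 1)
      rw [J_d]
      exact R1H K n p) (R2H K p)

lemma resH (p : ℤ) : CE.IsInjResolutionVia
    (((HomologicalComplex.homologyFunctor A (ComplexShape.up ℤ) p).mapHomologicalComplex
      (ComplexShape.up ℤ)).obj (ext (J K))) (K.homology p)
      (HomologicalComplex.homologyMap (extAug (J K) (ε₀ K)) p) := by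
  obtain ⟨p', rfl⟩ : ∃ p', p = p' + 1 := ⟨p - 1, by ring⟩
  exact resH' K p'

lemma isZero_ext_X_X (n : ℤ) [K.IsStrictlyGE n] (p q : ℤ) (hp : p < n) :
    IsZero (((ext (J K)).X q).X p) := by
  by_cases hq : q < 0
  · exact (HomologicalComplex.eval A (ComplexShape.up ℤ) p).map_isZero (isZero_ext_X (J K) q hq)
  · obtain ⟨m, rfl⟩ : ∃ m : ℕ, q = (m : ℤ) := ⟨q.toNat, by lia⟩
    exact IsZero.of_iso (isZero_RK K (K.isZero_of_isStrictlyGE n p hp) m)
      ((HomologicalComplex.eval A (ComplexShape.up ℤ) p).mapIso (xiso (J K) m))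

theorem exists_cartanEilenberg (n : ℤ) [K.IsStrictlyGE n] :
    ∃ (I : CochainComplex (CochainComplex A ℤ) ℤ) (ε : K ⟶ I.X 0) (_ : ε ≫ I.d 0 1 = 0),
      (∃ i : ℤ, ∀ p q : ℤ, p < i → IsZero ((I.X q).X p)) ∧
      (∀ p : ℤ, CE.IsInjResolutionVia (((HomologicalComplex.eval A (ComplexShape.up ℤ)
        p).mapHomologicalComplex (ComplexShape.up ℤ)).obj I) (K.X p) (ε.f p)) ∧
      (∀ p : ℤ, CE.IsInjResolutionVia (((HomologicalComplex.cyclesFunctor A (ComplexShape.up ℤ)
        p).mapHomologicalComplex (ComplexShape.up ℤ)).obj I) (K.cycles p)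
        (HomologicalComplex.cyclesMap ε p)) ∧
      (∀ p : ℤ, CE.IsInjResolutionVia (((HomologicalComplex.homologyFunctor A (ComplexShape.up ℤ)
        p).mapHomologicalComplex (ComplexShape.up ℤ)).obj I) (K.homology p)
        (HomologicalComplex.homologyMap ε p)) :=
  ⟨ext (J K), extAug (J K) (ε₀ K), extAug_d (J K) (ε₀ K) (ε₀_d K),
    ⟨n, fun p q hp => isZero_ext_X_X K n p q hp⟩, resX K, resZ K, resH K⟩

end Groth.Agent.Lib.Helper6.CEFinal
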