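import Mathlib
import Groth.Agent.Lib.Helper94.KanOp

/-!
# Kan extension transfer lemmas (helper6)

* `KanDual.isLeftKanExtension_precomp_iso`: left Kan extensions are preserved by precomposition
  with a functor `T` such that whiskering by `T` is fully faithful (dual of helper36 `KanPre`).
* `KanDual.isRightKanExtension_unop`: a left Kan extension of `F.op` along `L.op` gives a right Kan
  extension of `F` along `L`.
* `KanDual.hasLeftDerivedFunctor_of_op`: if `F.op` has a right derived functor then `F` has a left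
  derived functor.
* `KanDual.hasLeftDerivedFunctor_of_isLeftDerivabilityStructure`.
-/

set_option autoImplicit false
universe v₀ v₁ v₂ v₃ u₀ u₁ u₂ u₃

open CategoryTheory CategoryTheory.Functor CategoryTheory.Limits Opposite

namespace Groth.Agent.Lib.Helper6.KanDual

section PreL

variable {C₀ : Type u₀} {C : Type u₁} {D : Type u₂} {H : Type u₃} [Category.{v₀} C₀]
  [Category.{v₁} C] [Category.{v₂} D] [Category.{v₃} H]
  (T : C₀ ⥤ C) {L : C ⥤ D} {F : C ⥤ H} (RF : D ⥤ H) (α : F ⟶ L ⋙ RF)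
  {L₀ : C₀ ⥤ D} {F₀ : C₀ ⥤ H} (e₁ : T ⋙ L ≅ L₀) (e₂ : T ⋙ F ≅ F₀)

/-- The whiskered unit, transported along isomorphisms. -/
def preαIso : F₀ ⟶ L₀ ⋙ RF where
  app X := e₂.inv.app X ≫ α.app (T.obj X) ≫ RF.map (e₁.hom.app X)
  naturality X Y f := by
    have h1 := e₁.hom.naturality f
    have h2 := α.naturality (T.map f)
    have h3 := e₂.inv.naturality f
    dsimp at h1 h2 h3 ⊢
    rw [reassoc_of% h3, reassoc_of% h2, Category.assoc, Category.assoc, ← RF.map_comp,
      ← RF.map_comp, h1]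

@[simp] lemma preαIso_app (X : C₀) :
    (preαIso T RF α e₁ e₂).app X = e₂.inv.app X ≫ α.app (T.obj X) ≫ RF.map (e₁.hom.app X) := rfl

/-- transport of a candidate extension -/
def transβ (G : D ⥤ H) (β : F₀ ⟶ L₀ ⋙ G) : T ⋙ F ⟶ T ⋙ (L ⋙ G) where
  app X := e₂.hom.app X ≫ β.app X ≫ G.map (e₁.inv.app X)
  naturality X Y f := by
    have h1 := e₁.inv.naturality f
    have h2 := β.naturality f
    have h3 := e₂.hom.naturality f
    dsimp at h1 h2 h3 ⊢
    rw [reassoc_of% h3, reassoc_of% h2, Category.assoc, Category.assoc, ← G.map_comp,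
      ← G.map_comp, h1]

theorem isLeftKanExtension_precomp_iso [((whiskeringLeft C₀ C H).obj T).Full]
    [((whiskeringLeft C₀ C H).obj T).Faithful] [RF.IsLeftKanExtension α] :
    RF.IsLeftKanExtension (preαIso T RF α e₁ e₂) := by
  have hpre : ∀ (G : D ⥤ H) (β₀ : T ⋙ F ⟶ T ⋙ (L ⋙ G)),
      ∃ β : F ⟶ L ⋙ G, ∀ X, β.app (T.obj X) = β₀.app X := by
    intro G β₀
    let β₀' : ((whiskeringLeft C₀ C H).obj T).obj F ⟶ ((whiskeringLeft C₀ C H).obj T).obj (L ⋙ G) :=
      { app := fun X => β₀.app X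
        naturality := fun X Y f => β₀.naturality f }
    obtain ⟨β, hβ⟩ := ((whiskeringLeft C₀ C H).obj T).map_surjective β₀'
    exact ⟨β, fun X => congr(($hβ).app X)⟩
  have hinj : ∀ (G : C ⥤ H) (β β' : F ⟶ G), (∀ X, β.app (T.obj X) = β'.app (T.obj X)) → β = β' := by
    intro G β β' h
    apply ((whiskeringLeft C₀ C H).obj T).map_injective
    ext X
    exact h X
  choose pre hpre using hpre
  refine ⟨⟨IsInitial.ofUniqueHom (fun Y => StructuredArrow.homMk
    (RF.descOfIsLeftKanExtension α Y.right (pre Y.right (transβ T e₁ e₂ Y.right Y.hom))) ?_) ?_⟩⟩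
  · ext X
    show (e₂.inv.app X ≫ α.app (T.obj X) ≫ RF.map (e₁.hom.app X)) ≫
      (RF.descOfIsLeftKanExtension α Y.right (pre Y.right (transβ T e₁ e₂ Y.right Y.hom))).app
        (L₀.obj X) = Y.hom.app X
    obtain ⟨δ, hδ⟩ : ∃ δ : RF ⟶ Y.right, δ = RF.descOfIsLeftKanExtension α Y.right
      (pre Y.right (transβ T e₁ e₂ Y.right Y.hom)) := ⟨_, rfl⟩
    have hn : RF.map (e₁.hom.app X) ≫ δ.app (L₀.obj X) =
        δ.app (L.obj (T.obj X)) ≫ Y.right.map (e₁.hom.app X) := δ.naturality (e₁.hom.app X)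
    have hf : α.app (T.obj X) ≫ δ.app (L.obj (T.obj X)) =
        e₂.hom.app X ≫ Y.hom.app X ≫ Y.right.map (e₁.inv.app X) := by
      rw [hδ, descOfIsLeftKanExtension_fac_app, hpre]
      rfl
    rw [← hδ]
    simp only [Category.assoc]
    rw [hn, reassoc_of% hf, Iso.inv_hom_id_app_assoc, ← Y.right.map_comp]
    have : e₁.inv.app X ≫ e₁.hom.app X = 𝟙 _ := Iso.inv_hom_id_app e₁ X
    rw [this]
    exact (congrArg (Y.hom.app X ≫ ·) (Y.right.map_id _)).trans (Category.comp_id _)
  · intro Y m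
    apply StructuredArrow.hom_ext
    obtain ⟨μ, hμ⟩ : ∃ μ : RF ⟶ Y.right, μ = m.right := ⟨m.right, rfl⟩
    have hw := StructuredArrow.w m
    have hw' : ∀ X, (e₂.inv.app X ≫ α.app (T.obj X) ≫ RF.map (e₁.hom.app X)) ≫ μ.app (L₀.obj X) =
        Y.hom.app X := fun X => by
      rw [hμ]
      exact congr(($hw).app X)
    rw [← hμ]
    show μ = RF.descOfIsLeftKanExtension α Y.right (pre Y.right (transβ T e₁ e₂ Y.right Y.hom))
    apply RF.hom_ext_of_isLeftKanExtension α
    rw [descOfIsLeftKanExtension_fac]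
    apply hinj
    intro X
    rw [hpre]
    show α.app (T.obj X) ≫ μ.app (L.obj (T.obj X)) =
      e₂.hom.app X ≫ Y.hom.app X ≫ Y.right.map (e₁.inv.app X)
    have hn' : RF.map (e₁.hom.app X) ≫ μ.app (L₀.obj X) ≫ Y.right.map (e₁.inv.app X) =
        μ.app (L.obj (T.obj X)) := by
      have h0 : μ.app (L₀.obj X) ≫ Y.right.map (e₁.inv.app X) =
          RF.map (e₁.inv.app X) ≫ μ.app (L.obj (T.obj X)) := (μ.naturality (e₁.inv.app X)).symm
      rw [h0, ← Category.assoc, ← RF.map_comp]
      have : e₁.hom.app X ≫ e₁.inv.app X = 𝟙 _ := Iso.hom_inv_id_app e₁ X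
      rw [this]
      exact (congrArg (· ≫ μ.app (L.obj (T.obj X))) (RF.map_id _)).trans (Category.id_comp _)
    rw [← hw' X]
    simp only [Category.assoc]
    rw [Iso.hom_inv_id_app_assoc, hn']

end PreL

section Unop

open Groth.Agent.Lib.Helper94.KanOp

variable {C : Type u₁} [Category.{v₁} C] {D : Type u₂} [Category.{v₂} D]
  {H : Type u₃} [Category.{v₃} H] {L : C ⥤ D} {F : C ⥤ H}

/-- the unop of a natural transformation `R' ⟶ G.op` -/
def unopDesc (R' : Dᵒᵖ ⥤ Hᵒᵖ) (G : D ⥤ H) (γ : R' ⟶ G.op) : G ⟶ R'.unop where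
  app Y := (γ.app (op Y)).unop
  naturality Y Y' f := by
    have := γ.naturality f.op
    exact Quiver.Hom.op_inj this.symm

/-- the op of a natural transformation `G ⟶ R'.unop` -/
def opDesc (R' : Dᵒᵖ ⥤ Hᵒᵖ) (G : D ⥤ H) (μ : G ⟶ R'.unop) : R' ⟶ G.op where
  app Y := (μ.app Y.unop).op
  naturality Y Y' f := by
    have := μ.naturality f.unop
    exact Quiver.Hom.unop_inj this.symm

theorem isRightKanExtension_unop (R' : Dᵒᵖ ⥤ Hᵒᵖ) (β : F.op ⟶ L.op ⋙ R')
    [R'.IsLeftKanExtension β] : R'.unop.IsRightKanExtension (unopCounit R' β) := by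
  refine ⟨⟨IsTerminal.ofUniqueHom (fun E => ?_) (fun E m => ?_)⟩⟩
  · refine CostructuredArrow.homMk
      (unopDesc R' E.left (R'.descOfIsLeftKanExtension β E.left.op (opUnit E.left E.hom))) ?_
    ext X
    have := R'.descOfIsLeftKanExtension_fac_app β E.left.op (opUnit E.left E.hom) (op X)
    exact Quiver.Hom.op_inj this
  · ext Y
    have h1 : opDesc R' E.left m.left =
        R'.descOfIsLeftKanExtension β E.left.op (opUnit E.left E.hom) := by
      refine R'.hom_ext_of_isLeftKanExtension β _ _ ?_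
      rw [R'.descOfIsLeftKanExtension_fac]
      ext X
      have := congr_app (CostructuredArrow.w m) X.unop
      exact Quiver.Hom.unop_inj this
    have := congr_app h1 (op Y)
    exact Quiver.Hom.op_inj this

variable (F) in
/-- if `F.op` has a right derived functor then `F` has a left derived functor -/
theorem hasLeftDerivedFunctor_of_op (W : MorphismProperty C)
    [F.op.HasRightDerivedFunctor W.op] : F.HasLeftDerivedFunctor W := by
  have : HasLeftKanExtension W.Q.op F.op :=
    (hasRightDerivedFunctor_iff F.op W.Q.op W.op).1 inferInstance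
  let R' := leftKanExtension W.Q.op F.op
  let β := leftKanExtensionUnit W.Q.op F.op
  have := isRightKanExtension_unop R' β
  rw [hasLeftDerivedFunctor_iff F W.Q W]
  exact HasRightKanExtension.mk R'.unop (unopCounit R' β)

end Unop

section Deriv

variable {C₁ : Type u₁} {C₂ : Type u₂} {H : Type u₃} [Category.{v₁} C₁] [Category.{v₂} C₂]
  [Category.{v₃} H] {W₁ : MorphismProperty C₁} {W₂ : MorphismProperty C₂}

theorem hasLeftDerivedFunctor_of_isLeftDerivabilityStructure (Φ : LocalizerMorphism W₁ W₂)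
    [Φ.IsLeftDerivabilityStructure] (F : C₂ ⥤ H) (hF : W₁.IsInvertedBy (Φ.functor ⋙ F)) :
    F.HasLeftDerivedFunctor W₂ := by
  have h : Φ.op.Derives F.op := hF.op
  have := h.hasPointwiseRightDerivedFunctor
  have : F.op.HasRightDerivedFunctor W₂.op := inferInstance
  exact hasLeftDerivedFunctor_of_op F W₂

end Deriv

end Groth.Agent.Lib.Helper6.KanDual
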