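import Mathlib
import Groth.Agent.Lib.Helper6.CellOrth
import Groth.Agent.Lib.Helper6.KanDual
import Groth.Agent.Lib.Helper94.ResolvingSub
import Groth.Agent.Lib.Helper94.DerivesLeft

/-!
# Left derived functors of left adjoints through cellular complexes (helper6)

Let `F : A ⥤ B` be a left adjoint (right adjoint `G`) between abelian categories, and `𝒵` a class
of complexes in `A` such that
* every object of `A` is a quotient of a `𝒵`-relatively projective object;
* for every injective `J` of `B` there is a K-injective complex `I` and a map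
  `ε : (G J)[0] ⟶ I` whose mapping cone is in `𝒵`.
Then `F` sends acyclic complexes of `LeftOrth 𝒵` to acyclic complexes (`acyclic_map`), the left
derived functor of `F` (on unbounded complexes) exists (`hasLeftDerivedFunctor_K`), and the counit of
any left derived functor is an isomorphism on `LeftOrth 𝒵` (`isIso_counit_app_K`).
-/

set_option autoImplicit false
set_option linter.unusedSectionVars false
universe w w' v v' u u'
open CategoryTheory CategoryTheory.Limits CochainComplex HomComplex HomotopyCategory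

namespace Groth.Agent.Lib.Helper6.CellDer

open Groth.Agent.Lib.Helper6.CellOrth

variable {A : Type u} [Category.{v} A] [Abelian A]

section Bridge

variable (𝒵 : CochainComplex A ℤ → Prop)

/-- the images in the homotopy category of the shifts of the members of `𝒵` -/
def Zh : ObjectProperty (HomotopyCategory A (.up ℤ)) := fun X =>
  ∃ (Z : CochainComplex A ℤ) (n : ℤ), 𝒵 Z ∧
    Nonempty (X ≅ (HomotopyCategory.quotient A (.up ℤ)).obj (Z⟦n⟧))

instance : (Zh 𝒵).IsStableUnderShift ℤ where
  isStableUnderShiftBy a := ⟨fun X hX => by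
    obtain ⟨Z, n, hZ, ⟨e⟩⟩ := hX
    refine ⟨Z, n + a, hZ, ⟨(CategoryTheory.shiftFunctor _ a).mapIso e ≪≫
      (((HomotopyCategory.quotient A (.up ℤ)).commShiftIso a).symm.app (Z⟦n⟧)) ≪≫
      (HomotopyCategory.quotient A (.up ℤ)).mapIso
        ((CategoryTheory.shiftFunctorAdd' (CochainComplex A ℤ) n a (n + a) rfl).symm.app Z)⟩⟩⟩

/-- the left orthogonal, in the homotopy category -/
abbrev SS : ObjectProperty (HomotopyCategory A (.up ℤ)) := (Zh 𝒵).leftOrthogonal

variable {𝒵}

lemma SS_quotient_obj_iff (K : CochainComplex A ℤ) :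
    SS 𝒵 ((HomotopyCategory.quotient A (.up ℤ)).obj K) ↔ LeftOrth 𝒵 K := by
  constructor
  · intro h Z hZ n m hm z hz
    let z' : Cocycle K Z n := Cocycle.mk z (n + 1) rfl hz
    have h0 : CohomologyClass.toHom (CohomologyClass.mk z') = 0 :=
      h _ ⟨Z, n, hZ, ⟨Iso.refl _⟩⟩
    rw [CohomologyClass.toHom_mk_eq_zero_iff, mem_coboundaries_iff z' m hm] at h0
    exact h0
  · intro h Y f hY
    obtain ⟨Z, n, hZ, ⟨e⟩⟩ := hY
    rw [← cancel_mono e.hom, zero_comp]
    obtain ⟨x, hx⟩ := (CohomologyClass.toHom_bijective K Z n).2 (f ≫ e.hom)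
    obtain ⟨z, rfl⟩ := x.mk_surjective
    rw [← hx, CohomologyClass.toHom_mk_eq_zero_iff, mem_coboundaries_iff z (n - 1) (by lia)]
    exact h Z hZ n (n - 1) (by lia) z.1 (z.δ_eq_zero _)

end Bridge

section Acyclic

variable {𝒵 : CochainComplex A ℤ → Prop}
  {B : Type u'} [Category.{v'} B] [Abelian B] [EnoughInjectives B]
  {F : A ⥤ B} {G : B ⥤ A} [F.Additive] (adj : F ⊣ G)
  (H : ∀ J : B, Injective J → ∃ (I : CochainComplex A ℤ)
    (ε : (CochainComplex.singleFunctor A 0).obj (G.obj J) ⟶ I),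
    I.IsKInjective ∧ 𝒵 (mappingCone ε))

include adj H in
/-- `F` sends acyclic complexes in the left orthogonal of `𝒵` to acyclic complexes -/
theorem acyclic_map (P : CochainComplex A ℤ) (hP : P.Acyclic) (hP' : LeftOrth 𝒵 P) :
    ((F.mapHomologicalComplex (ComplexShape.up ℤ)).obj P).Acyclic := by
  intro n
  rw [HomologicalComplex.exactAt_iff' _ (n - 1) n (n + 1) (by simp) (by simp),
    ShortComplex.exact_iff_mono_cokernel_desc]
  let f : F.obj (P.X (n - 1)) ⟶ F.obj (P.X n) := F.map (P.d (n - 1) n)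
  let g : F.obj (P.X n) ⟶ F.obj (P.X (n + 1)) := F.map (P.d n (n + 1))
  have w : f ≫ g = 0 := by
    dsimp only [f, g]
    rw [← F.map_comp, P.d_comp_d, F.map_zero]
  change Mono (cokernel.desc f g w)
  let J := Injective.under (cokernel f)
  let e : cokernel f ⟶ J := Injective.ι _
  let u : F.obj (P.X n) ⟶ J := cokernel.π f ≫ e
  have hu : f ≫ u = 0 := by
    dsimp only [u]
    rw [cokernel.condition_assoc, zero_comp]
  let u' : P.X n ⟶ G.obj J := adj.homEquiv _ _ u
  have hu' : P.d (n - 1) n ≫ u' = 0 := by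
    dsimp only [u']
    rw [← adj.homEquiv_naturality_left, hu]
    haveI : G.Additive := adj.right_adjoint_additive
    simp [Adjunction.homEquiv_unit]
  obtain ⟨I, ε, hI, hZ⟩ := H J inferInstance
  let α : Cocycle P ((CochainComplex.singleFunctor A 0).obj (G.obj J)) (-n) :=
    Cocycle.toSingleMk u' (add_neg_cancel n) (n - 1) (by simp) hu'
  obtain ⟨β, hβ⟩ := IsKInjective.eq_δ_of_cocycle (α.postcomp ε) hP (-n - 1) (by lia)
  let z : Cocycle P (mappingCone ε) (-n - 1) :=
    mappingCone.liftCocycle ε α (-β) (by lia) (by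
      rw [δ_neg, hβ]
      simp)
  obtain ⟨y, hy⟩ := hP' (mappingCone ε) hZ (-n - 1) (-n - 1 - 1) (by lia) z.1 (z.δ_eq_zero _)
  have hα : α ∈ coboundaries _ _ _ := by
    rw [mem_coboundaries_iff α (-n - 1) (by lia)]
    refine ⟨-(y.comp (mappingCone.fst ε).1 (by lia)), ?_⟩
    rw [δ_neg, δ_comp y (mappingCone.fst ε).1 (show -n - 1 - 1 + 1 = -n - 1 by lia) (-n - 1) 2
      (-n) (by lia) (by lia) (by lia), hy]
    simp [z]
  obtain ⟨g', hg'⟩ :=
    (Cocycle.toSingleMk_mem_coboundaries_iff u' (add_neg_cancel n) (n - 1) (by simp) hu'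
      (n + 1) rfl).1 hα
  let v : F.obj (P.X (n + 1)) ⟶ J := (adj.homEquiv _ _).symm g'
  have hv : g ≫ v = u := by
    dsimp only [g, v]
    rw [← adj.homEquiv_naturality_left_symm, hg']
    exact (adj.homEquiv _ _).symm_apply_apply u
  have fac : cokernel.desc f g w ≫ v = e := by
    rw [← cancel_epi (cokernel.π f), cokernel.π_desc_assoc, hv]
  exact mono_of_mono_fac fac

end Acyclic

section Derived

variable {𝒵 : CochainComplex A ℤ → Prop} [HasDerivedCategory.{w} A]
  [HasColimitsOfShape ℕ A] [HasExactColimitsOfShape ℕ A]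
  {B : Type u'} [Category.{v'} B] [Abelian B] [EnoughInjectives B] [HasDerivedCategory.{w'} B]
  {F : A ⥤ B} {G : B ⥤ A} [F.Additive] (adj : F ⊣ G)
  (hepi : ∀ X : A, ∃ (M : A) (p : M ⟶ X), Epi p ∧ RelProj 𝒵 M)
  (H : ∀ J : B, Injective J → ∃ (I : CochainComplex A ℤ)
    (ε : (CochainComplex.singleFunctor A 0).obj (G.obj J) ⟶ I),
    I.IsKInjective ∧ 𝒵 (mappingCone ε))

include hepi in
lemma hres (X : HomotopyCategory A (.up ℤ)) :
    ∃ (Y : HomotopyCategory A (.up ℤ)) (s : Y ⟶ X), SS 𝒵 Y ∧ (subcategoryAcyclic A).trW s := by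
  obtain ⟨K, rfl⟩ := X.quotient_obj_surjective
  obtain ⟨I, f, hf, hI⟩ := exists_resolution hepi K
  refine ⟨(HomotopyCategory.quotient A (.up ℤ)).obj I, (HomotopyCategory.quotient A (.up ℤ)).map f,
    (SS_quotient_obj_iff I).2 hI, ?_⟩
  rw [← quasiIso_eq_trW_subcategoryAcyclic, quotient_map_mem_quasiIso_iff,
    HomologicalComplex.mem_quasiIso_iff]
  exact hf

variable (F) in
/-- the functor `F` on the homotopy category, to `D(B)` -/
noncomputable abbrev FK : HomotopyCategory A (.up ℤ) ⥤ DerivedCategory B :=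
  F.mapHomotopyCategory (.up ℤ) ⋙ DerivedCategory.Qh

include adj H in
lemma hG : ((subcategoryAcyclic A).inverseImage (SS 𝒵).ι).trW.IsInvertedBy
    ((SS 𝒵).ι ⋙ FK F) := by
  intro X Y f hf
  rw [ObjectProperty.trW_iff] at hf
  obtain ⟨Z, g, h, hT, hZ⟩ := hf
  show IsIso (DerivedCategory.Qh.map
    ((F.mapHomotopyCategory _).map ((SS 𝒵).ι.map f)))
  rw [DerivedCategory.isIso_Qh_map_iff, quasiIso_eq_trW_subcategoryAcyclic]
  have hT' := (F.mapHomotopyCategory (.up ℤ)).map_distinguished _
    ((SS 𝒵).ι.map_distinguished _ hT)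
  rw [ObjectProperty.trW_iff]
  refine ⟨_, _, _, hT', ?_⟩
  obtain ⟨K', hK'⟩ := Z.obj.quotient_obj_surjective
  have hZ1 : SS 𝒵 ((HomotopyCategory.quotient A (.up ℤ)).obj K') := by
    rw [hK']
    exact Z.property
  have hZa : (subcategoryAcyclic A) ((HomotopyCategory.quotient A (.up ℤ)).obj K') := by
    rw [hK']
    exact hZ
  rw [quotient_obj_mem_subcategoryAcyclic_iff_acyclic] at hZa
  have hac := acyclic_map adj H K' hZa ((SS_quotient_obj_iff K').1 hZ1)
  rw [← quotient_obj_mem_subcategoryAcyclic_iff_acyclic] at hac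
  change (subcategoryAcyclic B) ((F.mapHomotopyCategory (.up ℤ)).obj Z.obj)
  rw [← hK']
  exact (subcategoryAcyclic B).prop_of_iso
    ((F.mapHomotopyCategoryFactors (.up ℤ)).symm.app K') hac

include hepi in
lemma isLeftDerivabilityStructure :
    ((SS 𝒵).triangulatedLocalizerMorphism (subcategoryAcyclic A)).IsLeftDerivabilityStructure :=
  Groth.Agent.Lib.Helper94.ResolvingSub.isLeftDerivabilityStructure (SS 𝒵)
    (subcategoryAcyclic A) (hres hepi)

include adj hepi H in
/-- existence of the left derived functor on the homotopy category -/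
theorem hasLeftDerivedFunctor_K :
    (FK F).HasLeftDerivedFunctor (HomotopyCategory.quasiIso A (ComplexShape.up ℤ)) := by
  rw [quasiIso_eq_trW_subcategoryAcyclic]
  haveI := isLeftDerivabilityStructure (𝒵 := 𝒵) hepi
  exact KanDual.hasLeftDerivedFunctor_of_isLeftDerivabilityStructure
    ((SS 𝒵).triangulatedLocalizerMorphism (subcategoryAcyclic A)) (FK F) (hG adj H)

include adj hepi H in
theorem isIso_counit_app_K {D : Type*} [Category D] (L : HomotopyCategory A (.up ℤ) ⥤ D)
    (W : MorphismProperty (HomotopyCategory A (.up ℤ))) (hW : W = (subcategoryAcyclic A).trW)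
    [L.IsLocalization W] {LF : D ⥤ DerivedCategory B}
    (α : L ⋙ LF ⟶ FK F) [LF.IsLeftDerivedFunctor α W] (K : CochainComplex A ℤ)
    (hK : LeftOrth 𝒵 K) :
    IsIso (α.app ((HomotopyCategory.quotient A (.up ℤ)).obj K)) := by
  subst hW
  haveI := isLeftDerivabilityStructure (𝒵 := 𝒵) hepi
  exact Groth.Agent.Lib.Helper94.DerivesLeft.isIso_app_of_isLeftDerivabilityStructure
    ((SS 𝒵).triangulatedLocalizerMorphism (subcategoryAcyclic A)) (FK F) (hG adj H)
    L LF α ⟨_, (SS_quotient_obj_iff K).2 hK⟩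

end Derived

end Groth.Agent.Lib.Helper6.CellDer
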