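import Mathlib
import Groth.Agent.Lib.Helper6.CellDer
import Groth.Agent.Lib.Helper94.CellResBdd

/-!
# Bounded above resolutions in the left orthogonal, and cones (helper6)

* `leftOrth_mappingCone`: `LeftOrth 𝒵` is closed under mapping cones;
* `exists_resolution_bdd`: a complex vanishing in degrees `> n` has a resolution by a complex of
  `LeftOrth 𝒵` vanishing in degrees `> n`.
-/

set_option autoImplicit false
set_option linter.unusedSectionVars false
universe w v u
open CategoryTheory CategoryTheory.Limits CochainComplex HomComplex ZeroObject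

namespace Groth.Agent.Lib.Helper6.CellOrthBdd

open Groth.Agent.Lib.Helper6.CellOrth Groth.Agent.Lib.Helper6.CellDer
  Groth.Agent.Lib.Helper94.CellRes Groth.Agent.Lib.Helper94.CellResBdd

variable {A : Type u} [Category.{v} A] [Abelian A] {𝒵 : CochainComplex A ℤ → Prop}

/-- the left orthogonal is closed under mapping cones -/
lemma leftOrth_mappingCone {K L : CochainComplex A ℤ} (φ : K ⟶ L) (hK : LeftOrth 𝒵 K)
    (hL : LeftOrth 𝒵 L) : LeftOrth 𝒵 (mappingCone φ) :=
  (SS_quotient_obj_iff _).1 ((SS 𝒵).ext_of_isTriangulatedClosed₃ _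
    (HomotopyCategory.mappingCone_triangleh_distinguished φ)
    ((SS_quotient_obj_iff K).2 hK) ((SS_quotient_obj_iff L).2 hL))

lemma relProj_of_isZero {M : A} (hM : IsZero M) : RelProj 𝒵 M := by
  intro Z _ q' q _ u _
  exact ⟨0, hM.eq_of_src _ _⟩

variable [HasColimitsOfShape ℕ A] [HasExactColimitsOfShape ℕ A]
  (hepi : ∀ X : A, ∃ (M : A) (p : M ⟶ X), Epi p ∧ RelProj 𝒵 M)

include hepi in
lemma hcoverB (Z : ℤ → A) : ∃ V : CochainComplex A ℤ, Cell 𝒵 V ∧ (∀ i j : ℤ, V.d i j = 0) ∧
    (∀ j : ℤ, IsZero (Z j) → IsZero (V.X j)) ∧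
    ∃ e : ∀ n : ℤ, V.X n ⟶ Z n, ∀ n : ℤ, Epi (e n) := by
  classical
  have h' : ∀ n : ℤ, ∃ (M : A) (p : M ⟶ Z n), Epi p ∧ RelProj 𝒵 M ∧
      (IsZero (Z n) → IsZero M) := by
    intro n
    by_cases hz : IsZero (Z n)
    · exact ⟨Z n, 𝟙 _, inferInstance, relProj_of_isZero hz, fun _ => hz⟩
    · obtain ⟨M, p, hp, hM⟩ := hepi (Z n)
      exact ⟨M, p, hp, hM, fun h => (hz h).elim⟩
  choose M p hp hM hz using h'
  let V : CochainComplex A ℤ :=
    { X := M
      d := fun _ _ => 0
      shape := fun _ _ _ => rfl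
      d_comp_d' := fun _ _ _ _ _ => zero_comp }
  exact ⟨V, ⟨fun _ _ => rfl, hM⟩, fun _ _ => rfl, hz, p, hp⟩

include hepi in
/-- bounded above resolutions in the left orthogonal -/
theorem exists_resolution_bdd (G : CochainComplex A ℤ) (n : ℤ)
    (hG : ∀ i : ℤ, n < i → IsZero (G.X i)) :
    ∃ (K : CochainComplex A ℤ) (f : K ⟶ G), QuasiIso f ∧ LeftOrth 𝒵 K ∧
      ∀ i : ℤ, n < i → IsZero (K.X i) := by
  let stB : ∀ X : Over G, StepB (Cell 𝒵) X := fun X =>
    (nonempty_stepB (Cell 𝒵) (hcoverB hepi) X).some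
  let st : ∀ X : Over G, Step (Cell 𝒵) X := fun X => (stB X).toStep
  let X₀ : Over G := Over.mk (0 : (0 : CochainComplex A ℤ) ⟶ G)
  let F := seqFunctor st X₀
  let c := colimit.cocone (F ⋙ Over.forget G)
  let hc : IsColimit c := colimit.isColimit _
  have h0 : ∀ i : ℤ, n < i → IsZero (X₀.left.X i) := fun i _ =>
    (HomologicalComplex.eval A (ComplexShape.up ℤ) i).map_isZero (isZero_zero _)
  refine ⟨c.pt, colimHom F c hc, ?_, ?_, ?_⟩
  · rw [Groth.Agent.Lib.Helper94.KFlatAbs.quasiIso_iff_acyclic_mappingCone]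
    refine acyclic_of_isColimit_of_homologyMap_eq_zero _ (isColimitConeCocone F c hc)
      (fun i n => ?_)
    have h1 : F.map (homOfLE (Nat.le_succ i)) = (st (seq st X₀ i)).nextMap :=
      Functor.ofSequence_map_homOfLE_succ _ i
    change HomologicalComplex.homologyMap
      ((coneFunctor G).map (F.map (homOfLE (Nat.le_succ i)))) n = 0
    rw [h1]
    exact (st (seq st X₀ i)).zero n
  · refine leftOrth_of_isColimit (F ⋙ Over.forget G) c hc
      (show LeftOrth 𝒵 (0 : CochainComplex A ℤ) from leftOrth_of_isZero _ (isZero_zero _))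
      (fun i => ?_)
    have h1 : F.map (homOfLE (Nat.le_succ i)) = (st (seq st X₀ i)).nextMap :=
      Functor.ofSequence_map_homOfLE_succ _ i
    have h2 : (F ⋙ Over.forget G).map (homOfLE (Nat.le_succ i)) =
        mappingCone.inr (st (seq st X₀ i)).φ := by
      change (F.map (homOfLE (Nat.le_succ i))).left = _
      rw [h1]
      rfl
    rw [h2]
    exact extProp_inr _ (leftOrth_of_d_eq_zero _ (st (seq st X₀ i)).hV.1 (st (seq st X₀ i)).hV.2)
  · intro i hi
    exact isZero_of_isColimit_of_isZero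
      ((HomologicalComplex.eval A (ComplexShape.up ℤ) i).mapCocone c)
      (isColimitOfPreserves _ hc) (fun k => isZero_seq stB X₀ n hG h0 k i hi)

end Groth.Agent.Lib.Helper6.CellOrthBdd
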