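import Mathlib

/-!
# Right resolutions by objects of a class `I` (every object embeds into an object of `I`)

Core construction for `ℕ`-indexed cochain complexes `K` with `K.X 0` zero:
a degreewise monomorphic quasi-isomorphism `K ⟶ L` with all `L.X n` in `I`.
-/

set_option autoImplicit false
universe v u
open CategoryTheory CategoryTheory.Limits

namespace Groth.Agent.Lib.Helper6.ClassRes

variable {A : Type u} [Category.{v} A] [Abelian A]

lemma pushout_exact_refinement {X Y Q P : A} {f : X ⟶ Y} {m : X ⟶ Q} {inl : Y ⟶ P} {inr : Q ⟶ P}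
    (h : IsPushout f m inl inr) {T : A} (y : T ⟶ Y) (q : T ⟶ Q) (hyq : y ≫ inl = q ≫ inr) :
    ∃ (T' : A) (π : T' ⟶ T) (_ : Epi π) (w : T' ⟶ X), w ≫ f = π ≫ y ∧ w ≫ m = π ≫ q := by
  obtain ⟨T', π, hπ, w, hw⟩ := h.exact_shortComplex.exact_up_to_refinements
    (biprod.lift y (-q)) (by
      show biprod.lift y (-q) ≫ biprod.desc inl inr = 0
      rw [biprod.lift_desc, Preadditive.neg_comp, hyq, add_neg_cancel])
  let w' : T' ⟶ X := w
  have hw' : π ≫ biprod.lift y (-q) = w' ≫ biprod.lift f (-m) := hw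
  refine ⟨T', π, hπ, w', ?_, ?_⟩
  · have := hw' =≫ biprod.fst
    simp only [Category.assoc, biprod.lift_fst] at this
    exact this.symm
  · have := hw' =≫ biprod.snd
    simp only [Category.assoc, biprod.lift_snd, Preadditive.comp_neg] at this
    exact (neg_injective this).symm

section Core

variable (I : A → Prop) (hI : ∀ X : A, ∃ (Y : A) (ι : X ⟶ Y), I Y ∧ Mono ι)

/-- the chosen object of `I` containing `X` -/
noncomputable def E (X : A) : A := (hI X).choose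

/-- the chosen embedding -/
noncomputable def ιE (X : A) : X ⟶ E I hI X := (hI X).choose_spec.choose

omit [Abelian A] in
lemma E_mem (X : A) : I (E I hI X) := (hI X).choose_spec.choose_spec.1

instance mono_ιE (X : A) : Mono (ιE I hI X) := (hI X).choose_spec.choose_spec.2

variable (K : CochainComplex A ℕ)

/-- the state of the construction at degree `n` -/
structure St (n : ℕ) where
  L : A
  Q : A
  q : L ⟶ Q
  m : K.opcycles n ⟶ Q
  a : K.X n ⟶ L
  fac : a ≫ q = K.pOpcycles n ≫ m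
  epi_q : Epi q
  mono_m : Mono m
  mono_a : Mono a
  mem : I L

variable {I K}

namespace St

variable {n : ℕ} (s : St I K n)

/-- the pushout -/
noncomputable abbrev P : A := pushout (K.fromOpcycles n (n + 1)) s.m

/-- `Q_n ⟶ L_{n+1}` -/
noncomputable def toL : s.Q ⟶ E I hI s.P := pushout.inr _ _ ≫ ιE I hI s.P

/-- `K^{n+1} ⟶ L_{n+1}` -/
noncomputable def aNext : K.X (n + 1) ⟶ E I hI s.P := pushout.inl _ _ ≫ ιE I hI s.P

lemma isPushout : IsPushout (K.fromOpcycles n (n + 1)) s.m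
    (pushout.inl (K.fromOpcycles n (n + 1)) s.m) (pushout.inr (K.fromOpcycles n (n + 1)) s.m) :=
  IsPushout.of_hasPushout (K.fromOpcycles n (n + 1)) s.m

lemma d_aNext : K.d n (n + 1) ≫ s.aNext hI = K.pOpcycles n ≫ s.m ≫ s.toL hI := by
  simp only [aNext, toL]
  rw [← K.p_fromOpcycles n (n + 1), Category.assoc, pushout.condition_assoc]

lemma d_aNext_π : K.d n (n + 1) ≫ s.aNext hI ≫ cokernel.π (s.toL hI) = 0 := by
  rw [reassoc_of% (s.d_aNext hI)]
  simp

/-- the comparison map on opcycles at the next stage -/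
noncomputable def mNext : K.opcycles (n + 1) ⟶ cokernel (s.toL hI) :=
  K.descOpcycles (s.aNext hI ≫ cokernel.π (s.toL hI)) n (by simp) (s.d_aNext_π hI)

lemma p_mNext : K.pOpcycles (n + 1) ≫ s.mNext hI = s.aNext hI ≫ cokernel.π (s.toL hI) := by
  simp [mNext]

lemma mono_mNext : Mono (s.mNext hI) := by
  rw [Preadditive.mono_iff_cancel_zero]
  intro T z hz
  obtain ⟨T₁, π₁, _, x, hx⟩ := surjective_up_to_refinements_of_epi (K.pOpcycles (n + 1)) z
  have h1 : (x ≫ s.aNext hI) ≫ cokernel.π (s.toL hI) = 0 := by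
    rw [Category.assoc, ← s.p_mNext hI, ← reassoc_of% hx, hz, comp_zero]
  have hex : (ShortComplex.mk _ _ (cokernel.condition (s.toL hI))).Exact :=
    ShortComplex.exact_of_g_is_cokernel _ (cokernelIsCokernel _)
  obtain ⟨T₂, π₂, _, q, hq⟩ := hex.exact_up_to_refinements _ h1
  dsimp at q hq
  have h2 : (π₂ ≫ x) ≫ pushout.inl _ _ = q ≫ pushout.inr (K.fromOpcycles n (n + 1)) s.m := by
    rw [← cancel_mono (ιE I hI s.P)]
    simpa [aNext, toL] using hq
  obtain ⟨T₃, π₃, _, w, hw, -⟩ := pushout_exact_refinement s.isPushout _ _ h2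
  rw [← cancel_epi π₁, ← cancel_epi π₂, ← cancel_epi π₃, comp_zero, comp_zero, comp_zero, hx]
  have : π₃ ≫ π₂ ≫ x = w ≫ K.fromOpcycles n (n + 1) := by rw [hw]
  rw [reassoc_of% this]
  have h3 : K.fromOpcycles n (n + 1) ≫ K.pOpcycles (n + 1) = 0 := by
    rw [← cancel_epi (K.pOpcycles n), K.p_fromOpcycles_assoc, comp_zero]
    simp
  rw [h3, comp_zero]

/-- the next state -/
noncomputable abbrev next : St I K (n + 1) where
  L := E I hI s.P
  Q := cokernel (s.toL hI)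
  q := cokernel.π (s.toL hI)
  m := s.mNext hI
  a := s.aNext hI
  fac := (s.p_mNext hI).symm
  epi_q := inferInstance
  mono_m := s.mono_mNext hI
  mono_a := by
    have := s.mono_m
    have : Mono (pushout.inl (K.fromOpcycles n (n + 1)) s.m) := inferInstance
    exact mono_comp _ _
  mem := E_mem I hI _

/-- the differential `L_n ⟶ L_{n+1}` -/
noncomputable def dL : s.L ⟶ (s.next hI).L := s.q ≫ s.toL hI

lemma dL_comp : s.dL hI ≫ (s.next hI).dL hI = 0 := by
  have : s.toL hI ≫ (s.next hI).q = 0 := cokernel.condition _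
  simp only [dL, Category.assoc, reassoc_of% this, zero_comp, comp_zero]

lemma a_dL : s.a ≫ s.dL hI = K.d n (n + 1) ≫ (s.next hI).a := by
  have : (s.next hI).a = s.aNext hI := rfl
  rw [this, s.d_aNext hI, dL, reassoc_of% s.fac]

lemma mono_part {T : A} (x₂ : T ⟶ K.X (n + 1)) (y₁ : T ⟶ s.L)
    (h : x₂ ≫ (s.next hI).a = y₁ ≫ s.dL hI) :
    ∃ (T' : A) (π : T' ⟶ T) (_ : Epi π) (x₁ : T' ⟶ K.X n), π ≫ x₂ = x₁ ≫ K.d n (n + 1) := by
  have h1 : x₂ ≫ pushout.inl (K.fromOpcycles n (n + 1)) s.m =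
      (y₁ ≫ s.q) ≫ pushout.inr (K.fromOpcycles n (n + 1)) s.m := by
    rw [← cancel_mono (ιE I hI s.P)]
    simpa [aNext, toL, dL] using h
  obtain ⟨T₁, π₁, _, w, hw, -⟩ := pushout_exact_refinement s.isPushout _ _ h1
  obtain ⟨T₂, π₂, _, x₁, hx₁⟩ := surjective_up_to_refinements_of_epi (K.pOpcycles n) w
  refine ⟨T₂, π₂ ≫ π₁, inferInstance, x₁, ?_⟩
  rw [Category.assoc, ← hw, reassoc_of% hx₁, K.p_fromOpcycles]

lemma epi_part {T : A} (y₂ : T ⟶ (s.next hI).L) (h : y₂ ≫ (s.next hI).dL hI = 0) :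
    ∃ (T' : A) (π : T' ⟶ T) (_ : Epi π) (x₂ : T' ⟶ K.X (n + 1))
      (_ : x₂ ≫ K.d (n + 1) (n + 1 + 1) = 0) (y₁ : T' ⟶ s.L),
      π ≫ y₂ = x₂ ≫ (s.next hI).a + y₁ ≫ s.dL hI := by
  let s' := s.next hI
  -- step 1: `y₂ ≫ s'.q` dies in the next pushout
  have h1 : (0 : T ⟶ K.X (n + 1 + 1)) ≫ pushout.inl (K.fromOpcycles (n + 1) (n + 1 + 1)) s'.m =
      (y₂ ≫ s'.q) ≫ pushout.inr (K.fromOpcycles (n + 1) (n + 1 + 1)) s'.m := by
    have h' : y₂ ≫ s'.q ≫ pushout.inr (K.fromOpcycles (n + 1) (n + 1 + 1)) s'.m ≫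
        ιE I hI s'.P = 0 := h
    rw [← cancel_mono (ιE I hI s'.P), zero_comp, zero_comp, Category.assoc, Category.assoc, h']
  obtain ⟨T₁, π₁, _, w, hw1, hw2⟩ := pushout_exact_refinement s'.isPushout _ _ h1
  rw [comp_zero] at hw1
  -- step 2: lift `w` to `K.X (n+1)`
  obtain ⟨T₂, π₂, _, x₂, hx₂⟩ := surjective_up_to_refinements_of_epi (K.pOpcycles (n + 1)) w
  have hx₂d : x₂ ≫ K.d (n + 1) (n + 1 + 1) = 0 := by
    rw [← K.p_fromOpcycles (n + 1) (n + 1 + 1), ← reassoc_of% hx₂, hw1, comp_zero]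
  -- step 3: the difference dies in the cokernel
  have h3 : (π₂ ≫ π₁ ≫ y₂ - x₂ ≫ s'.a) ≫ cokernel.π (s.toL hI) = 0 := by
    have e1 : x₂ ≫ s'.a ≫ s'.q = π₂ ≫ π₁ ≫ y₂ ≫ s'.q := by
      rw [s'.fac, ← reassoc_of% hx₂, hw2]
    have e2 : s'.q = cokernel.π (s.toL hI) := rfl
    rw [Preadditive.sub_comp, sub_eq_zero, Category.assoc, Category.assoc, Category.assoc, ← e2, e1]
  have hex : (ShortComplex.mk _ _ (cokernel.condition (s.toL hI))).Exact :=
    ShortComplex.exact_of_g_is_cokernel _ (cokernelIsCokernel _)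
  obtain ⟨T₃, π₃, _, u, hu⟩ := hex.exact_up_to_refinements _ h3
  dsimp at u hu
  -- step 4: lift `u` through `s.q`
  have := s.epi_q
  obtain ⟨T₄, π₄, _, y₁, hy₁⟩ := surjective_up_to_refinements_of_epi s.q u
  refine ⟨T₄, π₄ ≫ π₃ ≫ π₂ ≫ π₁, inferInstance, (π₄ ≫ π₃) ≫ x₂, ?_, y₁, ?_⟩
  · rw [Category.assoc, hx₂d, comp_zero]
  · have e3 : y₁ ≫ s.dL hI = π₄ ≫ π₃ ≫ (π₂ ≫ π₁ ≫ y₂ - x₂ ≫ s'.a) := by
      rw [dL, ← reassoc_of% hy₁, hu]
    rw [e3]
    simp only [Preadditive.comp_sub, Category.assoc]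
    abel

end St

variable (K) (Z : A) (hZ : IsZero Z) (hIZ : I Z) (hK0 : IsZero (K.X 0))

include hZ hIZ hK0 in
/-- the initial state -/
noncomputable def st0 : St I K 0 where
  L := Z
  Q := Z
  q := 𝟙 Z
  m := 0
  a := 0
  fac := hZ.eq_of_tgt _ _
  epi_q := inferInstance
  mono_m := by
    have : IsZero (K.opcycles 0) := by
      rw [IsZero.iff_id_eq_zero, ← cancel_epi (K.pOpcycles 0)]
      exact hK0.eq_of_src _ _
    exact ⟨fun _ _ _ => this.eq_of_tgt _ _⟩
  mono_a := ⟨fun _ _ _ => hK0.eq_of_tgt _ _⟩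
  mem := hIZ

/-- the sequence of states -/
noncomputable def st : ∀ n : ℕ, St I K n
  | 0 => st0 K Z hZ hIZ hK0
  | n + 1 => (st n).next hI

/-- the resolution -/
noncomputable def Lcx : CochainComplex A ℕ :=
  CochainComplex.of (fun n => (st hI K Z hZ hIZ hK0 n).L)
    (fun n => (st hI K Z hZ hIZ hK0 n).dL hI)
    (fun n => (st hI K Z hZ hIZ hK0 n).dL_comp hI)

/-- the map `K ⟶ L` -/
noncomputable def αcx : K ⟶ Lcx hI K Z hZ hIZ hK0 where
  f n := (st hI K Z hZ hIZ hK0 n).a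
  comm' i j hij := by
    have hij' : i + 1 = j := hij
    subst hij'
    have hd : (Lcx hI K Z hZ hIZ hK0).d i (i + 1) = (st hI K Z hZ hIZ hK0 i).dL hI := by
      delta Lcx
      exact CochainComplex.of_d (fun n => (st hI K Z hZ hIZ hK0 n).L)
        (fun n => (st hI K Z hZ hIZ hK0 n).dL hI) i
    rw [hd]
    exact (st hI K Z hZ hIZ hK0 i).a_dL hI

lemma Lcx_d (n : ℕ) : (Lcx hI K Z hZ hIZ hK0).d n (n + 1) = (st hI K Z hZ hIZ hK0 n).dL hI := by
  delta Lcx
  exact CochainComplex.of_d (fun n => (st hI K Z hZ hIZ hK0 n).L)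
    (fun n => (st hI K Z hZ hIZ hK0 n).dL hI) n

lemma mem_Lcx (n : ℕ) : I ((Lcx hI K Z hZ hIZ hK0).X n) := (st hI K Z hZ hIZ hK0 n).mem

instance mono_αcx_f (n : ℕ) : Mono ((αcx hI K Z hZ hIZ hK0).f n) := (st hI K Z hZ hIZ hK0 n).mono_a

include hZ in
lemma isZero_Lcx_zero : IsZero ((Lcx hI K Z hZ hIZ hK0).X 0) := hZ

instance quasiIso_αcx : QuasiIso (αcx hI K Z hZ hIZ hK0) := by
  rw [quasiIso_iff]
  intro j
  rw [quasiIsoAt_iff_isIso_homologyMap]
  obtain _ | n := j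
  · -- degree zero: both homologies vanish
    have h1 : IsZero (K.homology 0) := by
      rw [← HomologicalComplex.exactAt_iff_isZero_homology]
      exact ShortComplex.exact_of_isZero_X₂ _ hK0
    have h2 : IsZero ((Lcx hI K Z hZ hIZ hK0).homology 0) := by
      rw [← HomologicalComplex.exactAt_iff_isZero_homology]
      exact ShortComplex.exact_of_isZero_X₂ _ hZ
    exact ⟨0, h1.eq_of_src _ _, h2.eq_of_src _ _⟩
  · have hmono : Mono (HomologicalComplex.homologyMap (αcx hI K Z hZ hIZ hK0) (n + 1)) := by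
      rw [HomologicalComplex.mono_homologyMap_iff_up_to_refinements _ n (n + 1) (n + 1 + 1)
        (by simp) (by simp)]
      intro T x₂ _ y₁ h
      rw [Lcx_d] at h
      exact (st hI K Z hZ hIZ hK0 n).mono_part hI x₂ y₁ h
    have hepi : Epi (HomologicalComplex.homologyMap (αcx hI K Z hZ hIZ hK0) (n + 1)) := by
      rw [HomologicalComplex.epi_homologyMap_iff_up_to_refinements _ n (n + 1) (n + 1 + 1)
        (by simp) (by simp)]
      intro T y₂ h
      rw [Lcx_d] at h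
      obtain ⟨T', π, hπ, x₂, hx₂, y₁, hy₁⟩ := (st hI K Z hZ hIZ hK0 n).epi_part hI y₂ h
      refine ⟨T', π, hπ, x₂, hx₂, y₁, ?_⟩
      rw [Lcx_d]
      exact hy₁
    exact isIso_of_mono_of_epi _

include hI hZ hIZ hK0 in
/-- **Core theorem** (ℕ-indexed). -/
theorem core : ∃ (L : CochainComplex A ℕ) (α : K ⟶ L), IsZero (L.X 0) ∧ (∀ n, I (L.X n)) ∧
    (∀ n, Mono (α.f n)) ∧ QuasiIso α :=
  ⟨Lcx hI K Z hZ hIZ hK0, αcx hI K Z hZ hIZ hK0, hZ, mem_Lcx hI K Z hZ hIZ hK0,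
    fun n => inferInstance, inferInstance⟩

end Core

end Groth.Agent.Lib.Helper6.ClassRes
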