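import Mathlib
import Groth.Agent.Lib.Helper6.ClassRes

/-!
# Right resolutions with a weaker step: the map from the pushout only needs to be
  a monomorphism on the part lying over the cohomology

Core construction for `ℕ`-indexed cochain complexes `K` with `K.X 0` zero: given a way to choose,
for every `m : K.opcycles n ⟶ Q` (with `Q` in a class `B`, injective on `Hⁿ(K)`), an object `E`
in `I` and a map `g` from the pushout of `K.fromOpcycles n (n+1)` and `m` to `E` which is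
a monomorphism on the preimage of `Hⁿ⁺¹(K)` and such that the cokernel of `Q ⟶ E` is in `B`,
we get a quasi-isomorphism `K ⟶ L` with all `L.X n` in `I`.
-/

set_option autoImplicit false
universe v u
open CategoryTheory CategoryTheory.Limits

namespace Groth.Agent.Lib.Helper6.ClassRes2

open Groth.Agent.Lib.Helper6.ClassRes (pushout_exact_refinement)

variable {A : Type u} [Category.{v} A] [Abelian A]

section Core

variable (K : CochainComplex A ℕ)

lemma fromOpcycles_pOpcycles (n : ℕ) : K.fromOpcycles n (n + 1) ≫ K.pOpcycles (n + 1) = 0 := by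
  rw [← cancel_epi (K.pOpcycles n), K.p_fromOpcycles_assoc, comp_zero]
  simp

/-- the projection from the pushout to the next opcycles -/
noncomputable def πP {n : ℕ} {Q : A} (m : K.opcycles n ⟶ Q) :
    pushout (K.fromOpcycles n (n + 1)) m ⟶ K.opcycles (n + 1) :=
  pushout.desc (K.pOpcycles (n + 1)) 0 (by rw [comp_zero, fromOpcycles_pOpcycles])

@[reassoc (attr := simp)]
lemma inl_πP {n : ℕ} {Q : A} (m : K.opcycles n ⟶ Q) :
    pushout.inl (K.fromOpcycles n (n + 1)) m ≫ πP K m = K.pOpcycles (n + 1) :=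
  pushout.inl_desc _ _ _

@[reassoc (attr := simp)]
lemma inr_πP {n : ℕ} {Q : A} (m : K.opcycles n ⟶ Q) :
    pushout.inr (K.fromOpcycles n (n + 1)) m ≫ πP K m = 0 :=
  pushout.inr_desc _ _ _

/-- the restricted-mono property -/
def RM {n : ℕ} {Q E : A} (m : K.opcycles n ⟶ Q)
    (g : pushout (K.fromOpcycles n (n + 1)) m ⟶ E) : Prop :=
  ∀ ⦃T : A⦄ (x : T ⟶ pushout (K.fromOpcycles n (n + 1)) m), x ≫ g = 0 →
    x ≫ πP K m ≫ K.fromOpcycles (n + 1) (n + 1 + 1) = 0 → x = 0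

variable (I B : A → Prop)

/-- the step data -/
structure Step {n : ℕ} {Q : A} (m : K.opcycles n ⟶ Q) where
  E : A
  g : pushout (K.fromOpcycles n (n + 1)) m ⟶ E
  mem : I E
  memQ : B (cokernel (pushout.inr (K.fromOpcycles n (n + 1)) m ≫ g))
  rm : RM K m g

/-- the state of the construction at degree `n` -/
structure St (n : ℕ) where
  L : A
  Q : A
  q : L ⟶ Q
  m : K.opcycles n ⟶ Q
  a : K.X n ⟶ L
  fac : a ≫ q = K.pOpcycles n ≫ m
  epi_q : Epi q
  mono_hm : Mono (K.homologyι n ≫ m)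
  mem : I L
  memQ : B Q

variable {K I B}
variable (hstep : ∀ (n : ℕ) (Q : A) (m : K.opcycles n ⟶ Q), B Q → Mono (K.homologyι n ≫ m) →
  Nonempty (Step K I B m))

namespace St

variable {n : ℕ} (s : St K I B n)

/-- the pushout -/
noncomputable abbrev P : A := pushout (K.fromOpcycles n (n + 1)) s.m

/-- the chosen step -/
noncomputable def step : Step K I B s.m := (hstep n s.Q s.m s.memQ s.mono_hm).some

/-- `Q_n ⟶ L_{n+1}` -/
noncomputable def toL : s.Q ⟶ (s.step hstep).E := pushout.inr _ _ ≫ (s.step hstep).g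

/-- `K^{n+1} ⟶ L_{n+1}` -/
noncomputable def aNext : K.X (n + 1) ⟶ (s.step hstep).E := pushout.inl _ _ ≫ (s.step hstep).g

lemma isPushout : IsPushout (K.fromOpcycles n (n + 1)) s.m
    (pushout.inl (K.fromOpcycles n (n + 1)) s.m) (pushout.inr (K.fromOpcycles n (n + 1)) s.m) :=
  IsPushout.of_hasPushout (K.fromOpcycles n (n + 1)) s.m

lemma d_aNext : K.d n (n + 1) ≫ s.aNext hstep = K.pOpcycles n ≫ s.m ≫ s.toL hstep := by
  simp only [aNext, toL]
  rw [← K.p_fromOpcycles n (n + 1), Category.assoc, pushout.condition_assoc]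

lemma d_aNext_π : K.d n (n + 1) ≫ s.aNext hstep ≫ cokernel.π (s.toL hstep) = 0 := by
  rw [reassoc_of% (s.d_aNext hstep)]
  simp

/-- the comparison map on opcycles at the next stage -/
noncomputable def mNext : K.opcycles (n + 1) ⟶ cokernel (s.toL hstep) :=
  K.descOpcycles (s.aNext hstep ≫ cokernel.π (s.toL hstep)) n (by simp) (s.d_aNext_π hstep)

lemma p_mNext : K.pOpcycles (n + 1) ≫ s.mNext hstep =
    s.aNext hstep ≫ cokernel.π (s.toL hstep) := by
  simp [mNext]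

/-- the key consequence of the restricted-mono property -/
lemma eq_of_rm {T : A} (x : T ⟶ K.X (n + 1)) (y : T ⟶ s.Q)
    (h : x ≫ s.aNext hstep = y ≫ s.toL hstep)
    (hx : x ≫ K.pOpcycles (n + 1) ≫ K.fromOpcycles (n + 1) (n + 1 + 1) = 0) :
    x ≫ pushout.inl (K.fromOpcycles n (n + 1)) s.m =
      y ≫ pushout.inr (K.fromOpcycles n (n + 1)) s.m := by
  rw [← sub_eq_zero]
  apply (s.step hstep).rm
  · rw [Preadditive.sub_comp, sub_eq_zero, Category.assoc, Category.assoc]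
    exact h
  · rw [Preadditive.sub_comp, Category.assoc, Category.assoc, inl_πP_assoc, inr_πP_assoc,
      zero_comp, comp_zero, sub_zero]
    exact hx

lemma mono_hmNext : Mono (K.homologyι (n + 1) ≫ s.mNext hstep) := by
  rw [Preadditive.mono_iff_cancel_zero]
  intro T z hz
  obtain ⟨T₁, π₁, _, x, hx⟩ := surjective_up_to_refinements_of_epi (K.pOpcycles (n + 1))
    (z ≫ K.homologyι (n + 1))
  have h1 : (x ≫ s.aNext hstep) ≫ cokernel.π (s.toL hstep) = 0 := by
    rw [Category.assoc, ← s.p_mNext hstep, ← reassoc_of% hx, hz, comp_zero]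
  have hex : (ShortComplex.mk _ _ (cokernel.condition (s.toL hstep))).Exact :=
    ShortComplex.exact_of_g_is_cokernel _ (cokernelIsCokernel _)
  obtain ⟨T₂, π₂, _, q, hq⟩ := hex.exact_up_to_refinements _ h1
  dsimp at q hq
  have h2 : (π₂ ≫ x) ≫ pushout.inl _ _ = q ≫ pushout.inr (K.fromOpcycles n (n + 1)) s.m := by
    apply s.eq_of_rm hstep
    · rw [Category.assoc]; exact hq
    · rw [Category.assoc, ← reassoc_of% hx,
        K.homologyι_comp_fromOpcycles, comp_zero, comp_zero, comp_zero]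
  obtain ⟨T₃, π₃, _, w, hw, -⟩ := pushout_exact_refinement s.isPushout _ _ h2
  have h3 : π₃ ≫ π₂ ≫ π₁ ≫ z ≫ K.homologyι (n + 1) = 0 := by
    rw [hx]
    have : π₃ ≫ π₂ ≫ x = w ≫ K.fromOpcycles n (n + 1) := by rw [hw]
    rw [reassoc_of% this, fromOpcycles_pOpcycles, comp_zero]
  rw [← cancel_mono (K.homologyι (n + 1)), zero_comp, ← cancel_epi π₁, ← cancel_epi π₂,
    ← cancel_epi π₃, comp_zero, comp_zero, comp_zero]
  exact h3

/-- the next state -/
noncomputable abbrev next : St K I B (n + 1) where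
  L := (s.step hstep).E
  Q := cokernel (s.toL hstep)
  q := cokernel.π (s.toL hstep)
  m := s.mNext hstep
  a := s.aNext hstep
  fac := (s.p_mNext hstep).symm
  epi_q := inferInstance
  mono_hm := s.mono_hmNext hstep
  mem := (s.step hstep).mem
  memQ := (s.step hstep).memQ

/-- the differential `L_n ⟶ L_{n+1}` -/
noncomputable def dL : s.L ⟶ (s.next hstep).L := s.q ≫ s.toL hstep

lemma dL_comp : s.dL hstep ≫ (s.next hstep).dL hstep = 0 := by
  have : s.toL hstep ≫ (s.next hstep).q = 0 := cokernel.condition _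
  simp only [dL, Category.assoc, reassoc_of% this, zero_comp, comp_zero]

lemma a_dL : s.a ≫ s.dL hstep = K.d n (n + 1) ≫ (s.next hstep).a := by
  have : (s.next hstep).a = s.aNext hstep := rfl
  rw [this, s.d_aNext hstep, dL, reassoc_of% s.fac]

lemma mono_part {T : A} (x₂ : T ⟶ K.X (n + 1)) (hx₂ : x₂ ≫ K.d (n + 1) (n + 1 + 1) = 0)
    (y₁ : T ⟶ s.L) (h : x₂ ≫ (s.next hstep).a = y₁ ≫ s.dL hstep) :
    ∃ (T' : A) (π : T' ⟶ T) (_ : Epi π) (x₁ : T' ⟶ K.X n), π ≫ x₂ = x₁ ≫ K.d n (n + 1) := by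
  have h1 : x₂ ≫ pushout.inl (K.fromOpcycles n (n + 1)) s.m =
      (y₁ ≫ s.q) ≫ pushout.inr (K.fromOpcycles n (n + 1)) s.m := by
    apply s.eq_of_rm hstep
    · rw [Category.assoc]; exact h
    · rw [K.p_fromOpcycles]; exact hx₂
  obtain ⟨T₁, π₁, _, w, hw, -⟩ := pushout_exact_refinement s.isPushout _ _ h1
  obtain ⟨T₂, π₂, _, x₁, hx₁⟩ := surjective_up_to_refinements_of_epi (K.pOpcycles n) w
  refine ⟨T₂, π₂ ≫ π₁, inferInstance, x₁, ?_⟩
  rw [Category.assoc, ← hw, reassoc_of% hx₁, K.p_fromOpcycles]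

lemma epi_part {T : A} (y₂ : T ⟶ (s.next hstep).L)
    (h : y₂ ≫ (s.next hstep).dL hstep = 0) :
    ∃ (T' : A) (π : T' ⟶ T) (_ : Epi π) (x₂ : T' ⟶ K.X (n + 1))
      (_ : x₂ ≫ K.d (n + 1) (n + 1 + 1) = 0) (y₁ : T' ⟶ s.L),
      π ≫ y₂ = x₂ ≫ (s.next hstep).a + y₁ ≫ s.dL hstep := by
  let s' := s.next hstep
  -- step 1: `y₂ ≫ s'.q` dies in the next pushout
  have h1 : (0 : T ⟶ K.X (n + 1 + 1)) ≫ pushout.inl (K.fromOpcycles (n + 1) (n + 1 + 1)) s'.m =
      (y₂ ≫ s'.q) ≫ pushout.inr (K.fromOpcycles (n + 1) (n + 1 + 1)) s'.m := by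
    apply s'.eq_of_rm hstep
    · rw [zero_comp, Category.assoc]; exact h.symm
    · rw [zero_comp]
  obtain ⟨T₁, π₁, _, w, hw1, hw2⟩ := pushout_exact_refinement s'.isPushout _ _ h1
  rw [comp_zero] at hw1
  -- step 2: lift `w` to `K.X (n+1)`
  obtain ⟨T₂, π₂, _, x₂, hx₂⟩ := surjective_up_to_refinements_of_epi (K.pOpcycles (n + 1)) w
  have hx₂d : x₂ ≫ K.d (n + 1) (n + 1 + 1) = 0 := by
    rw [← K.p_fromOpcycles (n + 1) (n + 1 + 1), ← reassoc_of% hx₂, hw1, comp_zero]
  -- step 3: the difference dies in the cokernel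
  have h3 : (π₂ ≫ π₁ ≫ y₂ - x₂ ≫ s'.a) ≫ cokernel.π (s.toL hstep) = 0 := by
    have e1 : x₂ ≫ s'.a ≫ s'.q = π₂ ≫ π₁ ≫ y₂ ≫ s'.q := by
      rw [s'.fac, ← reassoc_of% hx₂, hw2]
    have e2 : s'.q = cokernel.π (s.toL hstep) := rfl
    rw [Preadditive.sub_comp, sub_eq_zero, Category.assoc, Category.assoc, Category.assoc, ← e2, e1]
  have hex : (ShortComplex.mk _ _ (cokernel.condition (s.toL hstep))).Exact :=
    ShortComplex.exact_of_g_is_cokernel _ (cokernelIsCokernel _)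
  obtain ⟨T₃, π₃, _, u, hu⟩ := hex.exact_up_to_refinements _ h3
  dsimp at u hu
  -- step 4: lift `u` through `s.q`
  have := s.epi_q
  obtain ⟨T₄, π₄, _, y₁, hy₁⟩ := surjective_up_to_refinements_of_epi s.q u
  refine ⟨T₄, π₄ ≫ π₃ ≫ π₂ ≫ π₁, inferInstance, (π₄ ≫ π₃) ≫ x₂, ?_, y₁, ?_⟩
  · rw [Category.assoc, hx₂d, comp_zero]
  · have e3 : y₁ ≫ s.dL hstep = π₄ ≫ π₃ ≫ (π₂ ≫ π₁ ≫ y₂ - x₂ ≫ s'.a) := by
      rw [dL, ← reassoc_of% hy₁, hu]
    rw [e3]
    simp only [Preadditive.comp_sub, Category.assoc]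
    abel

end St

variable (K) (Z : A) (hZ : IsZero Z) (hIZ : I Z) (hBZ : B Z) (hK0 : IsZero (K.X 0))

include hZ hIZ hBZ hK0 in
/-- the initial state -/
noncomputable def st0 : St K I B 0 where
  L := Z
  Q := Z
  q := 𝟙 Z
  m := 0
  a := 0
  fac := hZ.eq_of_tgt _ _
  epi_q := inferInstance
  mono_hm := by
    have : IsZero (K.homology 0) := by
      rw [← HomologicalComplex.exactAt_iff_isZero_homology]
      exact ShortComplex.exact_of_isZero_X₂ _ hK0
    exact ⟨fun _ _ _ => this.eq_of_tgt _ _⟩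
  mem := hIZ
  memQ := hBZ

/-- the sequence of states -/
noncomputable def st : ∀ n : ℕ, St K I B n
  | 0 => st0 K Z hZ hIZ hBZ hK0
  | n + 1 => (st n).next hstep

/-- the resolution -/
noncomputable def Lcx : CochainComplex A ℕ :=
  CochainComplex.of (fun n => (st K hstep Z hZ hIZ hBZ hK0 n).L)
    (fun n => (st K hstep Z hZ hIZ hBZ hK0 n).dL hstep)
    (fun n => (st K hstep Z hZ hIZ hBZ hK0 n).dL_comp hstep)

lemma Lcx_d (n : ℕ) : (Lcx K hstep Z hZ hIZ hBZ hK0).d n (n + 1) =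
    (st K hstep Z hZ hIZ hBZ hK0 n).dL hstep := by
  delta Lcx
  exact CochainComplex.of_d (fun n => (st K hstep Z hZ hIZ hBZ hK0 n).L)
    (fun n => (st K hstep Z hZ hIZ hBZ hK0 n).dL hstep) n

/-- the map `K ⟶ L` -/
noncomputable def αcx : K ⟶ Lcx K hstep Z hZ hIZ hBZ hK0 where
  f n := (st K hstep Z hZ hIZ hBZ hK0 n).a
  comm' i j hij := by
    have hij' : i + 1 = j := hij
    subst hij'
    rw [Lcx_d]
    exact (st K hstep Z hZ hIZ hBZ hK0 i).a_dL hstep

lemma mem_Lcx (n : ℕ) : I ((Lcx K hstep Z hZ hIZ hBZ hK0).X n) :=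
  (st K hstep Z hZ hIZ hBZ hK0 n).mem

include hZ in
lemma isZero_Lcx_zero : IsZero ((Lcx K hstep Z hZ hIZ hBZ hK0).X 0) := hZ

instance quasiIso_αcx : QuasiIso (αcx K hstep Z hZ hIZ hBZ hK0) := by
  rw [quasiIso_iff]
  intro j
  rw [quasiIsoAt_iff_isIso_homologyMap]
  obtain _ | n := j
  · -- degree zero: both homologies vanish
    have h1 : IsZero (K.homology 0) := by
      rw [← HomologicalComplex.exactAt_iff_isZero_homology]
      exact ShortComplex.exact_of_isZero_X₂ _ hK0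
    have h2 : IsZero ((Lcx K hstep Z hZ hIZ hBZ hK0).homology 0) := by
      rw [← HomologicalComplex.exactAt_iff_isZero_homology]
      exact ShortComplex.exact_of_isZero_X₂ _ hZ
    exact ⟨0, h1.eq_of_src _ _, h2.eq_of_src _ _⟩
  · have hmono : Mono (HomologicalComplex.homologyMap (αcx K hstep Z hZ hIZ hBZ hK0) (n + 1)) := by
      rw [HomologicalComplex.mono_homologyMap_iff_up_to_refinements _ n (n + 1) (n + 1 + 1)
        (by simp) (by simp)]
      intro T x₂ hx₂ y₁ h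
      rw [Lcx_d] at h
      exact (st K hstep Z hZ hIZ hBZ hK0 n).mono_part hstep x₂ hx₂ y₁ h
    have hepi : Epi (HomologicalComplex.homologyMap (αcx K hstep Z hZ hIZ hBZ hK0) (n + 1)) := by
      rw [HomologicalComplex.epi_homologyMap_iff_up_to_refinements _ n (n + 1) (n + 1 + 1)
        (by simp) (by simp)]
      intro T y₂ h
      rw [Lcx_d] at h
      obtain ⟨T', π, hπ, x₂, hx₂, y₁, hy₁⟩ :=
        (st K hstep Z hZ hIZ hBZ hK0 n).epi_part hstep y₂ h
      refine ⟨T', π, hπ, x₂, hx₂, y₁, ?_⟩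
      rw [Lcx_d]
      exact hy₁
    exact isIso_of_mono_of_epi _

include hstep hZ hIZ hBZ hK0 in
/-- **Core theorem** (ℕ-indexed). -/
theorem core : ∃ (L : CochainComplex A ℕ) (α : K ⟶ L), IsZero (L.X 0) ∧ (∀ n, I (L.X n)) ∧
    QuasiIso α :=
  ⟨Lcx K hstep Z hZ hIZ hBZ hK0, αcx K hstep Z hZ hIZ hBZ hK0, hZ,
    mem_Lcx K hstep Z hZ hIZ hBZ hK0, inferInstance⟩

end Core

end Groth.Agent.Lib.Helper6.ClassRes2
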