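import Mathlib

/-!
# Transfer from `ℕ`-indexed complexes to bounded below `ℤ`-indexed cochain complexes

* `conj M X' φ`: the complex with prescribed objects `X' i ≅ M.X i`.
* `restrictionExtendIso`: `K ≅ (K.restriction e).extend e` for `K` strictly supported.
* `transferGE`: given `α⁺ : K.restriction e ⟶ L⁺` (with `e = embeddingUpIntGE b`), a morphism
  `K ⟶ L` where `L.X i = L⁺.X (i - b).toNat` for `b ≤ i` and `L.X i = Z` otherwise.
-/

set_option autoImplicit false
universe v u
open CategoryTheory CategoryTheory.Limits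

namespace Groth.Agent.Lib.Helper6.ExtendTransfer

section Conj

variable {A : Type u} [Category.{v} A] [HasZeroMorphisms A] {ι : Type*} {c : ComplexShape ι}

/-- transport the structure of a complex along isomorphisms of objects. -/
@[simps]
def conj (M : HomologicalComplex A c) (X' : ι → A) (φ : ∀ i, X' i ≅ M.X i) :
    HomologicalComplex A c where
  X := X'
  d i j := (φ i).hom ≫ M.d i j ≫ (φ j).inv
  shape i j h := by simp [M.shape i j h]
  d_comp_d' i j k _ _ := by simp

/-- the isomorphism `conj M X' φ ≅ M`. -/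
def conjIso (M : HomologicalComplex A c) (X' : ι → A) (φ : ∀ i, X' i ≅ M.X i) :
    conj M X' φ ≅ M :=
  HomologicalComplex.Hom.isoOfComponents φ (by
    intro i j _
    show (φ i).hom ≫ M.d i j = ((φ i).hom ≫ M.d i j ≫ (φ j).inv) ≫ (φ j).hom
    rw [Category.assoc, Category.assoc, Iso.inv_hom_id, Category.comp_id])

@[simp]
lemma conjIso_hom_f (M : HomologicalComplex A c) (X' : ι → A) (φ : ∀ i, X' i ≅ M.X i) (i : ι) :
    (conjIso M X' φ).hom.f i = (φ i).hom := rfl

@[simp]
lemma conjIso_inv_f (M : HomologicalComplex A c) (X' : ι → A) (φ : ∀ i, X' i ≅ M.X i) (i : ι) :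
    (conjIso M X' φ).inv.f i = (φ i).inv := rfl

end Conj

variable {A : Type u} [Category.{v} A] [Abelian A]

section Iso

variable {ι ι' : Type*} {c : ComplexShape ι} {c' : ComplexShape ι'} (e : c.Embedding c')
  [e.IsRelIff] (K : HomologicalComplex A c') [K.IsStrictlySupported e]

lemma hasLift_of_isStrictlySupported {L : HomologicalComplex A c} (φ : K.restriction e ⟶ L) :
    e.HasLift φ := by
  intro j hj i' hi'
  have : IsZero (K.X i') := K.isZero_X_of_isStrictlySupported e i' (fun i hi => by
    subst hi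
    exact hj.2 i hi')
  exact this.eq_of_src _ _

/-- `K ⟶ (K.restriction e).extend e` -/
noncomputable def toRestrictionExtend : K ⟶ (K.restriction e).extend e :=
  e.liftExtend (𝟙 _) (hasLift_of_isStrictlySupported e K _)

instance : IsIso (toRestrictionExtend e K) := by
  have : ∀ i', IsIso ((toRestrictionExtend e K).f i') := by
    intro i'
    by_cases h : ∃ i, e.f i = i'
    · obtain ⟨i, hi⟩ := h
      rw [toRestrictionExtend, e.isIso_liftExtend_f_iff _ _ hi]
      infer_instance
    · have h' : ∀ i, e.f i ≠ i' := fun i hi => h ⟨i, hi⟩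
      have h1 : IsZero (K.X i') := K.isZero_X_of_isStrictlySupported e i' h'
      have h2 : IsZero (((K.restriction e).extend e).X i') :=
        HomologicalComplex.isZero_extend_X _ _ _ h'
      exact ⟨0, h1.eq_of_src _ _, h2.eq_of_src _ _⟩
  exact HomologicalComplex.Hom.isIso_of_components _

end Iso

section GE

variable (b : ℤ) (K : CochainComplex A ℤ) [K.IsStrictlyGE b]
  (Lp : CochainComplex A ℕ) (αp : K.restriction (ComplexShape.embeddingUpIntGE b) ⟶ Lp)
  (Z : A) (hZ : IsZero Z)

/-- the objects of the transferred complex -/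
noncomputable def objGE (i : ℤ) : A := if b ≤ i then Lp.X (i - b).toNat else Z

lemma embeddingUpIntGE_f_toNat (i : ℤ) (h : b ≤ i) :
    (ComplexShape.embeddingUpIntGE b).f (i - b).toNat = i := by
  show b + ((i - b).toNat : ℤ) = i
  lia

include hZ in
/-- the comparison isomorphisms -/
noncomputable def objGEIso (i : ℤ) :
    objGE b Lp Z i ≅ (Lp.extend (ComplexShape.embeddingUpIntGE b)).X i :=
  if h : b ≤ i then
    eqToIso (if_pos h) ≪≫
      (Lp.extendXIso (ComplexShape.embeddingUpIntGE b) (embeddingUpIntGE_f_toNat b i h)).symm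
  else
    eqToIso (if_neg h) ≪≫ hZ.iso (HomologicalComplex.isZero_extend_X _ _ _ (fun n hn => by
      have hn' : b + (n : ℤ) = i := hn
      lia))

/-- the transferred complex -/
noncomputable def cxGE : CochainComplex A ℤ :=
  conj (Lp.extend (ComplexShape.embeddingUpIntGE b)) (objGE b Lp Z) (objGEIso b Lp Z hZ)

/-- the transferred morphism -/
noncomputable def homGE : K ⟶ cxGE b Lp Z hZ :=
  toRestrictionExtend (ComplexShape.embeddingUpIntGE b) K ≫
    HomologicalComplex.extendMap αp (ComplexShape.embeddingUpIntGE b) ≫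
      (conjIso _ _ _).inv

lemma cxGE_X_of_le (i : ℤ) (h : b ≤ i) : (cxGE b Lp Z hZ).X i = Lp.X (i - b).toNat := if_pos h

lemma cxGE_X_of_not_le (i : ℤ) (h : ¬ b ≤ i) : (cxGE b Lp Z hZ).X i = Z := if_neg h

lemma mem_cxGE (I : A → Prop) (hIZ : I Z) (hI : ∀ n, I (Lp.X n)) (i : ℤ) :
    I ((cxGE b Lp Z hZ).X i) := by
  by_cases h : b ≤ i
  · rw [cxGE_X_of_le b Lp Z hZ i h]; exact hI _
  · rw [cxGE_X_of_not_le b Lp Z hZ i h]; exact hIZ

lemma isZero_cxGE_X (i : ℤ) (h : i < b) : IsZero ((cxGE b Lp Z hZ).X i) := by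
  rw [cxGE_X_of_not_le b Lp Z hZ i (by lia)]; exact hZ

lemma isZero_cxGE_X_self (h0 : IsZero (Lp.X 0)) : IsZero ((cxGE b Lp Z hZ).X b) := by
  rw [cxGE_X_of_le b Lp Z hZ b le_rfl]
  simpa using h0

instance quasiIso_homGE [QuasiIso αp] : QuasiIso (homGE b K Lp αp Z hZ) := by
  let r : K ⟶ (K.restriction (ComplexShape.embeddingUpIntGE b)).extend
    (ComplexShape.embeddingUpIntGE b) := toRestrictionExtend (ComplexShape.embeddingUpIntGE b) K
  let m : (K.restriction (ComplexShape.embeddingUpIntGE b)).extend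
    (ComplexShape.embeddingUpIntGE b) ⟶ Lp.extend (ComplexShape.embeddingUpIntGE b) :=
    HomologicalComplex.extendMap αp (ComplexShape.embeddingUpIntGE b)
  let c : Lp.extend (ComplexShape.embeddingUpIntGE b) ⟶ cxGE b Lp Z hZ :=
    (conjIso (Lp.extend (ComplexShape.embeddingUpIntGE b)) (objGE b Lp Z)
      (objGEIso b Lp Z hZ)).inv
  have h1 : QuasiIso r := inferInstance
  have h2 : QuasiIso m := inferInstance
  have h3 : IsIso c := inferInstanceAs (IsIso (conjIso (Lp.extend (ComplexShape.embeddingUpIntGE b))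
    (objGE b Lp Z) (objGEIso b Lp Z hZ)).inv)
  have h3' : QuasiIso c := inferInstance
  have h4 : QuasiIso (m ≫ c) := quasiIso_comp m c
  exact quasiIso_comp r (m ≫ c)

lemma mono_homGE_f (h : ∀ n, Mono (αp.f n)) (i : ℤ) : Mono ((homGE b K Lp αp Z hZ).f i) := by
  have e : (homGE b K Lp αp Z hZ).f i =
      (toRestrictionExtend (ComplexShape.embeddingUpIntGE b) K).f i ≫
        (HomologicalComplex.extendMap αp (ComplexShape.embeddingUpIntGE b)).f i ≫
          (objGEIso b Lp Z hZ i).inv := rfl
  rw [e]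
  have : Mono ((HomologicalComplex.extendMap αp (ComplexShape.embeddingUpIntGE b)).f i) := by
    by_cases hi : b ≤ i
    · rw [HomologicalComplex.extendMap_f αp _ (embeddingUpIntGE_f_toNat b i hi)]
      have := h (i - b).toNat
      infer_instance
    · have hz : IsZero (((K.restriction (ComplexShape.embeddingUpIntGE b)).extend
          (ComplexShape.embeddingUpIntGE b)).X i) :=
        HomologicalComplex.isZero_extend_X _ _ _ (fun n hn => by
          have hn' : b + (n : ℤ) = i := hn
          lia)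
      exact ⟨fun _ _ _ => hz.eq_of_tgt _ _⟩
  have h5 : Mono ((HomologicalComplex.extendMap αp (ComplexShape.embeddingUpIntGE b)).f i ≫
      (objGEIso b Lp Z hZ i).inv) := mono_comp' this inferInstance
  have h6 : IsIso ((toRestrictionExtend (ComplexShape.embeddingUpIntGE b) K).f i) := inferInstance
  exact mono_comp' inferInstance h5

end GE

section LE

variable (p : ℤ) (K : CochainComplex A ℤ) [K.IsStrictlyLE p]
  (Qm : ChainComplex A ℕ) (αm : Qm ⟶ K.restriction (ComplexShape.embeddingUpIntLE p))
  (Z : A) (hZ : IsZero Z)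

/-- the objects of the transferred complex -/
noncomputable def objLE (i : ℤ) : A := if i ≤ p then Qm.X (p - i).toNat else Z

lemma embeddingUpIntLE_f_toNat (i : ℤ) (h : i ≤ p) :
    (ComplexShape.embeddingUpIntLE p).f (p - i).toNat = i := by
  show p - ((p - i).toNat : ℤ) = i
  lia

include hZ in
/-- the comparison isomorphisms -/
noncomputable def objLEIso (i : ℤ) :
    objLE p Qm Z i ≅ (Qm.extend (ComplexShape.embeddingUpIntLE p)).X i :=
  if h : i ≤ p then
    eqToIso (if_pos h) ≪≫
      (Qm.extendXIso (ComplexShape.embeddingUpIntLE p) (embeddingUpIntLE_f_toNat p i h)).symm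
  else
    eqToIso (if_neg h) ≪≫ hZ.iso (HomologicalComplex.isZero_extend_X _ _ _ (fun n hn => by
      have hn' : p - (n : ℤ) = i := hn
      lia))

/-- the transferred complex -/
noncomputable def cxLE : CochainComplex A ℤ :=
  conj (Qm.extend (ComplexShape.embeddingUpIntLE p)) (objLE p Qm Z) (objLEIso p Qm Z hZ)

/-- the transferred morphism -/
noncomputable def homLE : cxLE p Qm Z hZ ⟶ K :=
  (conjIso _ _ _).hom ≫
    HomologicalComplex.extendMap αm (ComplexShape.embeddingUpIntLE p) ≫
      inv (toRestrictionExtend (ComplexShape.embeddingUpIntLE p) K)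

lemma cxLE_X_of_le (i : ℤ) (h : i ≤ p) : (cxLE p Qm Z hZ).X i = Qm.X (p - i).toNat := if_pos h

lemma cxLE_X_of_not_le (i : ℤ) (h : ¬ i ≤ p) : (cxLE p Qm Z hZ).X i = Z := if_neg h

lemma mem_cxLE (I : A → Prop) (hIZ : I Z) (hI : ∀ n, I (Qm.X n)) (i : ℤ) :
    I ((cxLE p Qm Z hZ).X i) := by
  by_cases h : i ≤ p
  · rw [cxLE_X_of_le p Qm Z hZ i h]; exact hI _
  · rw [cxLE_X_of_not_le p Qm Z hZ i h]; exact hIZ

lemma isZero_cxLE_X (i : ℤ) (h : p < i) : IsZero ((cxLE p Qm Z hZ).X i) := by
  rw [cxLE_X_of_not_le p Qm Z hZ i (by lia)]; exact hZ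

lemma isZero_cxLE_X_self (h0 : IsZero (Qm.X 0)) : IsZero ((cxLE p Qm Z hZ).X p) := by
  rw [cxLE_X_of_le p Qm Z hZ p le_rfl]
  simpa using h0

instance quasiIso_homLE [QuasiIso αm] : QuasiIso (homLE p K Qm αm Z hZ) := by
  let r : (K.restriction (ComplexShape.embeddingUpIntLE p)).extend
    (ComplexShape.embeddingUpIntLE p) ⟶ K :=
    inv (toRestrictionExtend (ComplexShape.embeddingUpIntLE p) K)
  let m : Qm.extend (ComplexShape.embeddingUpIntLE p) ⟶
    (K.restriction (ComplexShape.embeddingUpIntLE p)).extend (ComplexShape.embeddingUpIntLE p) :=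
    HomologicalComplex.extendMap αm (ComplexShape.embeddingUpIntLE p)
  let c : cxLE p Qm Z hZ ⟶ Qm.extend (ComplexShape.embeddingUpIntLE p) :=
    (conjIso (Qm.extend (ComplexShape.embeddingUpIntLE p)) (objLE p Qm Z)
      (objLEIso p Qm Z hZ)).hom
  have h1 : QuasiIso r := inferInstance
  have h2 : QuasiIso m := inferInstance
  have h3 : IsIso c := inferInstanceAs (IsIso (conjIso (Qm.extend (ComplexShape.embeddingUpIntLE p))
    (objLE p Qm Z) (objLEIso p Qm Z hZ)).hom)
  have h3' : QuasiIso c := inferInstance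
  have h4 : QuasiIso (m ≫ r) := quasiIso_comp m r
  exact quasiIso_comp c (m ≫ r)

lemma epi_homLE_f (h : ∀ n, Epi (αm.f n)) (i : ℤ) : Epi ((homLE p K Qm αm Z hZ).f i) := by
  have e : (homLE p K Qm αm Z hZ).f i =
      (objLEIso p Qm Z hZ i).hom ≫
        (HomologicalComplex.extendMap αm (ComplexShape.embeddingUpIntLE p)).f i ≫
          (inv (toRestrictionExtend (ComplexShape.embeddingUpIntLE p) K)).f i := rfl
  rw [e]
  have : Epi ((HomologicalComplex.extendMap αm (ComplexShape.embeddingUpIntLE p)).f i) := by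
    by_cases hi : i ≤ p
    · rw [HomologicalComplex.extendMap_f αm _ (embeddingUpIntLE_f_toNat p i hi)]
      have := h (p - i).toNat
      infer_instance
    · have hz : IsZero (((K.restriction (ComplexShape.embeddingUpIntLE p)).extend
          (ComplexShape.embeddingUpIntLE p)).X i) :=
        HomologicalComplex.isZero_extend_X _ _ _ (fun n hn => by
          have hn' : p - (n : ℤ) = i := hn
          lia)
      exact ⟨fun _ _ _ => hz.eq_of_src _ _⟩
  have h6 : IsIso ((inv (toRestrictionExtend (ComplexShape.embeddingUpIntLE p) K)).f i) :=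
    inferInstanceAs (IsIso ((HomologicalComplex.eval A (ComplexShape.up ℤ) i).map
      (inv (toRestrictionExtend (ComplexShape.embeddingUpIntLE p) K))))
  have h5 : Epi ((HomologicalComplex.extendMap αm (ComplexShape.embeddingUpIntLE p)).f i ≫
      (inv (toRestrictionExtend (ComplexShape.embeddingUpIntLE p) K)).f i) :=
    epi_comp' this inferInstance
  have h7 : IsIso (objLEIso p Qm Z hZ i).hom := inferInstance
  have h8 : Epi (objLEIso p Qm Z hZ i).hom := inferInstance
  exact epi_comp' h8 h5

end LE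

end Groth.Agent.Lib.Helper6.ExtendTransfer
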