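import Mathlib
import Groth.Agent.Lib.Helper6.ClassRes
import Groth.Agent.Lib.Helper6.ExtendTransfer

/-!
# Right resolutions by objects of a class, for bounded below `ℤ`-indexed cochain complexes
-/

set_option autoImplicit false
universe v u
open CategoryTheory CategoryTheory.Limits

namespace Groth.Agent.Lib.Helper6.ClassRes

variable {A : Type u} [Category.{v} A] [Abelian A]

open ExtendTransfer in
theorem exists_right_resolution (I : A → Prop)
    (hI0 : ∃ Z : A, Limits.IsZero Z ∧ I Z) (hI : ∀ X : A, ∃ (Y : A) (ι : X ⟶ Y), I Y ∧ Mono ι)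
    (K : CochainComplex A ℤ) (a : ℤ) [K.IsStrictlyGE a] :
    ∃ (L : CochainComplex A ℤ) (α : K ⟶ L), L.IsStrictlyGE a ∧ (∀ n, I (L.X n)) ∧
      (∀ n, Mono (α.f n)) ∧ QuasiIso α := by
  obtain ⟨Z, hZ, hIZ⟩ := hI0
  have hb : K.IsStrictlyGE (a - 1) := K.isStrictlyGE_of_ge (a - 1) a (by lia)
  let e := ComplexShape.embeddingUpIntGE (a - 1)
  have hK0 : IsZero ((K.restriction e).X 0) := by
    show IsZero (K.X (a - 1 + ((0 : ℕ) : ℤ)))
    exact K.isZero_of_isStrictlyGE a _ (by simp)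
  obtain ⟨Lp, αp, hL0, hLI, hmono, hqi⟩ := core hI (K.restriction e) Z hZ hIZ hK0
  refine ⟨cxGE (a - 1) Lp Z hZ, homGE (a - 1) K Lp αp Z hZ, ?_, ?_, ?_, inferInstance⟩
  · rw [CochainComplex.isStrictlyGE_iff]
    intro i hi
    obtain hi' | rfl : i < a - 1 ∨ i = a - 1 := by lia
    · exact isZero_cxGE_X _ _ _ _ _ hi'
    · exact isZero_cxGE_X_self _ _ _ _ hL0
  · exact mem_cxGE _ _ _ _ I hIZ hLI
  · exact mono_homGE_f _ _ _ _ _ _ hmono

open ExtendTransfer Opposite in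
theorem exists_left_resolution (P : A → Prop)
    (hP0 : ∃ Z : A, Limits.IsZero Z ∧ P Z) (hP : ∀ X : A, ∃ (Y : A) (π : Y ⟶ X), P Y ∧ Epi π)
    (K : CochainComplex A ℤ) (a : ℤ) [K.IsStrictlyLE a] :
    ∃ (Q : CochainComplex A ℤ) (α : Q ⟶ K), Q.IsStrictlyLE a ∧ (∀ n, P (Q.X n)) ∧
      (∀ n, Epi (α.f n)) ∧ QuasiIso α := by
  obtain ⟨Z, hZ, hPZ⟩ := hP0
  have hb : K.IsStrictlyLE (a + 1) := K.isStrictlyLE_of_le a (a + 1) (by lia)
  let e := ComplexShape.embeddingUpIntLE (a + 1)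
  let Km : ChainComplex A ℕ := K.restriction e
  let Kop : CochainComplex Aᵒᵖ ℕ := Km.op
  have hK0 : IsZero (Kop.X 0) := by
    show IsZero (op (K.X (a + 1 - ((0 : ℕ) : ℤ))))
    exact (K.isZero_of_isStrictlyLE a _ (by simp)).op
  let I' : Aᵒᵖ → Prop := fun X => P X.unop
  have hI' : ∀ X : Aᵒᵖ, ∃ (Y : Aᵒᵖ) (ι : X ⟶ Y), I' Y ∧ Mono ι := by
    intro X
    obtain ⟨Y, π, hY, hπ⟩ := hP X.unop
    exact ⟨op Y, π.op, hY, inferInstance⟩
  obtain ⟨Lo, αo, hL0, hLI, hmono, hqi⟩ := core hI' Kop (op Z) hZ.op hPZ hK0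
  let Qm : ChainComplex A ℕ := Lo.unop
  let αm : Qm ⟶ Km := (HomologicalComplex.unopFunctor A (ComplexShape.up ℕ)).map αo.op
  have hqm : QuasiIso αm := (HomologicalComplex.quasiIso_unopFunctor_map_iff αo).mpr hqi
  have hepi : ∀ n, Epi (αm.f n) := fun n => by
    have := hmono n
    exact inferInstanceAs (Epi (αo.f n).unop)
  refine ⟨cxLE (a + 1) Qm Z hZ, homLE (a + 1) K Qm αm Z hZ, ?_, ?_, ?_, inferInstance⟩
  · rw [CochainComplex.isStrictlyLE_iff]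
    intro i hi
    obtain hi' | rfl : a + 1 < i ∨ i = a + 1 := by lia
    · exact isZero_cxLE_X _ _ _ _ _ hi'
    · exact isZero_cxLE_X_self _ _ _ _ hL0.unop
  · exact mem_cxLE _ _ _ _ P hPZ hLI
  · exact epi_homLE_f _ _ _ _ _ _ hepi

end Groth.Agent.Lib.Helper6.ClassRes
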