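import Mathlib

/-!
# Duality for `ℤ`-indexed cochain complexes

`dual K : CochainComplex Cᵒᵖ ℤ` with `(dual K).X i = op (K.X (-i))`, and `undual` in the other
direction; compatibility with quasi-isomorphisms, bounds and short exact sequences.
-/

set_option autoImplicit false
universe v u
open CategoryTheory CategoryTheory.Limits Opposite

namespace Groth.Agent.Lib.Helper6.CochainDual

variable {C : Type u} [Category.{v} C]

section Basic

variable [HasZeroMorphisms C]

/-- the dual cochain complex -/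
@[simps]
def dual (K : CochainComplex C ℤ) : CochainComplex Cᵒᵖ ℤ where
  X i := op (K.X (-i))
  d i j := (K.d (-j) (-i)).op
  shape i j hij := by
    rw [K.shape, op_zero]
    intro (h : -j + 1 = -i)
    exact hij (by show i + 1 = j; lia)
  d_comp_d' i j k _ _ := by rw [← op_comp, K.d_comp_d, op_zero]

/-- the dual of a morphism -/
@[simps]
def dualMap {K L : CochainComplex C ℤ} (f : K ⟶ L) : dual L ⟶ dual K where
  f i := (f.f (-i)).op
  comm' i j _ := by
    show (f.f (-i)).op ≫ (K.d (-j) (-i)).op = (L.d (-j) (-i)).op ≫ (f.f (-j)).op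
    rw [← op_comp, ← op_comp, f.comm]

/-- the undual cochain complex -/
@[simps]
def undual (M : CochainComplex Cᵒᵖ ℤ) : CochainComplex C ℤ where
  X i := unop (M.X (-i))
  d i j := (M.d (-j) (-i)).unop
  shape i j hij := by
    rw [M.shape, unop_zero]
    intro (h : -j + 1 = -i)
    exact hij (by show i + 1 = j; lia)
  d_comp_d' i j k _ _ := by rw [← unop_comp, M.d_comp_d, unop_zero]

/-- the undual of a morphism -/
@[simps]
def undualMap {M N : CochainComplex Cᵒᵖ ℤ} (g : M ⟶ N) : undual N ⟶ undual M where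
  f i := (g.f (-i)).unop
  comm' i j _ := by
    show (g.f (-i)).unop ≫ (M.d (-j) (-i)).unop = (N.d (-j) (-i)).unop ≫ (g.f (-j)).unop
    rw [← unop_comp, ← unop_comp, g.comm]

@[simp] lemma dualMap_id (K : CochainComplex C ℤ) : dualMap (𝟙 K) = 𝟙 _ := by
  ext i; exact op_id
@[simp] lemma dualMap_comp {K L M : CochainComplex C ℤ} (f : K ⟶ L) (g : L ⟶ M) :
    dualMap (f ≫ g) = dualMap g ≫ dualMap f := by
  ext i; exact op_comp
@[simp] lemma dualMap_zero (K L : CochainComplex C ℤ) : dualMap (0 : K ⟶ L) = 0 := by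
  ext i; exact op_zero _ _
@[simp] lemma undualMap_id (K : CochainComplex Cᵒᵖ ℤ) : undualMap (𝟙 K) = 𝟙 _ := by
  ext i; exact unop_id
@[simp] lemma undualMap_comp {K L M : CochainComplex Cᵒᵖ ℤ} (f : K ⟶ L) (g : L ⟶ M) :
    undualMap (f ≫ g) = undualMap g ≫ undualMap f := by
  ext i; exact unop_comp
@[simp] lemma undualMap_zero (K L : CochainComplex Cᵒᵖ ℤ) : undualMap (0 : K ⟶ L) = 0 := by
  ext i; exact unop_zero _ _

lemma hom_f_XIsoOfEq {K L : CochainComplex C ℤ} (f : K ⟶ L) {i i' : ℤ} (h : i' = i) :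
    f.f i' ≫ (L.XIsoOfEq h).hom = (K.XIsoOfEq h).hom ≫ f.f i := by
  subst h; simp

/-- `undual (dual K) ≅ K` -/
def undualDualIso (K : CochainComplex C ℤ) : undual (dual K) ≅ K :=
  HomologicalComplex.Hom.isoOfComponents (fun i => K.XIsoOfEq (neg_neg i)) (by
    intro i j _
    show (K.XIsoOfEq (neg_neg i)).hom ≫ K.d i j =
      K.d (- -i) (- -j) ≫ (K.XIsoOfEq (neg_neg j)).hom
    simp)

@[simp]
lemma undualDualIso_hom_f (K : CochainComplex C ℤ) (i : ℤ) :
    (undualDualIso K).hom.f i = (K.XIsoOfEq (neg_neg i)).hom := rfl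

@[reassoc]
lemma undualDualIso_hom_naturality {K L : CochainComplex C ℤ} (f : K ⟶ L) :
    undualMap (dualMap f) ≫ (undualDualIso L).hom = (undualDualIso K).hom ≫ f := by
  ext i
  exact hom_f_XIsoOfEq f (neg_neg i)

/-- `dual (undual M) ≅ M` -/
def dualUndualIso (M : CochainComplex Cᵒᵖ ℤ) : dual (undual M) ≅ M :=
  HomologicalComplex.Hom.isoOfComponents (fun i => M.XIsoOfEq (neg_neg i)) (by
    intro i j _
    show (M.XIsoOfEq (neg_neg i)).hom ≫ M.d i j =
      M.d (- -i) (- -j) ≫ (M.XIsoOfEq (neg_neg j)).hom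
    simp)

@[reassoc]
lemma dualUndualIso_hom_naturality {M N : CochainComplex Cᵒᵖ ℤ} (g : M ⟶ N) :
    dualMap (undualMap g) ≫ (dualUndualIso N).hom = (dualUndualIso M).hom ≫ g := by
  ext i
  exact hom_f_XIsoOfEq g (neg_neg i)

lemma isStrictlyGE_dual [HasZeroObject C] (K : CochainComplex C ℤ) (n : ℤ) [K.IsStrictlyLE n] :
    (dual K).IsStrictlyGE (-n) := by
  rw [CochainComplex.isStrictlyGE_iff]
  intro i hi
  exact (K.isZero_of_isStrictlyLE n (-i) (by lia)).op

lemma isStrictlyLE_undual [HasZeroObject C] (M : CochainComplex Cᵒᵖ ℤ) (n m : ℤ) (h : -n = m)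
    [M.IsStrictlyGE n] : (undual M).IsStrictlyLE m := by
  rw [CochainComplex.isStrictlyLE_iff]
  intro i hi
  exact (M.isZero_of_isStrictlyGE n (-i) (by lia)).unop

end Basic

section Abelian

variable [Abelian C]

lemma quasiIsoAt_dualMap_iff {K L : CochainComplex C ℤ} (f : K ⟶ L) (i : ℤ) :
    QuasiIsoAt (dualMap f) i ↔ QuasiIsoAt f (-i) := by
  rw [quasiIsoAt_iff' (dualMap f) (i - 1) i (i + 1) (by simp) (by simp),
    quasiIsoAt_iff' f (-(i + 1)) (-i) (-(i - 1)) (by simp; lia) (by simp; lia)]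
  exact ShortComplex.quasiIso_opMap_iff
    ((HomologicalComplex.shortComplexFunctor' C (ComplexShape.up ℤ) (-(i + 1)) (-i) (-(i - 1))).map f)

lemma quasiIso_dualMap_iff {K L : CochainComplex C ℤ} (f : K ⟶ L) :
    QuasiIso (dualMap f) ↔ QuasiIso f := by
  simp only [quasiIso_iff, quasiIsoAt_dualMap_iff]
  constructor
  · intro h i
    have := h (-i)
    rwa [neg_neg] at this
  · intro h i
    exact h (-i)

lemma quasiIso_undualMap_iff {M N : CochainComplex Cᵒᵖ ℤ} (g : M ⟶ N) :
    QuasiIso (undualMap g) ↔ QuasiIso g := by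
  rw [← quasiIso_dualMap_iff (undualMap g)]
  have nat := dualUndualIso_hom_naturality g
  constructor
  · intro h
    have h1 : QuasiIso (dualMap (undualMap g) ≫ (dualUndualIso N).hom) := inferInstance
    rw [nat] at h1
    exact (quasiIso_iff_comp_left (dualUndualIso M).hom g).mp h1
  · intro h
    have h1 : QuasiIso ((dualUndualIso M).hom ≫ g) := inferInstance
    rw [← nat] at h1
    exact (quasiIso_iff_comp_right (dualMap (undualMap g)) (dualUndualIso N).hom).mp h1

/-- the dual of a short complex of complexes -/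
@[simps]
def dualSC (S : ShortComplex (CochainComplex C ℤ)) : ShortComplex (CochainComplex Cᵒᵖ ℤ) :=
  ShortComplex.mk (dualMap S.g) (dualMap S.f) (by rw [← dualMap_comp, S.zero, dualMap_zero])

/-- the undual of a short complex of complexes -/
@[simps]
def undualSC (T : ShortComplex (CochainComplex Cᵒᵖ ℤ)) : ShortComplex (CochainComplex C ℤ) :=
  ShortComplex.mk (undualMap T.g) (undualMap T.f) (by rw [← undualMap_comp, T.zero, undualMap_zero])

lemma shortExact_dualSC (S : ShortComplex (CochainComplex C ℤ)) (hS : S.ShortExact) :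
    (dualSC S).ShortExact := by
  apply HomologicalComplex.shortExact_of_degreewise_shortExact
  intro i
  exact (hS.map_of_exact (HomologicalComplex.eval C (ComplexShape.up ℤ) (-i))).op

lemma shortExact_undualSC (T : ShortComplex (CochainComplex Cᵒᵖ ℤ)) (hT : T.ShortExact) :
    (undualSC T).ShortExact := by
  apply HomologicalComplex.shortExact_of_degreewise_shortExact
  intro i
  exact (hT.map_of_exact (HomologicalComplex.eval Cᵒᵖ (ComplexShape.up ℤ) (-i))).unop

end Abelian

end Groth.Agent.Lib.Helper6.CochainDual
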