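import Groth.Prelude.Def_DerLim
import Mathlib.CategoryTheory.Abelian.GrothendieckAxioms.Colim
import Mathlib.CategoryTheory.Abelian.GrothendieckAxioms.Basic
import Mathlib.CategoryTheory.Functor.OfSequence
import Mathlib.CategoryTheory.Limits.Shapes.BinaryBiproducts
import Mathlib.CategoryTheory.Abelian.Basic
import Mathlib.Algebra.Homology.ShortComplex.ShortExact

/-!
# Sequential colimits in abelian categories with exact sequential colimits (helper6 library)

For a sequence `M 0 ⟶ M 1 ⟶ …` whose direct sum exists, the map `1 - shift` on `∐ M` is a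
monomorphism whose cokernel is the colimit of the sequence.
-/

set_option autoImplicit false
set_option linter.unusedSectionVars false
universe v u

open CategoryTheory CategoryTheory.Limits ZeroObject

namespace Groth.Agent.Lib.Helper6.SeqColim

variable {A : Type u} [Category.{v} A] [Abelian A] (M : ℕ → A) (F : ∀ n, M n ⟶ M (n + 1))

/-- partial sums -/
noncomputable def P : ℕ → A
  | 0 => 0
  | N + 1 => P N ⊞ M N

variable [HasCoproduct M]

/-- the inclusion of the partial sums -/
noncomputable def σ : ∀ N, P M N ⟶ ∐ M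
  | 0 => 0
  | N + 1 => biprod.desc (σ N) (Sigma.ι M N)

variable {M}

/-- the restriction of `1 - shift` to the partial sums -/
noncomputable def u : ∀ N, P M N ⟶ P M (N + 1)
  | 0 => 0
  | N + 1 => biprod.desc (u N ≫ biprod.inl) (biprod.inr ≫ biprod.inl - F N ≫ biprod.inr)

/-- the inclusion of consecutive partial sums -/
noncomputable def inc (M : ℕ → A) (N : ℕ) : P M N ⟶ P M (N + 1) := biprod.inl

/-- the inclusion of the last summand -/
noncomputable def last (M : ℕ → A) (N : ℕ) : M N ⟶ P M (N + 1) := biprod.inr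

/-- the projection to the previous partial sum -/
noncomputable def prv (M : ℕ → A) (N : ℕ) : P M (N + 1) ⟶ P M N := biprod.fst

/-- the projection to the last summand -/
noncomputable def lst (M : ℕ → A) (N : ℕ) : P M (N + 1) ⟶ M N := biprod.snd

lemma hom_ext_P {N : ℕ} {Z : A} (a b : P M (N + 1) ⟶ Z) (h₁ : inc M N ≫ a = inc M N ≫ b)
    (h₂ : last M N ≫ a = last M N ≫ b) : a = b :=
  biprod.hom_ext' a b h₁ h₂

@[reassoc]
lemma inc_σ (N : ℕ) : inc M N ≫ σ M (N + 1) = σ M N :=
  biprod.inl_desc (σ M N) (Sigma.ι M N)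

@[reassoc]
lemma last_σ (N : ℕ) : last M N ≫ σ M (N + 1) = Sigma.ι M N :=
  biprod.inr_desc (σ M N) (Sigma.ι M N)

@[reassoc]
lemma inc_u (N : ℕ) : inc M N ≫ u F (N + 1) = u F N ≫ inc M (N + 1) :=
  biprod.inl_desc _ _

@[reassoc]
lemma last_u (N : ℕ) :
    last M N ≫ u F (N + 1) = last M N ≫ inc M (N + 1) - F N ≫ last M (N + 1) :=
  biprod.inr_desc _ _

@[reassoc]
lemma inc_prv (N : ℕ) : inc M N ≫ prv M N = 𝟙 _ := biprod.inl_fst

@[reassoc]
lemma last_prv (N : ℕ) : last M N ≫ prv M N = 0 := biprod.inr_fst

@[reassoc]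
lemma inc_lst (N : ℕ) : inc M N ≫ lst M N = 0 := biprod.inl_snd

@[reassoc]
lemma last_lst (N : ℕ) : last M N ≫ lst M N = 𝟙 _ := biprod.inr_snd

lemma total (N : ℕ) : prv M N ≫ inc M N + lst M N ≫ last M N = 𝟙 _ := biprod.total

lemma ι_one_sub_shiftMap (n : ℕ) :
    Sigma.ι M n ≫ (𝟙 (∐ M) - DerLim.shiftMap M F) = Sigma.ι M n - F n ≫ Sigma.ι M (n + 1) := by
  simp [DerLim.shiftMap]

lemma σ_comp (N : ℕ) : σ M N ≫ (𝟙 (∐ M) - DerLim.shiftMap M F) = u F N ≫ σ M (N + 1) := by
  induction N with
  | zero =>
    have h1 : σ M 0 = 0 := rfl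
    have h2 : u F 0 = 0 := rfl
    rw [h1, h2, zero_comp, zero_comp]
  | succ N ih =>
    apply hom_ext_P
    · rw [inc_σ_assoc, ih, inc_u_assoc, inc_σ]
    · rw [last_σ_assoc, ι_one_sub_shiftMap, last_u_assoc, Preadditive.sub_comp, Category.assoc,
        inc_σ, last_σ, Category.assoc, last_σ]

lemma mono_u_prv (N : ℕ) : Mono (u F N ≫ prv M N) := by
  induction N with
  | zero =>
    refine ⟨fun a b _ => ?_⟩
    exact (isZero_zero A).eq_of_tgt _ _
  | succ N ih =>
    rw [Preadditive.mono_iff_cancel_zero]
    intro W k hk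
    -- components of `k`
    have hdecomp : k = (k ≫ prv M N) ≫ inc M N + (k ≫ lst M N) ≫ last M N := by
      rw [Category.assoc, Category.assoc, ← Preadditive.comp_add, total, Category.comp_id]
    have h1 : u F (N + 1) ≫ prv M (N + 1) = prv M N ≫ u F N + lst M N ≫ last M N := by
      apply hom_ext_P
      · rw [inc_u_assoc, inc_prv, Category.comp_id, Preadditive.comp_add, inc_prv_assoc,
          inc_lst_assoc, zero_comp, add_zero]
      · rw [last_u_assoc, Preadditive.sub_comp, Category.assoc, inc_prv, Category.comp_id,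
          Category.assoc, last_prv, comp_zero, sub_zero, Preadditive.comp_add, last_prv_assoc,
          zero_comp, zero_add, last_lst_assoc]
    rw [h1, Preadditive.comp_add] at hk
    have h2 : (k ≫ prv M N) ≫ u F N ≫ prv M N = 0 := by
      have := congrArg (· ≫ prv M N) hk
      simp only [Preadditive.add_comp, Category.assoc, last_prv, comp_zero, add_zero,
        zero_comp] at this
      rw [Category.assoc]
      exact this
    have h3 : k ≫ prv M N = 0 := by
      rw [Preadditive.mono_iff_cancel_zero] at ih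
      exact ih _ _ h2
    have h4 : (k ≫ lst M N) ≫ last M N = 0 := by
      rw [← Category.assoc, h3, zero_comp, zero_add, ← Category.assoc] at hk
      exact hk
    rw [hdecomp, h3, zero_comp, zero_add, h4]

lemma mono_u (N : ℕ) : Mono (u F N) :=
  have := mono_u_prv F N
  mono_of_mono (u F N) (prv M N)

variable (M) in
/-- the diagram of partial sums -/
noncomputable def G₁ : ℕ ⥤ A := Functor.ofSequence (X := P M) (inc M)

variable (M) in
/-- the shifted diagram of partial sums -/
noncomputable def G₂ : ℕ ⥤ A := Functor.ofSequence (X := fun N => P M (N + 1)) (fun N => inc M (N + 1))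

variable (M) in
/-- the cocone of partial sums -/
noncomputable def c₁ : Cocone (G₁ M) where
  pt := ∐ M
  ι := NatTrans.ofSequence (F := G₁ M) (G := (Functor.const ℕ).obj (∐ M)) (σ M) (fun N => by
    simp only [G₁, Functor.ofSequence_map_homOfLE_succ, Functor.const_obj_obj,
      Functor.const_obj_map]
    exact (inc_σ (M := M) N).trans (Category.comp_id _).symm)

variable (M) in
/-- the shifted cocone of partial sums -/
noncomputable def c₂ : Cocone (G₂ M) where
  pt := ∐ M
  ι := NatTrans.ofSequence (F := G₂ M) (G := (Functor.const ℕ).obj (∐ M)) (fun N => σ M (N + 1))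
    (fun N => by
      simp only [G₂, Functor.ofSequence_map_homOfLE_succ, Functor.const_obj_obj,
        Functor.const_obj_map]
      exact (inc_σ (M := M) (N + 1)).trans (Category.comp_id _).symm)

lemma cocone_w {G : ℕ ⥤ A} (t : Cocone G) (N : ℕ) :
    G.map (homOfLE (Nat.le_add_right N 1)) ≫ t.ι.app (N + 1) = t.ι.app N := t.w _

lemma uniq_aux {Z : A} (m m' : ∐ M ⟶ Z) (h : ∀ n, σ M (n + 1) ≫ m = σ M (n + 1) ≫ m') :
    m = m' := by
  refine Sigma.hom_ext _ _ fun n => ?_
  have := congrArg (last M n ≫ ·) (h n)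
  simpa only [last_σ_assoc] using this

lemma fac₁ (t : Cocone (G₁ M)) (N : ℕ) :
    σ M N ≫ Sigma.desc (fun n => last M n ≫ t.ι.app (n + 1)) = t.ι.app N := by
  induction N with
  | zero => exact (isZero_zero A).eq_of_src _ _
  | succ N ih =>
    apply hom_ext_P
    · rw [inc_σ_assoc, ih]
      have := cocone_w t N
      simp only [G₁, Functor.ofSequence_map_homOfLE_succ] at this
      exact this.symm
    · rw [last_σ_assoc, Sigma.ι_desc]

lemma fac₂ (t : Cocone (G₂ M)) (N : ℕ) :
    σ M (N + 1) ≫ Sigma.desc (fun n => last M n ≫ t.ι.app n) = t.ι.app N := by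
  induction N with
  | zero =>
    apply hom_ext_P
    · exact (isZero_zero A).eq_of_src _ _
    · rw [last_σ_assoc, Sigma.ι_desc]
  | succ N ih =>
    apply hom_ext_P
    · rw [inc_σ_assoc, ih]
      have := cocone_w t N
      simp only [G₂, Functor.ofSequence_map_homOfLE_succ] at this
      exact this.symm
    · rw [last_σ_assoc, Sigma.ι_desc]

variable (M) in
/-- the partial sums have colimit the direct sum -/
noncomputable def hc₁ : IsColimit (c₁ M) where
  desc t := Sigma.desc (fun n => last M n ≫ t.ι.app (n + 1))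
  fac t N := fac₁ t N
  uniq t _ hm := uniq_aux _ _ (fun n => (hm (n + 1)).trans (fac₁ t (n + 1)).symm)

variable (M) in
/-- the shifted partial sums have colimit the direct sum -/
noncomputable def hc₂ : IsColimit (c₂ M) where
  desc t := Sigma.desc (fun n => last M n ≫ t.ι.app n)
  fac t N := fac₂ t N
  uniq t _ hm := uniq_aux _ _ (fun n => (hm n).trans (fac₂ t n).symm)

/-- the natural transformation induced by `1 - shift` -/
noncomputable def η : G₁ M ⟶ G₂ M :=
  NatTrans.ofSequence (F := G₁ M) (G := G₂ M) (u F) (fun N => by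
    simp only [G₁, G₂, Functor.ofSequence_map_homOfLE_succ]
    exact inc_u F N)

instance : Mono (η F) := by
  have : ∀ N, Mono ((η F).app N) := fun N => mono_u F N
  exact NatTrans.mono_of_mono_app _

/-- `1 - shift` is a monomorphism when sequential colimits are exact. -/
theorem mono_one_sub_shiftMap [HasColimitsOfShape ℕ A] [HasExactColimitsOfShape ℕ A] :
    Mono (𝟙 (∐ M) - DerLim.shiftMap M F) :=
  colim.map_mono' (η F) (hc₁ M) (hc₂ M) _ (fun N => σ_comp F N)

section functor

variable (G : ℕ ⥤ A) [HasCoproduct G.obj] [HasColimitsOfShape ℕ A]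

/-- the transition maps of a sequence -/
abbrev tr (n : ℕ) : G.obj n ⟶ G.obj (n + 1) := G.map (homOfLE (Nat.le_succ n))

lemma one_sub_shiftMap_comp_desc :
    (𝟙 (∐ G.obj) - DerLim.shiftMap G.obj (tr G)) ≫ Sigma.desc (fun n => colimit.ι G n) = 0 := by
  refine Sigma.hom_ext _ _ fun n => ?_
  rw [← Category.assoc, ι_one_sub_shiftMap, Preadditive.sub_comp, Sigma.ι_desc, Category.assoc,
    Sigma.ι_desc, colimit.w, sub_self, comp_zero]

/-- the colimit is the cokernel of `1 - shift` -/
noncomputable def isCokernel :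
    IsColimit (CokernelCofork.ofπ (Sigma.desc (fun n => colimit.ι G n))
      (one_sub_shiftMap_comp_desc G)) :=
  CokernelCofork.IsColimit.ofπ _ _
    (fun {Z} g' hg' => colimit.desc G
      { pt := Z
        ι := NatTrans.ofSequence (F := G) (G := (Functor.const ℕ).obj Z)
          (fun n => Sigma.ι G.obj n ≫ g') (fun n => by
            have h : (Sigma.ι G.obj n ≫ (𝟙 (∐ G.obj) - DerLim.shiftMap G.obj (tr G))) ≫ g' = 0 := by
              rw [Category.assoc, hg', comp_zero]
            rw [ι_one_sub_shiftMap, Preadditive.sub_comp, sub_eq_zero, Category.assoc] at h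
            simp only [Functor.const_obj_obj, Functor.const_obj_map, Category.comp_id]
            exact h.symm) })
    (fun {Z} g' hg' => by
      refine Sigma.hom_ext _ _ fun n => ?_
      rw [← Category.assoc, Sigma.ι_desc, colimit.ι_desc]
      rfl)
    (fun {Z} g' hg' m hm => by
      refine colimit.hom_ext fun n => ?_
      rw [colimit.ι_desc]
      change _ = Sigma.ι G.obj n ≫ g'
      rw [← hm, ← Category.assoc, Sigma.ι_desc])

/-- **The telescope short exact sequence** `0 → ⨁ Gₙ → ⨁ Gₙ → colim G → 0`. -/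
theorem shortExact [HasExactColimitsOfShape ℕ A] :
    (ShortComplex.mk _ _ (one_sub_shiftMap_comp_desc G)).ShortExact := by
  have h1 : Mono (𝟙 (∐ G.obj) - DerLim.shiftMap G.obj (tr G)) := mono_one_sub_shiftMap (tr G)
  have h2 : Epi (Sigma.desc (fun n => colimit.ι G n)) :=
    epi_of_isColimit_cofork (isCokernel G)
  exact ShortComplex.ShortExact.mk' (ShortComplex.exact_of_g_is_cokernel _ (isCokernel G)) h1 h2

end functor

section sequence

variable (M) [HasColimitsOfShape ℕ A]

/-- the colimit inclusions, with source written as `M n` -/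
noncomputable def cι (n : ℕ) : M n ⟶ colimit (Functor.ofSequence F) :=
  colimit.ι (Functor.ofSequence F) n

lemma cι_w (n : ℕ) : F n ≫ cι M F (n + 1) = cι M F n := by
  have := colimit.w (Functor.ofSequence F) (homOfLE (Nat.le_add_right n 1))
  rw [Functor.ofSequence_map_homOfLE_succ] at this
  exact this

lemma one_sub_shiftMap_comp_desc' :
    (𝟙 (∐ M) - DerLim.shiftMap M F) ≫ Sigma.desc (cι M F) = 0 := by
  refine Sigma.hom_ext _ _ fun n => ?_
  rw [← Category.assoc, ι_one_sub_shiftMap, Preadditive.sub_comp, Sigma.ι_desc, Category.assoc,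
    Sigma.ι_desc, comp_zero, sub_eq_zero, cι_w]

/-- the colimit of a sequence is the cokernel of `1 - shift` (sequence version) -/
noncomputable def isCokernel' :
    IsColimit (CokernelCofork.ofπ (Sigma.desc (cι M F)) (one_sub_shiftMap_comp_desc' M F)) :=
  CokernelCofork.IsColimit.ofπ _ _
    (fun {Z} g' hg' => colimit.desc (Functor.ofSequence F)
      { pt := Z
        ι := NatTrans.ofSequence (F := Functor.ofSequence F) (G := (Functor.const ℕ).obj Z)
          (fun n => Sigma.ι M n ≫ g') (fun n => by
            have h : (Sigma.ι M n ≫ (𝟙 (∐ M) - DerLim.shiftMap M F)) ≫ g' = 0 := by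
              rw [Category.assoc, hg', comp_zero]
            rw [ι_one_sub_shiftMap, Preadditive.sub_comp, sub_eq_zero, Category.assoc] at h
            simp only [Functor.ofSequence_map_homOfLE_succ, Functor.const_obj_obj,
              Functor.const_obj_map, Category.comp_id]
            exact h.symm) })
    (fun {Z} g' hg' => by
      refine Sigma.hom_ext _ _ fun n => ?_
      rw [← Category.assoc, Sigma.ι_desc]
      exact colimit.ι_desc _ _)
    (fun {Z} g' hg' m hm => by
      refine colimit.hom_ext fun n => ?_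
      rw [colimit.ι_desc]
      change cι M F n ≫ m = Sigma.ι M n ≫ g'
      rw [← hm, ← Category.assoc, Sigma.ι_desc])

end sequence

section comparison

universe v₁ u₁ v₂ u₂

variable {D : Type u₁} [Category.{v₁} D] [Preadditive D] {E : Type u₂} [Category.{v₂} E]
  [Preadditive E]

lemma ι_one_sub_shiftMap' (K : ℕ → D) (f : ∀ n, K n ⟶ K (n + 1)) [HasCoproduct K] (n : ℕ) :
    Sigma.ι K n ≫ (𝟙 (∐ K) - DerLim.shiftMap K f) = Sigma.ι K n - f n ≫ Sigma.ι K (n + 1) := by
  simp [DerLim.shiftMap]

/-- compatibility of `1 - shift` with the comparison map of an additive functor -/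
lemma comparison_comm' (H : D ⥤ E) [H.Additive] (K : ℕ → D) (f : ∀ n, K n ⟶ K (n + 1))
    [HasCoproduct K] [HasCoproduct (fun n => H.obj (K n))] :
    (𝟙 _ - DerLim.shiftMap (fun n => H.obj (K n)) (fun n => H.map (f n))) ≫ sigmaComparison H K =
      sigmaComparison H K ≫ H.map (𝟙 _ - DerLim.shiftMap K f) := by
  refine Sigma.hom_ext _ _ fun n => ?_
  rw [← Category.assoc, ι_one_sub_shiftMap', Preadditive.sub_comp, Category.assoc,
    ι_comp_sigmaComparison, ι_comp_sigmaComparison, ι_comp_sigmaComparison_assoc,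
    ← H.map_comp, ← H.map_comp, ← Functor.map_sub, ι_one_sub_shiftMap']

end comparison

end Groth.Agent.Lib.Helper6.SeqColim
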