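import Mathlib
import Groth.Agent.Lib.Helper6.SeqColim
import Groth.Agent.Lib.Helper6.DerCoprodU

/-!
# Countable coproducts: preservation by functors commuting with sequential colimits, and by the
localization functor `Q` (helper6)
-/

set_option autoImplicit false
set_option linter.style.haveILetI false
set_option linter.unusedSectionVars false

universe w w' v v' u u'

namespace Groth.Agent.Lib.Helper6.CountableCoprod

open CategoryTheory CategoryTheory.Limits
open Groth.Agent.Lib.Helper6.SeqColim

section General

variable {C : Type*} [Category C] {D : Type*} [Category D] {J : Type*} [Category J]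

/-- a natural transformation which is an isomorphism on the objects of a diagram is an
isomorphism on a colimit which is preserved by both functors -/
lemma isIso_app_of_isColimit {G₁ G₂ : C ⥤ D} (α : G₁ ⟶ G₂) {K : J ⥤ C} (c : Cocone K)
    (h₁ : IsColimit (G₁.mapCocone c)) (h₂ : IsColimit (G₂.mapCocone c))
    (hα : ∀ j, IsIso (α.app (K.obj j))) : IsIso (α.app c.pt) := by
  haveI : IsIso (Functor.whiskerLeft K α) := by
    rw [NatTrans.isIso_iff_isIso_app]
    intro j
    exact hα j
  let e := IsColimit.coconePointsIsoOfNatIso h₁ h₂ (asIso (Functor.whiskerLeft K α))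
  have h : α.app c.pt = e.hom := h₁.hom_ext (fun j => by
    rw [IsColimit.coconePointsIsoOfNatIso_hom, IsColimit.ι_map]
    simp)
  rw [h]
  infer_instance

end General

section Groth

variable (A : Type u) [Category.{v} A] [Abelian A] [IsGrothendieckAbelian.{v} A]

lemma hasExactColimitsOfShape_nat : HasExactColimitsOfShape ℕ A := by
  haveI : IsFiltered (AsSmall.{v} ℕ) := IsFiltered.of_equivalence AsSmall.equiv
  exact HasExactColimitsOfShape.of_domain_equivalence A (AsSmall.equiv (C := ℕ)).symm

end Groth

section Preserves

variable {A : Type u} [Category.{v} A] [Abelian A] {B : Type u'} [Category.{v'} B] [Preadditive B]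
  (H : A ⥤ B) [H.Additive] (M : ℕ → A) [HasCoproduct M]

/-- the legs of the cocone over the partial sums induced by a cofan -/
noncomputable def leg (t : Cofan (fun n => H.obj (M n))) : ∀ N, H.obj (P M N) ⟶ t.pt
  | 0 => 0
  | N + 1 => H.map (prv M N) ≫ leg t N + H.map (lst M N) ≫ t.inj N

lemma map_inc_leg (t : Cofan (fun n => H.obj (M n))) (N : ℕ) :
    H.map (inc M N) ≫ leg H M t (N + 1) = leg H M t N := by
  rw [leg, Preadditive.comp_add, ← H.map_comp_assoc, ← H.map_comp_assoc, inc_prv, inc_lst,
    H.map_id, H.map_zero, Category.id_comp, zero_comp, add_zero]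

lemma map_last_leg (t : Cofan (fun n => H.obj (M n))) (N : ℕ) :
    H.map (last M N) ≫ leg H M t (N + 1) = t.inj N := by
  rw [leg, Preadditive.comp_add, ← H.map_comp_assoc, ← H.map_comp_assoc, last_prv, last_lst,
    H.map_id, H.map_zero, Category.id_comp, zero_comp, zero_add]

/-- the cocone over the partial sums induced by a cofan -/
noncomputable def coconeOfCofan (t : Cofan (fun n => H.obj (M n))) : Cocone (G₁ M ⋙ H) where
  pt := t.pt
  ι := NatTrans.ofSequence (F := G₁ M ⋙ H) (G := (Functor.const ℕ).obj t.pt) (leg H M t)
    (fun N => by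
      simp only [G₁, Functor.comp_map, Functor.ofSequence_map_homOfLE_succ, Functor.const_obj_obj,
        Functor.const_obj_map, Category.comp_id]
      exact map_inc_leg H M t N)

lemma map_σ_comp (t : Cofan (fun n => H.obj (M n))) (m : H.obj (∐ M) ⟶ t.pt)
    (hm : ∀ n, H.map (Sigma.ι M n) ≫ m = t.inj n) (N : ℕ) :
    H.map (σ M N) ≫ m = leg H M t N := by
  induction N with
  | zero => exact (H.map_isZero (isZero_zero A)).eq_of_src _ _
  | succ N ih =>
    calc H.map (σ M (N + 1)) ≫ m
        = H.map ((prv M N ≫ inc M N + lst M N ≫ last M N) ≫ σ M (N + 1)) ≫ m := by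
          rw [total, Category.id_comp]
      _ = (H.map (prv M N) ≫ H.map (σ M N) + H.map (lst M N) ≫ H.map (Sigma.ι M N)) ≫ m := by
          rw [Preadditive.add_comp, Category.assoc, Category.assoc, inc_σ, last_σ, H.map_add,
            H.map_comp, H.map_comp]
      _ = leg H M t (N + 1) := by
          rw [Preadditive.add_comp, Category.assoc, Category.assoc, ih, hm N, leg]

variable [PreservesColimitsOfShape ℕ H]

/-- a functor commuting with sequential colimits commutes with countable coproducts -/
noncomputable def isColimitMapCofan :
    IsColimit (Cofan.mk (H.obj (∐ M)) (fun n => H.map (Sigma.ι M n))) :=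
  Cofan.IsColimit.mk _ (fun t => (isColimitOfPreserves H (hc₁ M)).desc (coconeOfCofan H M t))
    (fun t n => by
      have h1 := (isColimitOfPreserves H (hc₁ M)).fac (coconeOfCofan H M t) (n + 1)
      change H.map (σ M (n + 1)) ≫ _ = leg H M t (n + 1) at h1
      change H.map (Sigma.ι M n) ≫ _ = t.inj n
      rw [← last_σ, H.map_comp, Category.assoc, h1, map_last_leg])
    (fun t m hm => (isColimitOfPreserves H (hc₁ M)).uniq (coconeOfCofan H M t) m
      (fun N => map_σ_comp H M t m hm N))

noncomputable instance preservesColimit_discrete_functor :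
    PreservesColimit (Discrete.functor M) H :=
  preservesColimit_of_preserves_colimit_cocone (coproductIsCoproduct M)
    ((isColimitMapCoconeCofanMkEquiv H M (Sigma.ι M)).symm (isColimitMapCofan H M))

omit [HasCoproduct M] in
lemma preservesColimitsOfShape_discrete_nat [HasColimitsOfShape (Discrete ℕ) A] :
    PreservesColimitsOfShape (Discrete ℕ) H :=
  ⟨fun {K} => preservesColimit_of_iso_diagram H (Discrete.natIsoFunctor (F := K)).symm⟩

end Preserves

section Q

open DerCoprodU DerivedCategory

variable {C : Type u} [Category.{v} C] [Abelian C] [HasDerivedCategory.{w} C]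
  {J : Type w'} [HasColimitsOfShape (Discrete J) C]

/-- the termwise coproduct is a coproduct in the category of complexes -/
noncomputable def isColimitSigmaC (K : J → CochainComplex C ℤ) :
    IsColimit (Cofan.mk (sigmaC K) (ιC K)) :=
  Cofan.IsColimit.mk _ (fun t => descC t.inj) (fun t j => ιC_descC _ j)
    (fun t m hm => by
      ext i
      apply colimit.hom_ext
      rintro ⟨j⟩
      have h1 := congrArg (fun φ => φ.f i) (hm j)
      have h2 := congrArg (fun φ => φ.f i) (ιC_descC t.inj j)
      exact h1.trans h2.symm)

variable [HasExactColimitsOfShape (Discrete J) C]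

noncomputable instance preservesColimit_Q (K : J → CochainComplex C ℤ) :
    PreservesColimit (Discrete.functor K) (Q : CochainComplex C ℤ ⥤ DerivedCategory C) :=
  preservesColimit_of_preserves_colimit_cocone (isColimitSigmaC K)
    ((isColimitMapCoconeCofanMkEquiv Q K (ιC K)).symm (isColimitCofan K))

instance preservesColimitsOfShape_Q :
    PreservesColimitsOfShape (Discrete J) (Q : CochainComplex C ℤ ⥤ DerivedCategory C) :=
  ⟨fun {K} => preservesColimit_of_iso_diagram Q (Discrete.natIsoFunctor (F := K)).symm⟩

end Q

end Groth.Agent.Lib.Helper6.CountableCoprod
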