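import Mathlib
import Groth.Prelude.Def_CohDer
import Groth.Agent.Lib.Helper6.Compact

/-!
# `Hom(E, -)` commutes with coproducts iff maps into coproducts are finite sums (helper6)
-/

set_option autoImplicit false

universe w' w v u

namespace Groth.Agent.Lib.Helper6.CoyonedaCoprod

open CategoryTheory CategoryTheory.Limits Opposite

/-- every element of a coproduct of abelian groups is a finite sum of images -/
lemma exists_finset_of_isColimit_addCommGrp {ι : Type w} {G : ι → AddCommGrpCat.{w'}}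
    (c : Cofan G) (hc : IsColimit c) (x : c.pt) :
    ∃ (s : Finset ι) (y : ∀ i, G i), x = ∑ i ∈ s, (c.inj i).hom (y i) := by
  classical
  let H : AddSubgroup c.pt := ⨆ i, (c.inj i).hom.range
  let q : c.pt →+ c.pt ⧸ H := QuotientAddGroup.mk' H
  have hq : AddCommGrpCat.ofHom q = 0 := by
    refine Cofan.IsColimit.hom_ext hc _ _ fun i => ?_
    rw [Limits.comp_zero]
    ext y
    change q ((c.inj i).hom y) = 0
    rw [QuotientAddGroup.mk'_apply, QuotientAddGroup.eq_zero_iff]
    exact (le_iSup (fun i => (c.inj i).hom.range) i) ⟨y, rfl⟩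
  have hx : x ∈ H := by
    have h1 : q x = 0 := by
      have := congrArg (fun f => f.hom x) hq
      exact this
    rwa [QuotientAddGroup.mk'_apply, QuotientAddGroup.eq_zero_iff] at h1
  have key : ∃ f : Π₀ i, G i, x = DFinsupp.sumAddHom (fun i => (c.inj i).hom) f := by
    refine AddSubgroup.iSup_induction (fun i => (c.inj i).hom.range)
      (C := fun x => ∃ f : Π₀ i, G i, x = DFinsupp.sumAddHom (fun i => (c.inj i).hom) f) hx ?_ ?_ ?_
    · rintro i _ ⟨y, rfl⟩
      exact ⟨DFinsupp.single i y, by rw [DFinsupp.sumAddHom_single]⟩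
    · exact ⟨0, by rw [map_zero]⟩
    · rintro a b ⟨f, rfl⟩ ⟨g, rfl⟩
      exact ⟨f + g, by rw [map_add]⟩
  obtain ⟨f, hf⟩ := key
  refine ⟨f.support, fun i => f i, ?_⟩
  rw [hf, DFinsupp.sumAddHom_apply]
  rfl

variable {A : Type u} [Category.{v} A] [Preadditive A]

/-- if `Hom(E, -)` preserves the coproduct of `X`, every map `E ⟶ ∐ X` is a finite sum -/
lemma exists_finset_of_preserves {E : A} {ι : Type w} (X : ι → A) [HasCoproduct X]
    [PreservesColimit (Discrete.functor X) (preadditiveCoyoneda.obj (op E))] (g : E ⟶ ∐ X) :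
    ∃ (s : Finset ι) (γ : ∀ i, E ⟶ X i), g = ∑ i ∈ s, γ i ≫ Sigma.ι X i := by
  have hc := isColimitOfHasCoproductOfPreservesColimit (preadditiveCoyoneda.obj (op E)) X
  obtain ⟨s, y, hy⟩ := exists_finset_of_isColimit_addCommGrp _ hc (g : E ⟶ ∐ X)
  exact ⟨s, y, hy⟩

/-- the canonical finite sum form with the projections -/
lemma eq_sum_π {E : A} {ι : Type w} [DecidableEq ι] (X : ι → A) [HasCoproduct X] (g : E ⟶ ∐ X)
    (s : Finset ι) (γ : ∀ i, E ⟶ X i) (hg : g = ∑ i ∈ s, γ i ≫ Sigma.ι X i) :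
    g = ∑ i ∈ s, (g ≫ Sigma.π X i) ≫ Sigma.ι X i := by
  have h : ∀ j ∈ s, g ≫ Sigma.π X j = γ j := by
    intro j hj
    rw [hg, Preadditive.sum_comp]
    rw [Finset.sum_eq_single j]
    · rw [Category.assoc, Sigma.ι_π_eq_id, Category.comp_id]
    · intro i _ hij
      rw [Category.assoc, Sigma.ι_π_of_ne X hij, Limits.comp_zero]
    · intro hj'
      exact absurd hj hj'
  conv_lhs => rw [hg]
  exact Finset.sum_congr rfl fun i hi => by rw [h i hi]

section converse

variable {E : A} {ι : Type v} (X : ι → A) [HasCoproduct X]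
  (h : ∀ g : E ⟶ ∐ X, ∃ (s : Finset ι) (γ : ∀ i, E ⟶ X i), g = ∑ i ∈ s, γ i ≫ Sigma.ι X i)

include h in
lemma homSumToHomCoprod_bijective : Function.Bijective (CohDer.homSumToHomCoprod E X) := by
  classical
  refine ⟨homSumToHomCoprod_injective E X, fun g => ?_⟩
  obtain ⟨s, γ, rfl⟩ := h g
  exact AddSubgroup.sum_mem _ fun i _ => comp_ι_mem_range E X i (γ i)

/-- the additive equivalence `⨁ Hom(E, X i) ≃+ Hom(E, ∐ X)` -/
noncomputable def sumEquiv : DirectSum ι (fun i => E ⟶ X i) ≃+ (E ⟶ ∐ X) :=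
  AddEquiv.ofBijective (CohDer.homSumToHomCoprod E X) (homSumToHomCoprod_bijective X h)

lemma sumEquiv_of [DecidableEq ι] (i : ι) (f : E ⟶ X i) :
    sumEquiv X h (DirectSum.of (fun i => E ⟶ X i) i f) = f ≫ Sigma.ι X i := by
  unfold sumEquiv
  rw [AddEquiv.ofBijective_apply]
  convert homSumToHomCoprod_of E X i f

/-- the cofan `Hom(E, ∐ X)` is a coproduct of the `Hom(E, X i)` -/
noncomputable def isColimitCofan :
    IsColimit (Cofan.mk ((preadditiveCoyoneda.obj (op E)).obj (∐ X))
      (fun i => (preadditiveCoyoneda.obj (op E)).map (Sigma.ι X i))) := by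
  classical
  refine Cofan.IsColimit.mk _
    (fun t => AddCommGrpCat.ofHom
      ((DirectSum.toAddMonoid (fun i => (t.inj i).hom)).comp (sumEquiv X h).symm.toAddMonoidHom))
    ?_ ?_
  · intro t i
    ext (y : E ⟶ X i)
    change (DirectSum.toAddMonoid (fun i => (t.inj i).hom))
      ((sumEquiv X h).symm (y ≫ Sigma.ι X i)) = _
    rw [← sumEquiv_of X h i y, AddEquiv.symm_apply_apply]
    erw [DirectSum.toAddMonoid_of]
  · intro t m hm
    ext (g : E ⟶ ∐ X)
    obtain ⟨x, rfl⟩ := (sumEquiv X h).surjective g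
    change m.hom (sumEquiv X h x) = (DirectSum.toAddMonoid (fun i => (t.inj i).hom))
      ((sumEquiv X h).symm (sumEquiv X h x))
    rw [AddEquiv.symm_apply_apply]
    have : m.hom.comp (sumEquiv X h).toAddMonoidHom =
        DirectSum.toAddMonoid (fun i => (t.inj i).hom) := by
      refine DirectSum.addHom_ext fun i y => ?_
      erw [DirectSum.toAddMonoid_of]
      change m.hom (sumEquiv X h (DirectSum.of _ i y)) = _
      rw [sumEquiv_of]
      exact congrArg (fun f => f.hom y) (hm i)
    exact DFunLike.congr_fun this x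

include h in
lemma preservesColimit_of_exists_finset :
    PreservesColimit (Discrete.functor X) (preadditiveCoyoneda.obj (op E)) :=
  preservesColimit_of_preserves_colimit_cocone (coproductIsCoproduct X)
    ((isColimitMapCoconeCofanMkEquiv _ X (Sigma.ι X)).symm (isColimitCofan X h))

end converse

/-- shape version -/
lemma preservesColimitsOfShape_of_exists_finset {E : A} (ι : Type v) [HasCoproductsOfShape ι A]
    (h : ∀ (X : ι → A) (g : E ⟶ ∐ X), ∃ (s : Finset ι) (γ : ∀ i, E ⟶ X i),
      g = ∑ i ∈ s, γ i ≫ Sigma.ι X i) :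
    PreservesColimitsOfShape (Discrete ι) (preadditiveCoyoneda.obj (op E)) :=
  ⟨fun {K} =>
    haveI := preservesColimit_of_exists_finset (K.obj ∘ Discrete.mk) (h _)
    preservesColimit_of_iso_diagram _ (Discrete.natIsoFunctor (F := K)).symm⟩

end Groth.Agent.Lib.Helper6.CoyonedaCoprod
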