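import Mathlib

/-!
# Twisted biproducts of cochain complexes and a quasi-isomorphism criterion

Given cochain complexes `Q`, `R` and a degree one family `θ i j : Q.X i ⟶ R.X j` with
`d θ + θ d = 0`, the twisted biproduct `tw Q R θ` has terms `Q.X i ⊞ R.X i` and differential
`(q, r) ↦ (d q, θ q + d r)`. If `0 ⟶ C ⟶ Q ⟶ C' ⟶ 0` is degreewise short exact, `θ = g ≫ θ'` and
`θ'` "is a quasi-isomorphism of degree one", then `C ⟶ tw Q R θ` is a quasi-isomorphism.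
-/

set_option autoImplicit false
universe v u
open CategoryTheory CategoryTheory.Limits

namespace Groth.Agent.Lib.Helper6.TwistCx

variable {A : Type u} [Category.{v} A] [Abelian A]

lemma eq_lift {X Y T : A} (y : T ⟶ X ⊞ Y) : y = biprod.lift (y ≫ biprod.fst) (y ≫ biprod.snd) := by
  apply biprod.hom_ext <;> simp

lemma lift_zero_zero {X Y T : A} : biprod.lift (0 : T ⟶ X) (0 : T ⟶ Y) = 0 := by
  apply biprod.hom_ext <;> simp

lemma lift_eq_lift_iff {X Y T : A} (a a' : T ⟶ X) (b b' : T ⟶ Y) :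
    biprod.lift a b = biprod.lift a' b' ↔ a = a' ∧ b = b' := by
  constructor
  · intro h
    refine ⟨?_, ?_⟩
    · have := h =≫ biprod.fst
      simpa using this
    · have := h =≫ biprod.snd
      simpa using this
  · rintro ⟨rfl, rfl⟩; rfl

lemma comp_lift {X Y T T' : A} (π : T' ⟶ T) (a : T ⟶ X) (b : T ⟶ Y) :
    π ≫ biprod.lift a b = biprod.lift (π ≫ a) (π ≫ b) := by
  apply biprod.hom_ext <;> simp

lemma lift_add_lift {X Y T : A} (a a' : T ⟶ X) (b b' : T ⟶ Y) :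
    biprod.lift a b + biprod.lift a' b' = biprod.lift (a + a') (b + b') := by
  apply biprod.hom_ext <;> simp

lemma comp_eq_lift_add_lift {X Y T T' : A} (π : T' ⟶ T) (y : T ⟶ X ⊞ Y) (a b : T' ⟶ X)
    (c d : T' ⟶ Y) (e1 : π ≫ y ≫ biprod.fst = a + b) (e2 : π ≫ y ≫ biprod.snd = c + d) :
    π ≫ y = biprod.lift a c + biprod.lift b d := by
  rw [lift_add_lift, eq_lift y, comp_lift, lift_eq_lift_iff]
  exact ⟨e1, e2⟩

/-- a degree one cocycle from `Q` to `R` -/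
structure Twist (Q R : CochainComplex A ℤ) where
  θ : ∀ i j : ℤ, Q.X i ⟶ R.X j
  shape : ∀ i j : ℤ, i + 1 ≠ j → θ i j = 0
  cocycle : ∀ i j k : ℤ, i + 1 = j → j + 1 = k → Q.d i j ≫ θ j k + θ i j ≫ R.d j k = 0

variable {Q R : CochainComplex A ℤ}

/-- the differential of the twisted biproduct -/
noncomputable def twD (τ : Twist Q R) (i j : ℤ) : Q.X i ⊞ R.X i ⟶ Q.X j ⊞ R.X j :=
  biprod.desc (biprod.lift (Q.d i j) (τ.θ i j)) (biprod.lift 0 (R.d i j))

@[reassoc]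
lemma lift_twD (τ : Twist Q R) {T : A} (i j : ℤ) (q : T ⟶ Q.X i) (r : T ⟶ R.X i) :
    biprod.lift q r ≫ twD τ i j = biprod.lift (q ≫ Q.d i j) (q ≫ τ.θ i j + r ≫ R.d i j) := by
  apply biprod.hom_ext
  · simp [twD]
  · simp [twD]

/-- the twisted biproduct -/
noncomputable def tw (τ : Twist Q R) : CochainComplex A ℤ where
  X i := Q.X i ⊞ R.X i
  d i j := twD τ i j
  shape i j hij := by
    have hij' : i + 1 ≠ j := hij
    apply biprod.hom_ext'
    · apply biprod.hom_ext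
      · simp [twD, Q.shape i j hij]
      · simp [twD, τ.shape i j hij']
    · apply biprod.hom_ext
      · simp [twD]
      · simp [twD, R.shape i j hij]
  d_comp_d' i j k hij hjk := by
    have hij' : i + 1 = j := hij
    have hjk' : j + 1 = k := hjk
    apply biprod.hom_ext'
    · have : biprod.inl ≫ twD τ i j = biprod.lift (Q.d i j) (τ.θ i j) := by simp [twD]
      rw [reassoc_of% this, lift_twD, Q.d_comp_d, τ.cocycle i j k hij' hjk', lift_zero_zero,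
        comp_zero]
    · have : biprod.inr ≫ twD τ i j = biprod.lift 0 (R.d i j) := by simp [twD]
      rw [reassoc_of% this, lift_twD, R.d_comp_d, zero_comp, zero_comp, add_zero, lift_zero_zero,
        comp_zero]

lemma tw_d (τ : Twist Q R) (i j : ℤ) : (tw τ).d i j = twD τ i j := rfl

/-- the canonical map into the twisted biproduct -/
noncomputable def toTw (τ : Twist Q R) {C : CochainComplex A ℤ} (f : C ⟶ Q)
    (hf : ∀ i j, f.f i ≫ τ.θ i j = 0) : C ⟶ tw τ where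
  f i := biprod.lift (f.f i) 0
  comm' i j _ := by
    show biprod.lift (f.f i) 0 ≫ twD τ i j = C.d i j ≫ biprod.lift (f.f j) 0
    rw [lift_twD, hf, zero_comp, add_zero, comp_lift, comp_zero, f.comm]

lemma toTw_f (τ : Twist Q R) {C : CochainComplex A ℤ} (f : C ⟶ Q)
    (hf : ∀ i j, f.f i ≫ τ.θ i j = 0) (i : ℤ) :
    (toTw τ f hf).f i = biprod.lift (f.f i) 0 := rfl

section Chase

variable {C C' : CochainComplex A ℤ} (f : C ⟶ Q) (g : Q ⟶ C')
  (hmono : ∀ i, Mono (f.f i)) (hepi : ∀ i, Epi (g.f i)) (hzero : ∀ i, f.f i ≫ g.f i = 0)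
  (hexact : ∀ i, (ShortComplex.mk (f.f i) (g.f i) (hzero i)).Exact)
  (τ' : Twist C' R)

/-- the induced twist on `Q` -/
def Twist.precomp : Twist Q R where
  θ i j := g.f i ≫ τ'.θ i j
  shape i j hij := by rw [τ'.shape i j hij, comp_zero]
  cocycle i j k hij hjk := by
    rw [← g.comm_assoc, Category.assoc, ← Preadditive.comp_add, τ'.cocycle i j k hij hjk, comp_zero]

lemma precomp_θ (i j : ℤ) : (τ'.precomp g).θ i j = g.f i ≫ τ'.θ i j := rfl

include hzero in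
lemma precomp_zero (i j : ℤ) : f.f i ≫ (τ'.precomp g).θ i j = 0 := by
  rw [precomp_θ, reassoc_of% hzero i, zero_comp]

variable
  (H3 : ∀ (i j k : ℤ), i + 1 = j → j + 1 = k → ∀ ⦃T : A⦄ (c' : T ⟶ C'.X j) (_ : c' ≫ C'.d j k = 0)
    (r : T ⟶ R.X j) (_ : c' ≫ τ'.θ j k = r ≫ R.d j k),
    ∃ (T' : A) (π : T' ⟶ T) (_ : Epi π) (c'' : T' ⟶ C'.X i), π ≫ c' = c'' ≫ C'.d i j)
  (H4 : ∀ (i j k : ℤ), i + 1 = j → j + 1 = k → ∀ ⦃T : A⦄ (r : T ⟶ R.X j) (_ : r ≫ R.d j k = 0),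
    ∃ (T' : A) (π : T' ⟶ T) (_ : Epi π) (c' : T' ⟶ C'.X i) (_ : c' ≫ C'.d i j = 0)
      (r' : T' ⟶ R.X i), π ≫ r = c' ≫ τ'.θ i j + r' ≫ R.d i j)

include hmono hepi hexact H3 in
lemma mono_part (h i j : ℤ) (hhi : h + 1 = i) (hij : i + 1 = j) {T : A} (x₂ : T ⟶ C.X j)
    (q : T ⟶ Q.X i) (r : T ⟶ R.X i) (ha : x₂ ≫ f.f j = q ≫ Q.d i j)
    (hb : q ≫ g.f i ≫ τ'.θ i j + r ≫ R.d i j = 0) :
    ∃ (T' : A) (π : T' ⟶ T) (_ : Epi π) (x₁ : T' ⟶ C.X i), π ≫ x₂ = x₁ ≫ C.d i j := by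
  have hb' : (q ≫ g.f i) ≫ τ'.θ i j = (-r) ≫ R.d i j := by
    rw [Preadditive.neg_comp, eq_neg_iff_add_eq_zero, Category.assoc]
    exact hb
  have hc : (q ≫ g.f i) ≫ C'.d i j = 0 := by
    rw [Category.assoc, g.comm, ← reassoc_of% ha, hzero, comp_zero]
  obtain ⟨T₁, π₁, _, c'', hc''⟩ := H3 h i j hhi hij (q ≫ g.f i) hc (-r) hb'
  have := hepi h
  obtain ⟨T₂, π₂, _, q'', hq''⟩ := surjective_up_to_refinements_of_epi (g.f h) c''
  have h0 : (π₂ ≫ π₁ ≫ q - q'' ≫ Q.d h i) ≫ g.f i = 0 := by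
    rw [Preadditive.sub_comp, Category.assoc, Category.assoc, Category.assoc, ← g.comm,
      ← reassoc_of% hq'', ← hc'', sub_self]
  obtain ⟨T₃, π₃, _, c₀, hc₀⟩ := (hexact i).exact_up_to_refinements _ h0
  dsimp at c₀ hc₀
  refine ⟨T₃, π₃ ≫ π₂ ≫ π₁, inferInstance, c₀, ?_⟩
  have := hmono j
  rw [← cancel_mono (f.f j), Category.assoc, Category.assoc, Category.assoc, Category.assoc, ha,
    ← f.comm, ← reassoc_of% hc₀, Preadditive.sub_comp, Preadditive.comp_sub]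
  simp

include hmono hepi hexact H3 H4 in
lemma epi_part (i j k : ℤ) (hij : i + 1 = j) (hjk : j + 1 = k) {T : A}
    (q : T ⟶ Q.X j) (r : T ⟶ R.X j) (ha : q ≫ Q.d j k = 0)
    (hb : q ≫ g.f j ≫ τ'.θ j k + r ≫ R.d j k = 0) :
    ∃ (T' : A) (π : T' ⟶ T) (_ : Epi π) (x₂ : T' ⟶ C.X j) (_ : x₂ ≫ C.d j k = 0)
      (q' : T' ⟶ Q.X i) (r' : T' ⟶ R.X i),
      π ≫ q = x₂ ≫ f.f j + q' ≫ Q.d i j ∧
      π ≫ r = q' ≫ g.f i ≫ τ'.θ i j + r' ≫ R.d i j := by
  have hb' : (q ≫ g.f j) ≫ τ'.θ j k = (-r) ≫ R.d j k := by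
    rw [Preadditive.neg_comp, eq_neg_iff_add_eq_zero, Category.assoc]
    exact hb
  have hc : (q ≫ g.f j) ≫ C'.d j k = 0 := by
    rw [Category.assoc, g.comm, reassoc_of% ha, zero_comp]
  obtain ⟨T₁, π₁, _, c'₁, hc'₁⟩ := H3 i j k hij hjk (q ≫ g.f j) hc (-r) hb'
  -- the cycle `ρ`
  have hb'' : q ≫ g.f j ≫ τ'.θ j k = -(r ≫ R.d j k) := eq_neg_of_add_eq_zero_left hb
  have hρ : (π₁ ≫ r - c'₁ ≫ τ'.θ i j) ≫ R.d j k = 0 := by
    have e1 := τ'.cocycle i j k hij hjk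
    have e2 : c'₁ ≫ τ'.θ i j ≫ R.d j k = - (c'₁ ≫ C'.d i j ≫ τ'.θ j k) := by
      rw [eq_neg_iff_add_eq_zero, ← Preadditive.comp_add, add_comm, e1, comp_zero]
    rw [Preadditive.sub_comp, Category.assoc, Category.assoc, e2, ← reassoc_of% hc'₁, hb'']
    simp
  obtain ⟨T₂, π₂, _, z, hz, r', hr'⟩ := H4 i j k hij hjk _ hρ
  have := hepi i
  obtain ⟨T₃, π₃, _, q', hq'⟩ := surjective_up_to_refinements_of_epi (g.f i) (π₂ ≫ c'₁ + z)
  have h0 : (π₃ ≫ π₂ ≫ π₁ ≫ q - q' ≫ Q.d i j) ≫ g.f j = 0 := by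
    rw [Preadditive.sub_comp, Category.assoc, Category.assoc, Category.assoc, Category.assoc,
      ← g.comm, ← reassoc_of% hq', Preadditive.add_comp, Category.assoc, hz, add_zero,
      ← hc'₁, sub_eq_zero]
  obtain ⟨T₄, π₄, _, x₂, hx₂⟩ := (hexact j).exact_up_to_refinements _ h0
  dsimp at x₂ hx₂
  have hx₂d : x₂ ≫ C.d j k = 0 := by
    have := hmono k
    rw [← cancel_mono (f.f k), zero_comp, Category.assoc, ← f.comm, ← reassoc_of% hx₂,
      Preadditive.sub_comp, Preadditive.comp_sub]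
    simp [ha]
  refine ⟨T₄, π₄ ≫ π₃ ≫ π₂ ≫ π₁, inferInstance, x₂, hx₂d, π₄ ≫ q', π₄ ≫ π₃ ≫ r', ?_, ?_⟩
  · rw [← hx₂, Preadditive.comp_sub]
    simp
  · have e3 : π₂ ≫ π₁ ≫ r = (π₂ ≫ c'₁ + z) ≫ τ'.θ i j + r' ≫ R.d i j := by
      rw [Preadditive.add_comp, Category.assoc, add_assoc, ← hr', Preadditive.comp_sub]
      simp
    rw [Category.assoc, Category.assoc, Category.assoc, e3, Preadditive.comp_add,
      Preadditive.comp_add, reassoc_of% hq']
    simp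

include hmono hepi hexact H3 in
lemma mono_homologyMap_toTw (j : ℤ) :
    Mono (HomologicalComplex.homologyMap (toTw (τ'.precomp g) f (precomp_zero f g hzero τ')) j) := by
  rw [HomologicalComplex.mono_homologyMap_iff_up_to_refinements _ (j - 1) j (j + 1)
    (by simp) (by simp)]
  intro T x₂ hx₂ y₁ h
  let y₁' : T ⟶ Q.X (j - 1) ⊞ R.X (j - 1) := y₁
  have h' : biprod.lift (x₂ ≫ f.f j) (x₂ ≫ 0) = biprod.lift ((y₁' ≫ biprod.fst) ≫ Q.d (j - 1) j)
      ((y₁' ≫ biprod.fst) ≫ (τ'.precomp g).θ (j - 1) j + (y₁' ≫ biprod.snd) ≫ R.d (j - 1) j) := by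
    rw [← lift_twD, ← eq_lift, ← comp_lift]
    exact h
  rw [lift_eq_lift_iff] at h'
  obtain ⟨ha, hb⟩ := h'
  rw [comp_zero, precomp_θ] at hb
  exact mono_part f g hmono hepi hzero hexact τ' H3 (j - 1 - 1) (j - 1) j (by lia) (by lia) x₂
    (y₁' ≫ biprod.fst) (y₁' ≫ biprod.snd) ha hb.symm

include hmono hepi hexact H3 H4 in
lemma epi_homologyMap_toTw (j : ℤ) :
    Epi (HomologicalComplex.homologyMap (toTw (τ'.precomp g) f (precomp_zero f g hzero τ')) j) := by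
  rw [HomologicalComplex.epi_homologyMap_iff_up_to_refinements _ (j - 1) j (j + 1)
    (by simp) (by simp)]
  intro T y₂ hy₂
  let y₂' : T ⟶ Q.X j ⊞ R.X j := y₂
  have h' : biprod.lift ((y₂' ≫ biprod.fst) ≫ Q.d j (j + 1))
      ((y₂' ≫ biprod.fst) ≫ (τ'.precomp g).θ j (j + 1) + (y₂' ≫ biprod.snd) ≫ R.d j (j + 1)) =
      biprod.lift 0 0 := by
    rw [← lift_twD, ← eq_lift, lift_zero_zero]
    exact hy₂
  rw [lift_eq_lift_iff] at h'
  obtain ⟨ha, hb⟩ := h'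
  rw [precomp_θ] at hb
  obtain ⟨T', π, hπ, x₂, hx₂, q', r', e1, e2⟩ := epi_part f g hmono hepi hzero hexact τ' H3 H4
    (j - 1) j (j + 1) (by lia) rfl (y₂' ≫ biprod.fst) (y₂' ≫ biprod.snd) ha hb
  refine ⟨T', π, hπ, x₂, hx₂, (biprod.lift q' r' : T' ⟶ Q.X (j - 1) ⊞ R.X (j - 1)), ?_⟩
  have key : π ≫ y₂' = x₂ ≫ biprod.lift (f.f j) 0 +
      biprod.lift q' r' ≫ twD (τ'.precomp g) (j - 1) j := by
    rw [lift_twD, precomp_θ, comp_lift, comp_zero]
    exact comp_eq_lift_add_lift π y₂' _ _ _ _ e1 (by rw [zero_add]; exact e2)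
  exact key

include hmono hepi hexact H3 H4 in
theorem quasiIso_toTw :
    QuasiIso (toTw (τ'.precomp g) f (precomp_zero f g hzero τ')) := by
  rw [quasiIso_iff]
  intro j
  rw [quasiIsoAt_iff_isIso_homologyMap]
  have := mono_homologyMap_toTw f g hmono hepi hzero hexact τ' H3 j
  have := epi_homologyMap_toTw f g hmono hepi hzero hexact τ' H3 H4 j
  exact isIso_of_mono_of_epi _

end Chase

section Cocone

/-- `T` shifted by `-1`, by hand: `X i = T.X (i - 1)`, `d = -d`. -/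
def shiftM1 (T : CochainComplex A ℤ) : CochainComplex A ℤ where
  X i := T.X (i - 1)
  d i j := - T.d (i - 1) (j - 1)
  shape i j hij := by
    rw [T.shape, neg_zero]
    intro (h : i - 1 + 1 = j - 1)
    apply hij
    show i + 1 = j
    lia
  d_comp_d' i j k _ _ := by simp

lemma shiftM1_d (T : CochainComplex A ℤ) (i j : ℤ) :
    (shiftM1 T).d i j = - T.d (i - 1) (j - 1) := rfl

variable {C' T : CochainComplex A ℤ} (t : C' ⟶ T)

/-- the components of the twist attached to a chain map -/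
noncomputable def θmap (i j : ℤ) : C'.X i ⟶ T.X (j - 1) :=
  if h : i + 1 = j then t.f i ≫ (T.XIsoOfEq (show i = j - 1 by lia)).hom else 0

lemma θmap_eq (i j : ℤ) (h : i + 1 = j) :
    θmap t i j = t.f i ≫ (T.XIsoOfEq (show i = j - 1 by lia)).hom := dif_pos h

lemma θmap_self (j : ℤ) : θmap t (j - 1) j = t.f (j - 1) := by
  rw [θmap_eq t (j - 1) j (by lia), HomologicalComplex.XIsoOfEq_rfl, Iso.refl_hom,
    Category.comp_id]

lemma θmap_cocycle (i j k : ℤ) (hij : i + 1 = j) (hjk : j + 1 = k) :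
    C'.d i j ≫ θmap t j k - θmap t i j ≫ T.d (j - 1) (k - 1) = 0 := by
  rw [θmap_eq t i j hij, θmap_eq t j k hjk, Category.assoc,
    HomologicalComplex.XIsoOfEq_hom_comp_d, ← t.comm_assoc,
    HomologicalComplex.d_comp_XIsoOfEq_hom, sub_self]

/-- the twist attached to a chain map -/
noncomputable def twistOfHom : Twist C' (shiftM1 T) where
  θ i j := θmap t i j
  shape i j hij := dif_neg hij
  cocycle i j k hij hjk := by
    show C'.d i j ≫ θmap t j k + (θmap t i j ≫ (-T.d (j - 1) (k - 1)) : C'.X i ⟶ T.X (k - 1)) = 0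
    rw [Preadditive.comp_neg, ← sub_eq_add_neg]
    exact θmap_cocycle t i j k hij hjk

lemma twistOfHom_θ (i j : ℤ) : (twistOfHom t).θ i j = θmap t i j := rfl

variable [QuasiIso t]

lemma H3_aux (j : ℤ) ⦃T₀ : A⦄
    (c' : T₀ ⟶ C'.X j) (hc' : c' ≫ C'.d j (j + 1) = 0) (r : T₀ ⟶ T.X (j - 1))
    (h : c' ≫ θmap t j (j + 1) = r ≫ (-T.d (j - 1) (j + 1 - 1))) :
    ∃ (T' : A) (π : T' ⟶ T₀) (_ : Epi π) (c'' : T' ⟶ C'.X (j - 1)),
      π ≫ c' = c'' ≫ C'.d (j - 1) j := by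
  have h1 : c' ≫ t.f j = (-r) ≫ T.d (j - 1) j := by
    rw [θmap_eq t j (j + 1) rfl] at h
    have h2 := h =≫ (T.XIsoOfEq (show j = j + 1 - 1 by lia)).inv
    simp only [Category.assoc, Iso.hom_inv_id, Category.comp_id, Preadditive.comp_neg,
      Preadditive.neg_comp, HomologicalComplex.d_comp_XIsoOfEq_inv] at h2
    rw [Preadditive.neg_comp]
    exact h2
  have hm : Mono (HomologicalComplex.homologyMap t j) := by
    have : QuasiIsoAt t j := inferInstance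
    rw [quasiIsoAt_iff_isIso_homologyMap] at this
    infer_instance
  rw [HomologicalComplex.mono_homologyMap_iff_up_to_refinements t (j - 1) j (j + 1)
    (by simp) (by simp)] at hm
  exact hm c' hc' (-r) h1

lemma H3_twistOfHom (i j k : ℤ) (hij : i + 1 = j) (hjk : j + 1 = k) ⦃T₀ : A⦄
    (c' : T₀ ⟶ C'.X j) (hc' : c' ≫ C'.d j k = 0) (r : T₀ ⟶ (shiftM1 T).X j)
    (h : c' ≫ (twistOfHom t).θ j k = r ≫ (shiftM1 T).d j k) :
    ∃ (T' : A) (π : T' ⟶ T₀) (_ : Epi π) (c'' : T' ⟶ C'.X i), π ≫ c' = c'' ≫ C'.d i j := by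
  obtain rfl : i = j - 1 := by lia
  subst hjk
  exact H3_aux t j c' hc' r h

lemma H4_aux (j : ℤ) ⦃T₀ : A⦄
    (r : T₀ ⟶ T.X (j - 1)) (hr : r ≫ (-T.d (j - 1) (j + 1 - 1)) = 0) :
    ∃ (T' : A) (π : T' ⟶ T₀) (_ : Epi π) (c' : T' ⟶ C'.X (j - 1))
      (_ : c' ≫ C'.d (j - 1) j = 0) (r' : T' ⟶ T.X (j - 1 - 1)),
      π ≫ r = c' ≫ θmap t (j - 1) j + r' ≫ (-T.d (j - 1 - 1) (j - 1)) := by
  have hr₀ : r ≫ T.d (j - 1) j = 0 := by
    rw [Preadditive.comp_neg, neg_eq_zero] at hr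
    have h2 := hr =≫ (T.XIsoOfEq (show j + 1 - 1 = j by lia)).hom
    simp only [Category.assoc, HomologicalComplex.d_comp_XIsoOfEq_hom, zero_comp] at h2
    exact h2
  have he : Epi (HomologicalComplex.homologyMap t (j - 1)) := by
    have : QuasiIsoAt t (j - 1) := inferInstance
    rw [quasiIsoAt_iff_isIso_homologyMap] at this
    infer_instance
  rw [HomologicalComplex.epi_homologyMap_iff_up_to_refinements t (j - 1 - 1) (j - 1) j
    (by simp) (by simp)] at he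
  obtain ⟨T', π, hπ, x₂, hx₂, y₁, hy₁⟩ := he r hr₀
  refine ⟨T', π, hπ, x₂, hx₂, -y₁, ?_⟩
  rw [θmap_self, Preadditive.neg_comp, Preadditive.comp_neg, neg_neg]
  exact hy₁

lemma H4_twistOfHom (i j k : ℤ) (hij : i + 1 = j) (hjk : j + 1 = k) ⦃T₀ : A⦄
    (r : T₀ ⟶ (shiftM1 T).X j) (hr : r ≫ (shiftM1 T).d j k = 0) :
    ∃ (T' : A) (π : T' ⟶ T₀) (_ : Epi π) (c' : T' ⟶ C'.X i) (_ : c' ≫ C'.d i j = 0)
      (r' : T' ⟶ (shiftM1 T).X i), π ≫ r = c' ≫ (twistOfHom t).θ i j + r' ≫ (shiftM1 T).d i j := by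
  obtain rfl : i = j - 1 := by lia
  subst hjk
  exact H4_aux t j r hr

end Cocone

/-- **Cocone lemma**: for a short exact sequence `0 ⟶ C ⟶ Q ⟶ C' ⟶ 0` of cochain complexes and a
quasi-isomorphism `C' ⟶ T`, there is a quasi-isomorphism from `C` to a complex with terms
`Q.X i ⊞ T.X (i - 1)`. -/
theorem exists_quasiIso_of_shortExact {C Q C' T : CochainComplex A ℤ} (f : C ⟶ Q) (g : Q ⟶ C')
    (hzero : f ≫ g = 0) (hS : (ShortComplex.mk f g hzero).ShortExact) (t : C' ⟶ T) [QuasiIso t] :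
    ∃ (T' : CochainComplex A ℤ) (ψ : C ⟶ T'), QuasiIso ψ ∧
      ∀ i, T'.X i = (Q.X i ⊞ T.X (i - 1)) := by
  have hz : ∀ i, f.f i ≫ g.f i = 0 := fun i => by
    rw [← HomologicalComplex.comp_f, hzero, HomologicalComplex.zero_f]
  have hSi := fun i => hS.map_of_exact (HomologicalComplex.eval A (ComplexShape.up ℤ) i)
  have hmono : ∀ i, Mono (f.f i) := fun i => (hSi i).mono_f
  have hepi : ∀ i, Epi (g.f i) := fun i => (hSi i).epi_g
  have hexact : ∀ i, (ShortComplex.mk (f.f i) (g.f i) (hz i)).Exact := fun i => (hSi i).exact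
  exact ⟨tw ((twistOfHom t).precomp g), toTw _ f (precomp_zero f g hz _),
    quasiIso_toTw f g hmono hepi hz hexact (twistOfHom t) (H3_twistOfHom t) (H4_twistOfHom t),
    fun i => rfl⟩

end Groth.Agent.Lib.Helper6.TwistCx
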