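import Mathlib
import Groth.Agent.Lib.Helper6.TwistCx
import Groth.Agent.Lib.Helper6.ClassRes

/-!
# Resolutions of unbounded complexes by objects of a class of finite "codimension"

`ℤ`-indexed disc complexes, the chain of cokernels `C_{k+1} = coker (C_k ⟶ Disc C_k)` stopped
after `n` steps, and the resulting quasi-isomorphism from `X` to a complex with terms in `P`.
-/

set_option autoImplicit false
universe v u
open CategoryTheory CategoryTheory.Limits

namespace Groth.Agent.Lib.Helper6.PhiRes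

open Groth.Agent.Lib.Helper6.ClassRes (E ιE E_mem)

variable {A : Type u} [Category.{v} A] [Abelian A]

section DiscZ

variable (I : ℤ → A)

/-- the `ℤ`-indexed disc complex `Q^i = I^i ⊞ I^{i+1}` -/
noncomputable def discZ : CochainComplex A ℤ where
  X i := I i ⊞ I (i + 1)
  d i j := if h : i + 1 = j then biprod.snd ≫ eqToHom (by rw [h]) ≫ biprod.inl else 0
  shape i j hij := dif_neg hij
  d_comp_d' i j k hij hjk := by
    have hij' : i + 1 = j := hij
    have hjk' : j + 1 = k := hjk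
    rw [dif_pos hij', dif_pos hjk']
    simp

lemma discZ_d (i : ℤ) : (discZ I).d i (i + 1) =
    (biprod.snd ≫ biprod.inl : I i ⊞ I (i + 1) ⟶ I (i + 1) ⊞ I (i + 1 + 1)) := by
  show (if h : i + 1 = i + 1 then biprod.snd ≫ eqToHom (by rw [h]) ≫ biprod.inl else 0) = _
  rw [dif_pos rfl, eqToHom_refl, Category.id_comp]

variable (K : CochainComplex A ℤ) (ι : ∀ i, K.X i ⟶ I i)

/-- the map into the disc complex -/
noncomputable def toDiscZ : K ⟶ discZ I where
  f i := biprod.lift (ι i) (K.d i (i + 1) ≫ ι (i + 1))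
  comm' i j hij := by
    have hij' : i + 1 = j := hij
    subst hij'
    rw [discZ_d]
    show biprod.lift (ι i) (K.d i (i + 1) ≫ ι (i + 1)) ≫ biprod.snd ≫ biprod.inl =
      K.d i (i + 1) ≫ biprod.lift (ι (i + 1)) (K.d (i + 1) (i + 1 + 1) ≫ ι (i + 1 + 1))
    apply biprod.hom_ext
    · simp
    · simp

lemma mono_toDiscZ (h : ∀ i, Mono (ι i)) : Mono (toDiscZ I K ι) := by
  have : ∀ i, Mono ((toDiscZ I K ι).f i) := fun i => by
    have := h i
    exact mono_of_mono_fac (biprod.lift_fst (ι i) (K.d i (i + 1) ≫ ι (i + 1)))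
  exact HomologicalComplex.mono_of_mono_f _ this

end DiscZ

section Class

variable (P : A → Prop)
  (h2 : ∀ S : ShortComplex A, S.ShortExact → P S.X₁ → (P S.X₂ ↔ P S.X₃))

include h2 in
lemma mem_of_isZero (Y : A) (hY : P Y) (Z : A) (hZ : IsZero Z) : P Z := by
  have hS : (ShortComplex.mk (𝟙 Y) (0 : Y ⟶ Z) comp_zero).ShortExact :=
    { exact := (ShortComplex.exact_iff_epi _ rfl).mpr (inferInstanceAs (Epi (𝟙 Y)))
      mono_f := inferInstanceAs (Mono (𝟙 Y))
      epi_g := ⟨fun _ _ _ => hZ.eq_of_src _ _⟩ }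
  exact (h2 _ hS hY).mp hY

include h2 in
lemma mem_of_iso {X X' : A} (e : X ≅ X') (hX : P X) : P X' := by
  open ZeroObject in
  have hS : (ShortComplex.mk e.hom (0 : X' ⟶ 0) comp_zero).ShortExact :=
    { exact := (ShortComplex.exact_iff_epi _ rfl).mpr (inferInstanceAs (Epi e.hom))
      mono_f := inferInstanceAs (Mono e.hom)
      epi_g := ⟨fun _ _ _ => (isZero_zero A).eq_of_src _ _⟩ }
  exact (h2 _ hS hX).mpr (mem_of_isZero P h2 X hX 0 (isZero_zero A))

include h2 in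
lemma mem_biprod {X Y : A} (hX : P X) (hY : P Y) : P (X ⊞ Y) :=
  (h2 _ (ShortComplex.Splitting.ofHasBinaryBiproduct X Y).shortExact hX).mpr hY

end Class

section Chain

open ZeroObject

variable (P : A → Prop) (h1 : ∀ X : A, ∃ (Y : A) (i : X ⟶ Y), P Y ∧ Mono i)

/-- one step of the chain -/
structure Link (C : CochainComplex A ℤ) where
  Q : CochainComplex A ℤ
  C' : CochainComplex A ℤ
  f : C ⟶ Q
  g : Q ⟶ C'
  zero : f ≫ g = 0
  se : (ShortComplex.mk f g zero).ShortExact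

/-- the disc step -/
noncomputable def linkA (C : CochainComplex A ℤ) : Link C where
  Q := discZ (fun i => E P h1 (C.X i))
  C' := cokernel (toDiscZ (fun i => E P h1 (C.X i)) C (fun i => ιE P h1 (C.X i)))
  f := toDiscZ (fun i => E P h1 (C.X i)) C (fun i => ιE P h1 (C.X i))
  g := cokernel.π _
  zero := cokernel.condition _
  se :=
    { exact := ShortComplex.exact_of_g_is_cokernel _ (cokernelIsCokernel _)
      mono_f := mono_toDiscZ _ C _ (fun _ => inferInstance)
      epi_g := inferInstanceAs (Epi (cokernel.π _)) }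

/-- the trivial step -/
noncomputable def linkB (C : CochainComplex A ℤ) : Link C where
  Q := C
  C' := 0
  f := 𝟙 C
  g := 0
  zero := comp_zero
  se :=
    { exact := (ShortComplex.exact_iff_epi _ rfl).mpr (inferInstanceAs (Epi (𝟙 C)))
      mono_f := inferInstanceAs (Mono (𝟙 C))
      epi_g := ⟨fun _ _ _ => (isZero_zero _).eq_of_src _ _⟩ }

variable (n : ℕ)

/-- the `k`-th step: a disc step for `k < n`, trivial afterwards -/
noncomputable def link (k : ℕ) (C : CochainComplex A ℤ) : Link C :=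
  if k < n then linkA P h1 C else linkB C

lemma link_of_lt {k : ℕ} (h : k < n) (C : CochainComplex A ℤ) :
    link P h1 n k C = linkA P h1 C := if_pos h

lemma link_of_ge {k : ℕ} (h : n ≤ k) (C : CochainComplex A ℤ) :
    link P h1 n k C = linkB C := if_neg (by lia)

variable (h2 : ∀ S : ShortComplex A, S.ShortExact → P S.X₁ → (P S.X₂ ↔ P S.X₃))

include h2 in
lemma mem_link_Q_of_lt {k : ℕ} (h : k < n) (C : CochainComplex A ℤ) (p : ℤ) :
    P ((link P h1 n k C).Q.X p) := by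
  rw [link_of_lt P h1 n h]
  exact mem_biprod P h2 (E_mem P h1 _) (E_mem P h1 _)

lemma isZero_link_C'_of_ge {k : ℕ} (h : n ≤ k) (C : CochainComplex A ℤ) :
    IsZero (link P h1 n k C).C' := by
  rw [link_of_ge P h1 n h]
  exact isZero_zero _

lemma isIso_link_f_of_ge {k : ℕ} (h : n ≤ k) (C : CochainComplex A ℤ) :
    IsIso (link P h1 n k C).f := by
  rw [link_of_ge P h1 n h]
  exact inferInstanceAs (IsIso (𝟙 C))

lemma isZero_link_Q_of_ge {k : ℕ} (h : n ≤ k) (C : CochainComplex A ℤ) (hC : IsZero C) :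
    IsZero (link P h1 n k C).Q := by
  rw [link_of_ge P h1 n h]
  exact hC

variable (X : CochainComplex A ℤ)

/-- the chain of complexes -/
noncomputable def Cseq : ℕ → CochainComplex A ℤ
  | 0 => X
  | k + 1 => (link P h1 n k (Cseq k)).C'

/-- the `k`-th link -/
noncomputable def lk (k : ℕ) : Link (Cseq P h1 n X k) := link P h1 n k (Cseq P h1 n X k)

/-- the middle terms -/
noncomputable def Qs (k : ℕ) : CochainComplex A ℤ := (lk P h1 n X k).Q

/-- the inclusions -/
noncomputable def fs (k : ℕ) : Cseq P h1 n X k ⟶ Qs P h1 n X k := (lk P h1 n X k).f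

/-- the projections -/
noncomputable def gs (k : ℕ) : Qs P h1 n X k ⟶ Cseq P h1 n X (k + 1) := (lk P h1 n X k).g

lemma fs_gs (k : ℕ) : fs P h1 n X k ≫ gs P h1 n X k = 0 := (lk P h1 n X k).zero

lemma shortExact (k : ℕ) :
    (ShortComplex.mk (fs P h1 n X k) (gs P h1 n X k) (fs_gs P h1 n X k)).ShortExact :=
  (lk P h1 n X k).se

lemma fs_gs_f (k : ℕ) (p : ℤ) : (fs P h1 n X k).f p ≫ (gs P h1 n X k).f p = 0 := by
  rw [← HomologicalComplex.comp_f, fs_gs, HomologicalComplex.zero_f]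

lemma shortExact_f (k : ℕ) (p : ℤ) :
    (ShortComplex.mk ((fs P h1 n X k).f p) ((gs P h1 n X k).f p) (fs_gs_f P h1 n X k p)).ShortExact :=
  (shortExact P h1 n X k).map_of_exact (HomologicalComplex.eval A (ComplexShape.up ℤ) p)

/-- the complex `k ↦ (Qs k).X p` -/
noncomputable def Zp (p : ℤ) : CochainComplex A ℕ :=
  CochainComplex.of (fun k => (Qs P h1 n X k).X p)
    (fun k => (gs P h1 n X k).f p ≫ (fs P h1 n X (k + 1)).f p)
    (fun k => by
      rw [Category.assoc, reassoc_of% fs_gs_f P h1 n X (k + 1) p, zero_comp, comp_zero])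

lemma Zp_d (p : ℤ) (k : ℕ) : (Zp P h1 n X p).d k (k + 1) =
    (gs P h1 n X k).f p ≫ (fs P h1 n X (k + 1)).f p := by
  delta Zp
  exact CochainComplex.of_d (fun k => (Qs P h1 n X k).X p)
    (fun k => (gs P h1 n X k).f p ≫ (fs P h1 n X (k + 1)).f p) k

lemma exactAt_Zp (p : ℤ) (k : ℕ) : (Zp P h1 n X p).ExactAt (k + 1) := by
  rw [HomologicalComplex.exactAt_iff_exact_up_to_refinements _ k (k + 1) (k + 1 + 1)
    (by simp) (by simp)]
  intro T x hx
  rw [Zp_d] at hx
  let x' : T ⟶ (Qs P h1 n X (k + 1)).X p := x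
  have hx0 : x' ≫ (gs P h1 n X (k + 1)).f p ≫ (fs P h1 n X (k + 1 + 1)).f p = 0 := hx
  have hm : Mono ((fs P h1 n X (k + 1 + 1)).f p) := (shortExact_f P h1 n X (k + 1 + 1) p).mono_f
  have hx' : x' ≫ (gs P h1 n X (k + 1)).f p = 0 := by
    rw [← cancel_mono ((fs P h1 n X (k + 1 + 1)).f p), Category.assoc, hx0, zero_comp]
  obtain ⟨T₁, π₁, _, y, hy⟩ := (shortExact_f P h1 n X (k + 1) p).exact.exact_up_to_refinements x' hx'
  dsimp at y hy
  have he : Epi ((gs P h1 n X k).f p) := (shortExact_f P h1 n X k p).epi_g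
  obtain ⟨T₂, π₂, _, z, hz⟩ := surjective_up_to_refinements_of_epi ((gs P h1 n X k).f p) y
  refine ⟨T₂, π₂ ≫ π₁, inferInstance, z, ?_⟩
  rw [Zp_d]
  show (π₂ ≫ π₁) ≫ x' = z ≫ (gs P h1 n X k).f p ≫ (fs P h1 n X (k + 1)).f p
  rw [Category.assoc, hy, ← reassoc_of% hz]

include h2 in
lemma mem_Zp_of_lt (p : ℤ) {k : ℕ} (h : k < n) : P ((Zp P h1 n X p).X k) :=
  mem_link_Q_of_lt P h1 n h2 h _ p

lemma isZero_Cseq_succ_of_ge {k : ℕ} (h : n ≤ k) : IsZero (Cseq P h1 n X (k + 1)) :=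
  isZero_link_C'_of_ge P h1 n h _

lemma isZero_Zp_of_gt (p : ℤ) {k : ℕ} (h : n < k) : IsZero ((Zp P h1 n X p).X k) := by
  obtain ⟨k', rfl⟩ : ∃ k', k = k' + 1 := ⟨k - 1, by lia⟩
  have h0 : IsZero (Qs P h1 n X (k' + 1)) :=
    isZero_link_Q_of_ge P h1 n (by lia) _ (isZero_Cseq_succ_of_ge P h1 n X (by lia))
  exact (HomologicalComplex.eval A (ComplexShape.up ℤ) p).map_isZero h0

lemma isIso_fs_of_ge {k : ℕ} (h : n ≤ k) : IsIso (fs P h1 n X k) :=
  isIso_link_f_of_ge P h1 n h _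

lemma epi_Zp_d (p : ℤ) (m : ℕ) (hm : n = m + 1) : Epi ((Zp P h1 n X p).d m (m + 1)) := by
  rw [Zp_d]
  have he : Epi ((gs P h1 n X m).f p) := (shortExact_f P h1 n X m p).epi_g
  have hi : IsIso (fs P h1 n X (m + 1)) := isIso_fs_of_ge P h1 n X (by lia)
  have : IsIso ((fs P h1 n X (m + 1)).f p) :=
    inferInstanceAs (IsIso ((HomologicalComplex.eval A (ComplexShape.up ℤ) p).map (fs P h1 n X (m + 1))))
  have h5 : Epi ((fs P h1 n X (m + 1)).f p) := IsIso.epi_of_iso _
  exact epi_comp' he h5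

variable (hn : 1 ≤ n)
  (h3 : ∀ K : CochainComplex A ℕ, (∀ i : ℕ, 1 ≤ i → i ≤ n → K.ExactAt i) →
    (∀ i : ℕ, n < i → IsZero (K.X i)) →
      Epi (K.d (n - 1) n) → (∀ i : ℕ, i < n → P (K.X i)) → P (K.X n))

include h2 hn h3 in
lemma mem_Qs_n (p : ℤ) : P ((Qs P h1 n X n).X p) := by
  obtain ⟨m, rfl⟩ : ∃ m, n = m + 1 := ⟨n - 1, by lia⟩
  refine h3 (Zp P h1 (m + 1) X p) ?_ ?_ ?_ ?_
  · intro i hi _
    obtain ⟨i', rfl⟩ : ∃ i', i = i' + 1 := ⟨i - 1, by lia⟩
    exact exactAt_Zp P h1 (m + 1) X p i'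
  · intro i hi
    exact isZero_Zp_of_gt P h1 (m + 1) X p hi
  · exact epi_Zp_d P h1 (m + 1) X p m rfl
  · intro i hi
    exact mem_Zp_of_lt P h1 (m + 1) h2 X p hi

include h1 h2 hn h3 in
/-- **Main theorem**: every complex admits a quasi-isomorphism to a complex with terms in `P`. -/
theorem exists_quasiIso : ∃ (I : CochainComplex A ℤ) (f : X ⟶ I), QuasiIso f ∧ ∀ k : ℤ, P (I.X k) := by
  have key : ∀ j k : ℕ, k + j = n → ∃ (T : CochainComplex A ℤ) (t : Cseq P h1 n X k ⟶ T),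
      QuasiIso t ∧ ∀ i : ℤ, P (T.X i) := by
    intro j
    induction j with
    | zero =>
      intro k hk
      obtain rfl : k = n := by lia
      have hi : IsIso (fs P h1 k X k) := isIso_fs_of_ge P h1 k X le_rfl
      exact ⟨Qs P h1 k X k, fs P h1 k X k, inferInstance, mem_Qs_n P h1 k h2 X hn h3⟩
    | succ j ih =>
      intro k hk
      obtain ⟨T, t, ht, hT⟩ := ih (k + 1) (by lia)
      obtain ⟨T', ψ, hψ, hT'⟩ := TwistCx.exists_quasiIso_of_shortExact (fs P h1 n X k)
        (gs P h1 n X k) (fs_gs P h1 n X k) (shortExact P h1 n X k) t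
      refine ⟨T', ψ, hψ, fun i => ?_⟩
      rw [hT' i]
      exact mem_biprod P h2 (mem_link_Q_of_lt P h1 n h2 (by lia) _ i) (hT _)
  exact key n 0 (by lia)

end Chain

end Groth.Agent.Lib.Helper6.PhiRes
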