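import Mathlib
import Groth.Agent.Lib.Helper6.TwistCx
import Groth.Agent.Lib.Helper6.PhiRes
import Groth.Agent.Lib.Helper5.FunctorialInjective

/-!
# Functoriality of the twisted biproduct / cocone construction, and the functorial
termwise-injective hull of a cochain complex (helper6 library)
-/

set_option autoImplicit false
universe v u
open CategoryTheory CategoryTheory.Limits

namespace Groth.Agent.Lib.Helper6.TwistFun

open Groth.Agent.Lib.Helper6.TwistCx Groth.Agent.Lib.Helper6.PhiRes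

variable {A : Type u} [Category.{v} A] [Abelian A]

section twMap

variable {Q R Q' R' Q'' R'' : CochainComplex A ℤ}

/-- morphism of twisted biproducts -/
noncomputable def twMap (τ : Twist Q R) (τ' : Twist Q' R') (a : Q ⟶ Q') (r : R ⟶ R')
    (h : ∀ i j, a.f i ≫ τ'.θ i j = τ.θ i j ≫ r.f j) : tw τ ⟶ tw τ' where
  f i := biprod.map (a.f i) (r.f i)
  comm' i j _ := by
    show biprod.map (a.f i) (r.f i) ≫ twD τ' i j = twD τ i j ≫ biprod.map (a.f j) (r.f j)
    apply biprod.hom_ext' <;> apply biprod.hom_ext <;> simp [twD, h]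

@[simp]
lemma twMap_f (τ : Twist Q R) (τ' : Twist Q' R') (a : Q ⟶ Q') (r : R ⟶ R')
    (h : ∀ i j, a.f i ≫ τ'.θ i j = τ.θ i j ≫ r.f j) (i : ℤ) :
    (twMap τ τ' a r h).f i = biprod.map (a.f i) (r.f i) := rfl

lemma toTw_twMap (τ : Twist Q R) (τ' : Twist Q' R') (a : Q ⟶ Q') (r : R ⟶ R')
    (h : ∀ i j, a.f i ≫ τ'.θ i j = τ.θ i j ≫ r.f j)
    {C C' : CochainComplex A ℤ} (f : C ⟶ Q) (hf : ∀ i j, f.f i ≫ τ.θ i j = 0)
    (f' : C' ⟶ Q') (hf' : ∀ i j, f'.f i ≫ τ'.θ i j = 0) (c : C ⟶ C') (hc : f ≫ a = c ≫ f') :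
    toTw τ f hf ≫ twMap τ τ' a r h = c ≫ toTw τ' f' hf' := by
  ext i
  have hci : f.f i ≫ a.f i = c.f i ≫ f'.f i := by
    rw [← HomologicalComplex.comp_f, hc, HomologicalComplex.comp_f]
  show biprod.lift (f.f i) (0 : C.X i ⟶ R.X i) ≫ biprod.map (a.f i) (r.f i) =
    c.f i ≫ biprod.lift (f'.f i) (0 : C'.X i ⟶ R'.X i)
  apply biprod.hom_ext
  · simp [hci]
  · simp

end twMap

section shiftM1

/-- functoriality of the shift by `-1` -/
def shiftM1Map {T T' : CochainComplex A ℤ} (q : T ⟶ T') : shiftM1 T ⟶ shiftM1 T' where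
  f i := q.f (i - 1)
  comm' i j _ := by
    show q.f (i - 1) ≫ (- T'.d (i - 1) (j - 1)) = (- T.d (i - 1) (j - 1)) ≫ q.f (j - 1)
    rw [Preadditive.comp_neg, Preadditive.neg_comp, q.comm]

@[simp]
lemma shiftM1Map_f {T T' : CochainComplex A ℤ} (q : T ⟶ T') (i : ℤ) :
    (shiftM1Map q).f i = q.f (i - 1) := rfl

lemma θmap_naturality {C' T C'' T' : CochainComplex A ℤ} (t : C' ⟶ T) (t' : C'' ⟶ T')
    (c : C' ⟶ C'') (q : T ⟶ T') (h : t ≫ q = c ≫ t') (i j : ℤ) :
    c.f i ≫ θmap t' i j = θmap t i j ≫ q.f (j - 1) := by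
  by_cases hij : i + 1 = j
  · rw [θmap_eq t' i j hij, θmap_eq t i j hij, Category.assoc,
      ← HomologicalComplex.XIsoOfEq_hom_naturality, ← Category.assoc, ← Category.assoc,
      ← HomologicalComplex.comp_f, ← HomologicalComplex.comp_f, h]
  · have h1 : θmap t' i j = 0 := dif_neg hij
    have h2 : θmap t i j = 0 := dif_neg hij
    rw [h1, h2, comp_zero, zero_comp]

end shiftM1

section disc

/-- functoriality of the disc complex -/
noncomputable def discZMap {I I' : ℤ → A} (u : ∀ i, I i ⟶ I' i) : discZ I ⟶ discZ I' where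
  f i := biprod.map (u i) (u (i + 1))
  comm' i j hij := by
    have hij' : i + 1 = j := hij
    subst hij'
    rw [discZ_d, discZ_d]
    show biprod.map (u i) (u (i + 1)) ≫ biprod.snd ≫ biprod.inl =
      (biprod.snd ≫ biprod.inl) ≫ biprod.map (u (i + 1)) (u (i + 1 + 1))
    simp

@[simp]
lemma discZMap_f {I I' : ℤ → A} (u : ∀ i, I i ⟶ I' i) (i : ℤ) :
    (discZMap u).f i = biprod.map (u i) (u (i + 1)) := rfl

lemma toDiscZ_discZMap {I I' : ℤ → A} (u : ∀ i, I i ⟶ I' i) {K K' : CochainComplex A ℤ}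
    (ι : ∀ i, K.X i ⟶ I i) (ι' : ∀ i, K'.X i ⟶ I' i) (φ : K ⟶ K')
    (h : ∀ i, ι i ≫ u i = φ.f i ≫ ι' i) :
    toDiscZ I K ι ≫ discZMap u = φ ≫ toDiscZ I' K' ι' := by
  ext i
  show biprod.lift (ι i) (K.d i (i + 1) ≫ ι (i + 1)) ≫ biprod.map (u i) (u (i + 1)) =
    φ.f i ≫ biprod.lift (ι' i) (K'.d i (i + 1) ≫ ι' (i + 1))
  apply biprod.hom_ext
  · simp [h]
  · simp [h]

end disc

end Groth.Agent.Lib.Helper6.TwistFun
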