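import Mathlib
import Groth.Agent.Lib.Helper6.TwistFun

/-!
# Mapping cones as twisted biproducts (helper6 library)

* `quasiIso_f_of_acyclic_X₃`: in a short exact sequence of complexes with acyclic cokernel, the
  first map is a quasi-isomorphism;
* `twInr`, `twFst`: the degreewise split short exact sequence `0 ⟶ R ⟶ tw τ ⟶ Q ⟶ 0`;
* `shiftP1`, `coneTwist u`: the cone of `u : S ⟶ M` is `tw (coneTwist u)` with terms
  `S.X (i+1) ⊞ M.X i`;
* `coneHomotopy u : Homotopy (u ≫ twInr (coneTwist u)) 0`.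
-/

set_option autoImplicit false
universe v u
open CategoryTheory CategoryTheory.Limits

namespace Groth.Agent.Lib.Helper6.ConeTw

open Groth.Agent.Lib.Helper6.TwistCx Groth.Agent.Lib.Helper6.TwistFun

variable {A : Type u} [Category.{v} A] [Abelian A]

/-- in a short exact sequence of complexes with acyclic cokernel, the first map is a
quasi-isomorphism -/
lemma quasiIso_f_of_acyclic_X₃ {S : ShortComplex (CochainComplex A ℤ)} (hS : S.ShortExact)
    (h : ∀ n, S.X₃.ExactAt n) : QuasiIso S.f := by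
  rw [quasiIso_iff]
  intro n
  rw [quasiIsoAt_iff_isIso_homologyMap]
  have h3 : ∀ n, IsZero (S.X₃.homology n) := fun n =>
    (HomologicalComplex.exactAt_iff_isZero_homology _ _).1 (h n)
  have hm : Mono (HomologicalComplex.homologyMap S.f n) :=
    (hS.homology_exact₁ (n - 1) n (by simp)).mono_g ((h3 (n - 1)).eq_of_src _ _)
  have he : Epi (HomologicalComplex.homologyMap S.f n) :=
    (hS.homology_exact₂ n).epi_f ((h3 n).eq_of_tgt _ _)
  exact isIso_of_mono_of_epi _

section tw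

variable {Q R : CochainComplex A ℤ} (τ : Twist Q R)

/-- the inclusion of the second factor -/
noncomputable def twInr : R ⟶ tw τ where
  f i := biprod.inr
  comm' i j _ := by
    show biprod.inr ≫ twD τ i j = R.d i j ≫ biprod.inr
    apply biprod.hom_ext <;> simp [twD]

/-- the projection to the first factor -/
noncomputable def twFst : tw τ ⟶ Q where
  f i := biprod.fst
  comm' i j _ := by
    show biprod.fst ≫ Q.d i j = twD τ i j ≫ biprod.fst
    apply biprod.hom_ext' <;> simp [twD]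

lemma twInr_f (i : ℤ) : (twInr τ).f i = (biprod.inr : R.X i ⟶ Q.X i ⊞ R.X i) := rfl

lemma twFst_f (i : ℤ) : (twFst τ).f i = (biprod.fst : Q.X i ⊞ R.X i ⟶ Q.X i) := rfl

lemma twInr_twFst : twInr τ ≫ twFst τ = 0 := by
  ext i
  show (biprod.inr : R.X i ⟶ Q.X i ⊞ R.X i) ≫ biprod.fst = 0
  simp

lemma shortExact_tw : (ShortComplex.mk (twInr τ) (twFst τ) (twInr_twFst τ)).ShortExact := by
  apply HomologicalComplex.shortExact_of_degreewise_shortExact
  intro i
  let s : (ShortComplex.mk (biprod.inr : R.X i ⟶ Q.X i ⊞ R.X i) biprod.fst (by simp)).Splitting :=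
    { r := biprod.snd
      s := biprod.inl
      f_r := by simp
      s_g := by simp
      id := by
        apply biprod.hom_ext' <;> apply biprod.hom_ext <;> simp }
  exact s.shortExact

lemma quasiIso_twInr (hQ : ∀ n, Q.ExactAt n) : QuasiIso (twInr τ) :=
  quasiIso_f_of_acyclic_X₃ (shortExact_tw τ) hQ

instance (i : ℤ) : Mono ((twInr τ).f i) :=
  inferInstanceAs (Mono (biprod.inr : R.X i ⟶ Q.X i ⊞ R.X i))

lemma twInr_twMap {Q' R' : CochainComplex A ℤ} (τ' : Twist Q' R') (a : Q ⟶ Q') (r : R ⟶ R')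
    (h : ∀ i j, a.f i ≫ τ'.θ i j = τ.θ i j ≫ r.f j) :
    twInr τ ≫ twMap τ τ' a r h = r ≫ twInr τ' := by
  ext i
  show (biprod.inr : R.X i ⟶ Q.X i ⊞ R.X i) ≫ biprod.map (a.f i) (r.f i) =
    r.f i ≫ (biprod.inr : R'.X i ⟶ Q'.X i ⊞ R'.X i)
  simp

end tw

section shiftP1

/-- `S` shifted by `+1`, by hand: `X i = S.X (i + 1)`, `d = -d`. -/
def shiftP1 (S : CochainComplex A ℤ) : CochainComplex A ℤ where
  X i := S.X (i + 1)
  d i j := - S.d (i + 1) (j + 1)
  shape i j hij := by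
    rw [S.shape, neg_zero]
    intro (h : i + 1 + 1 = j + 1)
    apply hij
    show i + 1 = j
    lia
  d_comp_d' i j k _ _ := by simp

lemma shiftP1_d (S : CochainComplex A ℤ) (i j : ℤ) :
    (shiftP1 S).d i j = - S.d (i + 1) (j + 1) := rfl

/-- functoriality of the shift by `+1` -/
def shiftP1Map {S S' : CochainComplex A ℤ} (q : S ⟶ S') : shiftP1 S ⟶ shiftP1 S' where
  f i := q.f (i + 1)
  comm' i j _ := by
    show q.f (i + 1) ≫ (- S'.d (i + 1) (j + 1)) = (- S.d (i + 1) (j + 1)) ≫ q.f (j + 1)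
    rw [Preadditive.comp_neg, Preadditive.neg_comp, q.comm]

@[simp]
lemma shiftP1Map_f {S S' : CochainComplex A ℤ} (q : S ⟶ S') (i : ℤ) :
    (shiftP1Map q).f i = q.f (i + 1) := rfl

lemma exactAt_shiftP1 (S : CochainComplex A ℤ) (n : ℤ) (h : S.ExactAt (n + 1)) :
    (shiftP1 S).ExactAt n := by
  rw [HomologicalComplex.exactAt_iff_exact_up_to_refinements _ (n - 1) n (n + 1) (by simp)
    (by simp)]
  rw [HomologicalComplex.exactAt_iff_exact_up_to_refinements _ n (n + 1) (n + 1 + 1) (by simp)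
    (by simp)] at h
  intro T x₂ hx₂
  obtain ⟨y, hy⟩ : ∃ y : T ⟶ S.X (n + 1), y = x₂ := ⟨x₂, rfl⟩
  subst hy
  have hy' : y ≫ S.d (n + 1) (n + 1 + 1) = 0 := by
    have : y ≫ (- S.d (n + 1) (n + 1 + 1)) = 0 := hx₂
    rwa [Preadditive.comp_neg, neg_eq_zero] at this
  obtain ⟨T', π, hπ, x₁, hx₁⟩ := h y hy'
  refine ⟨T', π, hπ, -(x₁ ≫ (S.XIsoOfEq (show n = n - 1 + 1 by lia)).hom), ?_⟩
  show π ≫ y = (-(x₁ ≫ (S.XIsoOfEq (show n = n - 1 + 1 by lia)).hom)) ≫
    (- S.d (n - 1 + 1) (n + 1))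
  rw [Preadditive.neg_comp, Preadditive.comp_neg, neg_neg, Category.assoc,
    HomologicalComplex.XIsoOfEq_hom_comp_d, hx₁]

end shiftP1

section cone

variable {S M : CochainComplex A ℤ} (u : S ⟶ M)

/-- the components of the twist of the cone -/
noncomputable def coneθ (i j : ℤ) : S.X (i + 1) ⟶ M.X j :=
  if h : i + 1 = j then u.f (i + 1) ≫ (M.XIsoOfEq h).hom else 0

lemma coneθ_eq (i j : ℤ) (h : i + 1 = j) :
    coneθ u i j = u.f (i + 1) ≫ (M.XIsoOfEq h).hom := dif_pos h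

lemma coneθ_self (i : ℤ) : coneθ u i (i + 1) = u.f (i + 1) := by
  rw [coneθ_eq u i (i + 1) rfl, HomologicalComplex.XIsoOfEq_rfl, Iso.refl_hom, Category.comp_id]

/-- the twist whose twisted biproduct is the mapping cone of `u` -/
noncomputable def coneTwist : Twist (shiftP1 S) M where
  θ i j := coneθ u i j
  shape i j hij := dif_neg hij
  cocycle i j k hij hjk := by
    subst hij hjk
    show (- S.d (i + 1) (i + 1 + 1)) ≫ coneθ u (i + 1) (i + 1 + 1) +
      coneθ u i (i + 1) ≫ M.d (i + 1) (i + 1 + 1) = 0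
    rw [coneθ_self, coneθ_self, Preadditive.neg_comp, u.comm, neg_add_cancel]

lemma coneTwist_θ (i j : ℤ) : (coneTwist u).θ i j = coneθ u i j := rfl

lemma coneθ_naturality {S' M' : CochainComplex A ℤ} (u' : S' ⟶ M') (a : S ⟶ S') (b : M ⟶ M')
    (h : u ≫ b = a ≫ u') (i j : ℤ) :
    a.f (i + 1) ≫ coneθ u' i j = coneθ u i j ≫ b.f j := by
  by_cases hij : i + 1 = j
  · subst hij
    rw [coneθ_self, coneθ_self, ← HomologicalComplex.comp_f, ← HomologicalComplex.comp_f, h]
  · have h1 : coneθ u' i j = 0 := dif_neg hij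
    have h2 : coneθ u i j = 0 := dif_neg hij
    rw [h1, h2, comp_zero, zero_comp]

/-- the morphism of cones induced by a commutative square -/
noncomputable def coneMap {S' M' : CochainComplex A ℤ} (u' : S' ⟶ M') (a : S ⟶ S')
    (b : M ⟶ M') (h : u ≫ b = a ≫ u') : tw (coneTwist u) ⟶ tw (coneTwist u') :=
  twMap (coneTwist u) (coneTwist u') (shiftP1Map a) b (fun i j => coneθ_naturality u u' a b h i j)

lemma coneMap_f {S' M' : CochainComplex A ℤ} (u' : S' ⟶ M') (a : S ⟶ S')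
    (b : M ⟶ M') (h : u ≫ b = a ≫ u') (i : ℤ) :
    (coneMap u u' a b h).f i = biprod.map (a.f (i + 1)) (b.f i) := rfl

lemma twInr_coneMap {S' M' : CochainComplex A ℤ} (u' : S' ⟶ M') (a : S ⟶ S')
    (b : M ⟶ M') (h : u ≫ b = a ≫ u') :
    twInr (coneTwist u) ≫ coneMap u u' a b h = b ≫ twInr (coneTwist u') :=
  twInr_twMap _ _ _ _ _

/-- a null-homotopy of `u ≫ inr` from "left inclusions" `S.X (j + 1) ⟶ T.X j` -/
noncomputable def homotopyOfInl {T : CochainComplex A ℤ} (inr : M ⟶ T)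
    (inl : ∀ j, S.X (j + 1) ⟶ T.X j)
    (h : ∀ j, u.f (j + 1) ≫ inr.f (j + 1) =
      S.d (j + 1) (j + 1 + 1) ≫ inl (j + 1) + inl j ≫ T.d j (j + 1)) :
    Homotopy (u ≫ inr) 0 where
  hom i j := if h : j + 1 = i then (S.XIsoOfEq h).inv ≫ inl j else 0
  zero i j hij := dif_neg hij
  comm i := by
    obtain ⟨j, rfl⟩ : ∃ j, i = j + 1 := ⟨i - 1, by lia⟩
    rw [dNext_eq _ (show (ComplexShape.up ℤ).Rel (j + 1) (j + 1 + 1) from rfl),
      prevD_eq _ (show (ComplexShape.up ℤ).Rel j (j + 1) from rfl), dif_pos rfl, dif_pos rfl,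
      HomologicalComplex.zero_f, add_zero, HomologicalComplex.XIsoOfEq_rfl,
      HomologicalComplex.XIsoOfEq_rfl, Iso.refl_inv, Iso.refl_inv, Category.id_comp,
      Category.id_comp, HomologicalComplex.comp_f]
    exact h j

lemma cone_comm_aux (j : ℤ) :
    u.f (j + 1) ≫ (biprod.inr : M.X (j + 1) ⟶ S.X (j + 1 + 1) ⊞ M.X (j + 1)) =
      S.d (j + 1) (j + 1 + 1) ≫
        (biprod.inl : S.X (j + 1 + 1) ⟶ S.X (j + 1 + 1) ⊞ M.X (j + 1)) +
      (biprod.inl : S.X (j + 1) ⟶ S.X (j + 1) ⊞ M.X j) ≫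
        biprod.desc (biprod.lift (- S.d (j + 1) (j + 1 + 1)) (coneθ u j (j + 1)))
          (biprod.lift 0 (M.d j (j + 1))) := by
  rw [coneθ_self]
  apply biprod.hom_ext
  · simp
  · simp

/-- `u` followed by the inclusion into its cone is null-homotopic -/
noncomputable def coneHomotopy : Homotopy (u ≫ twInr (coneTwist u)) 0 :=
  homotopyOfInl u (twInr (coneTwist u))
    (fun j => (biprod.inl : S.X (j + 1) ⟶ S.X (j + 1) ⊞ M.X j))
    (fun j => cone_comm_aux u j)

end cone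

end Groth.Agent.Lib.Helper6.ConeTw
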