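import Mathlib
import Groth.Agent.Lib.Helper6.ConeTw
import Groth.Agent.Lib.Helper6.PhiRes
import Groth.Agent.Lib.Helper6.ClassResInt

/-!
# Special inverse systems of right resolutions (helper6 library)

* `step`: for a morphism `c : M ⟶ Q` of bounded below complexes, `Q` with terms in a class `I`,
  there are a bounded below complex `Q'` with terms in `I`, a termwise split epimorphism
  `p : Q' ⟶ Q` with termwise kernels in `I` and a termwise monic quasi-isomorphism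
  `ψ : M ⟶ Q'` with `ψ ≫ p = c`;
* `exists_system`: the resulting inverse system of resolutions of the truncations `τ_{≥ -n} K`.
-/

set_option autoImplicit false
universe v u
open CategoryTheory CategoryTheory.Limits

namespace Groth.Agent.Lib.Helper6.InvSys

open Groth.Agent.Lib.Helper6.TwistCx Groth.Agent.Lib.Helper6.TwistFun
  Groth.Agent.Lib.Helper6.ConeTw Groth.Agent.Lib.Helper6.PhiRes

variable {A : Type u} [Category.{v} A] [Abelian A]

lemma isZero_biprod {X Y : A} (hX : IsZero X) (hY : IsZero Y) : IsZero (X ⊞ Y) := by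
  rw [IsZero.iff_id_eq_zero]
  apply biprod.hom_ext
  · exact hX.eq_of_tgt _ _
  · exact hY.eq_of_tgt _ _

lemma toTw_twFst {Q R C : CochainComplex A ℤ} (τ : Twist Q R) (f : C ⟶ Q)
    (hf : ∀ i j, f.f i ≫ τ.θ i j = 0) : toTw τ f hf ≫ twFst τ = f := by
  ext i
  show biprod.lift (f.f i) 0 ≫ (biprod.fst : Q.X i ⊞ R.X i ⟶ Q.X i) = f.f i
  simp

/-- the kernel of a split epimorphism with a given complement -/
noncomputable def kernelIsoOfSplitting {X Y N : A} (p : X ⟶ Y) (j : N ⟶ X) (r : X ⟶ N) (s : Y ⟶ X)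
    (h1 : j ≫ p = 0) (h2 : j ≫ r = 𝟙 N) (h3 : r ≫ j + p ≫ s = 𝟙 X) : kernel p ≅ N where
  hom := kernel.ι p ≫ r
  inv := kernel.lift p j h1
  hom_inv_id := by
    rw [← cancel_mono (kernel.ι p), Category.assoc, Category.assoc, kernel.lift_ι, Category.id_comp]
    have : kernel.ι p ≫ (r ≫ j + p ≫ s) = kernel.ι p := by rw [h3, Category.comp_id]
    rwa [Preadditive.comp_add, kernel.condition_assoc, zero_comp, add_zero] at this
  inv_hom_id := by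
    rw [kernel.lift_ι_assoc, h2]

lemma bmap_id {X Y : A} : biprod.map (𝟙 X) (𝟙 Y) = 𝟙 (X ⊞ Y) := by
  apply biprod.hom_ext <;> simp

lemma bmap_comp {X Y X' Y' X'' Y'' : A} (a : X ⟶ X') (a' : X' ⟶ X'') (b : Y ⟶ Y')
    (b' : Y' ⟶ Y'') : biprod.map (a ≫ a') (b ≫ b') = biprod.map a b ≫ biprod.map a' b' := by
  apply biprod.hom_ext <;> simp

lemma total_aux {X1 X2 : A} (u w : X1 ⟶ X1) (h : w + u = 𝟙 X1) :
    biprod.map u (𝟙 X2) ≫ biprod.map (𝟙 X1) (𝟙 X2) + biprod.fst ≫ w ≫ biprod.inl =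
      𝟙 (X1 ⊞ X2) := by
  apply biprod.hom_ext' <;> apply biprod.hom_ext
  · simp only [biprod.inl_fst, Preadditive.comp_add, Preadditive.add_comp, Category.assoc,
      biprod.inl_map_assoc, biprod.inl_map, Category.comp_id, biprod.inl_fst_assoc]
    rw [add_comm]; exact h
  · simp
  · simp
  · simp

section mem

variable (I : ObjectProperty A) [I.IsClosedUnderIsomorphisms]
  (hIprod : ∀ X Y : A, I X → I Y → I (X ⊞ Y))

include hIprod in
lemma mem_kernel_fst_fst {X1 X2 Y N : A} (π : X1 ⟶ Y) (ι : Y ⟶ X1) (j : N ⟶ X1) (r : X1 ⟶ N)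
    (h : ι ≫ π = 𝟙 Y) (hjπ : j ≫ π = 0) (hjr : j ≫ r = 𝟙 N) (htot : π ≫ ι + r ≫ j = 𝟙 X1)
    (hN : I N) (hX2 : I X2) :
    (∃ s : Y ⟶ X1 ⊞ X2, s ≫ ((biprod.fst : X1 ⊞ X2 ⟶ X1) ≫ π) = 𝟙 Y) ∧
      I (kernel ((biprod.fst : X1 ⊞ X2 ⟶ X1) ≫ π)) := by
  refine ⟨⟨ι ≫ biprod.inl, by simp [h]⟩, ?_⟩
  refine I.prop_of_iso (kernelIsoOfSplitting ((biprod.fst : X1 ⊞ X2 ⟶ X1) ≫ π)
    (biprod.map j (𝟙 X2)) (biprod.map r (𝟙 X2)) (ι ≫ biprod.inl) ?_ ?_ ?_).symm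
    (hIprod _ _ hN hX2)
  · rw [biprod.map_fst_assoc, hjπ, comp_zero]
  · rw [← bmap_comp, hjr, Category.comp_id]
    exact bmap_id
  · have := total_aux (X2 := X2) (r ≫ j) (π ≫ ι) htot
    rw [bmap_id, Category.comp_id, Category.assoc] at this
    rw [← bmap_comp, Category.comp_id, Category.assoc]
    exact this

end mem

section step

variable (I : ObjectProperty A) [I.IsClosedUnderIsomorphisms]
  (hI0 : ∃ Z : A, IsZero Z ∧ I Z) (hIprod : ∀ X Y : A, I X → I Y → I (X ⊞ Y))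
  (hI : ∀ X : A, ∃ (Y : A) (ι : X ⟶ Y), I Y ∧ Mono ι)

include hI0 hIprod hI in
theorem step (M Q : CochainComplex A ℤ) (a : ℤ) [M.IsStrictlyGE a] [Q.IsStrictlyGE a]
    (hQ : ∀ i, I (Q.X i)) (c : M ⟶ Q) :
    ∃ (Q' : CochainComplex A ℤ) (p : Q' ⟶ Q) (ψ : M ⟶ Q'), Q'.IsStrictlyGE (a - 1) ∧
      (∀ i, I (Q'.X i)) ∧ QuasiIso ψ ∧ (∀ i, Mono (ψ.f i)) ∧ ψ ≫ p = c ∧
      ∀ i, (∃ s : Q.X i ⟶ Q'.X i, s ≫ p.f i = 𝟙 _) ∧ I (kernel (p.f i)) := by
  obtain ⟨Z, hZ, hIZ⟩ := hI0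
  have hh : ∀ i : ℤ, ∃ (Y : A) (e : M.X i ⟶ Y), I Y ∧ Mono e ∧ (i < a → IsZero Y) := by
    intro i
    by_cases hi : i < a
    · exact ⟨Z, 0, hIZ, ⟨fun _ _ _ => (M.isZero_of_isStrictlyGE a i hi).eq_of_tgt _ _⟩,
        fun _ => hZ⟩
    · obtain ⟨Y, e, hY, he⟩ := hI (M.X i)
      exact ⟨Y, e, hY, he, fun h => absurd h hi⟩
  choose h e hhI hemono hhzero using hh
  obtain ⟨D, hD⟩ : ∃ D : CochainComplex A ℤ, D = discZ h := ⟨_, rfl⟩
  have hDX : ∀ i, D.X i = (h i ⊞ h (i + 1)) := fun i => by rw [hD]; rfl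
  have hDI : ∀ i, I (D.X i) := fun i => by
    rw [hDX]; exact hIprod _ _ (hhI i) (hhI (i + 1))
  have hD0 : ∀ i, i < a - 1 → IsZero (D.X i) := fun i hi => by
    rw [hDX]; exact isZero_biprod (hhzero i (by lia)) (hhzero (i + 1) (by lia))
  obtain ⟨eD, heD⟩ : ∃ eD : M ⟶ D, ∀ i, Mono (eD.f i) := by
    subst hD
    refine ⟨toDiscZ h M e, fun i => ?_⟩
    have := hemono i
    exact mono_of_mono_fac (biprod.lift_fst (e i) (M.d i (i + 1) ≫ e (i + 1)))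
  clear hD hDX
  -- the sum `Q ⊞ D`
  have hQ1I : ∀ i, I ((Q ⊞ D).X i) := fun i =>
    I.prop_of_iso (HomologicalComplex.biprodXIso Q D i).symm (hIprod _ _ (hQ i) (hDI i))
  have hQ10 : ∀ i, i < a - 1 → IsZero ((Q ⊞ D).X i) := fun i hi =>
    IsZero.of_iso (isZero_biprod (Q.isZero_of_isStrictlyGE a i (by lia)) (hD0 i hi))
      (HomologicalComplex.biprodXIso Q D i)
  let f : M ⟶ Q ⊞ D := biprod.lift c eD
  have hf : ∀ i, Mono (f.f i) := fun i => by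
    have h1 : f.f i ≫ (biprod.snd : Q ⊞ D ⟶ D).f i = eD.f i := by
      rw [← HomologicalComplex.comp_f, biprod.lift_snd]
    have := heD i
    exact mono_of_mono_fac h1
  have hfm : Mono f := HomologicalComplex.mono_of_mono_f _ hf
  let g : Q ⊞ D ⟶ cokernel f := cokernel.π f
  have hzero : f ≫ g = 0 := cokernel.condition f
  have hS : (ShortComplex.mk f g hzero).ShortExact :=
    { exact := ShortComplex.exact_of_g_is_cokernel _ (cokernelIsCokernel _)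
      mono_f := hfm
      epi_g := inferInstanceAs (Epi (cokernel.π f)) }
  have hz : ∀ i, f.f i ≫ g.f i = 0 := fun i => by
    rw [← HomologicalComplex.comp_f, hzero, HomologicalComplex.zero_f]
  have hSi := fun i => hS.map_of_exact (HomologicalComplex.eval A (ComplexShape.up ℤ) i)
  have hepi : ∀ i, Epi (g.f i) := fun i => (hSi i).epi_g
  have hexact : ∀ i, (ShortComplex.mk (f.f i) (g.f i) (hz i)).Exact := fun i => (hSi i).exact
  have hC' : (cokernel f).IsStrictlyGE (a - 1) := by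
    rw [CochainComplex.isStrictlyGE_iff]
    intro i hi
    rw [IsZero.iff_id_eq_zero]
    have := hepi i
    rw [← cancel_epi (g.f i)]
    exact (hQ10 i hi).eq_of_src _ _
  obtain ⟨T, t, hT, hTI, -, hqt⟩ :=
    ClassRes.exists_right_resolution I ⟨Z, hZ, hIZ⟩ hI (cokernel f) (a - 1)
  have hψ : QuasiIso (toTw ((twistOfHom t).precomp g) f (precomp_zero f g hz _)) :=
    quasiIso_toTw f g hf hepi hz hexact (twistOfHom t) (H3_twistOfHom t) (H4_twistOfHom t)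
  refine ⟨tw ((twistOfHom t).precomp g), twFst _ ≫ biprod.fst,
    toTw ((twistOfHom t).precomp g) f (precomp_zero f g hz _), ?_, ?_, hψ, ?_, ?_, ?_⟩
  · rw [CochainComplex.isStrictlyGE_iff]
    intro i hi
    exact isZero_biprod (hQ10 i hi) (T.isZero_of_isStrictlyGE (a - 1) (i - 1) (by lia))
  · intro i
    exact hIprod _ _ (hQ1I i) (hTI (i - 1))
  · intro i
    have := hf i
    exact mono_of_mono_fac (biprod.lift_fst (f.f i) (0 : M.X i ⟶ T.X (i - 1)))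
  · rw [← Category.assoc, toTw_twFst, biprod.lift_fst]
  · intro i
    exact mem_kernel_fst_fst I hIprod (X2 := T.X (i - 1))
      ((biprod.fst : Q ⊞ D ⟶ Q).f i) ((biprod.inl : Q ⟶ Q ⊞ D).f i)
      ((biprod.inr : D ⟶ Q ⊞ D).f i) ((biprod.snd : Q ⊞ D ⟶ D).f i)
      (HomologicalComplex.biprod_inl_fst_f Q D i) (HomologicalComplex.biprod_inr_fst_f Q D i)
      (HomologicalComplex.biprod_inr_snd_f Q D i) (HomologicalComplex.biprod_total_f Q D i)
      (hDI i) (hTI (i - 1))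

end step

section system

lemma exists_trans (K : CochainComplex A ℤ) (a b : ℤ) (hab : a ≤ b) :
    ∃ t : K.truncGE a ⟶ K.truncGE b, K.πTruncGE a ≫ t = K.πTruncGE b := by
  have h1 : (K.truncGE b).IsStrictlyGE a := (K.truncGE b).isStrictlyGE_of_ge a b hab
  have h2 : IsIso ((K.truncGE b).πTruncGE a) := (CochainComplex.isIso_πTruncGE_iff _ _).2 h1
  refine ⟨CochainComplex.truncGEMap (K.πTruncGE b) a ≫ inv ((K.truncGE b).πTruncGE a), ?_⟩
  rw [← Category.assoc, CochainComplex.πTruncGE_naturality, Category.assoc, IsIso.hom_inv_id,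
    Category.comp_id]

variable (I : ObjectProperty A) [I.IsClosedUnderIsomorphisms]
  (hI0 : ∃ Z : A, IsZero Z ∧ I Z) (hIprod : ∀ X Y : A, I X → I Y → I (X ⊞ Y))
  (hI : ∀ X : A, ∃ (Y : A) (ι : X ⟶ Y), I Y ∧ Mono ι) (K : CochainComplex A ℤ)

/-- a stage of the inverse system -/
structure Stage (n : ℕ) where
  Q : CochainComplex A ℤ
  π : K.truncGE (-(n : ℤ)) ⟶ Q
  qi : QuasiIso π
  mono : ∀ i, Mono (π.f i)
  bdd : ∃ a : ℤ, Q.IsStrictlyGE a
  mem : ∀ i, I (Q.X i)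

include hI0 hI in
lemma nonempty_stage_zero : Nonempty (Stage I K 0) := by
  obtain ⟨L, α, hL, hLI, hmono, hqi⟩ :=
    ClassRes.exists_right_resolution I hI0 hI (K.truncGE (-((0 : ℕ) : ℤ))) (-((0 : ℕ) : ℤ))
  exact ⟨⟨L, α, hqi, hmono, ⟨_, hL⟩, hLI⟩⟩

include hI0 hIprod hI in
lemma next_exists {n : ℕ} (s : Stage I K n) :
    ∃ (s' : Stage I K (n + 1)) (p : s'.Q ⟶ s.Q),
      (∀ i, (∃ σ : s.Q.X i ⟶ s'.Q.X i, σ ≫ p.f i = 𝟙 _) ∧ I (kernel (p.f i))) ∧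
      K.πTruncGE (-((n + 1 : ℕ) : ℤ)) ≫ s'.π ≫ p = K.πTruncGE (-(n : ℤ)) ≫ s.π := by
  obtain ⟨t, ht⟩ := exists_trans K (-((n + 1 : ℕ) : ℤ)) (-(n : ℤ)) (by push_cast; lia)
  obtain ⟨a₀, ha₀⟩ := s.bdd
  have h1 : s.Q.IsStrictlyGE (min a₀ (-((n + 1 : ℕ) : ℤ))) :=
    s.Q.isStrictlyGE_of_ge _ a₀ (min_le_left _ _)
  have h2 : (K.truncGE (-((n + 1 : ℕ) : ℤ))).IsStrictlyGE (min a₀ (-((n + 1 : ℕ) : ℤ))) :=
    (K.truncGE (-((n + 1 : ℕ) : ℤ))).isStrictlyGE_of_ge _ (-((n + 1 : ℕ) : ℤ)) (min_le_right _ _)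
  obtain ⟨Q', p, ψ, hQ', hQ'I, hψ, hψm, hψp, hp⟩ :=
    step I hI0 hIprod hI (K.truncGE (-((n + 1 : ℕ) : ℤ))) s.Q (min a₀ (-((n + 1 : ℕ) : ℤ)))
      s.mem (t ≫ s.π)
  refine ⟨⟨Q', ψ, hψ, hψm, ⟨_, hQ'⟩, hQ'I⟩, p, hp, ?_⟩
  show K.πTruncGE (-((n + 1 : ℕ) : ℤ)) ≫ ψ ≫ p = K.πTruncGE (-(n : ℤ)) ≫ s.π
  rw [hψp, ← Category.assoc, ht]

/-- the next stage -/
noncomputable def next {n : ℕ} (s : Stage I K n) : Stage I K (n + 1) :=
  (next_exists I hI0 hIprod hI K s).choose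

/-- the transition map -/
noncomputable def pmap {n : ℕ} (s : Stage I K n) : (next I hI0 hIprod hI K s).Q ⟶ s.Q :=
  (next_exists I hI0 hIprod hI K s).choose_spec.choose

lemma pmap_spec {n : ℕ} (s : Stage I K n) :
    (∀ i, (∃ σ : s.Q.X i ⟶ (next I hI0 hIprod hI K s).Q.X i,
      σ ≫ (pmap I hI0 hIprod hI K s).f i = 𝟙 _) ∧ I (kernel ((pmap I hI0 hIprod hI K s).f i))) ∧
      K.πTruncGE (-((n + 1 : ℕ) : ℤ)) ≫ (next I hI0 hIprod hI K s).π ≫ pmap I hI0 hIprod hI K s =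
        K.πTruncGE (-(n : ℤ)) ≫ s.π :=
  (next_exists I hI0 hIprod hI K s).choose_spec.choose_spec

/-- all the stages -/
noncomputable def stage : ∀ n : ℕ, Stage I K n
  | 0 => (nonempty_stage_zero I hI0 hI K).some
  | n + 1 => next I hI0 hIprod hI K (stage n)

include hI0 hIprod hI in
theorem exists_system :
    ∃ (Q : ℕ → CochainComplex A ℤ) (p : ∀ n, Q (n + 1) ⟶ Q n)
      (π : ∀ n : ℕ, K.truncGE (-(n : ℤ)) ⟶ Q n),
      (∀ n, QuasiIso (π n) ∧ ∀ i, Mono ((π n).f i)) ∧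
      (∀ n, ∃ a : ℤ, (Q n).IsStrictlyGE a) ∧ (∀ n i, I ((Q n).X i)) ∧
      (∀ n i, (∃ s : (Q n).X i ⟶ (Q (n + 1)).X i, s ≫ (p n).f i = 𝟙 _) ∧
        I (kernel ((p n).f i))) ∧
      (∀ n : ℕ, K.πTruncGE (-((n + 1 : ℕ) : ℤ)) ≫ π (n + 1) ≫ p n =
        K.πTruncGE (-(n : ℤ)) ≫ π n) :=
  ⟨fun n => (stage I hI0 hIprod hI K n).Q,
    fun n => pmap I hI0 hIprod hI K (stage I hI0 hIprod hI K n),
    fun n => (stage I hI0 hIprod hI K n).π,
    fun n => ⟨(stage I hI0 hIprod hI K n).qi, (stage I hI0 hIprod hI K n).mono⟩,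
    fun n => (stage I hI0 hIprod hI K n).bdd,
    fun n => (stage I hI0 hIprod hI K n).mem,
    fun n => (pmap_spec I hI0 hIprod hI K (stage I hI0 hIprod hI K n)).1,
    fun n => (pmap_spec I hI0 hIprod hI K (stage I hI0 hIprod hI K n)).2⟩

end system

end Groth.Agent.Lib.Helper6.InvSys
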