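import Mathlib
import Groth.Agent.Lib.Helper6.InvSys
import Groth.Agent.Lib.Helper6.CochainDual

/-!
# Special direct systems of left resolutions (helper6 library)

* `exists_tower_system`: `InvSys.exists_system` for an arbitrary tower of bounded below complexes;
* `exists_direct_system`: the dual statement (through the opposite category): for a direct system
  `N 0 ⟶ N 1 ⟶ …` of bounded above complexes and a class `P` of objects (closed under
  isomorphisms and binary sums, containing a zero object, every object a quotient of a member),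
  a direct system `Q 0 ⟶ Q 1 ⟶ …` of bounded above complexes with terms in `P`, termwise split
  injective transition maps with cokernels in `P`, and compatible termwise epimorphic
  quasi-isomorphisms `Q n ⟶ N n`.
-/

set_option autoImplicit false
universe v u
open CategoryTheory CategoryTheory.Limits Opposite

namespace Groth.Agent.Lib.Helper6.LeftSys

open Groth.Agent.Lib.Helper6

section tower

variable {B : Type u} [Category.{v} B] [Abelian B]
  (I : ObjectProperty B) [I.IsClosedUnderIsomorphisms]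
  (hI0 : ∃ Z : B, IsZero Z ∧ I Z) (hIprod : ∀ X Y : B, I X → I Y → I (X ⊞ Y))
  (hI : ∀ X : B, ∃ (Y : B) (ι : X ⟶ Y), I Y ∧ Mono ι)
  (M : ℕ → CochainComplex B ℤ) (t : ∀ n, M (n + 1) ⟶ M n)
  (hM : ∀ n, ∃ a : ℤ, (M n).IsStrictlyGE a)

/-- a stage of the inverse system -/
structure Stage (n : ℕ) where
  Q : CochainComplex B ℤ
  π : M n ⟶ Q
  qi : QuasiIso π
  mono : ∀ i, Mono (π.f i)
  bdd : ∃ a : ℤ, Q.IsStrictlyGE a
  mem : ∀ i, I (Q.X i)

include hI0 hI hM in
lemma nonempty_stage_zero : Nonempty (Stage I M 0) := by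
  obtain ⟨a, ha⟩ := hM 0
  obtain ⟨L, α, hL, hLI, hmono, hqi⟩ := ClassRes.exists_right_resolution I hI0 hI (M 0) a
  exact ⟨⟨L, α, hqi, hmono, ⟨_, hL⟩, hLI⟩⟩

include hI0 hIprod hI hM in
lemma next_exists {n : ℕ} (s : Stage I M n) :
    ∃ (s' : Stage I M (n + 1)) (p : s'.Q ⟶ s.Q),
      (∀ i, (∃ σ : s.Q.X i ⟶ s'.Q.X i, σ ≫ p.f i = 𝟙 _) ∧ I (kernel (p.f i))) ∧
      s'.π ≫ p = t n ≫ s.π := by
  obtain ⟨a₀, ha₀⟩ := s.bdd
  obtain ⟨a₁, ha₁⟩ := hM (n + 1)
  have h1 : s.Q.IsStrictlyGE (min a₀ a₁) := s.Q.isStrictlyGE_of_ge _ a₀ (min_le_left _ _)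
  have h2 : (M (n + 1)).IsStrictlyGE (min a₀ a₁) :=
    (M (n + 1)).isStrictlyGE_of_ge _ a₁ (min_le_right _ _)
  obtain ⟨Q', p, ψ, hQ', hQ'I, hψ, hψm, hψp, hp⟩ :=
    InvSys.step I hI0 hIprod hI (M (n + 1)) s.Q (min a₀ a₁) s.mem (t n ≫ s.π)
  exact ⟨⟨Q', ψ, hψ, hψm, ⟨_, hQ'⟩, hQ'I⟩, p, hp, hψp⟩

/-- the next stage -/
noncomputable def next {n : ℕ} (s : Stage I M n) : Stage I M (n + 1) :=
  (next_exists I hI0 hIprod hI M t hM s).choose

/-- the transition map -/
noncomputable def pmap {n : ℕ} (s : Stage I M n) : (next I hI0 hIprod hI M t hM s).Q ⟶ s.Q :=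
  (next_exists I hI0 hIprod hI M t hM s).choose_spec.choose

lemma pmap_spec {n : ℕ} (s : Stage I M n) :
    (∀ i, (∃ σ : s.Q.X i ⟶ (next I hI0 hIprod hI M t hM s).Q.X i,
      σ ≫ (pmap I hI0 hIprod hI M t hM s).f i = 𝟙 _) ∧
        I (kernel ((pmap I hI0 hIprod hI M t hM s).f i))) ∧
      (next I hI0 hIprod hI M t hM s).π ≫ pmap I hI0 hIprod hI M t hM s = t n ≫ s.π :=
  (next_exists I hI0 hIprod hI M t hM s).choose_spec.choose_spec

/-- all the stages -/
noncomputable def stage : ∀ n : ℕ, Stage I M n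
  | 0 => (nonempty_stage_zero I hI0 hI M hM).some
  | n + 1 => next I hI0 hIprod hI M t hM (stage n)

include hI0 hIprod hI hM in
theorem exists_tower_system :
    ∃ (Q : ℕ → CochainComplex B ℤ) (p : ∀ n, Q (n + 1) ⟶ Q n) (π : ∀ n : ℕ, M n ⟶ Q n),
      (∀ n, QuasiIso (π n) ∧ ∀ i, Mono ((π n).f i)) ∧
      (∀ n, ∃ a : ℤ, (Q n).IsStrictlyGE a) ∧ (∀ n i, I ((Q n).X i)) ∧
      (∀ n i, (∃ s : (Q n).X i ⟶ (Q (n + 1)).X i, s ≫ (p n).f i = 𝟙 _) ∧
        I (kernel ((p n).f i))) ∧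
      (∀ n : ℕ, π (n + 1) ≫ p n = t n ≫ π n) :=
  ⟨fun n => (stage I hI0 hIprod hI M t hM n).Q,
    fun n => pmap I hI0 hIprod hI M t hM (stage I hI0 hIprod hI M t hM n),
    fun n => (stage I hI0 hIprod hI M t hM n).π,
    fun n => ⟨(stage I hI0 hIprod hI M t hM n).qi, (stage I hI0 hIprod hI M t hM n).mono⟩,
    fun n => (stage I hI0 hIprod hI M t hM n).bdd,
    fun n => (stage I hI0 hIprod hI M t hM n).mem,
    fun n => (pmap_spec I hI0 hIprod hI M t hM (stage I hI0 hIprod hI M t hM n)).1,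
    fun n => (pmap_spec I hI0 hIprod hI M t hM (stage I hI0 hIprod hI M t hM n)).2⟩

end tower

section dual

open CochainDual

variable {A : Type u} [Category.{v} A] [Abelian A]

/-- the opposite class of objects -/
def Pop (P : ObjectProperty A) : ObjectProperty Aᵒᵖ := fun X => P X.unop

instance (P : ObjectProperty A) [P.IsClosedUnderIsomorphisms] :
    (Pop P).IsClosedUnderIsomorphisms :=
  ⟨fun {X Y} e h => P.prop_of_iso e.unop.symm h⟩

/-- the biproduct in the opposite category -/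
noncomputable def unopBiprodIso (X Y : Aᵒᵖ) : (X ⊞ Y).unop ≅ X.unop ⊞ Y.unop where
  hom := biprod.lift (biprod.inl : X ⟶ X ⊞ Y).unop (biprod.inr : Y ⟶ X ⊞ Y).unop
  inv := biprod.desc (biprod.fst : X ⊞ Y ⟶ X).unop (biprod.snd : X ⊞ Y ⟶ Y).unop
  hom_inv_id := by
    rw [biprod.lift_desc, ← unop_comp, ← unop_comp, ← unop_add, biprod.total]
    rfl
  inv_hom_id := by
    apply biprod.hom_ext' <;> apply biprod.hom_ext
    · simp only [biprod.inl_desc_assoc, Category.assoc, biprod.lift_fst, Category.comp_id,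
        biprod.inl_fst]
      rw [← unop_comp, biprod.inl_fst]; rfl
    · simp only [biprod.inl_desc_assoc, Category.assoc, biprod.lift_snd, biprod.inl_snd,
        Category.comp_id]
      rw [← unop_comp, biprod.inr_fst]; rfl
    · simp only [biprod.inr_desc_assoc, Category.assoc, biprod.lift_fst, biprod.inr_fst,
        Category.comp_id]
      rw [← unop_comp, biprod.inl_snd]; rfl
    · simp only [biprod.inr_desc_assoc, Category.assoc, biprod.lift_snd, Category.comp_id,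
        biprod.inr_snd]
      rw [← unop_comp, biprod.inr_snd]; rfl

variable (P : ObjectProperty A) [P.IsClosedUnderIsomorphisms]
  (hP0 : ∃ Z : A, IsZero Z ∧ P Z) (hPsum : ∀ X Y : A, P X → P Y → P (X ⊞ Y))
  (hP : ∀ X : A, ∃ (Y : A) (π : Y ⟶ X), P Y ∧ Epi π)
  (N : ℕ → CochainComplex A ℤ) (j : ∀ n, N n ⟶ N (n + 1))
  (hN : ∀ n, ∃ b : ℤ, (N n).IsStrictlyLE b)

include hP0 hPsum hP hN in
theorem exists_direct_system :
    ∃ (Q : ℕ → CochainComplex A ℤ) (ι : ∀ n, Q n ⟶ Q (n + 1)) (π : ∀ n : ℕ, Q n ⟶ N n),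
      (∀ n, QuasiIso (π n) ∧ ∀ i, Epi ((π n).f i)) ∧
      (∀ n, ∃ b : ℤ, (Q n).IsStrictlyLE b) ∧ (∀ n i, P ((Q n).X i)) ∧
      (∀ n i, (∃ r : (Q (n + 1)).X i ⟶ (Q n).X i, (ι n).f i ≫ r = 𝟙 _) ∧
        P (cokernel ((ι n).f i))) ∧
      (∀ n : ℕ, ι n ≫ π (n + 1) = π n ≫ j n) := by
  have hI0 : ∃ Z : Aᵒᵖ, IsZero Z ∧ Pop P Z := by
    obtain ⟨Z, hZ, hPZ⟩ := hP0
    exact ⟨op Z, hZ.op, hPZ⟩
  have hIprod : ∀ X Y : Aᵒᵖ, Pop P X → Pop P Y → Pop P (X ⊞ Y) := fun X Y hX hY =>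
    P.prop_of_iso (unopBiprodIso X Y).symm (hPsum _ _ hX hY)
  have hI : ∀ X : Aᵒᵖ, ∃ (Y : Aᵒᵖ) (ι : X ⟶ Y), Pop P Y ∧ Mono ι := fun X => by
    obtain ⟨Y, π, hY, hπ⟩ := hP X.unop
    exact ⟨op Y, π.op, hY, inferInstance⟩
  have hM : ∀ n, ∃ a : ℤ, (dual (N n)).IsStrictlyGE a := fun n => by
    obtain ⟨b, hb⟩ := hN n
    exact ⟨-b, isStrictlyGE_dual (N n) b⟩
  obtain ⟨Q', p', π', h1, h2, h3, h4, h5⟩ :=
    exists_tower_system (Pop P) hI0 hIprod hI (fun n => dual (N n)) (fun n => dualMap (j n)) hM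
  refine ⟨fun n => undual (Q' n), fun n => undualMap (p' n),
    fun n => undualMap (π' n) ≫ (undualDualIso (N n)).hom, fun n => ⟨?_, fun i => ?_⟩,
    fun n => ?_, fun n i => h3 n (-i), fun n i => ⟨?_, ?_⟩, fun n => ?_⟩
  · have : QuasiIso (undualMap (π' n)) := (quasiIso_undualMap_iff _).2 (h1 n).1
    infer_instance
  · have : Mono ((π' n).f (-i)) := (h1 n).2 (-i)
    have : Epi ((undualMap (π' n)).f i) := by
      change Epi ((π' n).f (-i)).unop
      infer_instance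
    rw [HomologicalComplex.comp_f]
    infer_instance
  · obtain ⟨a, ha⟩ := h2 n
    exact ⟨-a, isStrictlyLE_undual (Q' n) a (-a) rfl⟩
  · obtain ⟨s, hs⟩ := (h4 n (-i)).1
    refine ⟨s.unop, ?_⟩
    change ((p' n).f (-i)).unop ≫ s.unop = 𝟙 _
    rw [← unop_comp, hs]
    rfl
  · exact P.prop_of_iso (cokernelUnopUnop ((p' n).f (-i))).symm (h4 n (-i)).2
  · change undualMap (p' n) ≫ undualMap (π' (n + 1)) ≫ (undualDualIso (N (n + 1))).hom =
      (undualMap (π' n) ≫ (undualDualIso (N n)).hom) ≫ j n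
    rw [← Category.assoc, ← undualMap_comp, h5 n, undualMap_comp, Category.assoc,
      undualDualIso_hom_naturality, Category.assoc]

end dual

section trans

variable {A : Type u} [Category.{v} A] [Abelian A]

lemma exists_trans_LE (K : CochainComplex A ℤ) (a b : ℤ) (hab : a ≤ b) :
    ∃ t : K.truncLE a ⟶ K.truncLE b, t ≫ K.ιTruncLE b = K.ιTruncLE a := by
  have h1 : (K.truncLE a).IsStrictlyLE b := (K.truncLE a).isStrictlyLE_of_le a b hab
  have h2 : IsIso ((K.truncLE a).ιTruncLE b) := (CochainComplex.isIso_ιTruncLE_iff _ _).2 h1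
  refine ⟨inv ((K.truncLE a).ιTruncLE b) ≫ CochainComplex.truncLEMap (K.ιTruncLE a) b, ?_⟩
  rw [Category.assoc, CochainComplex.ιTruncLE_naturality, IsIso.inv_hom_id_assoc]

end trans

end Groth.Agent.Lib.Helper6.LeftSys
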