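import Mathlib
import Groth.Agent.Lib.Helper6.LeftSys
import Groth.Agent.Lib.Helper6.SigmaGE
import Groth.Agent.Lib.Helper6.InjRes

/-!
# Direct systems of left resolutions of the truncations `τ_{≤ n+1} G` and their colimit
(helper6 library)

* `acyclic_colimit`: a sequential colimit of acyclic complexes is acyclic (exact `ℕ`-colimits);
* `quasiIso_colimMap`: a sequential colimit of termwise epimorphic quasi-isomorphisms is a
  quasi-isomorphism;
* `isIso_ιTruncLE_f`, `truncFunctor`, `truncCocone`, `isColimitTruncCocone`: a complex is the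
  colimit of its canonical truncations `τ_{≤ n+1}`;
* `exists_left_system`: Stacks-style direct system of `P`-resolutions `K_n ⟶ τ_{≤ n+1} G` with
  `colim K_n ⟶ G` a quasi-isomorphism.
-/

set_option autoImplicit false
universe v u
open CategoryTheory CategoryTheory.Limits Opposite

namespace Groth.Agent.Lib.Helper6.LeftSysColim

open Groth.Agent.Lib.Helper6 HomologicalComplex

variable {A : Type u} [Category.{v} A] [Abelian A]

section general

lemma exact_of_pointwise {J : Type*} [Category J] (S : ShortComplex (J ⥤ A))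
    (h : ∀ j, (S.map ((evaluation J A).obj j)).Exact) : S.Exact := by
  rw [ShortComplex.exact_iff_isZero_homology, Functor.isZero_iff]
  intro j
  have h1 := h j
  rw [ShortComplex.exact_iff_isZero_homology] at h1
  exact h1.of_iso (S.mapHomologyIso ((evaluation J A).obj j)).symm

lemma quasiIso_g_of_acyclic_X₁ {S : ShortComplex (CochainComplex A ℤ)} (hS : S.ShortExact)
    (h₁ : S.X₁.Acyclic) : QuasiIso S.g := by
  simp only [acyclic_iff, exactAt_iff_isZero_homology] at h₁
  rw [quasiIso_iff]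
  intro i
  rw [quasiIsoAt_iff_isIso_homologyMap]
  have hm : Mono (homologyMap S.g i) :=
    (hS.homology_exact₂ i).mono_g ((h₁ i).eq_of_src _ _)
  have he : Epi (homologyMap S.g i) :=
    (hS.homology_exact₃ i (i + 1) (by simp)).epi_f ((h₁ _).eq_of_tgt _ _)
  exact isIso_of_mono_of_epi _

end general

section colim

variable [HasColimitsOfShape ℕ A] [HasExactColimitsOfShape ℕ A]

theorem acyclic_of_isColimit {G : ℕ ⥤ CochainComplex A ℤ} (c : Cocone G) (hc : IsColimit c)
    (h : ∀ j, (G.obj j).Acyclic) : c.pt.Acyclic := by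
  intro n
  let i := (ComplexShape.up ℤ).prev n
  let k := (ComplexShape.up ℤ).next n
  let S : ShortComplex (ℕ ⥤ A) :=
    ShortComplex.mk (X₁ := G ⋙ eval A (ComplexShape.up ℤ) i)
      (X₂ := G ⋙ eval A (ComplexShape.up ℤ) n)
      (X₃ := G ⋙ eval A (ComplexShape.up ℤ) k)
      { app := fun j => (G.obj j).d i n
        naturality := fun j j' φ => ((G.map φ).comm i n) }
      { app := fun j => (G.obj j).d n k
        naturality := fun j j' φ => ((G.map φ).comm n k) }
      (by ext j; exact (G.obj j).d_comp_d i n k)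
  have hS : S.Exact := exact_of_pointwise S (fun j => h j n)
  exact colim.exact_mapShortComplex (S := S) hS
    (isColimitOfPreserves (eval A (ComplexShape.up ℤ) i) hc)
    (isColimitOfPreserves (eval A (ComplexShape.up ℤ) n) hc)
    (isColimitOfPreserves (eval A (ComplexShape.up ℤ) k) hc)
    (c.pt.d i n) (c.pt.d n k)
    (fun j => (c.ι.app j).comm i n) (fun j => (c.ι.app j).comm n k)

theorem quasiIso_colimMap {Kc T : ℕ ⥤ CochainComplex A ℤ} (π : Kc ⟶ T)
    (h1 : ∀ n, QuasiIso (π.app n)) (h2 : ∀ n i, Epi ((π.app n).f i)) :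
    QuasiIso (colimMap π) := by
  have hepi : ∀ n, Epi (π.app n) := fun n => HomologicalComplex.epi_of_epi_f _ (h2 n)
  have : Epi π := NatTrans.epi_of_epi_app π
  let S : ShortComplex (ℕ ⥤ CochainComplex A ℤ) :=
    ShortComplex.mk (kernel.ι π) π (kernel.condition π)
  have hS : S.ShortExact :=
    { exact := ShortComplex.exact_of_f_is_kernel _ (kernelIsKernel π)
      mono_f := inferInstanceAs (Mono (kernel.ι π))
      epi_g := ‹Epi π› }
  have hS' : (S.map colim).ShortExact := hS.map_of_exact colim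
  have hN : ∀ n, ((kernel π).obj n).Acyclic := fun n => by
    have hn := hS.map_of_exact ((evaluation ℕ (CochainComplex A ℤ)).obj n)
    have : QuasiIso (S.map ((evaluation ℕ (CochainComplex A ℤ)).obj n)).g := h1 n
    exact hn.acyclic_X₁ this
  have hacyc : (colimit (kernel π)).Acyclic :=
    acyclic_of_isColimit _ (colimit.isColimit (kernel π)) hN
  exact quasiIso_g_of_acyclic_X₁ hS' hacyc

end colim

section trunc

open ComplexShape in
lemma isIso_ιTruncLE_f (K : CochainComplex A ℤ) (n i : ℤ) (hi : i < n) :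
    IsIso ((K.ιTruncLE n).f i) := by
  have hj : (embeddingUpIntLE n).op.f (n - i).natAbs = i := by
    show n - ((n - i).natAbs : ℤ) = i
    rw [Int.natAbs_of_nonneg (by lia)]; lia
  have hb : ¬ (embeddingUpIntLE n).op.BoundaryGE (n - i).natAbs := by
    rw [Embedding.op_boundaryGE_iff, boundaryLE_embeddingUpIntLE_iff]
    intro h0
    rw [Int.natAbs_eq_zero] at h0
    lia
  have := InjRes.isIso_πTruncGE_f_of_not_boundary K.op (embeddingUpIntLE n).op hj hb
  exact inferInstanceAs (IsIso ((K.op.πTruncGE (embeddingUpIntLE n).op).f i).unop)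

variable (G : CochainComplex A ℤ)

/-- the transition maps `τ_{≤ n+1} G ⟶ τ_{≤ n+2} G` -/
noncomputable def tr (n : ℕ) :
    G.truncLE ((n : ℤ) + 1) ⟶ G.truncLE (((n + 1 : ℕ) : ℤ) + 1) :=
  (LeftSys.exists_trans_LE G ((n : ℤ) + 1) (((n + 1 : ℕ) : ℤ) + 1) (by push_cast; lia)).choose

@[reassoc]
lemma tr_ι (n : ℕ) : tr G n ≫ G.ιTruncLE (((n + 1 : ℕ) : ℤ) + 1) = G.ιTruncLE ((n : ℤ) + 1) :=
  (LeftSys.exists_trans_LE G ((n : ℤ) + 1) (((n + 1 : ℕ) : ℤ) + 1)
    (by push_cast; lia)).choose_spec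

/-- the sequence of truncations -/
noncomputable def truncFunctor : ℕ ⥤ CochainComplex A ℤ :=
  Functor.ofSequence (X := fun n : ℕ => G.truncLE ((n : ℤ) + 1)) (tr G)

/-- the cocone of the truncations -/
noncomputable def truncCocone : Cocone (truncFunctor G) where
  pt := G
  ι := NatTrans.ofSequence (F := truncFunctor G) (G := (Functor.const ℕ).obj G)
    (fun n => G.ιTruncLE ((n : ℤ) + 1))
    (fun n => by
      simp only [truncFunctor, Functor.ofSequence_map_homOfLE_succ, Functor.const_obj_obj,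
        Functor.const_obj_map, Category.comp_id]
      exact tr_ι G n)

lemma truncCocone_ι_app (n : ℕ) : (truncCocone G).ι.app n = G.ιTruncLE ((n : ℤ) + 1) := rfl

/-- a complex is the colimit of its canonical truncations -/
noncomputable def isColimitTruncCocone : IsColimit (truncCocone G) :=
  isColimitOfEval _ _ (fun i => SigmaGE.isColimitOfEventuallyIso _ i.toNat (fun k hk => by
    change IsIso ((G.ιTruncLE ((k : ℤ) + 1)).f i)
    exact isIso_ιTruncLE_f G _ i (by lia)))

end trunc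

section main

variable [HasColimitsOfShape ℕ A] [HasExactColimitsOfShape ℕ A]
  (P : ObjectProperty A) [P.IsClosedUnderIsomorphisms]
  (hP0 : ∃ Z : A, IsZero Z ∧ P Z) (hPsum : ∀ X Y : A, P X → P Y → P (X ⊞ Y))
  (hP : ∀ X : A, ∃ (Y : A) (π : Y ⟶ X), P Y ∧ Epi π) (G : CochainComplex A ℤ)

include hP0 hPsum hP in
theorem exists_left_system :
    ∃ (Kc : ℕ ⥤ CochainComplex A ℤ) (π : ∀ n : ℕ, Kc.obj n ⟶ G.truncLE ((n : ℤ) + 1)),
      (∀ n : ℕ, Kc.map (homOfLE (Nat.le_succ n)) ≫ π (n + 1) ≫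
          G.ιTruncLE (((n + 1 : ℕ) : ℤ) + 1) = π n ≫ G.ιTruncLE ((n : ℤ) + 1)) ∧
      (∀ n : ℕ, QuasiIso (π n) ∧ ∀ i : ℤ, Epi ((π n).f i)) ∧
      (∀ n : ℕ, ∃ b : ℤ, (Kc.obj n).IsStrictlyLE b) ∧
      (∀ (n : ℕ) (i : ℤ), P ((Kc.obj n).X i)) ∧
      (∀ (n : ℕ) (i : ℤ), ∃ r : (Kc.obj (n + 1)).X i ⟶ (Kc.obj n).X i,
        (Kc.map (homOfLE (Nat.le_succ n))).f i ≫ r = 𝟙 _ ∧
          P (cokernel ((Kc.map (homOfLE (Nat.le_succ n))).f i))) ∧
      ∃ c : colimit Kc ⟶ G,
        (∀ n : ℕ, colimit.ι Kc n ≫ c = π n ≫ G.ιTruncLE ((n : ℤ) + 1)) ∧ QuasiIso c := by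
  obtain ⟨Q, ι, π, h1, h2, h3, h4, h5⟩ :=
    LeftSys.exists_direct_system P hP0 hPsum hP (fun n : ℕ => G.truncLE ((n : ℤ) + 1)) (tr G)
      (fun n => ⟨(n : ℤ) + 1, inferInstance⟩)
  have hmap : ∀ n : ℕ, (Functor.ofSequence ι).map (homOfLE (Nat.le_succ n)) = ι n :=
    fun n => Functor.ofSequence_map_homOfLE_succ ι n
  let πn : Functor.ofSequence ι ⟶ truncFunctor G :=
    NatTrans.ofSequence (F := Functor.ofSequence ι) (G := truncFunctor G) π (fun n => by
      simp only [truncFunctor, Functor.ofSequence_map_homOfLE_succ]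
      exact h5 n)
  have hq : QuasiIso (colimMap πn) :=
    quasiIso_colimMap πn (fun n => (h1 n).1) (fun n => (h1 n).2)
  let e : colimit (truncFunctor G) ≅ G :=
    IsColimit.coconePointUniqueUpToIso (colimit.isColimit _) (isColimitTruncCocone G)
  refine ⟨Functor.ofSequence ι, π, fun n => ?_, h1, h2, h3, fun n i => ?_,
    colimMap πn ≫ e.hom, fun n => ?_, inferInstance⟩
  · rw [hmap]
    have h := congrArg (fun f => f ≫ G.ιTruncLE (((n + 1 : ℕ) : ℤ) + 1)) (h5 n)
    simp only [Category.assoc] at h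
    exact h.trans (by rw [tr_ι]; rfl)
  · rw [hmap]
    obtain ⟨r, hr⟩ := (h4 n i).1
    exact ⟨r, hr, (h4 n i).2⟩
  · rw [ι_colimMap_assoc]
    have : colimit.ι (truncFunctor G) n ≫ e.hom = (truncCocone G).ι.app n :=
      IsColimit.comp_coconePointUniqueUpToIso_hom _ _ _
    rw [this]
    rfl

end main

end Groth.Agent.Lib.Helper6.LeftSysColim
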