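import Mathlib
import Groth.Prelude.Def_CohDer
import Groth.Agent.Lib.Helper6.Compact
import Groth.Agent.Lib.Helper6.CompactGen
import Groth.Agent.Lib.Helper6.CoyonedaCoprod
import Groth.Agent.Lib.Helper6.CountableCoprod
import Groth.Agent.Lib.Helper6.SigmaGE
import Groth.Agent.Lib.Helper6.LeftSysColim
import Groth.Agent.Lib.Helper6.ClassResInt
import Groth.Agent.S0985

/-!
# Compact objects of `D(A)` are retracts of bounded complexes of finite sums of generators (helper6)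
-/

set_option autoImplicit false
set_option linter.unusedSectionVars false
set_option linter.style.haveILetI false

universe w v u

namespace Groth.Agent.Lib.Helper6.CompactRetract

open CategoryTheory CategoryTheory.Limits Opposite HomologicalComplex

section Idem

variable {A : Type u} [Category.{v} A] [Preadditive A] [HasFiniteBiproducts A]
  {Λ : Type w} (E : Λ → A) [HasCoproduct E] {n : ℕ} (σ : Fin n → Λ)

/-- inclusion of a finite sub-sum -/
noncomputable def iσ : (⨁ fun k => E (σ k)) ⟶ ∐ E := biproduct.desc (fun k => Sigma.ι E (σ k))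

/-- projection to a finite sub-sum -/
noncomputable def qσ : ∐ E ⟶ (⨁ fun k => E (σ k)) := by
  classical
  exact biproduct.lift (fun k => Sigma.π E (σ k))

variable {σ}

lemma ι_qσ (hσ : Function.Injective σ) (k : Fin n) :
    Sigma.ι E (σ k) ≫ qσ E σ = biproduct.ι (fun k => E (σ k)) k := by
  classical
  refine biproduct.hom_ext _ _ fun l => ?_
  unfold qσ
  rw [Category.assoc, biproduct.lift_π]
  by_cases h : k = l
  · subst h
    rw [Sigma.ι_π_eq_id, biproduct.ι_π_self]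
  · rw [Sigma.ι_π_of_ne E (fun h' => h (hσ h')), biproduct.ι_π_ne _ h]

lemma ι_qσ_of_not_mem (l : Λ) (hl : ∀ k, σ k ≠ l) : Sigma.ι E l ≫ qσ E σ = 0 := by
  classical
  refine biproduct.hom_ext _ _ fun k => ?_
  unfold qσ
  rw [Category.assoc, biproduct.lift_π, Limits.zero_comp, Sigma.ι_π_of_ne E (fun h => hl k h.symm)]

lemma iσ_qσ (hσ : Function.Injective σ) : iσ E σ ≫ qσ E σ = 𝟙 _ := by
  refine biproduct.hom_ext' _ _ fun k => ?_
  unfold iσ
  rw [biproduct.ι_desc_assoc, ι_qσ E hσ, Category.comp_id]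

/-- the complementary idempotent -/
noncomputable def fσ (σ : Fin n → Λ) : ∐ E ⟶ ∐ E := 𝟙 _ - qσ E σ ≫ iσ E σ

lemma ι_fσ (hσ : Function.Injective σ) (k : Fin n) : Sigma.ι E (σ k) ≫ fσ E σ = 0 := by
  unfold fσ
  rw [Preadditive.comp_sub, Category.comp_id, ← Category.assoc, ι_qσ E hσ]
  unfold iσ
  rw [biproduct.ι_desc, sub_self]

lemma ι_fσ_of_not_mem (l : Λ) (hl : ∀ k, σ k ≠ l) : Sigma.ι E l ≫ fσ E σ = Sigma.ι E l := by
  unfold fσ
  rw [Preadditive.comp_sub, Category.comp_id, ← Category.assoc, ι_qσ_of_not_mem E l hl,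
    Limits.zero_comp, sub_zero]

lemma iσ_fσ (hσ : Function.Injective σ) : iσ E σ ≫ fσ E σ = 0 := by
  refine biproduct.hom_ext' _ _ fun k => ?_
  unfold iσ
  rw [biproduct.ι_desc_assoc, ι_fσ E hσ, Limits.comp_zero]

lemma fσ_idem (hσ : Function.Injective σ) : fσ E σ ≫ fσ E σ = fσ E σ := by
  have h : (𝟙 (∐ E) - qσ E σ ≫ iσ E σ) ≫ fσ E σ = fσ E σ := by
    rw [Preadditive.sub_comp, Category.id_comp, Category.assoc, iσ_fσ E hσ, Limits.comp_zero,
      sub_zero]
  exact h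

end Idem

section Kill

variable {A : Type u} [Category.{v} A] [Abelian A]
  (L : CochainComplex A ℤ) (c : ℤ) {Y₂ : A} (p : L.X c ⟶ Y₂) (hp : L.d (c - 1) c ≫ p = 0)

/-- the chain map to a single complex -/
noncomputable def πK : L ⟶ (single A (ComplexShape.up ℤ) c).obj Y₂ :=
  mkHomToSingle p (fun i hi => by
    obtain rfl : i = c - 1 := by
      simp only [ComplexShape.up_Rel] at hi
      omega
    exact hp)

lemma πK_f : (πK L c p hp).f c = p ≫ (singleObjXSelf (ComplexShape.up ℤ) c Y₂).inv :=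
  mkHomToSingle_f _ _

/-- the modified complex -/
noncomputable def LK : CochainComplex A ℤ := kernel (πK L c p hp)

/-- its inclusion -/
noncomputable def ιK : LK L c p hp ⟶ L := kernel.ι _

lemma ιK_πK : ιK L c p hp ≫ πK L c p hp = 0 := kernel.condition _

lemma isIso_ιK_f (i : ℤ) (hi : i ≠ c) : IsIso ((ιK L c p hp).f i) := by
  have hz : (eval A (ComplexShape.up ℤ) i).map (πK L c p hp) = 0 :=
    (isZero_single_obj_X (ComplexShape.up ℤ) c Y₂ i hi).eq_of_tgt _ _
  have h1 : (ιK L c p hp).f i =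
      (PreservesKernel.iso (eval A (ComplexShape.up ℤ) i) (πK L c p hp)).hom ≫
      kernel.ι ((eval A (ComplexShape.up ℤ) i).map (πK L c p hp)) := by
    rw [PreservesKernel.iso_hom]
    exact (kernelComparison_comp_ι (πK L c p hp) (eval A (ComplexShape.up ℤ) i)).symm
  rw [h1]
  exact IsIso.comp_isIso' (Iso.isIso_hom _) (SigmaGE.isIso_kernel_ι_of_eq_zero _ hz)

/-- in degree `c` the modified complex is the complementary summand -/
lemma nonempty_iso_LK_X {Y₁ : A} (i₁ : Y₁ ⟶ L.X c) (q₁ : L.X c ⟶ Y₁) (j₂ : Y₂ ⟶ L.X c)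
    (h1 : i₁ ≫ q₁ = 𝟙 _) (h2 : i₁ ≫ p = 0) (h3 : q₁ ≫ i₁ = 𝟙 _ - p ≫ j₂) :
    Nonempty ((LK L c p hp).X c ≅ Y₁) := by
  let g : L.X c ⟶ ((single A (ComplexShape.up ℤ) c).obj Y₂).X c := (πK L c p hp).f c
  haveI : HasKernel g := inferInstance
  let e0 : (LK L c p hp).X c ≅ kernel g :=
    PreservesKernel.iso (eval A (ComplexShape.up ℤ) c) (πK L c p hp)
  have hg : g = p ≫ (singleObjXSelf (ComplexShape.up ℤ) c Y₂).inv := πK_f L c p hp
  have hk : kernel.ι g ≫ p = 0 := by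
    have h0 : kernel.ι g ≫ g = 0 := kernel.condition g
    rw [← cancel_mono (singleObjXSelf (ComplexShape.up ℤ) c Y₂).inv, Category.assoc, ← hg, h0,
      Limits.zero_comp]
  have hi : i₁ ≫ g = 0 := by rw [hg, ← Category.assoc, h2, Limits.zero_comp]
  let e : kernel g ≅ Y₁ :=
    { hom := kernel.ι g ≫ q₁
      inv := kernel.lift g i₁ hi
      hom_inv_id := by
        rw [← cancel_mono (kernel.ι g), Category.assoc, kernel.lift_ι, Category.assoc, h3,
          Preadditive.comp_sub, Category.comp_id, ← Category.assoc, hk, Limits.zero_comp, sub_zero,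
          Category.id_comp]
      inv_hom_id := by rw [← Category.assoc, kernel.lift_ι, h1] }
  exact ⟨e0 ≪≫ e⟩

lemma epi_πK (j₂ : Y₂ ⟶ L.X c) (h : j₂ ≫ p = 𝟙 _) : Epi (πK L c p hp) := by
  haveI : ∀ i, Epi ((πK L c p hp).f i) := by
    intro i
    by_cases hi : i = c
    · subst hi
      rw [πK_f]
      haveI : Epi p := SplitEpi.epi ⟨j₂, h⟩
      infer_instance
    · exact ⟨fun {Z} a b _ => (isZero_single_obj_X (ComplexShape.up ℤ) c Y₂ i hi).eq_of_src a b⟩
  exact epi_of_epi_f (πK L c p hp) this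

lemma shortExact (j₂ : Y₂ ⟶ L.X c) (h : j₂ ≫ p = 𝟙 _) :
    (ShortComplex.mk (ιK L c p hp) (πK L c p hp) (ιK_πK L c p hp)).ShortExact := by
  haveI := epi_πK L c p hp j₂ h
  haveI : Mono (ιK L c p hp) := inferInstanceAs (Mono (kernel.ι _))
  refine ShortComplex.ShortExact.mk' ?_ inferInstance inferInstance
  exact ShortComplex.exact_of_f_is_kernel _ (kernelIsKernel (πK L c p hp))

end Kill

section KillComp

variable {A : Type u} [Category.{v} A] [Abelian A]
  (L : CochainComplex A ℤ) (c : ℤ)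

lemma πK_comp_single_map {Y₂ Y₃ : A} (p : L.X c ⟶ Y₂) (hp : L.d (c - 1) c ≫ p = 0) (m : Y₂ ⟶ Y₃)
    (hp' : L.d (c - 1) c ≫ p ≫ m = 0) :
    πK L c p hp ≫ (single A (ComplexShape.up ℤ) c).map m = πK L c (p ≫ m) hp' := by
  apply to_single_hom_ext
  rw [comp_f, πK_f, πK_f, single_map_f_self, Category.assoc, Iso.inv_hom_id_assoc, Category.assoc]

end KillComp

section Preserve

variable {A : Type u} [Category.{v} A] {D : Type*} [Category.{v} D] [Preadditive D]
  [HasCoproducts.{v} D]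

lemma exists_finset_of_compact_of_preserves {Λ : Type v} (E : Λ → A) [HasCoproduct E]
    (G : A ⥤ D) [PreservesColimit (Discrete.functor E) G]
    {K : D} (hK : CohDer.IsCompactObject K) (φ : K ⟶ G.obj (∐ E)) :
    ∃ (s : Finset Λ) (ψ : ∀ l, K ⟶ G.obj (E l)), φ = ∑ l ∈ s, ψ l ≫ G.map (Sigma.ι E l) := by
  let θ := sigmaComparison G E
  haveI : IsIso θ := inferInstance
  obtain ⟨s, ψ, h⟩ := exists_finset_of_isCompactObject hK (fun l => G.obj (E l)) (φ ≫ inv θ)
  refine ⟨s, ψ, ?_⟩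
  have h' := congrArg (fun x => x ≫ θ) h
  simp only [Category.assoc, IsIso.inv_hom_id, Category.comp_id, Preadditive.sum_comp] at h'
  rw [h']
  refine Finset.sum_congr rfl fun l _ => ?_
  rw [ι_comp_sigmaComparison]

end Preserve

section Main

open DerivedCategory

variable {A : Type u} [Category.{v} A] [Abelian A] [IsGrothendieckAbelian.{v} A]
  [HasCoproducts.{v} A] [HasFiniteBiproducts A]
  [HasDerivedCategory.{v} A] [HasCoproducts.{v} (DerivedCategory A)]

lemma exactNat : HasExactColimitsOfShape ℕ A := CountableCoprod.hasExactColimitsOfShape_nat A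

lemma exactDiscNat : HasExactColimitsOfShape (Discrete ℕ) A := by
  haveI := exactNat (A := A)
  haveI : CountableAB4 A := CountableAB4.of_countableAB5 A
  infer_instance

lemma exactDisc (J : Type v) : HasExactColimitsOfShape (Discrete J) A := by
  haveI : AB4OfSize.{v} A := AB4.of_AB5 A
  infer_instance

/-- a map from a compact object to `Q` of a sequential colimit of complexes factors through
a finite stage -/
lemma exists_factor_colimit (G : ℕ ⥤ CochainComplex A ℤ) (c : Cocone G) (hc : IsColimit c)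
    {K : DerivedCategory A} (hK : CohDer.IsCompactObject K) (ψ : K ⟶ Q.obj c.pt) :
    ∃ (N : ℕ) (ψ' : K ⟶ Q.obj (G.obj N)), ψ = ψ' ≫ Q.map (c.ι.app N) := by
  haveI := exactNat (A := A)
  haveI := exactDiscNat (A := A)
  haveI := hasCoproductsOfShape_of_small.{v} (DerivedCategory A) ℕ
  have hH := Groth.Agent.S0985.result G
  let e := hc.coconePointUniqueUpToIso (colimit.isColimit G)
  obtain ⟨N, ψ', hψ'⟩ := exists_factor_of_isHocolim hH hK (ψ ≫ Q.map e.hom)
  refine ⟨N, ψ', ?_⟩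
  have h1 : colimit.ι G N ≫ e.inv = c.ι.app N :=
    IsColimit.comp_coconePointUniqueUpToIso_inv hc (colimit.isColimit G) N
  have h2 := congrArg (fun x => x ≫ Q.map e.inv) hψ'
  simp only [Category.assoc, ← Functor.map_comp, Iso.hom_inv_id, h1] at h2
  rw [CategoryTheory.Functor.map_id, Category.comp_id] at h2
  exact h2

variable (S : Set A)

/-- coproducts of members of `S` -/
def IsSum (Y : A) : Prop :=
  ∃ (ι : Type v) (E : ι → A), (∀ i, E i ∈ S) ∧ Nonempty (Y ≅ ∐ E)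

/-- finite sums of members of `S` -/
def IsFinSum (Y : A) : Prop :=
  ∃ (n : ℕ) (E : Fin n → A), (∀ j, E j ∈ S) ∧ Nonempty (Y ≅ ⨁ E)

variable {S}

lemma IsSum.of_iso {Y Y' : A} (h : IsSum S Y) (e : Y' ≅ Y) : IsSum S Y' := by
  obtain ⟨ι, E, hE, ⟨e'⟩⟩ := h
  exact ⟨ι, E, hE, ⟨e ≪≫ e'⟩⟩

lemma IsFinSum.of_iso {Y Y' : A} (h : IsFinSum S Y) (e : Y' ≅ Y) : IsFinSum S Y' := by
  obtain ⟨n, E, hE, ⟨e'⟩⟩ := h
  exact ⟨n, E, hE, ⟨e ≪≫ e'⟩⟩

lemma isSum_of_isZero {Y : A} (h : IsZero Y) : IsSum S Y := by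
  refine ⟨PEmpty, fun i => i.elim, fun i => i.elim, ⟨h.iso ?_⟩⟩
  rw [IsZero.iff_id_eq_zero]
  exact Sigma.hom_ext _ _ fun i => i.elim

lemma isFinSum_of_isZero {Y : A} (h : IsZero Y) : IsFinSum S Y := by
  refine ⟨0, fun i => i.elim0, fun i => i.elim0, ⟨h.iso ?_⟩⟩
  rw [IsZero.iff_id_eq_zero]
  exact biproduct.hom_ext' _ _ fun i => i.elim0

variable (S) in
/-- the inductive invariant -/
def HasModel (K : DerivedCategory A) (a b c : ℤ) : Prop :=
  ∃ (L : CochainComplex A ℤ) (i : K ⟶ Q.obj L) (r : Q.obj L ⟶ K), i ≫ r = 𝟙 K ∧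
    (∀ j, j < a ∨ b < j → IsZero (L.X j)) ∧ (∀ j, c ≤ j → IsSum S (L.X j)) ∧
    (∀ j, j < c → IsFinSum S (L.X j))

lemma exists_base (h1 : ∀ X : A, ∃ (ι : Type v) (E : ι → A) (π : ∐ E ⟶ X), (∀ i, E i ∈ S) ∧ Epi π)
    (K : DerivedCategory A) (hK : CohDer.IsCompactObject K) :
    ∃ a b : ℤ, HasModel S K a b a := by
  haveI := exactNat (A := A)
  let K' := Q.objPreimage K
  let e0 : Q.obj K' ≅ K := Q.objObjPreimageIso K
  obtain ⟨N, ψ', hψT⟩ : ∃ (N : ℕ) (ψ' : K ⟶ Q.obj (K'.truncLE ((N : ℤ) + 1))),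
      e0.inv = ψ' ≫ Q.map (K'.ιTruncLE ((N : ℤ) + 1)) :=
    exists_factor_colimit _ (LeftSysColim.truncCocone K')
      (LeftSysColim.isColimitTruncCocone K') hK e0.inv
  let T := K'.truncLE ((N : ℤ) + 1)
  have hP0 : ∃ Z : A, IsZero Z ∧ IsSum S Z := by
    obtain ⟨Z, hZ⟩ := HasZeroObject.zero (C := A)
    exact ⟨Z, hZ, isSum_of_isZero hZ⟩
  have hP : ∀ X : A, ∃ (Y : A) (π : Y ⟶ X), IsSum S Y ∧ Epi π := by
    intro X
    obtain ⟨ι, E, π, hE, hπ⟩ := h1 X
    exact ⟨∐ E, π, ⟨ι, E, hE, ⟨Iso.refl _⟩⟩, hπ⟩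
  obtain ⟨P₁, α, hP₁le, hP₁, -, hα⟩ :=
    ClassRes.exists_left_resolution (IsSum S) hP0 hP T ((N : ℤ) + 1)
  haveI : IsIso (Q.map α) := by
    rw [isIso_Q_map_iff_quasiIso]
    exact hα
  let φ₁ : K ⟶ Q.obj P₁ := ψ' ≫ inv (Q.map α)
  obtain ⟨k, ψ'', hψM⟩ : ∃ (k : ℕ) (ψ'' : K ⟶ Q.obj (SigmaGE.M P₁ k)),
      ψ' ≫ inv (Q.map α) = ψ'' ≫ Q.map (SigmaGE.ι P₁ k) :=
    exists_factor_colimit _ (SigmaGE.cocone P₁)
      (SigmaGE.isColimitCocone P₁) hK φ₁
  refine ⟨-(k : ℤ), (N : ℤ) + 1, SigmaGE.M P₁ k, ψ'',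
    Q.map (SigmaGE.ι P₁ k) ≫ Q.map α ≫ Q.map (K'.ιTruncLE ((N : ℤ) + 1)) ≫ e0.hom, ?_, ?_, ?_, ?_⟩
  · rw [← Category.assoc, ← hψM, Category.assoc, IsIso.inv_hom_id_assoc, ← Category.assoc, ← hψT,
      Iso.inv_hom_id]
  · rintro j (hj | hj)
    · exact SigmaGE.isZero_M_X P₁ k j hj
    · by_cases hj' : j < -(k : ℤ)
      · exact SigmaGE.isZero_M_X P₁ k j hj'
      · haveI := SigmaGE.isIso_ι_f P₁ k j (by omega)
        exact IsZero.of_iso (P₁.isZero_of_isStrictlyLE ((N : ℤ) + 1) j hj)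
          (asIso ((SigmaGE.ι P₁ k).f j))
  · intro j hj
    haveI := SigmaGE.isIso_ι_f P₁ k j hj
    exact (hP₁ j).of_iso (asIso ((SigmaGE.ι P₁ k).f j))
  · intro j hj
    exact isFinSum_of_isZero (SigmaGE.isZero_M_X P₁ k j hj)

end Main

section Enum

variable {Λ : Type w}

/-- enumerate a finset -/
noncomputable def σs (s : Finset Λ) : Fin s.card → Λ := fun k => (s.equivFin.symm k).1

lemma σs_injective (s : Finset Λ) : Function.Injective (σs s) :=
  fun _ _ h => s.equivFin.symm.injective (Subtype.ext h)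

lemma σs_mem (s : Finset Λ) (k : Fin s.card) : σs s k ∈ s := (s.equivFin.symm k).2

lemma exists_σs_eq (s : Finset Λ) (l : Λ) (hl : l ∈ s) : ∃ k, σs s k = l :=
  ⟨s.equivFin ⟨l, hl⟩, by simp [σs]⟩

end Enum

section Step

open DerivedCategory

variable {A : Type u} [Category.{v} A] [Abelian A] [IsGrothendieckAbelian.{v} A]
  [HasCoproducts.{v} A] [HasFiniteBiproducts A]
  [HasDerivedCategory.{v} A] [HasCoproducts.{v} (DerivedCategory A)] {S : Set A}

lemma πK_congr (L : CochainComplex A ℤ) (c : ℤ) {Y₂ : A} {p p' : L.X c ⟶ Y₂} (h : p = p')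
    (hp : L.d (c - 1) c ≫ p = 0) (hp' : L.d (c - 1) c ≫ p' = 0) :
    πK L c p hp = πK L c p' hp' := by
  subst h
  rfl

lemma step
    (h2 : ∀ E ∈ S, ∀ ι : Type v,
      PreservesColimitsOfShape (Discrete ι) (preadditiveCoyoneda.obj (op E)))
    (K : DerivedCategory A) (hK : CohDer.IsCompactObject K) (a b c : ℤ)
    (h : HasModel S K a b c) : HasModel S K a b (c + 1) := by
  classical
  obtain ⟨L, i, r, hir, hz, hs, hf⟩ := h
  obtain ⟨Λ, E, hE, ⟨eY⟩⟩ := hs c le_rfl
  obtain ⟨n, E', hE', ⟨eP⟩⟩ := hf (c - 1) (by omega)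
  let d' : (⨁ E') ⟶ ∐ E := eP.inv ≫ L.d (c - 1) c ≫ eY.hom
  have hfin : ∀ j : Fin n, ∃ (t : Finset Λ) (γ : ∀ l, E' j ⟶ E l),
      biproduct.ι E' j ≫ d' = ∑ l ∈ t, γ l ≫ Sigma.ι E l := by
    intro j
    haveI := h2 (E' j) (hE' j) Λ
    exact CoyonedaCoprod.exists_finset_of_preserves E _
  choose t γ hγ using hfin
  let s₀ : Finset Λ := Finset.univ.biUnion t
  have claimA : ∀ (m : ℕ) (σ : Fin m → Λ) (_ : Function.Injective σ)
      (_ : ∀ l ∈ s₀, ∃ k, σ k = l), L.d (c - 1) c ≫ eY.hom ≫ fσ E σ = 0 := by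
    intro m σ hσ hs₀
    have h0 : d' ≫ fσ E σ = 0 := by
      refine biproduct.hom_ext' _ _ fun j => ?_
      rw [← Category.assoc, hγ j, Preadditive.sum_comp, Limits.comp_zero]
      refine Finset.sum_eq_zero fun l hl => ?_
      obtain ⟨k, rfl⟩ := hs₀ l (Finset.mem_biUnion.2 ⟨j, Finset.mem_univ j, hl⟩)
      rw [Category.assoc, ι_fσ E hσ, Limits.comp_zero]
    rw [← cancel_epi eP.inv, Limits.comp_zero]
    simpa only [d', Category.assoc] using h0
  -- first choice of a finite set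
  let σ₀ := σs s₀
  have hd₀ := claimA _ σ₀ (σs_injective s₀) (fun l hl => exists_σs_eq s₀ l hl)
  let π₀ := πK L c (eY.hom ≫ fσ E σ₀) hd₀
  let G : A ⥤ DerivedCategory A := single A (ComplexShape.up ℤ) c ⋙ Q
  haveI := exactDisc (A := A) Λ
  haveI : PreservesColimit (Discrete.functor E) G := inferInstance
  obtain ⟨s₁, ψ, hψ⟩ := exists_finset_of_compact_of_preserves E G hK (i ≫ Q.map π₀)
  -- second choice
  let s := s₀ ∪ s₁
  let σ := σs s
  have hσ := σs_injective s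
  have hd := claimA _ σ hσ (fun l hl => exists_σs_eq s l (Finset.mem_union_left _ hl))
  let f := fσ E σ
  let f₀ := fσ E σ₀
  have hf_of_mem : ∀ l ∈ s, Sigma.ι E l ≫ f = 0 := by
    intro l hl
    obtain ⟨k, rfl⟩ := exists_σs_eq s l hl
    exact ι_fσ E hσ k
  have hff : f₀ ≫ f = f := by
    refine Sigma.hom_ext _ _ fun l => ?_
    by_cases hl : l ∈ s₀
    · have e2 := hf_of_mem l (Finset.mem_union_left _ hl)
      obtain ⟨k₀, rfl⟩ := exists_σs_eq s₀ l hl
      have e1 : Sigma.ι E (σs s₀ k₀) ≫ f₀ = 0 := ι_fσ E (σs_injective s₀) k₀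
      rw [← Category.assoc, e1, Limits.zero_comp, e2]
    · have e1 : Sigma.ι E l ≫ f₀ = Sigma.ι E l :=
        ι_fσ_of_not_mem E l (fun k hk => hl (hk ▸ σs_mem s₀ k))
      rw [← Category.assoc, e1]
  have hvan : (i ≫ Q.map π₀) ≫ G.map f = 0 := by
    rw [hψ, Preadditive.sum_comp]
    refine Finset.sum_eq_zero fun l hl => ?_
    rw [Category.assoc, ← G.map_comp, hf_of_mem l (Finset.mem_union_right _ hl), G.map_zero,
      Limits.comp_zero]
  -- image factorisation of the idempotent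
  let Y₂ := Limits.image f
  let fac : ∐ E ⟶ Y₂ := factorThruImage f
  let m : Y₂ ⟶ ∐ E := Limits.image.ι f
  have hfm : fac ≫ m = f := image.fac f
  haveI : Epi fac := inferInstance
  haveI : Mono m := inferInstance
  have hmf : m ≫ fac = 𝟙 Y₂ := by
    have h0 : fac ≫ (m ≫ fac) ≫ m = fac ≫ 𝟙 _ ≫ m := by
      rw [Category.id_comp, Category.assoc, hfm, ← Category.assoc, hfm]
      exact fσ_idem E hσ
    exact (cancel_mono m).1 ((cancel_epi fac).1 h0)
  let p : L.X c ⟶ Y₂ := eY.hom ≫ fac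
  have hpm : p ≫ m = eY.hom ≫ f := by simp only [p, Category.assoc, hfm]
  have hp : L.d (c - 1) c ≫ p = 0 := by
    rw [← cancel_mono m, Category.assoc, hpm, Limits.zero_comp]
    exact hd
  let π' := πK L c p hp
  have hπ' : π' ≫ (single A (ComplexShape.up ℤ) c).map m = πK L c (eY.hom ≫ f) hd := by
    rw [πK_comp_single_map L c p hp m (by rw [hpm]; exact hd)]
    exact πK_congr L c hpm _ _
  have hπ₀ : π₀ ≫ (single A (ComplexShape.up ℤ) c).map f = πK L c (eY.hom ≫ f) hd := by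
    have e : (eY.hom ≫ f₀) ≫ f = eY.hom ≫ f := by rw [Category.assoc, hff]
    rw [πK_comp_single_map L c (eY.hom ≫ f₀) hd₀ f (by rw [e]; exact hd)]
    exact πK_congr L c e _ _
  have hvan' : i ≫ Q.map π' = 0 := by
    have e1 : (i ≫ Q.map π') ≫ G.map m = 0 := by
      have : Q.map π' ≫ G.map m = Q.map π₀ ≫ G.map f := by
        change Q.map π' ≫ Q.map ((single A (ComplexShape.up ℤ) c).map m) =
          Q.map π₀ ≫ Q.map ((single A (ComplexShape.up ℤ) c).map f)
        rw [← Q.map_comp, ← Q.map_comp, hπ', hπ₀]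
      rw [Category.assoc, this, ← Category.assoc]
      exact hvan
    have e2 : G.map m ≫ G.map fac = 𝟙 _ := by rw [← G.map_comp, hmf, G.map_id]
    calc i ≫ Q.map π' = (i ≫ Q.map π') ≫ G.map m ≫ G.map fac := by
          rw [e2]; exact (Category.comp_id _).symm
      _ = 0 := by rw [← Category.assoc, e1, Limits.zero_comp]
  have hj₂ : (m ≫ eY.inv) ≫ p = 𝟙 _ := by
    simp only [p, Category.assoc, Iso.inv_hom_id_assoc, hmf]
  have hSE := shortExact L c p hp (m ≫ eY.inv) hj₂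
  have hT := triangleOfSES_distinguished hSE
  obtain ⟨i', hi'⟩ := Pretriangulated.Triangle.coyoneda_exact₂ _ hT i hvan'
  have hi'' : i = i' ≫ Q.map (ιK L c p hp) := hi'
  refine ⟨LK L c p hp, i', Q.map (ιK L c p hp) ≫ r, ?_, ?_, ?_, ?_⟩
  · rw [← Category.assoc]
    exact (congrArg (fun x => x ≫ r) hi'').symm.trans hir
  · intro j hj
    haveI : Mono (ιK L c p hp) := inferInstanceAs (Mono (kernel.ι _))
    haveI : Mono ((ιK L c p hp).f j) := inferInstance
    exact IsZero.of_mono ((ιK L c p hp).f j) (hz j hj)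
  · intro j hj
    haveI := isIso_ιK_f L c p hp j (by omega)
    exact (hs j (by omega)).of_iso (asIso ((ιK L c p hp).f j))
  · intro j hj
    by_cases hjc : j = c
    · subst hjc
      have h1 : (iσ E σ ≫ eY.inv) ≫ (eY.hom ≫ qσ E σ) = 𝟙 _ := by
        simp only [Category.assoc, Iso.inv_hom_id_assoc]
        exact iσ_qσ E hσ
      have h2' : (iσ E σ ≫ eY.inv) ≫ p = 0 := by
        rw [← cancel_mono m, Category.assoc, hpm, Limits.zero_comp, Category.assoc,
          Iso.inv_hom_id_assoc]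
        exact iσ_fσ E hσ
      have h3 : (eY.hom ≫ qσ E σ) ≫ (iσ E σ ≫ eY.inv) = 𝟙 _ - p ≫ (m ≫ eY.inv) := by
        have : p ≫ m ≫ eY.inv = eY.hom ≫ f ≫ eY.inv := by
          rw [← Category.assoc, hpm, Category.assoc]
        rw [this]
        simp only [f, fσ, Preadditive.sub_comp, Preadditive.comp_sub, Category.id_comp,
          Category.assoc, Iso.hom_inv_id, sub_sub_cancel]
      obtain ⟨e⟩ := nonempty_iso_LK_X L j p hp (iσ E σ ≫ eY.inv) (eY.hom ≫ qσ E σ) (m ≫ eY.inv)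
        h1 h2' h3
      exact ⟨s.card, fun k => E (σ k), fun k => hE _, ⟨e⟩⟩
    · haveI := isIso_ιK_f L c p hp j hjc
      exact (hf j (by omega)).of_iso (asIso ((ιK L c p hp).f j))

end Step

section Final

open DerivedCategory

variable {A : Type u} [Category.{v} A] [Abelian A] [IsGrothendieckAbelian.{v} A]
  [HasCoproducts.{v} A] [HasFiniteBiproducts A]
  [HasDerivedCategory.{v} A] [HasCoproducts.{v} (DerivedCategory A)]

theorem main (S : Set A)
    (h1 : ∀ X : A, ∃ (ι : Type v) (E : ι → A) (π : ∐ E ⟶ X), (∀ i, E i ∈ S) ∧ Epi π)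
    (h2 : ∀ E ∈ S, ∀ ι : Type v,
      PreservesColimitsOfShape (Discrete ι) (preadditiveCoyoneda.obj (op E)))
    (K : DerivedCategory A) (hK : CohDer.IsCompactObject K) :
    ∃ (L : CochainComplex A ℤ) (a b : ℤ),
      (∀ i : ℤ, i < a ∨ b < i → IsZero (L.X i)) ∧
      (∀ i : ℤ, ∃ (n : ℕ) (E : Fin n → A), (∀ j, E j ∈ S) ∧ Nonempty (L.X i ≅ ⨁ E)) ∧
      Nonempty (Retract K (DerivedCategory.Q.obj L)) := by
  obtain ⟨a, b, hbase⟩ := exists_base h1 K hK
  have hall : ∀ m : ℕ, HasModel S K a b (a + m) := by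
    intro m
    induction m with
    | zero => simpa using hbase
    | succ m ih =>
      have := step h2 K hK a b _ ih
      have e : a + (m : ℤ) + 1 = a + ((m + 1 : ℕ) : ℤ) := by push_cast; ring
      rwa [e] at this
  obtain ⟨L, i, r, hir, hz, -, hf⟩ := hall (b + 1 - a).toNat
  refine ⟨L, a, b, hz, fun j => ?_, ⟨⟨i, r, hir⟩⟩⟩
  by_cases hj : j ≤ b
  · exact hf j (by omega)
  · exact isFinSum_of_isZero (hz j (Or.inr (by omega)))

end Final

end Groth.Agent.Lib.Helper6.CompactRetract
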