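import Mathlib

/-!
# Extending a natural isomorphism from a right-resolving class of complexes to `D(A)` (helper6)

Dual of `ExtNatIso`: `PX` is a class of complexes such that every complex admits a
quasi-isomorphism *to* a complex in `PX` (e.g. K-injective complexes).

* `nonempty_natIso`: a family of isomorphisms `H₁ (Q X) ≅ H₂ (Q X)`, `X ∈ PX`, natural in chain
  maps, extends to `H₁ ≅ H₂`;
* `nonempty_natIso_of_natTrans`: two functors on `D(A)` receiving natural transformations from a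
  common functor on complexes, both invertible on `PX`, are isomorphic.
-/

set_option autoImplicit false
universe w v u
open CategoryTheory CategoryTheory.Limits DerivedCategory

namespace Groth.Agent.Lib.Helper6.ExtNatIsoR

variable {A : Type u} [Category.{v} A] [Abelian A] [HasDerivedCategory.{w} A]
  {E : Type*} [Category E] (H₁ H₂ : DerivedCategory A ⥤ E)
  (PX : CochainComplex A ℤ → Prop)
  (hres : ∀ K : CochainComplex A ℤ, ∃ (Y : CochainComplex A ℤ) (f : K ⟶ Y), QuasiIso f ∧ PX Y)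
  (δ : ∀ X : CochainComplex A ℤ, PX X → (H₁.obj (Q.obj X) ≅ H₂.obj (Q.obj X)))
  (hδ : ∀ (X X' : CochainComplex A ℤ) (hX : PX X) (hX' : PX X') (f : X ⟶ X'),
    H₁.map (Q.map f) ≫ (δ X' hX').hom = (δ X hX).hom ≫ H₂.map (Q.map f))

include hres hδ in
lemma nat_of_hom (X X' : CochainComplex A ℤ) (hX : PX X) (hX' : PX X') (ψ : Q.obj X ⟶ Q.obj X') :
    H₁.map ψ ≫ (δ X' hX').hom = (δ X hX).hom ≫ H₂.map ψ := by
  obtain ⟨X₂, g, s, hs, rfl⟩ := left_fac ψ
  obtain ⟨X₃, p, hp, hX₃⟩ := hres X₂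
  have hp' : IsIso (Q.map p) := by rw [isIso_Q_map_iff_quasiIso]; exact hp
  have hps : IsIso (Q.map (s ≫ p)) := by rw [Q.map_comp]; infer_instance
  have e1 : Q.map g ≫ inv (Q.map s) = Q.map (g ≫ p) ≫ inv (Q.map (s ≫ p)) := by
    rw [IsIso.eq_comp_inv, Q.map_comp, Q.map_comp, Category.assoc, IsIso.inv_hom_id_assoc]
  have h1 := hδ X X₃ hX hX₃ (g ≫ p)
  have h2 := hδ X' X₃ hX' hX₃ (s ≫ p)
  have h2' : inv (H₁.map (Q.map (s ≫ p))) ≫ (δ X' hX').hom =
      (δ X₃ hX₃).hom ≫ inv (H₂.map (Q.map (s ≫ p))) := by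
    rw [IsIso.inv_comp_eq, ← Category.assoc, IsIso.eq_comp_inv]
    exact h2.symm
  rw [e1, H₁.map_comp, H₂.map_comp, Functor.map_inv, Functor.map_inv, Category.assoc, h2',
    ← Category.assoc, h1, Category.assoc]

include hres hδ in
theorem nonempty_natIso : Nonempty (H₁ ≅ H₂) := by
  have hobj : ∀ Z : DerivedCategory A, ∃ (Y : CochainComplex A ℤ) (_ : PX Y),
      Nonempty (Q.obj Y ≅ Z) := by
    intro Z
    obtain ⟨Y, f, hf, hY⟩ := hres (Q.objPreimage Z)
    have : IsIso (Q.map f) := by rw [isIso_Q_map_iff_quasiIso]; exact hf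
    exact ⟨Y, hY, ⟨(asIso (Q.map f)).symm ≪≫ Q.objObjPreimageIso Z⟩⟩
  choose Y hY e using hobj
  let e' : ∀ Z, Q.obj (Y Z) ≅ Z := fun Z => (e Z).some
  refine ⟨NatIso.ofComponents
    (fun Z => H₁.mapIso (e' Z).symm ≪≫ δ (Y Z) (hY Z) ≪≫ H₂.mapIso (e' Z)) ?_⟩
  intro Z Z' φ
  have h := nat_of_hom H₁ H₂ PX hres δ hδ (Y Z) (Y Z') (hY Z) (hY Z')
    ((e' Z).hom ≫ φ ≫ (e' Z').inv)
  dsimp only [Iso.trans_hom, Functor.mapIso_hom, Iso.symm_hom]
  rw [H₁.map_comp, H₁.map_comp, H₂.map_comp, H₂.map_comp] at h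
  simp only [Category.assoc] at h ⊢
  have h1 : H₁.map φ ≫ H₁.map (e' Z').inv = H₁.map (e' Z).inv ≫ H₁.map (e' Z).hom ≫
      H₁.map φ ≫ H₁.map (e' Z').inv := by
    rw [← H₁.map_comp_assoc, Iso.inv_hom_id, H₁.map_id, Category.id_comp]
  rw [reassoc_of% h1]
  have h2 := congrArg (fun t => H₁.map (e' Z).inv ≫ t ≫ H₂.map (e' Z').hom) h
  simp only [Category.assoc] at h2
  rw [h2]
  simp only [← Functor.map_comp, Category.assoc, Iso.inv_hom_id, Category.comp_id]

omit δ hδ in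
include hres in
/-- two functors on `D(A)` which receive natural transformations from a common functor on
complexes, both invertible on a right-resolving class of complexes, are isomorphic -/
theorem nonempty_natIso_of_natTrans (R : CochainComplex A ℤ ⥤ E)
    (T₁ : R ⟶ DerivedCategory.Q ⋙ H₁) (T₂ : R ⟶ DerivedCategory.Q ⋙ H₂)
    (h₁ : ∀ X, PX X → IsIso (T₁.app X)) (h₂ : ∀ X, PX X → IsIso (T₂.app X)) :
    Nonempty (H₁ ≅ H₂) := by
  refine nonempty_natIso H₁ H₂ PX hres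
    (fun X hX => (@asIso _ _ _ _ (T₁.app X) (h₁ X hX)).symm ≪≫
      @asIso _ _ _ _ (T₂.app X) (h₂ X hX)) ?_
  intro X X' hX hX' f
  haveI := h₁ X hX
  haveI := h₁ X' hX'
  haveI := h₂ X hX
  haveI := h₂ X' hX'
  have n1 := T₁.naturality f
  have n2 := T₂.naturality f
  dsimp at n1 n2 ⊢
  have n1' : H₁.map (Q.map f) ≫ inv (T₁.app X') = inv (T₁.app X) ≫ R.map f := by
    rw [IsIso.comp_inv_eq, Category.assoc, IsIso.eq_inv_comp]
    exact n1.symm
  rw [← Category.assoc, n1', Category.assoc, Category.assoc, n2]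

end Groth.Agent.Lib.Helper6.ExtNatIsoR
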