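import Mathlib
import Groth.Agent.Lib.Helper47.RDerLES
import Groth.Agent.Lib.Helper6.RDPlus4

/-!
# `F`-acyclic objects for a left exact functor of finite cohomological dimension (helper6)

`Acyc F X` means `RⁱF X = 0` for all `i > 0` (classical right derived functors).  We prove the
closure properties needed for `PhiRes.exists_quasiIso`, and that `F` sends acyclic complexes of
`F`-acyclic objects to acyclic complexes when `RᴺF = 0` for some `N` (no boundedness hypothesis).
-/

set_option autoImplicit false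
universe v v' u u'
open CategoryTheory CategoryTheory.Limits

namespace Groth.Agent.Lib.Helper6.FAcyc

open Groth.Agent.Lib.Helper47.RDerLES (derivedLES)

variable {A : Type u} [Category.{v} A] [Abelian A] [HasInjectiveResolutions A]
  {B : Type u'} [Category.{v'} B] [Abelian B] (F : A ⥤ B) [F.Additive]

/-- right `F`-acyclic objects: `RⁱF X = 0` for `i > 0`. -/
def Acyc (X : A) : Prop := ∀ i : ℕ, 0 < i → IsZero ((F.rightDerived i).obj X)

lemma acyc_of_injective (X : A) [Injective X] : Acyc F X := by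
  intro i hi
  obtain ⟨j, rfl⟩ : ∃ j, i = j + 1 := ⟨i - 1, by lia⟩
  exact F.isZero_rightDerived_obj_injective_succ j X

lemma acyc_of_iso {X Y : A} (e : X ≅ Y) (hX : Acyc F X) : Acyc F Y := fun i hi =>
  IsZero.of_iso (hX i hi) ((F.rightDerived i).mapIso e.symm)

lemma acyc_X₃ (S : ShortComplex A) (hS : S.ShortExact) (h₁ : Acyc F S.X₁) (h₂ : Acyc F S.X₂) :
    Acyc F S.X₃ := fun i hi =>
  ((derivedLES F).exact₃ S hS i (i + 1) rfl).isZero_X₂
    ((h₂ i hi).eq_of_src _ _) ((h₁ (i + 1) (by lia)).eq_of_tgt _ _)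

lemma acyc_X₂ (S : ShortComplex A) (hS : S.ShortExact) (h₁ : Acyc F S.X₁) (h₃ : Acyc F S.X₃) :
    Acyc F S.X₂ := fun i hi =>
  ((derivedLES F).exact₂ S hS i).isZero_X₂
    ((h₁ i hi).eq_of_src _ _) ((h₃ i hi).eq_of_tgt _ _)

lemma acyc_iff (S : ShortComplex A) (hS : S.ShortExact) (h₁ : Acyc F S.X₁) :
    Acyc F S.X₂ ↔ Acyc F S.X₃ :=
  ⟨fun h₂ => acyc_X₃ F S hS h₁ h₂, fun h₃ => acyc_X₂ F S hS h₁ h₃⟩

lemma exists_mono_acyc (X : A) : ∃ (Y : A) (i : X ⟶ Y), Acyc F Y ∧ Mono i := by
  let I := injectiveResolution X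
  have : Injective (I.cocomplex.X 0) := I.injective 0
  have hm : Mono (I.ι.f 0) := inferInstance
  exact ⟨I.cocomplex.X 0, I.ι.f 0, acyc_of_injective F _, hm⟩

lemma acyc_of_isZero {Z : A} (hZ : IsZero Z) : Acyc F Z := fun _ _ =>
  Functor.map_isZero _ hZ

lemma acyc_biprod {X Y : A} (hX : Acyc F X) (hY : Acyc F Y) : Acyc F (X ⊞ Y) := by
  let S : ShortComplex A := ShortComplex.mk (biprod.inl : X ⟶ X ⊞ Y) biprod.snd (by simp)
  have hS : S.ShortExact := (ShortComplex.Splitting.ofHasBinaryBiproduct X Y).shortExact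
  exact acyc_X₂ F S hS hX hY

section Dim

/-- if `RⁿF = 0` then `RᵐF = 0` for all `m ≥ n`. -/
lemma isZero_rightDerived_of_le (n : ℕ) (hn : ∀ X : A, IsZero ((F.rightDerived n).obj X))
    (m : ℕ) (hm : n ≤ m) (X : A) : IsZero ((F.rightDerived m).obj X) := by
  induction m, hm using Nat.le_induction generalizing X with
  | base => exact hn X
  | succ m _ ih =>
    obtain ⟨Y, i, hY, hi⟩ := exists_mono_acyc F X
    let S := ShortComplex.mk i (cokernel.π i) (cokernel.condition i)
    have hS : S.ShortExact := { exact := ShortComplex.exact_cokernel _ }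
    exact ((derivedLES F).exact₁ S hS m (m + 1) rfl).isZero_X₂
      ((ih S.X₃).eq_of_src _ _) ((hY (m + 1) (by lia)).eq_of_tgt _ _)

end Dim

section Cycles

variable {ι : Type*} {c : ComplexShape ι}

/-- the sequence `0 ⟶ Zⁱ ⟶ Kⁱ ⟶ Zʲ ⟶ 0`. -/
noncomputable def cyclesSES (K : HomologicalComplex A c) (i j : ι) : ShortComplex A :=
  ShortComplex.mk (K.iCycles i) (K.toCycles i j) (by
    rw [← cancel_mono (K.iCycles j), Category.assoc, HomologicalComplex.toCycles_i,
      HomologicalComplex.iCycles_d, zero_comp])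

omit [HasInjectiveResolutions A] in
lemma cyclesSES_shortExact (K : HomologicalComplex A c) (i j : ι) (hij : c.Rel i j)
    (hj : K.ExactAt j) : (cyclesSES K i j).ShortExact := by
  have ex : (cyclesSES K i j).Exact := by
    have w2 : K.iCycles i ≫ K.d i j = 0 := K.iCycles_d i j
    let β : cyclesSES K i j ⟶ ShortComplex.mk (K.iCycles i) (K.d i j) w2 :=
      { τ₁ := 𝟙 _
        τ₂ := 𝟙 _
        τ₃ := K.iCycles j
        comm₁₂ := by
          dsimp [cyclesSES]
          rw [Category.id_comp, Category.comp_id]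
        comm₂₃ := by
          dsimp [cyclesSES]
          rw [Category.id_comp, HomologicalComplex.toCycles_i] }
    have : Epi β.τ₁ := inferInstanceAs (Epi (𝟙 _))
    have : IsIso β.τ₂ := inferInstanceAs (IsIso (𝟙 _))
    have : Mono β.τ₃ := inferInstanceAs (Mono (K.iCycles j))
    rw [ShortComplex.exact_iff_of_epi_of_isIso_of_mono β]
    exact ShortComplex.exact_of_f_is_kernel _ (K.cyclesIsKernel i j (c.next_eq' hij))
  have epi : Epi (K.toCycles i j) := by
    have hz : IsZero (K.homology j) := hj.isZero_homology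
    have e : (ShortComplex.mk (K.toCycles i j) (K.homologyπ j)
        (K.toCycles_comp_homologyπ i j)).Exact :=
      ShortComplex.exact_of_g_is_cokernel _ (K.homologyIsCokernel i j (c.prev_eq' hij))
    exact e.epi_f (hz.eq_of_tgt _ _)
  exact
    { exact := ex
      mono_f := inferInstanceAs (Mono (K.iCycles i))
      epi_g := epi }

end Cycles

section H3

variable (N : ℕ) (hN : ∀ m : ℕ, N ≤ m → ∀ X : A, IsZero ((F.rightDerived m).obj X))

include hN in
/-- condition `h3` of `PhiRes.exists_quasiIso` for the class of `F`-acyclic objects. -/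
lemma acyc_of_exact_nat (K : CochainComplex A ℕ) (hex : ∀ i : ℕ, 1 ≤ i → i ≤ N → K.ExactAt i)
    (hz : ∀ i : ℕ, N < i → IsZero (K.X i)) (hK : ∀ i : ℕ, i < N → Acyc F (K.X i)) :
    Acyc F (K.X N) := by
  have key : ∀ i : ℕ, i ≤ N → ∀ m : ℕ, 1 ≤ m → N ≤ m + i →
      IsZero ((F.rightDerived m).obj (K.cycles i)) := by
    intro i
    induction i with
    | zero => intro _ m _ hm; exact hN m (by lia) _
    | succ i ih =>
      intro hi m hm1 hm
      have hS := cyclesSES_shortExact K i (i + 1) rfl (hex (i + 1) (by lia) hi)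
      exact ((derivedLES F).exact₃ _ hS m (m + 1) rfl).isZero_X₂
        ((hK i (by lia) m (by lia)).eq_of_src _ _)
        ((ih (by lia) (m + 1) (by lia) (by lia)).eq_of_tgt _ _)
  have : IsIso (K.iCycles N) :=
    K.isIso_iCycles N (N + 1) (by simp) ((hz (N + 1) (by lia)).eq_of_tgt _ _)
  intro m hm
  exact IsZero.of_iso (key N le_rfl m hm (by lia))
    ((F.rightDerived m).mapIso (asIso (K.iCycles N)).symm)

end H3

section Key

variable [PreservesFiniteLimits F]

/-- A left exact functor preserves short exact sequences with acyclic kernel. -/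
lemma shortExact_map_of_acyc (S : ShortComplex A) (hS : S.ShortExact)
    (h₁ : Acyc F S.X₁) : (S.map F).ShortExact := by
  have := hS.mono_f
  have hepi : Epi ((F.rightDerived 0).map S.g) :=
    ((derivedLES F).exact₃ S hS 0 1 rfl).epi_f ((h₁ 1 (by lia)).eq_of_tgt _ _)
  have hepiF : Epi (F.map S.g) := by
    have e : F.map S.g = F.toRightDerivedZero.app S.X₂ ≫ (F.rightDerived 0).map S.g ≫
        inv (F.toRightDerivedZero.app S.X₃) := by
      rw [← Category.assoc, ← F.toRightDerivedZero.naturality S.g, Category.assoc,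
        IsIso.hom_inv_id, Category.comp_id]
    rw [e]
    infer_instance
  exact
    { exact := hS.exact.map_of_mono_of_preservesKernel F inferInstance inferInstance
      mono_f := inferInstanceAs (Mono (F.map S.f))
      epi_g := hepiF }

variable (N : ℕ) (hN : ∀ m : ℕ, N ≤ m → ∀ X : A, IsZero ((F.rightDerived m).obj X))

omit [PreservesFiniteLimits F] in
include hN in
lemma acyc_cycles (K : CochainComplex A ℤ) (hK : K.Acyclic) (hA : ∀ n, Acyc F (K.X n)) (n : ℤ) :
    Acyc F (K.cycles n) := by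
  have key : ∀ j : ℕ, ∀ m : ℕ, 1 ≤ m → N ≤ m + j → ∀ p : ℤ,
      IsZero ((F.rightDerived m).obj (K.cycles p)) := by
    intro j
    induction j with
    | zero => intro m _ hm p; exact hN m (by lia) _
    | succ j ih =>
      intro m hm1 hm p
      have hS := cyclesSES_shortExact K (p - 1) p (by simp) (hK p)
      exact ((derivedLES F).exact₃ _ hS m (m + 1) rfl).isZero_X₂
        ((hA (p - 1) m (by lia)).eq_of_src _ _)
        ((ih (m + 1) (by lia) (by lia) (p - 1)).eq_of_tgt _ _)
  intro m hm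
  exact key N m hm (by lia) n

include hN in
/-- `F` sends acyclic complexes of `F`-acyclic objects to acyclic complexes. -/
lemma acyclic_map_of_acyc (Q : CochainComplex A ℤ) (hQ : Q.Acyclic)
    (hA : ∀ n, Acyc F (Q.X n)) :
    ((F.mapHomologicalComplex (ComplexShape.up ℤ)).obj Q).Acyclic := by
  intro n
  rw [HomologicalComplex.exactAt_iff' _ (n - 1) n (n + 1) (by simp) (by simp)]
  have h1 := shortExact_map_of_acyc F _ (cyclesSES_shortExact Q (n - 1) n (by simp) (hQ n))
    (acyc_cycles F N hN Q hQ hA (n - 1))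
  have h2 := shortExact_map_of_acyc F _ (cyclesSES_shortExact Q n (n + 1) (by simp) (hQ (n + 1)))
    (acyc_cycles F N hN Q hQ hA n)
  have h3 := shortExact_map_of_acyc F _
    (cyclesSES_shortExact Q (n + 1) (n + 1 + 1) (by simp) (hQ (n + 1 + 1)))
    (acyc_cycles F N hN Q hQ hA (n + 1))
  have : Epi (F.map (Q.toCycles (n - 1) n)) := h1.epi_g
  have : Mono (F.map (Q.iCycles (n + 1))) := h3.mono_f
  have w' : (F.map (Q.toCycles (n - 1) n) ≫ F.map (Q.iCycles n)) ≫
      (F.map (Q.toCycles n (n + 1)) ≫ F.map (Q.iCycles (n + 1))) = 0 := by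
    rw [← F.map_comp, ← F.map_comp, ← F.map_comp, HomologicalComplex.toCycles_i,
      HomologicalComplex.toCycles_i, Q.d_comp_d, F.map_zero]
  have key := RDPlus.exact_of_factor (F.map (Q.toCycles (n - 1) n)) (F.map (Q.iCycles n))
    (F.map (Q.toCycles n (n + 1))) (F.map (Q.iCycles (n + 1)))
    ((cyclesSES Q n (n + 1)).map F).zero h2.exact w'
  refine ShortComplex.exact_of_iso (ShortComplex.isoMk
    (S₁ := ShortComplex.mk _ _ w')
    (S₂ := ((F.mapHomologicalComplex (ComplexShape.up ℤ)).obj Q).sc' (n - 1) n (n + 1))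
    (Iso.refl _) (Iso.refl _) (Iso.refl _) ?_ ?_) key
  · show 𝟙 (F.obj (Q.X (n - 1))) ≫ F.map (Q.d (n - 1) n) =
      (F.map (Q.toCycles (n - 1) n) ≫ F.map (Q.iCycles n)) ≫ 𝟙 (F.obj (Q.X n))
    rw [Category.id_comp, Category.comp_id, ← F.map_comp, HomologicalComplex.toCycles_i]
  · show 𝟙 (F.obj (Q.X n)) ≫ F.map (Q.d n (n + 1)) =
      (F.map (Q.toCycles n (n + 1)) ≫ F.map (Q.iCycles (n + 1))) ≫ 𝟙 (F.obj (Q.X (n + 1)))
    rw [Category.id_comp, Category.comp_id, ← F.map_comp, HomologicalComplex.toCycles_i]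

end Key

end Groth.Agent.Lib.Helper6.FAcyc
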