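import Mathlib
import Groth.Agent.S6152
import Groth.Agent.S0484
import Groth.Agent.Lib.Helper6.LeftSysColim
import Groth.Agent.Lib.Helper6.CountableCoprod

/-!
# The class of direct sums of modules `j_{U!} O_U` on a ringed site (helper6 library)

`P O` is the class of `O`-modules isomorphic to a coproduct of modules `ModSite.freeOn O U`.
It is closed under isomorphisms and binary sums, contains a zero object, and every module is a
quotient of a member (`P_zero`, `P_sum`, `P_cover`); `Mod O` has exact sequential colimits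
(`hasExactColimitsOfShape_nat`).
-/

set_option autoImplicit false
universe u
open CategoryTheory CategoryTheory.Limits Opposite

namespace Groth.Agent.Lib.Helper6.FreeOnClass

variable {C : Type u} [SmallCategory C] {J : GrothendieckTopology C} (O : Sheaf J CommRingCat.{u})

/-- the class of modules isomorphic to coproducts of modules `j_{U!} O_U` -/
def P : ObjectProperty (ModSite.Mod O) := fun M =>
  ∃ (ι : Type u) (U : ι → C), Nonempty (M ≅ ∐ fun j => ModSite.freeOn O (U j))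

instance : (P O).IsClosedUnderIsomorphisms :=
  ⟨fun e h => by
    obtain ⟨ι, U, ⟨f⟩⟩ := h
    exact ⟨ι, U, ⟨e.symm ≪≫ f⟩⟩⟩

instance isGrothendieckAbelian : IsGrothendieckAbelian.{u} (ModSite.Mod O) :=
  Groth.Agent.S0484.result J (ModSite.ringSh O)

instance hasExactColimitsOfShape_nat : HasExactColimitsOfShape ℕ (ModSite.Mod O) :=
  CountableCoprod.hasExactColimitsOfShape_nat (ModSite.Mod O)

lemma P_zero : ∃ Z : ModSite.Mod O, IsZero Z ∧ P O Z := by
  refine ⟨∐ fun j : PEmpty.{u + 1} => ModSite.freeOn O (PEmpty.elim j), ?_,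
    ⟨PEmpty.{u + 1}, fun j => PEmpty.elim j, ⟨Iso.refl _⟩⟩⟩
  rw [IsZero.iff_id_eq_zero]
  apply Sigma.hom_ext
  intro j
  exact j.elim

lemma P_sum (X Y : ModSite.Mod O) (hX : P O X) (hY : P O Y) : P O (X ⊞ Y) := by
  obtain ⟨ι₁, U₁, ⟨e₁⟩⟩ := hX
  obtain ⟨ι₂, U₂, ⟨e₂⟩⟩ := hY
  refine ⟨ι₁ ⊕ ι₂, Sum.elim U₁ U₂, ⟨biprod.mapIso e₁ e₂ ≪≫ ?_⟩⟩
  let f₁ : ι₁ → ModSite.Mod O := fun j => ModSite.freeOn O (U₁ j)
  let f₂ : ι₂ → ModSite.Mod O := fun j => ModSite.freeOn O (U₂ j)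
  have hc := Cofan.combPairIsColimit (coproductIsCoproduct f₁) (coproductIsCoproduct f₂)
    (BinaryBiproduct.isColimit (∐ f₁) (∐ f₂))
  have hfam : (Sum.elim f₁ f₂) = fun j => ModSite.freeOn O (Sum.elim U₁ U₂ j) := by
    funext j
    cases j <;> rfl
  have hc' := coproductIsCoproduct (Sum.elim f₁ f₂)
  exact (hc.coconePointUniqueUpToIso hc') ≪≫ eqToIso (by rw [hfam]; rfl)

lemma P_cover (X : ModSite.Mod O) : ∃ (Y : ModSite.Mod O) (π : Y ⟶ X), P O Y ∧ Epi π := by
  have hsep := (Groth.Agent.S6152.result O (Set.univ : Set C) (fun X => by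
    refine ⟨PUnit.{u + 1}, fun _ => X, fun _ => 𝟙 X, ?_, fun _ => Set.mem_univ _⟩
    have h : Sieve.ofArrows (fun _ : PUnit.{u + 1} => X) (fun _ => 𝟙 X) = ⊤ :=
      (Sieve.id_mem_iff_eq_top).1 (Sieve.ofArrows_mk _ _ PUnit.unit)
    rw [h]
    exact J.top_mem X)).2
  let ι : Type u := Σ U : C, (ModSite.freeOn O U ⟶ X)
  refine ⟨∐ fun i : ι => ModSite.freeOn O i.1, Sigma.desc (fun i => i.2),
    ⟨ι, fun i => i.1, ⟨Iso.refl _⟩⟩, ⟨fun {Z} u v huv => ?_⟩⟩
  apply hsep
  rintro G ⟨U⟩ h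
  have := Sigma.ι (fun i : ι => ModSite.freeOn O i.1) ⟨(U : C), h⟩ ≫= huv
  simpa using this

end Groth.Agent.Lib.Helper6.FreeOnClass
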