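import Mathlib
import Groth.Agent.Lib.Helper19.SiteFlasque
import Groth.Agent.Lib.Helper19.CechMod
import Groth.Agent.Lib.Helper6.FreeOnClass
import Groth.Agent.Lib.Helper6.FAcyc
import Groth.Agent.Lib.Helper6.InjRes
import Groth.Agent.Lib.Helper6.CellOrth

/-!
# Sectionwise acyclic complexes of modules on a ringed site (helper6)

`SectAcyclic O Z`: for every object `V`, the complex of sections of `Z` over `V` is exact
(formulated with maps out of `freeOn O V`).

* `hepi`: every module is a quotient of a module which is projective relatively to the sectionwise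
  acyclic complexes (a coproduct of modules `freeOn O V`);
* `sectAcyclic_of_isStrictlyGE`: bounded below acyclic complexes of totally acyclic modules are
  sectionwise acyclic;
* `exists_resolution_of_ta`: a totally acyclic module `N` has a K-injective resolution
  `ε : N[0] ⟶ I` with sectionwise acyclic mapping cone.
-/

set_option autoImplicit false
set_option linter.unusedSectionVars false
universe w v u
open CategoryTheory CategoryTheory.Limits Opposite

namespace Groth.Agent.Lib.Helper6.SectAcyc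

open Groth.Agent.Lib.Helper6.CellOrth

section General

variable {A : Type u} [Category.{v} A] [Abelian A] {𝒵 : CochainComplex A ℤ → Prop}

lemma relProj_sigma {ι : Type w} (M : ι → A) [HasCoproduct M] (h : ∀ i, RelProj 𝒵 (M i)) :
    RelProj 𝒵 (∐ M) := by
  intro Z hZ q' q hq u hu
  choose v hv using fun i => h i Z hZ q' q hq (Sigma.ι M i ≫ u)
    (by rw [Category.assoc, hu, comp_zero])
  refine ⟨Sigma.desc v, Sigma.hom_ext _ _ (fun i => ?_)⟩
  rw [Sigma.ι_desc_assoc, hv]

lemma relProj_of_iso {M M' : A} (e : M ≅ M') (h : RelProj 𝒵 M) : RelProj 𝒵 M' := by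
  intro Z hZ q' q hq u hu
  obtain ⟨v, hv⟩ := h Z hZ q' q hq (e.hom ≫ u) (by rw [Category.assoc, hu, comp_zero])
  exact ⟨e.inv ≫ v, by rw [Category.assoc, hv, e.inv_hom_id_assoc]⟩

end General

open ModSite Groth.Agent.Lib.Helper94.JShriek Groth.Agent.Lib.Helper34.NullLocal

variable {C : Type u} [SmallCategory C] {J : GrothendieckTopology C} (O : Sheaf J CommRingCat.{u})

/-- sectionwise acyclic complexes -/
def SectAcyclic (Z : CochainComplex (Mod O) ℤ) : Prop :=
  ∀ (V : C) (q' q : ℤ) (_ : q' + 1 = q) (u : freeOn O V ⟶ Z.X q), u ≫ Z.d q (q + 1) = 0 →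
    ∃ v : freeOn O V ⟶ Z.X q', v ≫ Z.d q' q = u

lemma relProj_freeOn (V : C) : RelProj (SectAcyclic O) (freeOn O V) :=
  fun _ hZ q' q hq u hu => hZ V q' q hq u hu

/-- every module is a quotient of a relatively projective one -/
lemma hepi (X : Mod O) : ∃ (M : Mod O) (p : M ⟶ X), Epi p ∧ RelProj (SectAcyclic O) M := by
  obtain ⟨Y, π, ⟨ι, U, ⟨e⟩⟩, hπ⟩ := FreeOnClass.P_cover O X
  exact ⟨Y, π, hπ, relProj_of_iso e.symm (relProj_sigma _ (fun j => relProj_freeOn O (U j)))⟩

/-- totally acyclic modules -/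
def TA (M : Mod O) : Prop := CohCx.IsTotallyAcyclic (toAb M)

variable {O}

lemma isTotallyAcyclic_of_iso {F F' : Sheaf J AddCommGrpCat.{u}} (e : F ≅ F')
    (h : CohCx.IsTotallyAcyclic F) : CohCx.IsTotallyAcyclic F' := by
  intro K p
  have := h K p
  refine subsingleton_of_forall_eq 0 fun x => ?_
  have h1 : (x.comp (Abelian.Ext.mk₀ e.inv) (add_zero _)).comp (Abelian.Ext.mk₀ e.hom)
      (add_zero _) = x := by
    rw [Abelian.Ext.comp_assoc_of_third_deg_zero, Abelian.Ext.mk₀_comp_mk₀, e.inv_hom_id,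
      Abelian.Ext.comp_mk₀_id]
  rw [← h1, Subsingleton.elim (x.comp (Abelian.Ext.mk₀ e.inv) (add_zero _)) 0,
    Abelian.Ext.zero_comp]

lemma ta_of_iso {M M' : Mod O} (e : M ≅ M') (h : TA O M) : TA O M' :=
  isTotallyAcyclic_of_iso ((SheafOfModules.toSheaf (ringSh O)).mapIso e) h

lemma ta_of_injective (I : Mod O) [Injective I] : TA O I :=
  Groth.Agent.Lib.Helper19.CechMod.isTotallyAcyclic_toSheaf_of_injective (ringSh O) I

lemma ta_of_isZero {M : Mod O} (hM : IsZero M) : TA O M := by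
  intro K p
  have hz : IsZero (toAb M) := (SheafOfModules.toSheaf (ringSh O)).map_isZero hM
  refine subsingleton_of_forall_eq 0 fun x => ?_
  have h : x = x.comp (Abelian.Ext.mk₀ (𝟙 (toAb M))) (add_zero _) :=
    (Abelian.Ext.comp_mk₀_id x).symm
  rw [h, hz.eq_of_src (𝟙 (toAb M)) 0, Abelian.Ext.mk₀_zero, Abelian.Ext.comp_zero]

lemma ta_biprod {M N : Mod O} (hM : TA O M) (hN : TA O N) : TA O (M ⊞ N) := by
  intro K p
  have := hM K p
  have := hN K p
  let T := SheafOfModules.toSheaf (ringSh O)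
  refine subsingleton_of_forall_eq 0 fun x => ?_
  have hid : 𝟙 (T.obj (M ⊞ N)) = T.map biprod.fst ≫ T.map biprod.inl +
      T.map biprod.snd ≫ T.map biprod.inr := by
    rw [← T.map_comp, ← T.map_comp, ← T.map_add, biprod.total, T.map_id]
  have h : x = x.comp (Abelian.Ext.mk₀ (𝟙 (T.obj (M ⊞ N)))) (add_zero _) :=
    (Abelian.Ext.comp_mk₀_id x).symm
  rw [h, hid, Abelian.Ext.mk₀_add, Abelian.Ext.comp_add, ← Abelian.Ext.mk₀_comp_mk₀,
    ← Abelian.Ext.mk₀_comp_mk₀, ← Abelian.Ext.comp_assoc_of_third_deg_zero,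
    ← Abelian.Ext.comp_assoc_of_third_deg_zero,
    Subsingleton.elim (x.comp (Abelian.Ext.mk₀ (T.map biprod.fst)) (add_zero _)) 0,
    Subsingleton.elim (x.comp (Abelian.Ext.mk₀ (T.map biprod.snd)) (add_zero _)) 0,
    Abelian.Ext.zero_comp, Abelian.Ext.zero_comp, add_zero]

open Groth.Agent.Lib.Helper6.FAcyc in
/-- the cycles of a bounded below acyclic complex of totally acyclic modules are totally
acyclic -/
lemma ta_cycles (Z : CochainComplex (Mod O) ℤ) (hZ : Z.Acyclic) (n₀ : ℤ) [Z.IsStrictlyGE n₀]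
    (hT : ∀ q, TA O (Z.X q)) (q : ℤ) : TA O (Z.cycles q) := by
  have hlow : ∀ q : ℤ, q < n₀ → TA O (Z.cycles q) := by
    intro q hq
    have hz : IsZero (Z.X q) := Z.isZero_of_isStrictlyGE n₀ q hq
    refine ta_of_isZero ?_
    rw [IsZero.iff_id_eq_zero, ← cancel_mono (Z.iCycles q)]
    exact hz.eq_of_tgt _ _
  have key : ∀ k : ℕ, TA O (Z.cycles (n₀ - 1 + k)) := by
    intro k
    induction k with
    | zero => exact hlow _ (by simp)
    | succ k ih =>
      have hS := cyclesSES_shortExact Z (n₀ - 1 + k) (n₀ - 1 + (k + 1 : ℕ)) (by simp; lia)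
        (hZ _)
      exact Groth.Agent.Lib.Helper19.SiteFlasque.isTotallyAcyclic_X₃ hS ih (hT _)
  by_cases hq : q < n₀
  · exact hlow q hq
  · obtain ⟨k, rfl⟩ : ∃ k : ℕ, q = n₀ - 1 + k := ⟨(q - n₀ + 1).toNat, by lia⟩
    exact key k

open Groth.Agent.Lib.Helper6.FAcyc in
/-- bounded below acyclic complexes of totally acyclic modules are sectionwise acyclic -/
theorem sectAcyclic_of_isStrictlyGE (Z : CochainComplex (Mod O) ℤ) (hZ : Z.Acyclic) (n₀ : ℤ)
    [Z.IsStrictlyGE n₀] (hT : ∀ q, TA O (Z.X q)) : SectAcyclic O Z := by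
  intro V q' q hq u hu
  let ũ : freeOn O V ⟶ Z.cycles q := Z.liftCycles u (q + 1) (by simp) hu
  have hũ : ũ ≫ Z.iCycles q = u := Z.liftCycles_i _ _ _ _
  have hS := cyclesSES_shortExact Z q' q (by simp; lia) (hZ q)
  obtain ⟨b, hb, -⟩ := Groth.Agent.Lib.Helper19.SiteFlasque.exists_lift_vanishing hS
    (ta_cycles Z hZ n₀ hT q') V (fun _ _ => False) (freeOnHomAddEquiv O V _ ũ)
    (fun _ _ h => h.elim)
  let v : freeOn O V ⟶ Z.X q' := (freeOnHomAddEquiv O V _).symm b
  have hv : v ≫ Z.toCycles q' q = ũ := by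
    apply (freeOnHomAddEquiv O V _).injective
    rw [freeOnHomAddEquiv_comp]
    dsimp only [v]
    rw [AddEquiv.apply_symm_apply]
    exact hb
  refine ⟨v, ?_⟩
  rw [← Z.toCycles_i q' q, ← Category.assoc, hv, hũ]

lemma isZero_biprod' {A : Type*} [Category A] [Abelian A] {X Y : A} (hX : IsZero X)
    (hY : IsZero Y) : IsZero (X ⊞ Y) := by
  rw [IsZero.iff_id_eq_zero]
  apply biprod.hom_ext
  · exact hX.eq_of_tgt _ _
  · exact hY.eq_of_tgt _ _

open CochainComplex in
/-- a totally acyclic module has a K-injective resolution with sectionwise acyclic cone -/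
theorem exists_resolution_of_ta [EnoughInjectives (Mod O)] (N : Mod O) (hN : TA O N) :
    ∃ (I : CochainComplex (Mod O) ℤ)
      (ε : (CochainComplex.singleFunctor (Mod O) 0).obj N ⟶ I),
      I.IsKInjective ∧ SectAcyclic O (mappingCone ε) := by
  obtain ⟨L, ε, hL, hLinj, -, hε⟩ := InjRes.exists_mono_quasiIso_injective
    ((CochainComplex.singleFunctor (Mod O) 0).obj N) 0
  refine ⟨L, ε, ?_, ?_⟩
  · exact CochainComplex.isKInjective_of_injective L 0
  · have hac : (mappingCone ε).Acyclic :=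
      (Groth.Agent.Lib.Helper94.KFlatAbs.quasiIso_iff_acyclic_mappingCone ε).1 hε
    have hsingle : ∀ q : ℤ, TA O (((CochainComplex.singleFunctor (Mod O) 0).obj N).X q) := by
      intro q
      by_cases hq : q = 0
      · subst hq
        exact ta_of_iso (HomologicalComplex.singleObjXSelf (ComplexShape.up ℤ) 0 N).symm hN
      · exact ta_of_isZero (HomologicalComplex.isZero_single_obj_X (ComplexShape.up ℤ) 0 N q hq)
    have hiso : ∀ q : ℤ, (mappingCone ε).X q ≅
        ((CochainComplex.singleFunctor (Mod O) 0).obj N).X (q + 1) ⊞ L.X q := fun q =>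
      HomologicalComplex.homotopyCofiber.XIsoBiprod ε q (q + 1) (by simp)
    haveI : (mappingCone ε).IsStrictlyGE (-1) := by
      rw [CochainComplex.isStrictlyGE_iff]
      intro i hi
      exact IsZero.of_iso (isZero_biprod'
        (HomologicalComplex.isZero_single_obj_X (ComplexShape.up ℤ) 0 N (i + 1) (by lia))
        (L.isZero_of_isStrictlyGE 0 i (by lia))) (hiso i)
    refine sectAcyclic_of_isStrictlyGE _ hac (-1) (fun q => ?_)
    exact ta_of_iso (hiso q).symm (ta_biprod (hsingle (q + 1)) (ta_of_injective (L.X q)))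

/-- sectionwise acyclicity in terms of sections -/
lemma sectAcyclic_iff (Z : CochainComplex (Mod O) ℤ) :
    SectAcyclic O Z ↔ ∀ (V : C) (q' q : ℤ) (_ : q' + 1 = q) (s : sect (Z.X q) V),
      app (Z.d q (q + 1)) V s = 0 → ∃ t : sect (Z.X q') V, app (Z.d q' q) V t = s := by
  constructor
  · intro h V q' q hq s hs
    obtain ⟨v, hv⟩ := h V q' q hq ((freeOnHomAddEquiv O V _).symm s) (by
      apply (freeOnHomAddEquiv O V _).injective
      rw [freeOnHomAddEquiv_comp, AddEquiv.apply_symm_apply, map_zero]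
      exact hs)
    refine ⟨freeOnHomAddEquiv O V _ v, ?_⟩
    have := freeOnHomAddEquiv_comp O V v (Z.d q' q)
    rw [hv, AddEquiv.apply_symm_apply] at this
    exact this.symm
  · intro h V q' q hq u hu
    obtain ⟨t, ht⟩ := h V q' q hq (freeOnHomAddEquiv O V _ u) (by
      have := freeOnHomAddEquiv_comp O V u (Z.d q (q + 1))
      rw [hu, map_zero] at this
      exact this.symm)
    refine ⟨(freeOnHomAddEquiv O V _).symm t, ?_⟩
    apply (freeOnHomAddEquiv O V _).injective
    rw [freeOnHomAddEquiv_comp, AddEquiv.apply_symm_apply]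
    exact ht

variable (O) in
/-- a map through which all maps from the modules `freeOn O V` lift is an epimorphism -/
lemma epi_of_lift {M K : Mod O} (p : M ⟶ K)
    (h : ∀ (V : C) (u : freeOn O V ⟶ K), ∃ v : freeOn O V ⟶ M, v ≫ p = u) : Epi p := by
  obtain ⟨Y, π, ⟨ι, U, ⟨e⟩⟩, hπ⟩ := FreeOnClass.P_cover O K
  choose v hv using fun j : ι =>
    h (U j) (Sigma.ι (fun j => freeOn O (U j)) j ≫ e.inv ≫ π)
  have fac : (e.hom ≫ Sigma.desc v) ≫ p = π := by
    rw [Category.assoc, ← cancel_epi e.inv, Iso.inv_hom_id_assoc]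
    refine Sigma.hom_ext _ _ (fun j => ?_)
    rw [Sigma.ι_desc_assoc, hv]
  exact epi_of_epi_fac fac

/-- sectionwise acyclic complexes are acyclic -/
theorem acyclic_of_sectAcyclic (Z : CochainComplex (Mod O) ℤ) (hZ : SectAcyclic O Z) :
    Z.Acyclic := by
  intro q
  rw [HomologicalComplex.exactAt_iff' Z (q - 1) q (q + 1) (by simp) (by simp),
    ShortComplex.exact_iff_epi_kernel_lift]
  change Epi (kernel.lift (Z.d q (q + 1)) (Z.d (q - 1) q) (Z.d_comp_d _ _ _))
  apply epi_of_lift O
  intro V u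
  obtain ⟨v, hv⟩ := hZ V (q - 1) q (by lia) (u ≫ kernel.ι (Z.d q (q + 1)))
    (by rw [Category.assoc, kernel.condition, comp_zero])
  refine ⟨v, ?_⟩
  rw [← cancel_mono (kernel.ι (Z.d q (q + 1))), Category.assoc, kernel.lift_ι]
  exact hv

end Groth.Agent.Lib.Helper6.SectAcyc
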