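import Mathlib
import Groth.Prelude.Def_DDual2
import Groth.Agent.S0863
import Groth.Agent.Lib.Helper6.SectAcyc
import Groth.Agent.Lib.Helper6.CellDer
import Groth.Agent.Lib.Helper99.RestrKInj

/-!
# Existence of the derived pullback `Lf^*` on unbounded complexes of `O`-modules (helper6)

No stalks are used.  `𝒵 Y` is the class of sectionwise acyclic complexes of `O_Y`-modules and the
complexes of `LeftOrth (𝒵 Y)` (e.g. the cellular complexes built from the modules `j_! O_V`) play
the role of K-flat complexes:

* `hasLpull f : DCoh.HasLpull f`;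
* `isIso_counit_app`: the counit `Lf^* (Q P) ⟶ Q (f^* P)` of any left derived functor of `f^*` is
  an isomorphism when `P ∈ LeftOrth (𝒵 Y)`;
* `acyclic_pullback`: `f^*` preserves acyclicity of complexes in `LeftOrth (𝒵 Y)`.
-/

set_option autoImplicit false
universe u
open CategoryTheory CategoryTheory.Limits AlgebraicGeometry TopologicalSpace

attribute [local instance] HasDerivedCategory.standard

namespace Groth.Agent.Lib.Helper6.PullDer

open Groth.Agent.Lib.Helper6.CellOrth

variable {X Y : Scheme.{u}} (f : X ⟶ Y)

instance preservesFiniteLimits_opens_map : PreservesFiniteLimits (Opens.map f.base) :=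
  preservesFiniteLimits_of_flat _

instance hasExactColimitsOfShape_nat (Y : Scheme.{u}) : HasExactColimitsOfShape ℕ Y.Modules :=
  FreeOnClass.hasExactColimitsOfShape_nat (J := Opens.grothendieckTopology Y) Y.sheaf

/-- sectionwise acyclic complexes of `O_Y`-modules -/
def 𝒵 (Y : Scheme.{u}) : CochainComplex Y.Modules ℤ → Prop :=
  SectAcyc.SectAcyclic (J := Opens.grothendieckTopology Y) Y.sheaf

/-- the direct image of an injective module is totally acyclic -/
lemma ta_pushforward (I : X.Modules) [hI : Injective I] :
    SectAcyc.TA (J := Opens.grothendieckTopology Y) Y.sheaf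
      ((Scheme.Modules.pushforward f).obj I) := by
  have h := @Groth.Agent.S0863.result (Opens X) (Opens Y) _ _ _ (Opens.grothendieckTopology X)
    (Opens.grothendieckTopology Y) (Opens.map f.base) (coverPreserving_opens_map f.base) _ _
    X.ringCatSheaf I hI
  exact SectAcyc.isTotallyAcyclic_of_iso (Iso.refl _) h

lemma hepi (M : Y.Modules) : ∃ (P : Y.Modules) (p : P ⟶ M), Epi p ∧ RelProj (𝒵 Y) P :=
  SectAcyc.hepi (J := Opens.grothendieckTopology Y) Y.sheaf M

lemma hH (J : X.Modules) (hJ : Injective J) : ∃ (I : CochainComplex Y.Modules ℤ)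
    (ε : (CochainComplex.singleFunctor Y.Modules 0).obj ((Scheme.Modules.pushforward f).obj J) ⟶ I),
    I.IsKInjective ∧ 𝒵 Y (CochainComplex.mappingCone ε) :=
  SectAcyc.exists_resolution_of_ta (J := Opens.grothendieckTopology Y) (O := Y.sheaf) _
    (ta_pushforward f J)

/-- `f^*` preserves acyclicity of complexes in the left orthogonal of the sectionwise acyclic
complexes -/
theorem acyclic_pullback (P : CochainComplex Y.Modules ℤ) (hP : P.Acyclic)
    (hP' : LeftOrth (𝒵 Y) P) :
    (((Scheme.Modules.pullback f).mapHomologicalComplex (ComplexShape.up ℤ)).obj P).Acyclic :=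
  CellDer.acyclic_map (Scheme.Modules.pullbackPushforwardAdjunction f) (hH f) P hP hP'

/-- **existence of `Lf^*`** -/
theorem hasLpull : DCoh.HasLpull f :=
  CellDer.hasLeftDerivedFunctor_K (Scheme.Modules.pullbackPushforwardAdjunction f) hepi (hH f)

end Groth.Agent.Lib.Helper6.PullDer
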