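import Mathlib
import Groth.Prelude.Def_DDual2
import Groth.Agent.Lib.Helper6.PullDer
import Groth.Agent.Lib.Helper6.AdjOrth
import Groth.Agent.Lib.Helper36.KanPrecomp

/-!
# The counit of `Lf^*` at the level of complexes, and `Lf^* ∘ Lg^* ≅ L(g ∘ f)^*` (helper6)

* `pullCh f`: `f^*` on complexes; `αCh f : Q ⋙ Lf^* ⟶ pullCh f ⋙ Q`, the counit of the left derived
  functor at the level of complexes; `isIso_αCh_app`: it is an isomorphism on `LeftOrth (𝒵 Y)`;
* `𝒵_pushforward`: `f_*` preserves sectionwise acyclic complexes;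
  `leftOrth_pullCh`: `f^*` preserves the left orthogonals;
* `nonempty_comp_iso`: `Lg^* ⋙ Lf^* ≅ L(f ≫ g)^*`.
-/

set_option autoImplicit false
universe u
open CategoryTheory CategoryTheory.Limits AlgebraicGeometry TopologicalSpace

attribute [local instance] HasDerivedCategory.standard

namespace Groth.Agent.Lib.Helper6.PullComp

open Groth.Agent.Lib.Helper6.CellOrth Groth.Agent.Lib.Helper6.PullDer

variable {X Y Z : Scheme.{u}} (f : X ⟶ Y) (g : Y ⟶ Z)

/-- `f^*` on complexes -/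
noncomputable abbrev pullCh : CochainComplex Y.Modules ℤ ⥤ CochainComplex X.Modules ℤ :=
  (Scheme.Modules.pullback f).mapHomologicalComplex (ComplexShape.up ℤ)

/-- `f_*` preserves sectionwise acyclic complexes -/
lemma 𝒵_pushforward (K : CochainComplex X.Modules ℤ) (hK : 𝒵 X K) :
    𝒵 Y (((Scheme.Modules.pushforward f).mapHomologicalComplex (ComplexShape.up ℤ)).obj K) := by
  have hK' := (SectAcyc.sectAcyclic_iff (J := Opens.grothendieckTopology X) (O := X.sheaf) K).1 hK
  refine (SectAcyc.sectAcyclic_iff (J := Opens.grothendieckTopology Y) (O := Y.sheaf) _).2 ?_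
  intro V q' q hq s hs
  exact hK' ((Opens.map f.base).obj V) q' q hq s hs

/-- `f^*` preserves the left orthogonals of the sectionwise acyclic complexes -/
lemma leftOrth_pullCh (P : CochainComplex Y.Modules ℤ) (hP : LeftOrth (𝒵 Y) P) :
    LeftOrth (𝒵 X) ((pullCh f).obj P) :=
  AdjOrth.leftOrth_map (Scheme.Modules.pullbackPushforwardAdjunction f) P (𝒵_pushforward f) hP

/-- cellular resolutions -/
lemma hres (K : CochainComplex Y.Modules ℤ) :
    ∃ (P : CochainComplex Y.Modules ℤ) (p : P ⟶ K), QuasiIso p ∧ LeftOrth (𝒵 Y) P :=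
  exists_resolution (hepi (Y := Y)) K

/-- `quotient ⋙ pullKh f ≅ pullCh f ⋙ Q` -/
noncomputable def e₂ : HomotopyCategory.quotient Y.Modules (ComplexShape.up ℤ) ⋙ DCoh.pullKh f ≅
    pullCh f ⋙ DerivedCategory.Q :=
  (Functor.associator _ _ _).symm ≪≫
    Functor.isoWhiskerRight ((Scheme.Modules.pullback f).mapHomotopyCategoryFactors
      (ComplexShape.up ℤ)) DerivedCategory.Qh ≪≫ Functor.associator _ _ _ ≪≫
    Functor.isoWhiskerLeft _ (DerivedCategory.quotientCompQhIso X.Modules)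

variable [DCoh.HasLpull f]

/-- the counit of `Lf^*` on the homotopy category -/
noncomputable abbrev αK : DerivedCategory.Qh ⋙ DCoh.Lpull f ⟶ DCoh.pullKh f :=
  (DCoh.pullKh f).totalLeftDerivedCounit DerivedCategory.Qh
    (HomotopyCategory.quasiIso Y.Modules (ComplexShape.up ℤ))

/-- the counit of `Lf^*` at the level of complexes -/
noncomputable def αCh : DerivedCategory.Q ⋙ DCoh.Lpull f ⟶ pullCh f ⋙ DerivedCategory.Q :=
  Groth.Agent.Lib.Helper36.KanPre.preαIso (HomotopyCategory.quotient Y.Modules (ComplexShape.up ℤ))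
    (DCoh.Lpull f) (αK f) (DerivedCategory.quotientCompQhIso Y.Modules) (e₂ f)

lemma isIso_αK_app (P : CochainComplex Y.Modules ℤ) (hP : LeftOrth (𝒵 Y) P) :
    IsIso ((αK f).app ((HomotopyCategory.quotient Y.Modules (ComplexShape.up ℤ)).obj P)) :=
  CellDer.isIso_counit_app_K (Scheme.Modules.pullbackPushforwardAdjunction f) hepi (hH f)
    DerivedCategory.Qh (HomotopyCategory.quasiIso Y.Modules (ComplexShape.up ℤ))
    (HomotopyCategory.quasiIso_eq_trW_subcategoryAcyclic _) (αK f) P hP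

lemma isIso_αCh_app (P : CochainComplex Y.Modules ℤ) (hP : LeftOrth (𝒵 Y) P) :
    IsIso ((αCh f).app P) := by
  haveI := isIso_αK_app f P hP
  dsimp only [αCh]
  rw [Groth.Agent.Lib.Helper36.KanPre.preαIso_app]
  infer_instance

section Comp

variable [DCoh.HasLpull g] [DCoh.HasLpull (f ≫ g)]

/-- `g^*` then `f^*` on complexes is `(f ≫ g)^*` -/
noncomputable def compIso : pullCh g ⋙ pullCh f ≅ pullCh (f ≫ g) :=
  Functor.mapHomologicalComplexCompIso (Scheme.Modules.pullbackComp f g) (ComplexShape.up ℤ)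

/-- the comparison `Q ⋙ (Lg^* ⋙ Lf^*) ⟶ (f ≫ g)^* ⋙ Q` -/
noncomputable def T₁ : DerivedCategory.Q ⋙ (DCoh.Lpull g ⋙ DCoh.Lpull f) ⟶
    pullCh (f ≫ g) ⋙ DerivedCategory.Q :=
  (Functor.associator _ _ _).inv ≫ Functor.whiskerRight (αCh g) (DCoh.Lpull f) ≫
    (Functor.associator _ _ _).hom ≫ Functor.whiskerLeft (pullCh g) (αCh f) ≫
    (Functor.associator _ _ _).inv ≫ Functor.whiskerRight (compIso f g).hom DerivedCategory.Q

lemma T₁_app (P : CochainComplex Z.Modules ℤ) :
    (T₁ f g).app P = (DCoh.Lpull f).map ((αCh g).app P) ≫ (αCh f).app ((pullCh g).obj P) ≫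
      DerivedCategory.Q.map ((compIso f g).hom.app P) := by
  simp [T₁]

/-- `Lg^* ⋙ Lf^* ≅ L(f ≫ g)^*` -/
theorem nonempty_comp_iso : Nonempty (DCoh.Lpull g ⋙ DCoh.Lpull f ≅ DCoh.Lpull (f ≫ g)) := by
  refine AdjOrth.nonempty_natIso_of_natTrans _ _ (pullCh (f ≫ g) ⋙ DerivedCategory.Q)
    (LeftOrth (𝒵 Z)) hres (T₁ f g) (αCh (f ≫ g)) ?_ (fun P hP => isIso_αCh_app (f ≫ g) P hP)
  intro P hP
  haveI := isIso_αCh_app g P hP
  haveI := isIso_αCh_app f _ (leftOrth_pullCh g P hP)
  rw [T₁_app]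
  infer_instance

end Comp

end Groth.Agent.Lib.Helper6.PullComp
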