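import Mathlib
import Groth.Agent.Lib.Helper6.CellDer
import Groth.Agent.Lib.Helper6.AdjOrth
import Groth.Agent.Lib.Helper12.HomotopyAdjunction

/-!
# Weakly K-injective complexes relative to a class `𝒵` (helper6)

`SS 𝒵 ⊂ K(A)` is the left orthogonal of `𝒵` (playing the role of K-flat complexes), `PA 𝒵` its
acyclic members and `WK 𝒵 = (PA 𝒵)^⊥` the "weakly K-injective" objects.

* `wk_of_isKInjective`: K-injective complexes are weakly K-injective;
* `rightOrthogonal_SS_of_acyclic`: an acyclic weakly K-injective object is right orthogonal to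
  the whole of `SS 𝒵` (needs `SS 𝒵`-resolutions);
* `wk_map`: a right adjoint `G` preserves weak K-injectivity when the left adjoint preserves
  `LeftOrth` and acyclicity of complexes in `LeftOrth`;
* `rightOrthogonal_cone`: the cone of a K-injective resolution of a weakly K-injective complex is
  right orthogonal to `SS 𝒵`;
* `exists_lift_of_rightOrthogonal`: lifting of cycles for relatively projective objects.
-/

set_option autoImplicit false
set_option linter.unusedSectionVars false
universe w v v' u u'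
open CategoryTheory CategoryTheory.Limits CochainComplex HomComplex HomotopyCategory
  Pretriangulated

namespace Groth.Agent.Lib.Helper6.WeakKInj

open Groth.Agent.Lib.Helper6.CellOrth Groth.Agent.Lib.Helper6.CellDer

variable {A : Type u} [Category.{v} A] [Abelian A]

section Basic

variable (𝒵 : CochainComplex A ℤ → Prop)

/-- the acyclic objects of `SS 𝒵` -/
abbrev PA : ObjectProperty (HomotopyCategory A (ComplexShape.up ℤ)) :=
  SS 𝒵 ⊓ subcategoryAcyclic A

/-- weakly K-injective objects -/
abbrev WK : ObjectProperty (HomotopyCategory A (ComplexShape.up ℤ)) := (PA 𝒵).rightOrthogonal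

lemma wk_of_isKInjective (J : CochainComplex A ℤ) [J.IsKInjective] :
    WK 𝒵 ((HomotopyCategory.quotient A (ComplexShape.up ℤ)).obj J) := by
  intro X f hX
  exact CochainComplex.IsKInjective.rightOrthogonal J f hX.2

variable {𝒵}

/-- an acyclic weakly K-injective object is right orthogonal to `SS 𝒵` -/
theorem rightOrthogonal_SS_of_acyclic
    (hres : ∀ X : HomotopyCategory A (ComplexShape.up ℤ),
      ∃ (Y : HomotopyCategory A (ComplexShape.up ℤ)) (s : Y ⟶ X),
        SS 𝒵 Y ∧ (subcategoryAcyclic A).trW s)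
    (C : HomotopyCategory A (ComplexShape.up ℤ)) (hC : WK 𝒵 C)
    (hCa : subcategoryAcyclic A C) : (SS 𝒵).rightOrthogonal C := by
  intro G u hG
  obtain ⟨F, a, b, hT⟩ := Pretriangulated.distinguished_cocone_triangle₁ u
  have ha : (subcategoryAcyclic A).trW a := ⟨_, _, _, hT, hCa⟩
  obtain ⟨P', t, hP', ht⟩ := hres F
  have hs : (subcategoryAcyclic A).trW (t ≫ a) := MorphismProperty.comp_mem _ _ _ ht ha
  have hau : a ≫ u = 0 := comp_distTriang_mor_zero₁₂ _ hT
  have hsu : (t ≫ a) ≫ u = 0 := by
    rw [Category.assoc, hau, comp_zero]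
  obtain ⟨G'', g, h, hT', hG''⟩ := hs
  have hG''P : SS 𝒵 G'' := (SS 𝒵).ext_of_isTriangulatedClosed₃ _ hT' hP' hG
  obtain ⟨w, hw⟩ := Pretriangulated.Triangle.yoneda_exact₂ _ hT' u hsu
  have hw0 : w = 0 := hC w ⟨hG''P, hG''⟩
  rw [hw, hw0]
  exact comp_zero

/-- the cone of a K-injective resolution of a weakly K-injective complex is right orthogonal to
`SS 𝒵` -/
theorem rightOrthogonal_cone
    (hres : ∀ X : HomotopyCategory A (ComplexShape.up ℤ),
      ∃ (Y : HomotopyCategory A (ComplexShape.up ℤ)) (s : Y ⟶ X),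
        SS 𝒵 Y ∧ (subcategoryAcyclic A).trW s)
    {M J : CochainComplex A ℤ} (j : M ⟶ J) [J.IsKInjective] (hj : QuasiIso j)
    (hM : WK 𝒵 ((HomotopyCategory.quotient A (ComplexShape.up ℤ)).obj M)) :
    (SS 𝒵).rightOrthogonal
      ((HomotopyCategory.quotient A (ComplexShape.up ℤ)).obj (mappingCone j)) := by
  apply rightOrthogonal_SS_of_acyclic hres
  · exact (WK 𝒵).ext_of_isTriangulatedClosed₃ _
      (HomotopyCategory.mappingCone_triangleh_distinguished j) hM (wk_of_isKInjective 𝒵 J)
  · rw [quotient_obj_mem_subcategoryAcyclic_iff_acyclic]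
    exact (Groth.Agent.Lib.Helper94.KFlatAbs.quasiIso_iff_acyclic_mappingCone j).1 hj

lemma relProj_of_iso' {M M' : A} (e : M ≅ M') (h : RelProj 𝒵 M) : RelProj 𝒵 M' := by
  intro Z hZ q' q hq u hu
  obtain ⟨v, hv⟩ := h Z hZ q' q hq (e.hom ≫ u) (by rw [Category.assoc, hu, comp_zero])
  exact ⟨e.inv ≫ v, by rw [Category.assoc, hv, e.inv_hom_id_assoc]⟩

lemma relProj_of_isZero {M : A} (hM : IsZero M) : RelProj 𝒵 M := by
  intro Z _ q' q _ u _
  exact ⟨0, hM.eq_of_src _ _⟩

/-- cycles out of relatively projective objects lift, for complexes right orthogonal to `SS 𝒵` -/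
theorem exists_lift_of_rightOrthogonal (C : CochainComplex A ℤ)
    (hC : (SS 𝒵).rightOrthogonal ((HomotopyCategory.quotient A (ComplexShape.up ℤ)).obj C))
    (N : A) (hN : RelProj 𝒵 N) (q' q : ℤ) (hq : q' + 1 = q) (u : N ⟶ C.X q)
    (hu : u ≫ C.d q (q + 1) = 0) : ∃ v : N ⟶ C.X q', v ≫ C.d q' q = u := by
  let S : CochainComplex A ℤ := (HomologicalComplex.single A (ComplexShape.up ℤ) q).obj N
  have hS : LeftOrth 𝒵 S := by
    refine leftOrth_of_d_eq_zero S (fun i j => HomologicalComplex.single_obj_d _ _ _ _ _)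
      (fun p => ?_)
    by_cases hp : p = q
    · subst hp
      exact relProj_of_iso' (HomologicalComplex.singleObjXSelf (ComplexShape.up ℤ) p N).symm hN
    · exact relProj_of_isZero
        (HomologicalComplex.isZero_single_obj_X (ComplexShape.up ℤ) q N p hp)
  let φ : S ⟶ C := HomologicalComplex.mkHomFromSingle u (fun k hk => by
    obtain rfl : q + 1 = k := hk
    exact hu)
  have h0 : (HomotopyCategory.quotient A (ComplexShape.up ℤ)).map φ = 0 :=
    hC _ ((SS_quotient_obj_iff S).2 hS)
  have hh : Homotopy φ 0 := HomotopyCategory.homotopyOfEq _ _ (by rw [h0, Functor.map_zero])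
  have hc := hh.comm q
  rw [dNext_eq hh.hom (show (ComplexShape.up ℤ).Rel q (q + 1) from rfl),
    prevD_eq hh.hom (show (ComplexShape.up ℤ).Rel q' q from hq),
    HomologicalComplex.single_obj_d, zero_comp, zero_add, HomologicalComplex.zero_f,
    add_zero, HomologicalComplex.mkHomFromSingle_f] at hc
  refine ⟨(HomologicalComplex.singleObjXSelf (ComplexShape.up ℤ) q N).inv ≫ hh.hom q q', ?_⟩
  rw [Category.assoc, ← hc, Iso.inv_hom_id_assoc]

end Basic

section Adj

variable {B : Type u'} [Category.{v'} B] [Abelian B]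
  {F : A ⥤ B} {G : B ⥤ A} [F.Additive] [G.Additive] (adj : F ⊣ G)
  {𝒵A : CochainComplex A ℤ → Prop} {𝒵B : CochainComplex B ℤ → Prop}

include adj in
/-- the right adjoint preserves weak K-injectivity -/
theorem wk_map
    (hF : ∀ P : CochainComplex A ℤ, LeftOrth 𝒵A P → P.Acyclic →
      LeftOrth 𝒵B ((F.mapHomologicalComplex (ComplexShape.up ℤ)).obj P) ∧
        ((F.mapHomologicalComplex (ComplexShape.up ℤ)).obj P).Acyclic)
    (M : HomotopyCategory B (ComplexShape.up ℤ)) (hM : WK 𝒵B M) :
    WK 𝒵A ((G.mapHomotopyCategory (ComplexShape.up ℤ)).obj M) := by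
  intro P' u hP'
  obtain ⟨P, rfl⟩ := P'.quotient_obj_surjective
  let adjK := Groth.Agent.Lib.Helper12.mapHomotopyCategoryAdj (ComplexShape.up ℤ) adj
  have hP1 : LeftOrth 𝒵A P := (SS_quotient_obj_iff P).1 hP'.1
  have hP2 : P.Acyclic := (quotient_obj_mem_subcategoryAcyclic_iff_acyclic P).1 hP'.2
  obtain ⟨hFP1, hFP2⟩ := hF P hP1 hP2
  have hmem : PA 𝒵B ((F.mapHomotopyCategory (ComplexShape.up ℤ)).obj
      ((HomotopyCategory.quotient A (ComplexShape.up ℤ)).obj P)) := by
    constructor
    · exact (SS 𝒵B).prop_of_iso ((F.mapHomotopyCategoryFactors (ComplexShape.up ℤ)).symm.app P)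
        ((SS_quotient_obj_iff _).2 hFP1)
    · exact (subcategoryAcyclic B).prop_of_iso
        ((F.mapHomotopyCategoryFactors (ComplexShape.up ℤ)).symm.app P)
        ((quotient_obj_mem_subcategoryAcyclic_iff_acyclic _).2 hFP2)
  have h1 : (adjK.homEquiv _ _).symm u = 0 := hM _ hmem
  have h2 : u = adjK.homEquiv _ _ ((adjK.homEquiv _ _).symm u) :=
    (Equiv.apply_symm_apply _ _).symm
  rw [h2, h1, Adjunction.homEquiv_unit, Functor.map_zero, comp_zero]

end Adj

end Groth.Agent.Lib.Helper6.WeakKInj
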