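import Mathlib
import Groth.Prelude.Def_DDual2
import Groth.Agent.Lib.Helper6.PullComp
import Groth.Agent.Lib.Helper6.WeakKInj
import Groth.Agent.Lib.Helper6.ExtNatIsoR
import Groth.Agent.Lib.Helper99.KInjDerK

/-!
# `Rg_* ∘ Rf_* ≅ R(g ∘ f)_*` on unbounded derived categories of `O`-modules (helper6)

* `WKc M`: the complex `M` of `O_Y`-modules is weakly K-injective (right orthogonal in `K(O_Y)`
  to the acyclic complexes of `LeftOrth (𝒵 Y)`);
* `wkc_pushforward`: `f_*` of a K-injective complex is weakly K-injective;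
* `quasiIso_pushCh_map`: `g_*` preserves K-injective resolutions of weakly K-injective complexes;
* `isIso_βK_app`: the unit `Q (g_* M) ⟶ Rg_* (Q M)` is an isomorphism for `M` weakly K-injective;
* `nonempty_comp_iso`: `Rf_* ⋙ Rg_* ≅ R(f ≫ g)_*`.
-/

set_option autoImplicit false
universe u
open CategoryTheory CategoryTheory.Limits AlgebraicGeometry TopologicalSpace HomotopyCategory
  CochainComplex

attribute [local instance] HasDerivedCategory.standard

namespace Groth.Agent.Lib.Helper6.PushComp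

open Groth.Agent.Lib.Helper6.CellOrth Groth.Agent.Lib.Helper6.PullDer
  Groth.Agent.Lib.Helper6.PullComp Groth.Agent.Lib.Helper6.CellDer
  Groth.Agent.Lib.Helper99.RestrKInj

variable {X Y Z : Scheme.{u}} (f : X ⟶ Y) (g : Y ⟶ Z)

/-- `f_*` on complexes -/
noncomputable abbrev pushCh : CochainComplex X.Modules ℤ ⥤ CochainComplex Y.Modules ℤ :=
  (Scheme.Modules.pushforward f).mapHomologicalComplex (ComplexShape.up ℤ)

lemma hresK (K : HomotopyCategory Y.Modules (ComplexShape.up ℤ)) :
    ∃ (P : HomotopyCategory Y.Modules (ComplexShape.up ℤ)) (s : P ⟶ K),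
      SS (𝒵 Y) P ∧ (subcategoryAcyclic Y.Modules).trW s :=
  CellDer.hres (hepi (Y := Y)) K

/-- weakly K-injective complexes of `O_Y`-modules -/
def WKc (M : CochainComplex Y.Modules ℤ) : Prop :=
  WeakKInj.WK (𝒵 Y) ((HomotopyCategory.quotient Y.Modules (ComplexShape.up ℤ)).obj M)

lemma wkc_of_isKInjective (J : CochainComplex Y.Modules ℤ) [J.IsKInjective] : WKc J :=
  WeakKInj.wk_of_isKInjective (𝒵 Y) J

/-- `f_*` of a K-injective complex is weakly K-injective -/
lemma wkc_pushforward (I : CochainComplex X.Modules ℤ) [I.IsKInjective] :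
    WKc ((pushCh f).obj I) := by
  have h := WeakKInj.wk_map (Scheme.Modules.pullbackPushforwardAdjunction f)
    (𝒵A := 𝒵 Y) (𝒵B := 𝒵 X)
    (fun P hP hPa => ⟨leftOrth_pullCh f P hP, acyclic_pullback f P hPa hP⟩)
    ((HomotopyCategory.quotient X.Modules (ComplexShape.up ℤ)).obj I)
    (WeakKInj.wk_of_isKInjective (𝒵 X) I)
  exact (WeakKInj.WK (𝒵 Y)).prop_of_iso
    (((Scheme.Modules.pushforward f).mapHomotopyCategoryFactors (ComplexShape.up ℤ)).app I) h

/-- the cone of a K-injective resolution of a weakly K-injective complex is sectionwise acyclic -/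
lemma 𝒵_cone {M J : CochainComplex Y.Modules ℤ} (j : M ⟶ J) [J.IsKInjective]
    (hj : QuasiIso j) (hM : WKc M) : 𝒵 Y (mappingCone j) := by
  have hC := WeakKInj.rightOrthogonal_cone (𝒵 := 𝒵 Y) hresK j hj hM
  intro V q' q hq u hu
  exact WeakKInj.exists_lift_of_rightOrthogonal (mappingCone j) hC _
    (SectAcyc.relProj_freeOn (J := Opens.grothendieckTopology Y) Y.sheaf V) q' q hq u hu

/-- `g_*` preserves K-injective resolutions of weakly K-injective complexes -/
lemma quasiIso_pushCh_map {M J : CochainComplex Y.Modules ℤ} (j : M ⟶ J) [J.IsKInjective]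
    (hj : QuasiIso j) (hM : WKc M) : QuasiIso ((pushCh g).map j) := by
  rw [Groth.Agent.Lib.Helper94.KFlatAbs.quasiIso_iff_acyclic_mappingCone]
  have h1 : 𝒵 Z ((pushCh g).obj (mappingCone j)) := 𝒵_pushforward g _ (𝒵_cone j hj hM)
  have h2 : ((pushCh g).obj (mappingCone j)).Acyclic :=
    SectAcyc.acyclic_of_sectAcyclic (J := Opens.grothendieckTopology Z) (O := Z.sheaf) _ h1
  intro n
  exact (h2 n).of_iso (mappingCone.mapHomologicalComplexIso j (Scheme.Modules.pushforward g))

/-- K-injective resolutions -/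
lemma hresR (K : CochainComplex X.Modules ℤ) :
    ∃ (I : CochainComplex X.Modules ℤ) (j : K ⟶ I), QuasiIso j ∧ I.IsKInjective := by
  obtain ⟨I, j, hI, hj, -, -⟩ := Groth.Agent.Lib.Helper99.KInj.exists_kInjective_resolution K
  exact ⟨I, j, hj, hI⟩

/-- `quotient ⋙ pushKh f ≅ pushCh f ⋙ Q` -/
noncomputable def e₂ : HomotopyCategory.quotient X.Modules (ComplexShape.up ℤ) ⋙ DCoh.pushKh f ≅
    pushCh f ⋙ DerivedCategory.Q :=
  (Functor.associator _ _ _).symm ≪≫
    Functor.isoWhiskerRight ((Scheme.Modules.pushforward f).mapHomotopyCategoryFactors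
      (ComplexShape.up ℤ)) DerivedCategory.Qh ≪≫ Functor.associator _ _ _ ≪≫
    Functor.isoWhiskerLeft _ (DerivedCategory.quotientCompQhIso Y.Modules)

section Unit

variable [DCoh.HasRpush g]

/-- the unit of `Rg_*` on the homotopy category -/
noncomputable abbrev βK : DCoh.pushKh g ⟶ DerivedCategory.Qh ⋙ DCoh.Rpush g :=
  (DCoh.pushKh g).totalRightDerivedUnit DerivedCategory.Qh
    (HomotopyCategory.quasiIso Y.Modules (ComplexShape.up ℤ))

lemma isIso_βK_app_of_isKInjective (J : CochainComplex Y.Modules ℤ) [hJ : J.IsKInjective] :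
    IsIso ((βK g).app ((HomotopyCategory.quotient Y.Modules (ComplexShape.up ℤ)).obj J)) :=
  Groth.Agent.Lib.Helper99.KInj.isIso_app_of_kInjK (DCoh.pushKh g) (DCoh.Rpush g) (βK g) _ hJ

/-- the unit `Q (g_* M) ⟶ Rg_* (Q M)` is an isomorphism for `M` weakly K-injective -/
lemma isIso_βK_app (M : CochainComplex Y.Modules ℤ) (hM : WKc M) :
    IsIso ((βK g).app ((HomotopyCategory.quotient Y.Modules (ComplexShape.up ℤ)).obj M)) := by
  obtain ⟨J, j, hj, hJ⟩ := hresR M
  have nat := (βK g).naturality ((HomotopyCategory.quotient Y.Modules (ComplexShape.up ℤ)).map j)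
  haveI i2 := isIso_βK_app_of_isKInjective g J
  haveI i1 : IsIso ((DCoh.pushKh g).map
      ((HomotopyCategory.quotient Y.Modules (ComplexShape.up ℤ)).map j)) := by
    change IsIso (DerivedCategory.Qh.map
      (((Scheme.Modules.pushforward g).mapHomotopyCategory (ComplexShape.up ℤ)).map
        ((HomotopyCategory.quotient Y.Modules (ComplexShape.up ℤ)).map j)))
    rw [DerivedCategory.isIso_Qh_map_iff, Functor.mapHomotopyCategory_map]
    exact (quotient_map_mem_quasiIso_iff _).2
      ((HomologicalComplex.mem_quasiIso_iff _).2 (quasiIso_pushCh_map g j hj hM))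
  haveI i3 : IsIso ((DerivedCategory.Qh ⋙ DCoh.Rpush g).map
      ((HomotopyCategory.quotient Y.Modules (ComplexShape.up ℤ)).map j)) := by
    haveI : IsIso (DerivedCategory.Qh.map
        ((HomotopyCategory.quotient Y.Modules (ComplexShape.up ℤ)).map j)) := by
      rw [DerivedCategory.isIso_Qh_map_iff, quotient_map_mem_quasiIso_iff,
        HomologicalComplex.mem_quasiIso_iff]
      exact hj
    rw [Functor.comp_map]
    infer_instance
  have e : (βK g).app ((HomotopyCategory.quotient Y.Modules (ComplexShape.up ℤ)).obj M) =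
      ((DCoh.pushKh g).map ((HomotopyCategory.quotient Y.Modules (ComplexShape.up ℤ)).map j) ≫
        (βK g).app ((HomotopyCategory.quotient Y.Modules (ComplexShape.up ℤ)).obj J)) ≫
      inv ((DerivedCategory.Qh ⋙ DCoh.Rpush g).map
        ((HomotopyCategory.quotient Y.Modules (ComplexShape.up ℤ)).map j)) := by
    rw [IsIso.eq_comp_inv]
    exact nat.symm
  rw [e]
  infer_instance

/-- the unit of `Rg_*` at the level of complexes -/
noncomputable def βCh : pushCh g ⋙ DerivedCategory.Q ⟶ DerivedCategory.Q ⋙ DCoh.Rpush g :=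
  (e₂ g).inv ≫ Functor.whiskerLeft (HomotopyCategory.quotient Y.Modules (ComplexShape.up ℤ))
    (βK g) ≫ (Functor.associator _ _ _).inv ≫
    Functor.whiskerRight (DerivedCategory.quotientCompQhIso Y.Modules).hom (DCoh.Rpush g)

lemma βCh_app (M : CochainComplex Y.Modules ℤ) :
    (βCh g).app M = (e₂ g).inv.app M ≫
      (βK g).app ((HomotopyCategory.quotient Y.Modules (ComplexShape.up ℤ)).obj M) ≫
      (DCoh.Rpush g).map ((DerivedCategory.quotientCompQhIso Y.Modules).hom.app M) := by
  simp [βCh]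

lemma isIso_βCh_app (M : CochainComplex Y.Modules ℤ) (hM : WKc M) : IsIso ((βCh g).app M) := by
  haveI := isIso_βK_app g M hM
  rw [βCh_app]
  infer_instance

end Unit

section Comp

variable [DCoh.HasRpush f] [DCoh.HasRpush g] [DCoh.HasRpush (f ≫ g)]

/-- `f_*` then `g_*` on complexes is `(f ≫ g)_*` -/
noncomputable def compIso : pushCh f ⋙ pushCh g ≅ pushCh (f ≫ g) :=
  Functor.mapHomologicalComplexCompIso (Scheme.Modules.pushforwardComp f g) (ComplexShape.up ℤ)

/-- the comparison `(f ≫ g)_* ⋙ Q ⟶ Q ⋙ (Rf_* ⋙ Rg_*)` -/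
noncomputable def T₁ : pushCh (f ≫ g) ⋙ DerivedCategory.Q ⟶
    DerivedCategory.Q ⋙ (DCoh.Rpush f ⋙ DCoh.Rpush g) :=
  Functor.whiskerRight (compIso f g).inv DerivedCategory.Q ≫ (Functor.associator _ _ _).hom ≫
    Functor.whiskerLeft (pushCh f) (βCh g) ≫ (Functor.associator _ _ _).inv ≫
    Functor.whiskerRight (βCh f) (DCoh.Rpush g) ≫ (Functor.associator _ _ _).hom

lemma T₁_app (I : CochainComplex X.Modules ℤ) :
    (T₁ f g).app I = DerivedCategory.Q.map ((compIso f g).inv.app I) ≫
      (βCh g).app ((pushCh f).obj I) ≫ (DCoh.Rpush g).map ((βCh f).app I) := by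
  simp [T₁]

/-- `Rf_* ⋙ Rg_* ≅ R(f ≫ g)_*` -/
theorem nonempty_comp_iso : Nonempty (DCoh.Rpush f ⋙ DCoh.Rpush g ≅ DCoh.Rpush (f ≫ g)) := by
  refine ExtNatIsoR.nonempty_natIso_of_natTrans _ _ (fun I => I.IsKInjective) hresR
    (pushCh (f ≫ g) ⋙ DerivedCategory.Q) (T₁ f g) (βCh (f ≫ g)) ?_
    (fun I hI => by
      haveI : I.IsKInjective := hI
      exact isIso_βCh_app (f ≫ g) I (wkc_of_isKInjective I))
  intro I hI
  haveI : I.IsKInjective := hI
  haveI := isIso_βCh_app f I (wkc_of_isKInjective I)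
  haveI := isIso_βCh_app g _ (wkc_pushforward f I)
  rw [T₁_app]
  infer_instance

end Comp

end Groth.Agent.Lib.Helper6.PushComp
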