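import Mathlib
import Groth.Prelude.Def_DDual2
import Groth.Agent.Lib.Helper6.PushComp
import Groth.Agent.Lib.Helper94.DerivesLeft
import Groth.Agent.Lib.Helper12.HomotopyAdjunction

/-!
# The derived adjunction `Lf^* ⊣ Rf_*` on unbounded derived categories of `O`-modules (helper6)

* `isLeftDerivedFunctor_of_isIso`: dual of Mathlib's `Derives.isRightDerivedFunctor_of_isIso`;
* `isLeftDerivedFunctor_comp`: left derived functors computed by a left derivability structure are
  absolute;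
* `derivedAdj f : DCoh.Lpull f ⊣ DCoh.Rpush f`.
-/

set_option autoImplicit false
set_option linter.style.haveILetI false
universe v₁ v₂ v₃ v₄ v₅ u₁ u₂ u₃ u₄ u₅ u
open CategoryTheory CategoryTheory.Limits AlgebraicGeometry HomotopyCategory

attribute [local instance] HasDerivedCategory.standard

namespace Groth.Agent.Lib.Helper6.DerAdjPull

section Abstract

variable {C₁ : Type u₁} {C₂ : Type u₂} {H : Type u₃} [Category.{v₁} C₁] [Category.{v₂} C₂]
  [Category.{v₃} H] {D₂ : Type u₄} [Category.{v₄} D₂]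
  {W₁ : MorphismProperty C₁} {W₂ : MorphismProperty C₂}

/-- dual of `LocalizerMorphism.Derives.isRightDerivedFunctor_of_isIso` -/
theorem isLeftDerivedFunctor_of_isIso (Φ : LocalizerMorphism W₁ W₂)
    [Φ.IsLeftDerivabilityStructure] (F : C₂ ⥤ H) (hF : W₁.IsInvertedBy (Φ.functor ⋙ F))
    (L₂ : C₂ ⥤ D₂) [L₂.IsLocalization W₂] (LF : D₂ ⥤ H) (α : L₂ ⋙ LF ⟶ F)
    (hα : ∀ X₁ : C₁, IsIso (α.app (Φ.functor.obj X₁))) :
    LF.IsLeftDerivedFunctor α W₂ := by
  haveI : F.HasLeftDerivedFunctor W₂ :=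
    KanDual.hasLeftDerivedFunctor_of_isLeftDerivabilityStructure Φ F hF
  have h' := fun X₁ => Groth.Agent.Lib.Helper94.DerivesLeft.isIso_app_of_isLeftDerivabilityStructure
    Φ F hF L₂ (F.totalLeftDerived L₂ W₂) (F.totalLeftDerivedCounit L₂ W₂) X₁
  haveI := Φ.essSurj_of_hasLeftResolutions L₂
  let φ := (F.totalLeftDerived L₂ W₂).leftDerivedLift (F.totalLeftDerivedCounit L₂ W₂) W₂ LF α
  have hφ : Functor.whiskerLeft L₂ φ ≫ F.totalLeftDerivedCounit L₂ W₂ = α :=
    (F.totalLeftDerived L₂ W₂).leftDerived_fac (F.totalLeftDerivedCounit L₂ W₂) W₂ LF α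
  have : IsIso φ := by
    rw [NatTrans.isIso_iff_isIso_app]
    intro Y₂
    rw [NatTrans.isIso_app_iff_of_iso φ ((Φ.functor ⋙ L₂).objObjPreimageIso Y₂).symm]
    dsimp
    have h1 := hα ((Φ.functor ⋙ L₂).objPreimage Y₂)
    have h2 := h' ((Φ.functor ⋙ L₂).objPreimage Y₂)
    rw [← hφ] at h1
    simp only [NatTrans.comp_app, Functor.whiskerLeft_app] at h1
    exact IsIso.of_isIso_comp_right _ ((F.totalLeftDerivedCounit L₂ W₂).app _)
  rw [Functor.isLeftDerivedFunctor_iff_of_iso _ _ α (F.totalLeftDerivedCounit L₂ W₂) W₂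
    (asIso φ) (by simpa using hφ)]
  infer_instance

/-- left derived functors computed by a left derivability structure are absolute -/
theorem isLeftDerivedFunctor_comp (Φ : LocalizerMorphism W₁ W₂)
    [Φ.IsLeftDerivabilityStructure] (F : C₂ ⥤ H) (hF : W₁.IsInvertedBy (Φ.functor ⋙ F))
    (L₂ : C₂ ⥤ D₂) [L₂.IsLocalization W₂] (LF : D₂ ⥤ H) (α : L₂ ⋙ LF ⟶ F)
    [LF.IsLeftDerivedFunctor α W₂] {H' : Type u₅} [Category.{v₅} H'] (T : H ⥤ H') :
    (LF ⋙ T).IsLeftDerivedFunctor
      ((Functor.associator _ _ _).inv ≫ Functor.whiskerRight α T) W₂ := by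
  apply isLeftDerivedFunctor_of_isIso Φ (F ⋙ T)
  · intro X Y f hf
    have := hF f hf
    change IsIso (T.map ((Φ.functor ⋙ F).map f))
    infer_instance
  · intro X₁
    have := Groth.Agent.Lib.Helper94.DerivesLeft.isIso_app_of_isLeftDerivabilityStructure
      Φ F hF L₂ LF α X₁
    simp only [NatTrans.comp_app, Functor.whiskerRight_app, Functor.associator_inv_app]
    infer_instance

end Abstract

section Concrete

open Groth.Agent.Lib.Helper6.CellOrth Groth.Agent.Lib.Helper6.PullDer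
  Groth.Agent.Lib.Helper6.PullComp Groth.Agent.Lib.Helper6.CellDer
  Groth.Agent.Lib.Helper6.PushComp

variable {X Y : Scheme.{u}} (f : X ⟶ Y)

/-- `Lf^*` is an absolute left derived functor (general `W` for rewriting) -/
theorem isLeftDerivedFunctor_Lpull_comp_aux [DCoh.HasLpull f]
    (W : MorphismProperty (HomotopyCategory Y.Modules (ComplexShape.up ℤ)))
    (hW : W = (subcategoryAcyclic Y.Modules).trW)
    {D : Type*} [Category D] (L : HomotopyCategory Y.Modules (ComplexShape.up ℤ) ⥤ D)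
    [L.IsLocalization W] (LF : D ⥤ DCoh.D X) (α : L ⋙ LF ⟶ DCoh.pullKh f)
    [LF.IsLeftDerivedFunctor α W]
    {H' : Type*} [Category H'] (T : DCoh.D X ⥤ H') :
    (LF ⋙ T).IsLeftDerivedFunctor
      ((Functor.associator _ _ _).inv ≫ Functor.whiskerRight α T) W := by
  subst hW
  haveI := CellDer.isLeftDerivabilityStructure (𝒵 := 𝒵 Y) hepi
  exact isLeftDerivedFunctor_comp
    ((SS (𝒵 Y)).triangulatedLocalizerMorphism (subcategoryAcyclic Y.Modules)) (DCoh.pullKh f)
    (CellDer.hG (Scheme.Modules.pullbackPushforwardAdjunction f) (hH f)) L LF α T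

/-- `Lf^*` is an absolute left derived functor -/
theorem isLeftDerivedFunctor_Lpull_comp [DCoh.HasLpull f]
    {H' : Type*} [Category H'] (T : DCoh.D X ⥤ H') :
    (DCoh.Lpull f ⋙ T).IsLeftDerivedFunctor
      ((Functor.associator _ _ _).inv ≫ Functor.whiskerRight (αK f) T)
      (HomotopyCategory.quasiIso Y.Modules (ComplexShape.up ℤ)) :=
  isLeftDerivedFunctor_Lpull_comp_aux f _ (HomotopyCategory.quasiIso_eq_trW_subcategoryAcyclic _)
    DerivedCategory.Qh (DCoh.Lpull f) (αK f) T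

/-- the adjunction `f^* ⊣ f_*` on homotopy categories -/
noncomputable abbrev adjK :
    (Scheme.Modules.pullback f).mapHomotopyCategory (ComplexShape.up ℤ) ⊣
      (Scheme.Modules.pushforward f).mapHomotopyCategory (ComplexShape.up ℤ) :=
  Groth.Agent.Lib.Helper12.mapHomotopyCategoryAdj (ComplexShape.up ℤ)
    (Scheme.Modules.pullbackPushforwardAdjunction f)

/-- **the derived adjunction `Lf^* ⊣ Rf_*`** -/
noncomputable def derivedAdj [DCoh.HasLpull f] [DCoh.HasRpush f] :
    DCoh.Lpull f ⊣ DCoh.Rpush f :=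
  haveI := isLeftDerivedFunctor_Lpull_comp f (DCoh.Rpush f)
  haveI := Groth.Agent.Lib.Helper99.KInj.isRightDerivedFunctor_comp_K (DCoh.pushKh f)
    (DCoh.Rpush f) (βK f) (DCoh.Lpull f)
  (adjK f).derived (HomotopyCategory.quasiIso Y.Modules (ComplexShape.up ℤ))
    (HomotopyCategory.quasiIso X.Modules (ComplexShape.up ℤ)) (αK f) (βK f)

end Concrete

end Groth.Agent.Lib.Helper6.DerAdjPull
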