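import Mathlib
import Groth.Agent.Lib.Helper68.DerCoprod

/-!
# Products of complexes, quasi-isomorphisms and homotopies (dual of helper68's DerCoprod) (helper6)
-/

set_option autoImplicit false
set_option linter.style.haveILetI false
set_option linter.unusedSectionVars false

open CategoryTheory Limits

namespace Groth.Agent.Lib.Helper6.DerProd

open Groth.Agent.Lib.Helper68.DerCoprod (fam famMap quasiIso_famMap)

universe w w' v u

variable {A : Type u} [Category.{v} A] [Abelian A] {J : Type w}
  {ι : Type*} {c : ComplexShape ι}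

set_option backward.defeqAttrib.useBackward true in
set_option backward.isDefEq.respectTransparency false in
instance limAdditive {J C : Type*} [Category* J] [Category* C] [HasLimitsOfShape J C]
    [Preadditive C] : (lim (J := J) (C := C)).Additive where
  map_add {X Y f g} := by
    apply limit.hom_ext
    intro j
    simp

section

variable [HasLimitsOfShape (Discrete J) A]

/-- The termwise product of a family of complexes. -/
noncomputable def piC (K : J → HomologicalComplex A c) : HomologicalComplex A c :=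
  ((lim (J := Discrete J) (C := A)).mapHomologicalComplex c).obj (fam K)

/-- The termwise product of a family of morphisms of complexes. -/
noncomputable def mapP {K L : J → HomologicalComplex A c} (t : ∀ j, K j ⟶ L j) :
    piC K ⟶ piC L :=
  ((lim (J := Discrete J) (C := A)).mapHomologicalComplex c).map (famMap t)

lemma quasiIso_mapP [HasExactLimitsOfShape (Discrete J) A] {K L : J → HomologicalComplex A c}
    (t : ∀ j, K j ⟶ L j) [∀ j, QuasiIso (t j)] : QuasiIso (mapP t) := by
  have := quasiIso_famMap t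
  dsimp only [mapP]
  exact HomologicalComplex.quasiIso_map_of_preservesHomology (famMap t) lim

set_option backward.isDefEq.respectTransparency false in
/-- The projection of the termwise product to a factor. -/
noncomputable def πC (K : J → HomologicalComplex A c) (j : J) : piC K ⟶ K j where
  f i := limit.π ((fam K).X i) ⟨j⟩
  comm' i i' _ := by
    simp [piC]

set_option backward.isDefEq.respectTransparency false in
@[reassoc (attr := simp)]
lemma mapP_πC {K L : J → HomologicalComplex A c} (t : ∀ j, K j ⟶ L j) (j : J) :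
    mapP t ≫ πC L j = πC K j ≫ t j := by
  ext i
  simp [πC, mapP]

set_option backward.isDefEq.respectTransparency false in
/-- The morphism to the termwise product induced by a family of morphisms. -/
noncomputable def liftC {K : J → HomologicalComplex A c} {Y : HomologicalComplex A c}
    (g : ∀ j, Y ⟶ K j) : Y ⟶ piC K where
  f i := limit.lift ((fam K).X i) ⟨Y.X i, Discrete.natTrans (fun j => (g j.as).f i)⟩
  comm' i i' _ := by
    apply limit.hom_ext
    rintro ⟨j⟩
    simp [piC]

set_option backward.isDefEq.respectTransparency false in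
@[reassoc (attr := simp)]
lemma liftC_πC {K : J → HomologicalComplex A c} {Y : HomologicalComplex A c}
    (g : ∀ j, Y ⟶ K j) (j : J) : liftC g ≫ πC K j = g j := by
  ext i
  simp [πC, liftC]

lemma hom_extC {K : J → HomologicalComplex A c} {Y : HomologicalComplex A c}
    {φ ψ : Y ⟶ piC K} (h : ∀ j, φ ≫ πC K j = ψ ≫ πC K j) : φ = ψ := by
  ext i
  apply limit.hom_ext
  rintro ⟨j⟩
  exact congrArg (fun t => t.f i) (h j)

set_option backward.isDefEq.respectTransparency false in
/-- Homotopies can be glued along the termwise product. -/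
noncomputable def homotopyP {K : J → HomologicalComplex A c} {Y : HomologicalComplex A c}
    (φ ψ : Y ⟶ piC K) (h : ∀ j, Homotopy (φ ≫ πC K j) (ψ ≫ πC K j)) : Homotopy φ ψ where
  hom i i' := limit.lift ((fam K).X i') ⟨Y.X i, Discrete.natTrans (fun j => (h j.as).hom i i')⟩
  zero i i' hii' := by
    apply limit.hom_ext
    rintro ⟨j⟩
    simp [(h j).zero i i' hii']
  comm i := by
    apply limit.hom_ext
    rintro ⟨j⟩
    have := (h j).comm i
    simp [dNext, prevD, πC, piC] at this ⊢
    exact this

end

section Derived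

open DerivedCategory

variable {C : Type u} [Category.{v} C] [Abelian C] [HasDerivedCategory.{w'} C]
  {J : Type w} [HasLimitsOfShape (Discrete J) C] [HasExactLimitsOfShape (Discrete J) C]

instance isIso_Q_map_mapP {K L : J → CochainComplex C ℤ} (t : ∀ j, K j ⟶ L j)
    [∀ j, QuasiIso (t j)] : IsIso (Q.map (mapP t)) := by
  have := quasiIso_mapP t
  rw [isIso_Q_map_iff_quasiIso]
  infer_instance

/-- Existence part of the universal property of `Q.obj (piC K)`. -/
lemma exists_lift (K : J → CochainComplex C ℤ) (T : DerivedCategory C)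
    (f : ∀ j, T ⟶ Q.obj (K j)) :
    ∃ φ : T ⟶ Q.obj (piC K), ∀ j, φ ≫ Q.map (πC K j) = f j := by
  obtain ⟨Y, ⟨e⟩⟩ : ∃ Y : CochainComplex C ℤ, Nonempty (Q.obj Y ≅ T) :=
    ⟨_, ⟨Q.objObjPreimageIso T⟩⟩
  have H : ∀ j, ∃ (Y' : CochainComplex C ℤ) (g : Y ⟶ Y') (s : K j ⟶ Y') (_ : IsIso (Q.map s)),
      e.hom ≫ f j = Q.map g ≫ inv (Q.map s) := fun j => left_fac (e.hom ≫ f j)
  choose K' g s hs hg using H
  have : ∀ j, QuasiIso (s j) := fun j => (isIso_Q_map_iff_quasiIso _ (s j)).1 (hs j)
  refine ⟨e.inv ≫ Q.map (liftC g) ≫ inv (Q.map (mapP s)), fun j => ?_⟩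
  have h1 : inv (Q.map (mapP s)) ≫ Q.map (πC K j) = Q.map (πC K' j) ≫ inv (Q.map (s j)) := by
    rw [← cancel_epi (Q.map (mapP s)), ← cancel_mono (Q.map (s j))]
    simp only [Category.assoc, IsIso.inv_hom_id, Category.comp_id, IsIso.hom_inv_id_assoc]
    rw [← Q.map_comp, ← Q.map_comp, mapP_πC]
  rw [Category.assoc, Category.assoc, h1, ← Q.map_comp_assoc, liftC_πC, ← hg j]
  simp

omit [HasLimitsOfShape (Discrete J) C] [HasExactLimitsOfShape (Discrete J) C] in
/-- If `Q.map f = 0`, then `f` becomes null-homotopic after postcomposition with a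
quasi-isomorphism. -/
lemma exists_quasiIso_homotopy_zero {X Y : CochainComplex C ℤ} (f : X ⟶ Y) (hf : Q.map f = 0) :
    ∃ (Y' : CochainComplex C ℤ) (t : Y ⟶ Y') (_ : QuasiIso t), Nonempty (Homotopy (f ≫ t) 0) := by
  have h1 : Qh.map ((HomotopyCategory.quotient _ _).map f) =
      Qh.map (0 : (HomotopyCategory.quotient _ _).obj X ⟶ (HomotopyCategory.quotient _ _).obj Y) := by
    rw [← cancel_mono ((quotientCompQhIso C).hom.app Y), quotientCompQhIso_hom_naturality, hf]
    simp
  obtain ⟨Z, s, hs, hsf⟩ := (MorphismProperty.map_eq_iff_postcomp Qh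
    (HomotopyCategory.quasiIso C (ComplexShape.up ℤ)) _ _).1 h1
  obtain ⟨Y', rfl⟩ := HomotopyCategory.quotient_obj_surjective Z
  obtain ⟨t, rfl⟩ := (HomotopyCategory.quotient _ _).map_surjective s
  rw [HomotopyCategory.quotient_map_mem_quasiIso_iff] at hs
  refine ⟨Y', t, hs, ?_⟩
  rw [← HomotopyCategory.quotient_map_eq_zero_iff, Functor.map_comp, hsf, Limits.zero_comp]

/-- Uniqueness part of the universal property of `Q.obj (piC K)`. -/
lemma hom_ext (K : J → CochainComplex C ℤ) (T : DerivedCategory C)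
    (φ ψ : T ⟶ Q.obj (piC K)) (h : ∀ j, φ ≫ Q.map (πC K j) = ψ ≫ Q.map (πC K j)) :
    φ = ψ := by
  suffices H : ∀ χ : T ⟶ Q.obj (piC K), (∀ j, χ ≫ Q.map (πC K j) = 0) → χ = 0 by
    rw [← sub_eq_zero]
    apply H
    intro j
    rw [Preadditive.sub_comp, h j, sub_self]
  intro χ hχ
  obtain ⟨Y, ⟨e⟩⟩ : ∃ Y : CochainComplex C ℤ, Nonempty (Q.obj Y ≅ T) :=
    ⟨_, ⟨Q.objObjPreimageIso T⟩⟩
  obtain ⟨Y', s, hs, g, hg⟩ := right_fac (e.hom ≫ χ)
  have h0 : ∀ j, Q.map (g ≫ πC K j) = 0 := by
    intro j
    rw [Q.map_comp, ← cancel_epi (inv (Q.map s)), ← Category.assoc, ← hg, Category.assoc, hχ j]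
    simp
  have H : ∀ j, ∃ (X' : CochainComplex C ℤ) (t : K j ⟶ X') (_ : QuasiIso t),
      Nonempty (Homotopy ((g ≫ πC K j) ≫ t) 0) := fun j => exists_quasiIso_homotopy_zero _ (h0 j)
  choose K' t ht hh using H
  have hG : Homotopy (g ≫ mapP t) 0 := homotopyP _ _ (fun j =>
    (Homotopy.ofEq (by simp)).trans ((hh j).some.trans (Homotopy.ofEq (by simp))))
  have h2 : Q.map g ≫ Q.map (mapP t) = 0 := by
    rw [← Q.map_comp, Q_map_eq_of_homotopy _ hG, Q.map_zero]
  have h3 : Q.map g = 0 := by
    rw [← cancel_mono (Q.map (mapP t)), h2, Limits.zero_comp]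
  rw [h3, Limits.comp_zero] at hg
  rw [← cancel_epi e.hom, hg, Limits.comp_zero]

/-- `Q.obj (piC K)` is a product of the `Q.obj (K j)` in the derived category. -/
noncomputable def isLimitFan (K : J → CochainComplex C ℤ) :
    IsLimit (Fan.mk (Q.obj (piC K)) (fun j => Q.map (πC K j))) :=
  Fan.IsLimit.mk _ (fun t => (exists_lift K t.pt t.proj).choose)
    (fun t j => (exists_lift K t.pt t.proj).choose_spec j)
    (fun t _ hm => hom_ext K _ _ _ (fun j =>
      (hm j).trans ((exists_lift K t.pt t.proj).choose_spec j).symm))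

end Derived

end Groth.Agent.Lib.Helper6.DerProd
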