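import Mathlib

/-!
# Right derivability structures from triangulated subcategories with resolutions (helper6)

Let `C` be a triangulated category, `B` a triangulated subcategory closed under isomorphisms
(the "acyclic" objects) and `S` a triangulated subcategory such that every object `X` of `C`
admits a morphism `X ⟶ Y` in `B.trW` with `Y` in `S`. Then the localizer morphism
`S.triangulatedLocalizerMorphism B` is a right derivability structure.
-/

set_option autoImplicit false
set_option linter.style.haveILetI false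
set_option linter.unusedSectionVars false

namespace Groth.Agent.Lib.Helper6.DerivStruct

open CategoryTheory Limits Pretriangulated

variable {C : Type*} [Category C] [HasZeroObject C] [HasShift C ℤ] [Preadditive C]
  [∀ n : ℤ, (shiftFunctor C n).Additive] [Pretriangulated C] [IsTriangulated C]
  (S B : ObjectProperty C) [S.IsTriangulated] [S.IsClosedUnderIsomorphisms] [B.IsTriangulated]
  [B.IsClosedUnderIsomorphisms]
  (hres : ∀ X : C, ∃ (Y : C) (s : X ⟶ Y), S Y ∧ B.trW s)

include hres in
lemma isVerdierRightLocalizing : S.IsVerdierRightLocalizing B := by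
  rw [ObjectProperty.isVerdierRightLocalizing_iff]
  intro X Y s hX hs
  obtain ⟨Z, b, hZ, hb⟩ := hres Y
  have hsb : B.trW (s ≫ b) := MorphismProperty.comp_mem _ _ _ hs hb
  refine ⟨Z, s ≫ b, b, hZ, ?_, rfl⟩
  -- the cone of `s ≫ b` is in `S` and in `B`
  obtain ⟨W, g, h, hT⟩ := distinguished_cocone_triangle (s ≫ b)
  rw [ObjectProperty.trW_iff]
  refine ⟨W, g, h, hT, ?_, ?_⟩
  · exact S.ext_of_isTriangulatedClosed₃ _ hT hX hZ
  · exact (B.trW_iff_of_distinguished _ hT).1 hsb

/-- the localizer morphism -/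
abbrev Φ : LocalizerMorphism (B.inverseImage S.ι).trW B.trW := S.triangulatedLocalizerMorphism B

include hres in
lemma hasRightResolutions : (Φ S B).HasRightResolutions := by
  intro X
  obtain ⟨Y, s, hY, hs⟩ := hres X
  exact ⟨{ X₁ := ⟨Y, hY⟩, w := s, hw := hs }⟩

include hres in
lemma isLocalizedEquivalence : (Φ S B).IsLocalizedEquivalence := by
  haveI := isVerdierRightLocalizing S B hres
  haveI := hasRightResolutions S B hres
  let L₁ := (B.inverseImage S.ι).trW.Q
  let L₂ := B.trW.Q
  let G := (Φ S B).localizedFunctor L₁ L₂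
  haveI : G.Full := inferInstance
  haveI : G.Faithful := inferInstance
  haveI : ((Φ S B).functor ⋙ L₂).EssSurj := (Φ S B).essSurj_of_hasRightResolutions L₂
  haveI : G.EssSurj := by
    have e : (Φ S B).functor ⋙ L₂ ≅ L₁ ⋙ G := CatCommSq.iso (Φ S B).functor L₁ L₂ G
    haveI : (L₁ ⋙ G).EssSurj := Functor.essSurj_of_iso e
    exact ⟨fun Y => ⟨L₁.obj ((L₁ ⋙ G).objPreimage Y), ⟨(L₁ ⋙ G).objObjPreimageIso Y⟩⟩⟩
  haveI : G.IsEquivalence := {}
  exact LocalizerMorphism.IsLocalizedEquivalence.mk' (Φ S B) L₁ L₂ G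

include hres in
lemma isConnected_rightResolution (X : C) : IsConnected ((Φ S B).RightResolution X) := by
  haveI : Nonempty ((Φ S B).RightResolution X) := hasRightResolutions S B hres X
  apply zigzag_isConnected
  intro R R'
  obtain ⟨ψ, hψ⟩ := MorphismProperty.HasLeftCalculusOfFractions.exists_leftFraction
    (W := B.trW) (X := S.ι.obj R.X₁) (Y := S.ι.obj R'.X₁)
    { X' := X, s := R.w, hs := R.hw, f := R'.w }
  dsimp at hψ
  obtain ⟨Z, r, hZ, hr⟩ := hres ψ.Y'
  let R'' : (Φ S B).RightResolution X :=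
    { X₁ := ⟨Z, hZ⟩
      w := R'.w ≫ ψ.s ≫ r
      hw := MorphismProperty.comp_mem _ _ _ R'.hw (MorphismProperty.comp_mem _ _ _ ψ.hs hr) }
  let φ : R ⟶ R'' :=
    { f := S.homMk (ψ.f ≫ r)
      comm := by
        show R.w ≫ ψ.f ≫ r = R'.w ≫ ψ.s ≫ r
        rw [← reassoc_of% hψ] }
  let φ' : R' ⟶ R'' :=
    { f := S.homMk (ψ.s ≫ r)
      comm := rfl }
  exact (Zigzag.of_hom φ).trans (Zigzag.of_inv φ')

include hres in
lemma hasRightResolutions_arrow : (Φ S B).arrow.HasRightResolutions := by
  intro g
  obtain ⟨L', w', hL', hw'⟩ := hres g.right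
  obtain ⟨L₀, wX, hL₀, hwX⟩ := hres g.left
  obtain ⟨ψ, hψ⟩ := MorphismProperty.HasLeftCalculusOfFractions.exists_leftFraction
    (W := B.trW) (X := L₀) (Y := L')
    { X' := g.left, s := wX, hs := hwX, f := g.hom ≫ w' }
  dsimp at hψ
  obtain ⟨Z, r, hZ, hr⟩ := hres ψ.Y'
  exact ⟨{
    X₁ := Arrow.mk (S.homMk (ψ.f ≫ r) : (⟨L₀, hL₀⟩ : S.FullSubcategory) ⟶ ⟨Z, hZ⟩)
    w := Arrow.homMk wX (w' ≫ ψ.s ≫ r) (by
      show wX ≫ ψ.f ≫ r = g.hom ≫ w' ≫ ψ.s ≫ r
      rw [← reassoc_of% hψ])
    hw := ⟨hwX, MorphismProperty.comp_mem _ _ _ hw' (MorphismProperty.comp_mem _ _ _ ψ.hs hr)⟩ }⟩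

include hres in
/-- **Main theorem**: a triangulated subcategory with enough right resolutions gives a right
derivability structure. -/
theorem isRightDerivabilityStructure : (Φ S B).IsRightDerivabilityStructure := by
  haveI := isLocalizedEquivalence S B hres
  haveI := isConnected_rightResolution S B hres
  haveI := hasRightResolutions_arrow S B hres
  exact LocalizerMorphism.IsRightDerivabilityStructure.mk' (Φ S B)

section Derived

variable {H : Type*} [Category H] (F : C ⥤ H)
  (hF : (B.inverseImage S.ι).trW.IsInvertedBy (S.ι ⋙ F))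

include hres hF in
/-- existence of the right derived functor -/
theorem hasRightDerivedFunctor : F.HasRightDerivedFunctor B.trW := by
  haveI := isRightDerivabilityStructure S B hres
  have h : (Φ S B).Derives F := hF
  haveI := h.hasPointwiseRightDerivedFunctor
  infer_instance

include hres hF in
/-- the unit of a right derived functor is an isomorphism on objects of `S` -/
theorem isIso_unit_app {D : Type*} [Category D] (L : C ⥤ D) [L.IsLocalization B.trW]
    {RF : D ⥤ H} (α : F ⟶ L ⋙ RF) [RF.IsRightDerivedFunctor α B.trW] (X : C) (hX : S X) :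
    IsIso (α.app X) := by
  haveI := isRightDerivabilityStructure S B hres
  have h : (Φ S B).Derives F := hF
  exact h.isIso_of_isRightDerivedFunctor α ⟨X, hX⟩

end Derived

end Groth.Agent.Lib.Helper6.DerivStruct
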