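import Mathlib
import Groth.Agent.Lib.Helper47.RDerLES

/-!
# Dimension shifting for classical right derived functors

Let `F : C ⥤ D` be a left exact additive functor, `C` with enough injectives, and `P` a class of
objects of `C` containing the injectives, closed under quotients, and such that `F` preserves
epimorphisms with kernel in `P`. Then `RʲF` vanishes on `P` for `j ≥ 1` and `RⁱF = 0` for `i ≥ 2`.
-/

set_option autoImplicit false
universe v v' u u'
open CategoryTheory CategoryTheory.Limits

namespace Groth.Agent.Lib.Helper6.DimShift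

variable {C : Type u} [Category.{v} C] [Abelian C] [EnoughInjectives C]
  {D : Type u'} [Category.{v'} D] [Abelian D] (F : C ⥤ D) [F.Additive]

/-- dimension shifting: for `0 → X → J → Q → 0` with `J` injective, `Rⁿ⁺²F(X) = 0` as soon as
`Rⁿ⁺¹F(Q) = 0`. -/
lemma isZero_succ_succ_of_isZero_succ (S : ShortComplex C) (hS : S.ShortExact) [Injective S.X₂]
    (n : ℕ) (h : IsZero ((F.rightDerived (n + 1)).obj S.X₃)) :
    IsZero ((F.rightDerived (n + 2)).obj S.X₁) := by
  let Δ := Groth.Agent.Lib.Helper47.RDerLES.derivedLES F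
  exact (Δ.exact₁ S hS (n + 1) (n + 2) rfl).isZero_X₂ (h.eq_of_src _ _)
    ((F.isZero_rightDerived_obj_injective_succ (n + 1) S.X₂).eq_of_tgt _ _)

/-- for `0 → X → J → Q → 0` with `J` injective, `R¹F(X) = 0` as soon as `R⁰F(J) → R⁰F(Q)` is
an epimorphism. -/
lemma isZero_one_of_epi (S : ShortComplex C) (hS : S.ShortExact) [Injective S.X₂]
    (h : Epi ((F.rightDerived 0).map S.g)) :
    IsZero ((F.rightDerived 1).obj S.X₁) := by
  let Δ := Groth.Agent.Lib.Helper47.RDerLES.derivedLES F
  have hex := Δ.exact₁ S hS 0 1 rfl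
  have hepi : Epi (Δ.δ S hS 0 1 rfl) :=
    hex.epi_f ((F.isZero_rightDerived_obj_injective_succ 0 S.X₂).eq_of_tgt _ _)
  have hz : Δ.δ S hS 0 1 rfl = 0 := by
    rw [← cancel_epi ((F.rightDerived 0).map S.g), Δ.comp_δ, comp_zero]
  rw [IsZero.iff_id_eq_zero, ← cancel_epi (Δ.δ S hS 0 1 rfl), hz, zero_comp, zero_comp]

lemma epi_rightDerived_zero_map_of_epi [PreservesFiniteLimits F] {X Y : C} (g : X ⟶ Y)
    (h : Epi (F.map g)) : Epi ((F.rightDerived 0).map g) := by
  have nat := F.toRightDerivedZero.naturality g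
  have e : (F.rightDerived 0).map g = inv (F.toRightDerivedZero.app X) ≫
      F.map g ≫ F.toRightDerivedZero.app Y := by
    rw [nat]; simp
  rw [e]
  infer_instance

variable [PreservesFiniteLimits F] (P : C → Prop)
  (hP₁ : ∀ S : ShortComplex C, S.ShortExact → Injective S.X₂ → P S.X₃)
  (hP₂ : ∀ S : ShortComplex C, S.ShortExact → P S.X₁ → Epi (F.map S.g))

include hP₁ hP₂ in
/-- `RʲF` vanishes on `P` for `j ≥ 1`. -/
theorem isZero_rightDerived_of_P (j : ℕ) : ∀ (X : C), P X → IsZero ((F.rightDerived (j + 1)).obj X) := by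
  induction j with
  | zero =>
    intro X hX
    let S := ShortComplex.mk _ _ (cokernel.condition (Injective.ι X))
    have hS : S.ShortExact := { exact := ShortComplex.exact_cokernel _ }
    have : Injective S.X₂ := inferInstanceAs (Injective (Injective.under X))
    exact isZero_one_of_epi F S hS (epi_rightDerived_zero_map_of_epi F _ (hP₂ S hS hX))
  | succ j ih =>
    intro X _
    let S := ShortComplex.mk _ _ (cokernel.condition (Injective.ι X))
    have hS : S.ShortExact := { exact := ShortComplex.exact_cokernel _ }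
    have : Injective S.X₂ := inferInstanceAs (Injective (Injective.under X))
    exact isZero_succ_succ_of_isZero_succ F S hS j (ih S.X₃ (hP₁ S hS this))

include hP₁ hP₂ in
/-- `RⁱF = 0` for `i ≥ 2`. -/
theorem isZero_rightDerived_of_two_le (i : ℕ) (hi : 2 ≤ i) (X : C) :
    IsZero ((F.rightDerived i).obj X) := by
  obtain ⟨j, rfl⟩ : ∃ j, i = j + 2 := ⟨i - 2, by lia⟩
  let S := ShortComplex.mk _ _ (cokernel.condition (Injective.ι X))
  have hS : S.ShortExact := { exact := ShortComplex.exact_cokernel _ }
  have : Injective S.X₂ := inferInstanceAs (Injective (Injective.under X))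
  exact isZero_succ_succ_of_isZero_succ F S hS j
    (isZero_rightDerived_of_P F P hP₁ hP₂ j S.X₃ (hP₁ S hS this))

end Groth.Agent.Lib.Helper6.DimShift
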