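import Mathlib

/-!
# The disc complex `Q^i = I^i ⊞ I^{i+1}` (ℕ-indexed) and maps into it
-/

set_option autoImplicit false
universe v u
open CategoryTheory CategoryTheory.Limits

namespace Groth.Agent.Lib.Helper6.DiscN

variable {C : Type u} [Category.{v} C] [Abelian C]

lemma eq_fst_inl_of_snd_eq_zero {X Y T : C} (x : T ⟶ X ⊞ Y) (h : x ≫ biprod.snd = 0) :
    x = x ≫ biprod.fst ≫ biprod.inl := by
  have hx' : x = x ≫ (biprod.fst ≫ biprod.inl + biprod.snd ≫ biprod.inr) := by
    rw [biprod.total, Category.comp_id]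
  rw [Preadditive.comp_add, reassoc_of% h, zero_comp, add_zero] at hx'
  exact hx'

variable (I : ℕ → C)

/-- the differential of the disc complex -/
noncomputable def discD (i : ℕ) : I i ⊞ I (i + 1) ⟶ I (i + 1) ⊞ I (i + 1 + 1) :=
  biprod.snd ≫ biprod.inl

lemma discD_comp (i : ℕ) : discD I i ≫ discD I (i + 1) = 0 := by
  simp [discD]

lemma snd_eq_zero_of_comp_discD {T : C} {i : ℕ} (x : T ⟶ I i ⊞ I (i + 1))
    (h : x ≫ discD I i = 0) : x ≫ biprod.snd = 0 := by
  have := h =≫ biprod.fst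
  simpa [discD] using this

/-- the disc complex `Q^i = I^i ⊞ I^{i+1}` -/
noncomputable def disc : CochainComplex C ℕ :=
  CochainComplex.of (fun i => I i ⊞ I (i + 1)) (discD I) (discD_comp I)

lemma disc_d (i : ℕ) : (disc I).d i (i + 1) = discD I i := by
  delta disc
  exact CochainComplex.of_d (fun i => I i ⊞ I (i + 1)) (discD I) i

variable (A : CochainComplex C ℕ) (ι : ∀ i, A.X i ⟶ I i)

/-- the map into the disc complex -/
noncomputable def toDisc : A ⟶ disc I where
  f i := biprod.lift (ι i) (A.d i (i + 1) ≫ ι (i + 1))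
  comm' i j hij := by
    have hij' : i + 1 = j := hij
    subst hij'
    rw [disc_d]
    show biprod.lift (ι i) (A.d i (i + 1) ≫ ι (i + 1)) ≫ discD I i =
      A.d i (i + 1) ≫ biprod.lift (ι (i + 1)) (A.d (i + 1) (i + 1 + 1) ≫ ι (i + 1 + 1))
    apply biprod.hom_ext
    · simp [discD]
    · simp [discD]

lemma toDisc_f (i : ℕ) :
    (toDisc I A ι).f i = biprod.lift (ι i) (A.d i (i + 1) ≫ ι (i + 1)) := rfl

lemma mono_toDisc (h : ∀ i, Mono (ι i)) : Mono (toDisc I A ι) := by
  have : ∀ i, Mono ((toDisc I A ι).f i) := fun i => by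
    have := h i
    exact mono_of_mono_fac (biprod.lift_fst (ι i) (A.d i (i + 1) ≫ ι (i + 1)))
  exact HomologicalComplex.mono_of_mono_f _ this

lemma exactAt_disc (i : ℕ) : (disc I).ExactAt (i + 1) := by
  rw [HomologicalComplex.exactAt_iff_exact_up_to_refinements _ i (i + 1) (i + 1 + 1)
    (by simp) (by simp)]
  intro T x hx
  rw [disc_d] at hx
  let x' : T ⟶ I (i + 1) ⊞ I (i + 1 + 1) := x
  have hx' : x' ≫ discD I (i + 1) = 0 := hx
  have h1 := snd_eq_zero_of_comp_discD I x' hx'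
  have h2 := eq_fst_inl_of_snd_eq_zero x' h1
  refine ⟨T, 𝟙 T, inferInstance, x' ≫ biprod.fst ≫ (biprod.inr : I (i + 1) ⟶ I i ⊞ I (i + 1)), ?_⟩
  rw [disc_d, Category.id_comp]
  show x' = (x' ≫ biprod.fst ≫ biprod.inr) ≫ discD I i
  rw [Category.assoc, Category.assoc]
  simp only [discD, biprod.inr_snd_assoc]
  exact h2

lemma isSplitMono_iCycles (i : ℕ) : IsSplitMono ((disc I).iCycles i) := by
  let e : (disc I).X i ⟶ (disc I).X i :=
    (biprod.fst ≫ biprod.inl : I i ⊞ I (i + 1) ⟶ I i ⊞ I (i + 1))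
  have h0 : e ≫ (disc I).d i (i + 1) = 0 := by
    rw [disc_d]
    show (biprod.fst ≫ biprod.inl : I i ⊞ I (i + 1) ⟶ I i ⊞ I (i + 1)) ≫ discD I i = 0
    simp [discD]
  refine ⟨⟨(disc I).liftCycles e (i + 1) (by simp) h0, ?_⟩⟩
  rw [← cancel_mono ((disc I).iCycles i), Category.assoc, HomologicalComplex.liftCycles_i,
    Category.id_comp]
  have h1 : (disc I).iCycles i ≫ (disc I).d i (i + 1) = 0 := (disc I).iCycles_d i (i + 1)
  rw [disc_d] at h1
  let z : (disc I).cycles i ⟶ I i ⊞ I (i + 1) := (disc I).iCycles i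
  have h1' : z ≫ discD I i = 0 := h1
  have h2 := snd_eq_zero_of_comp_discD I z h1'
  exact (eq_fst_inl_of_snd_eq_zero z h2).symm

lemma injective_disc_X (h : ∀ i, Injective (I i)) (i : ℕ) : Injective ((disc I).X i) := by
  have := h i
  have := h (i + 1)
  exact inferInstanceAs (Injective (I i ⊞ I (i + 1)))

end Groth.Agent.Lib.Helper6.DiscN
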