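import Mathlib

/-!
# Effaceability of Ext by epimorphisms (general abelian categories)

For `x : Ext X Y (n+1)` there is an epimorphism `π : X' ⟶ X` with `(mk₀ π).comp x = 0`.
-/

set_option autoImplicit false
universe w w' v u
open CategoryTheory CategoryTheory.Abelian CategoryTheory.Limits

namespace Groth.Agent.Lib.Helper6.ExtEfface

variable {A : Type u} [Category.{v} A] [Abelian A]

/-- if `K` is strictly `≤ 0` and `s : K ⟶ single B` is a quasi-isomorphism, then `s.f 0` is epi. -/
lemma epi_f_zero_of_quasiIso {K : CochainComplex A ℤ} [K.IsStrictlyLE 0] {B : A}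
    (s : K ⟶ (HomologicalComplex.single A (ComplexShape.up ℤ) 0).obj B) [QuasiIso s] :
    Epi (s.f 0) := by
  have hd : K.d 0 1 = 0 := (K.isZero_of_isStrictlyLE 0 1 (by lia)).eq_of_tgt _ _
  have h1 : IsIso (K.iCycles 0) := K.isIso_iCycles 0 1 (by simp) hd
  let L := (HomologicalComplex.single A (ComplexShape.up ℤ) 0).obj B
  have h2 : IsIso (L.iCycles 0) := L.isIso_iCycles 0 1 (by simp) (by simp [L])
  have h3 : IsIso (L.homologyπ 0) := L.isIso_homologyπ (-1) 0 (by simp) (by simp [L])
  have h4 : IsIso (HomologicalComplex.homologyMap s 0) := inferInstance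
  have e1 : HomologicalComplex.cyclesMap s 0 ≫ L.homologyπ 0 =
      K.homologyπ 0 ≫ HomologicalComplex.homologyMap s 0 :=
    (HomologicalComplex.homologyπ_naturality s 0).symm
  have h5 : Epi (HomologicalComplex.cyclesMap s 0) := by
    have : Epi (HomologicalComplex.cyclesMap s 0 ≫ L.homologyπ 0) := by
      rw [e1]; infer_instance
    have e2 : HomologicalComplex.cyclesMap s 0 =
        (HomologicalComplex.cyclesMap s 0 ≫ L.homologyπ 0) ≫ inv (L.homologyπ 0) := by simp
    rw [e2]; infer_instance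
  have e3 : s.f 0 = inv (K.iCycles 0) ≫ HomologicalComplex.cyclesMap s 0 ≫ L.iCycles 0 := by
    rw [IsIso.eq_inv_comp]; simp [L]
  rw [e3]; infer_instance

open DerivedCategory in
/-- Core statement in the derived category. -/
lemma core [HasDerivedCategory.{w} A] {X Y : A} (m : ℤ) (hm : 0 < m)
    (f : Q.obj ((HomologicalComplex.single A (ComplexShape.up ℤ) 0).obj X) ⟶
      Q.obj (((HomologicalComplex.single A (ComplexShape.up ℤ) 0).obj Y)⟦m⟧)) :
    ∃ (X' : A) (π : X' ⟶ X) (_ : Epi π),
      Q.map ((HomologicalComplex.single A (ComplexShape.up ℤ) 0).map π) ≫ f = 0 := by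
  obtain ⟨K, hK, s, hs, g, fac⟩ := right_fac_of_isStrictlyLE f 0
  have hs' : QuasiIso s := by
    rw [← isIso_Q_map_iff_quasiIso]; exact hs
  have hepi : Epi (s.f 0) := epi_f_zero_of_quasiIso s
  let π : K.X 0 ⟶ X := s.f 0 ≫ (HomologicalComplex.singleObjXSelf (ComplexShape.up ℤ) 0 X).hom
  have hπ : Epi π := epi_comp' hepi inferInstance
  let j : (HomologicalComplex.single A (ComplexShape.up ℤ) 0).obj (K.X 0) ⟶ K :=
    HomologicalComplex.mkHomFromSingle (𝟙 _) (fun k hk => by
      have hk' : (0 : ℤ) + 1 = k := hk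
      exact (K.isZero_of_isStrictlyLE 0 k (by lia)).eq_of_tgt _ _)
  have hjs : j ≫ s = (HomologicalComplex.single A (ComplexShape.up ℤ) 0).map π := by
    apply HomologicalComplex.from_single_hom_ext
    simp only [j, π, HomologicalComplex.single_map_f_self, HomologicalComplex.comp_f,
      HomologicalComplex.mkHomFromSingle_f]
    simp
  have hjg : j ≫ g = 0 := by
    apply HomologicalComplex.from_single_hom_ext
    have hz : IsZero ((((HomologicalComplex.single A (ComplexShape.up ℤ) 0).obj Y)⟦m⟧).X 0) := by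
      show IsZero (((HomologicalComplex.single A (ComplexShape.up ℤ) 0).obj Y).X (0 + m))
      exact HomologicalComplex.isZero_single_obj_X _ _ _ _ (by lia)
    exact hz.eq_of_tgt _ _
  refine ⟨K.X 0, π, hπ, ?_⟩
  rw [fac, ← hjs, Q.map_comp, Category.assoc, IsIso.hom_inv_id_assoc, ← Q.map_comp, hjg,
    Q.map_zero]

open DerivedCategory in
/-- **Effaceability of Ext**: any class of positive degree is killed by pulling back along a
suitable epimorphism. -/
theorem exists_epi_comp_eq_zero [HasExt.{w} A] {X Y : A} {n : ℕ} (x : Ext X Y (n + 1)) :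
    ∃ (X' : A) (π : X' ⟶ X) (_ : Epi π), (Ext.mk₀ π).comp x (zero_add _) = 0 := by
  let := HasDerivedCategory.standard A
  let f : Q.obj ((HomologicalComplex.single A (ComplexShape.up ℤ) 0).obj X) ⟶
      Q.obj (((HomologicalComplex.single A (ComplexShape.up ℤ) 0).obj Y)⟦((n + 1 : ℕ) : ℤ)⟧) :=
    x.hom ≫ (Q.commShiftIso ((n + 1 : ℕ) : ℤ)).inv.app _
  obtain ⟨X', π, hπ, h⟩ := core ((n + 1 : ℕ) : ℤ) (by positivity) f
  refine ⟨X', π, hπ, ?_⟩
  apply Ext.ext
  rw [Ext.comp_hom, Ext.mk₀_hom, ShiftedHom.mk₀_comp, Ext.zero_hom]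
  have gen : ∀ {P P' R R' : DerivedCategory A} (a : P' ⟶ P) (b : P ⟶ R) (e : R' ≅ R),
      a ≫ (b ≫ e.inv) = 0 → a ≫ b = 0 := by
    intro P P' R R' a b e h
    have h2 := congrArg (fun t => t ≫ e.hom) h
    simpa using h2
  exact gen _ x.hom ((Q.commShiftIso ((n + 1 : ℕ) : ℤ)).app _) h

end Groth.Agent.Lib.Helper6.ExtEfface
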