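import Mathlib
import Groth.Agent.Lib.Helper68.CompactFS4

/-!
# `Ext^p(Z, -)` and coproducts: the dimension shifting induction (helper6)

If every map from `Z` to a coproduct is a finite sum of maps to the summands and
`Ext^{q+1}(Z, ∐ J_i) = 0` for families of injective objects, then the images of the
`Ext^p(Z, F_i)` generate `Ext^p(Z, ∐ F_i)` (helper68's `ExtSumGen`).
-/

set_option autoImplicit false
set_option linter.unusedSectionVars false
set_option linter.style.haveILetI false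

universe w₂ w' w v u

namespace Groth.Agent.Lib.Helper6.ExtSumGenLib

open CategoryTheory CategoryTheory.Limits Abelian
open Groth.Agent.Lib.Helper68.CompactFS

section Sigma

variable {𝒜 : Type u} [Category.{v} 𝒜] [Abelian 𝒜] {I : Type w'}
  [HasColimitsOfShape (Discrete I) 𝒜]

lemma mono_sigmaMap [HasExactColimitsOfShape (Discrete I) 𝒜] {F G : I → 𝒜}
    (f : ∀ i, F i ⟶ G i) [∀ i, Mono (f i)] : Mono (Limits.Sigma.map f) := by
  haveI : ∀ j : Discrete I, Mono ((Discrete.natTrans (fun i : Discrete I => f i.as) :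
      Discrete.functor F ⟶ Discrete.functor G).app j) := fun j => inferInstanceAs (Mono (f j.as))
  haveI : Mono (Discrete.natTrans (fun i : Discrete I => f i.as) :
      Discrete.functor F ⟶ Discrete.functor G) := NatTrans.mono_of_mono_app _
  exact inferInstanceAs (Mono (colim.map (Discrete.natTrans (fun i : Discrete I => f i.as) :
      Discrete.functor F ⟶ Discrete.functor G)))

lemma epi_sigmaMap {F G : I → 𝒜} (f : ∀ i, F i ⟶ G i) [∀ i, Epi (f i)] : Epi (Limits.Sigma.map f) := by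
  refine ⟨fun {Z} a b h => ?_⟩
  refine Sigma.hom_ext _ _ (fun i => ?_)
  have := Sigma.ι F i ≫= h
  rw [Limits.Sigma.ι_map_assoc, Limits.Sigma.ι_map_assoc] at this
  exact (cancel_epi (f i)).1 this

/-- the coproduct of short exact sequences `F i ⟶ G i ⟶ cokernel` -/
noncomputable def sigmaSC {F G : I → 𝒜} (f : ∀ i, F i ⟶ G i) : ShortComplex 𝒜 :=
  ShortComplex.mk (Limits.Sigma.map f) (Limits.Sigma.map (fun i => cokernel.π (f i))) (by
    refine Sigma.hom_ext _ _ (fun i => ?_)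
    rw [Limits.Sigma.ι_map_assoc, Limits.Sigma.ι_map, cokernel.condition_assoc, zero_comp, comp_zero])

lemma sigmaSC_shortExact [HasExactColimitsOfShape (Discrete I) 𝒜] {F G : I → 𝒜}
    (f : ∀ i, F i ⟶ G i) [∀ i, Mono (f i)] : (sigmaSC f).ShortExact := by
  haveI : Mono (sigmaSC f).f := mono_sigmaMap f
  haveI : Epi (sigmaSC f).g := epi_sigmaMap (fun i => cokernel.π (f i))
  refine ShortComplex.ShortExact.mk' ?_ inferInstance inferInstance
  refine ShortComplex.exact_of_g_is_cokernel _ ?_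
  refine CokernelCofork.IsColimit.ofπ' _ _ (fun {Z} h hh => ?_)
  let h' : ∐ G ⟶ Z := h
  have hh' : Limits.Sigma.map f ≫ h' = 0 := hh
  have h0 : ∀ i, f i ≫ Sigma.ι G i ≫ h' = 0 := fun i => by
    have h1 : Sigma.ι F i ≫ Limits.Sigma.map f ≫ h' = Sigma.ι F i ≫ 0 := Sigma.ι F i ≫= hh'
    rw [comp_zero, Limits.Sigma.ι_map_assoc] at h1
    exact h1
  refine ⟨Sigma.desc (fun i => cokernel.desc (f i) (Sigma.ι G i ≫ h') (h0 i)), ?_⟩
  change Limits.Sigma.map (fun i => cokernel.π (f i)) ≫ _ = h'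
  refine Sigma.hom_ext _ _ (fun i => ?_)
  rw [Limits.Sigma.ι_map_assoc, Sigma.ι_desc, cokernel.π_desc]

end Sigma

section Main

variable {𝒜 : Type u} [Category.{v} 𝒜] [Abelian 𝒜] [HasExt.{w₂} 𝒜] [EnoughInjectives 𝒜]
  {I : Type w'} [HasColimitsOfShape (Discrete I) 𝒜] [HasExactColimitsOfShape (Discrete I) 𝒜]
  (Zo : 𝒜)

/-- the inductive step -/
lemma step
    (hV : ∀ (G : I → 𝒜) (_ : ∀ i, Injective (G i)) (q : ℕ) (x : Ext.{w₂} Zo (∐ G) (q + 1)), x = 0)
    (p : ℕ)
    (ih : ∀ (F : I → 𝒜) (c : Cofan F) (_ : IsColimit c) (S' : AddSubgroup (Ext.{w₂} Zo c.pt p)),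
      (∀ (i : I) (y : Ext.{w₂} Zo (F i) p), y.comp (Ext.mk₀ (c.inj i)) (add_zero p) ∈ S') →
        ∀ x, x ∈ S')
    (F : I → 𝒜) (c : Cofan F) (hc : IsColimit c) (S' : AddSubgroup (Ext.{w₂} Zo c.pt (p + 1)))
    (hS' : ∀ (i : I) (y : Ext.{w₂} Zo (F i) (p + 1)),
      y.comp (Ext.mk₀ (c.inj i)) (add_zero (p + 1)) ∈ S')
    (x : Ext.{w₂} Zo c.pt (p + 1)) : x ∈ S' := by
  let Jo : I → 𝒜 := fun i => Injective.under (F i)
  let ιF : ∀ i, F i ⟶ Jo i := fun i => Injective.ι (F i)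
  haveI : ∀ i, Mono (ιF i) := fun i => inferInstanceAs (Mono (Injective.ι (F i)))
  let Qo : I → 𝒜 := fun i => cokernel (ιF i)
  -- the short exact sequence of coproducts
  have hS := sigmaSC_shortExact ιF
  let e : c.pt ≅ ∐ F := IsColimit.coconePointUniqueUpToIso hc (coproductIsCoproduct F)
  have he : ∀ i, c.inj i ≫ e.hom = Sigma.ι F i := fun i =>
    IsColimit.comp_coconePointUniqueUpToIso_hom hc (coproductIsCoproduct F) ⟨i⟩
  -- the individual short exact sequences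
  let Si : I → ShortComplex 𝒜 := fun i =>
    ShortComplex.mk (ιF i) (cokernel.π (ιF i)) (cokernel.condition _)
  have hSi : ∀ i, (Si i).ShortExact := fun i =>
    ShortComplex.ShortExact.mk' (ShortComplex.exact_cokernel _) inferInstance
      (inferInstanceAs (Epi (cokernel.π (ιF i))))
  let φ : ∀ i, Si i ⟶ sigmaSC ιF := fun i =>
    { τ₁ := Sigma.ι F i
      τ₂ := Sigma.ι Jo i
      τ₃ := Sigma.ι Qo i
      comm₁₂ := Limits.Sigma.ι_map ιF i
      comm₂₃ := Limits.Sigma.ι_map (fun i => cokernel.π (ιF i)) i }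
  let ξ : Ext.{w₂} (∐ Qo) (∐ F) 1 := hS.extClass
  let ξi : ∀ i, Ext.{w₂} (Qo i) (F i) 1 := fun i => (hSi i).extClass
  have hnat : ∀ i, (ξi i).comp (Ext.mk₀ (Sigma.ι F i)) (add_zero 1) =
      (Ext.mk₀ (Sigma.ι Qo i)).comp ξ (zero_add 1) := fun i =>
    ShortComplex.ShortExact.extClass_naturality (hSi i) hS (φ i)
  -- transport `x` to the chosen coproduct
  let x' : Ext.{w₂} Zo (∐ F) (p + 1) := x.comp (Ext.mk₀ e.hom) (add_zero _)
  have hx' : x = x'.comp (Ext.mk₀ e.inv) (add_zero _) := by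
    dsimp only [x']
    rw [Ext.comp_assoc_of_third_deg_zero, Ext.mk₀_comp_mk₀, e.hom_inv_id, Ext.comp_mk₀_id]
  have hinv : ∀ i, Sigma.ι F i ≫ e.inv = c.inj i := fun i => by
    rw [← he i, Category.assoc, e.hom_inv_id, Category.comp_id]
  -- `x'` dies in `∐ Jo`
  have h0 : x'.comp (Ext.mk₀ (sigmaSC ιF).f) (add_zero (p + 1)) = 0 :=
    hV Jo (fun i => inferInstanceAs (Injective (Injective.under (F i)))) p _
  obtain ⟨y, hy⟩ := Ext.covariant_sequence_exact₁ Zo hS x' h0 (rfl : p + 1 = p + 1)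
  let y' : Ext.{w₂} Zo (∐ Qo) p := y
  have hy' : y'.comp ξ (rfl : p + 1 = p + 1) = x' := hy
  -- the subgroup of classes mapping into `S'`
  let T : Ext.{w₂} Zo (∐ Qo) p →+ Ext.{w₂} Zo c.pt (p + 1) :=
    ((Ext.mk₀ e.inv).postcomp Zo (add_zero (p + 1))).comp
      (ξ.postcomp Zo (rfl : p + 1 = p + 1))
  have hT : ∀ z : Ext.{w₂} Zo (∐ Qo) p, T z =
      (z.comp ξ (rfl : p + 1 = p + 1)).comp (Ext.mk₀ e.inv) (add_zero (p + 1)) :=
    fun z => rfl
  have key := ih Qo (Cofan.mk (∐ Qo) (Sigma.ι Qo)) (coproductIsCoproduct Qo) (S'.comap T) (by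
    intro i yi
    rw [AddSubgroup.mem_comap, hT]
    have h1 : (yi.comp (Ext.mk₀ (Sigma.ι Qo i)) (add_zero p)).comp ξ
        (rfl : p + 1 = p + 1) =
        (yi.comp (ξi i) (rfl : p + 1 = p + 1)).comp (Ext.mk₀ (Sigma.ι F i))
          (add_zero (p + 1)) := by
      rw [Ext.comp_assoc_of_second_deg_zero, ← hnat i, Ext.comp_assoc_of_third_deg_zero]
    change ((yi.comp (Ext.mk₀ (Sigma.ι Qo i)) (add_zero p)).comp ξ
        (rfl : p + 1 = p + 1)).comp (Ext.mk₀ e.inv) (add_zero (p + 1)) ∈ S'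
    rw [h1, Ext.comp_assoc_of_third_deg_zero, Ext.mk₀_comp_mk₀, hinv]
    exact hS' i _) y'
  rw [AddSubgroup.mem_comap, hT] at key
  rw [hx', ← hy']
  exact key

/-- **dimension shifting**: if maps from `Zo` to coproducts are finite sums and the higher
`Ext` groups from `Zo` to coproducts of injectives vanish, then `Ext^p(Zo, -)` sends coproducts
to jointly generated families -/
theorem extSumGen
    (h0 : ∀ (F : I → 𝒜) (g : Zo ⟶ ∐ F), ∃ (s : Finset I) (γ : ∀ i, Zo ⟶ F i),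
      g = ∑ i ∈ s, γ i ≫ Sigma.ι F i)
    (hV : ∀ (G : I → 𝒜) (_ : ∀ i, Injective (G i)) (q : ℕ) (x : Ext.{w₂} Zo (∐ G) (q + 1)),
      x = 0) : ExtSumGen.{w₂} Zo I := by
  intro p
  induction p with
  | zero =>
    intro F c hc S' hS' x
    let e : c.pt ≅ ∐ F := IsColimit.coconePointUniqueUpToIso hc (coproductIsCoproduct F)
    have he : ∀ i, c.inj i ≫ e.hom = Sigma.ι F i := fun i =>
      IsColimit.comp_coconePointUniqueUpToIso_hom hc (coproductIsCoproduct F) ⟨i⟩
    have hinv : ∀ i, Sigma.ι F i ≫ e.inv = c.inj i := fun i => by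
      rw [← he i, Category.assoc, e.hom_inv_id, Category.comp_id]
    obtain ⟨s, γ, hγ⟩ := h0 F (Ext.addEquiv₀ x ≫ e.hom)
    have h1 : Ext.addEquiv₀ x = ∑ i ∈ s, γ i ≫ c.inj i := by
      rw [← cancel_mono e.hom, hγ, Preadditive.sum_comp]
      refine Finset.sum_congr rfl (fun i _ => ?_)
      rw [Category.assoc, he]
    have h2 : x = ∑ i ∈ s, (Ext.mk₀ (γ i)).comp (Ext.mk₀ (c.inj i)) (add_zero 0) := by
      rw [← Ext.mk₀_addEquiv₀_apply x, h1, ← Ext.addEquiv₀_symm_apply, map_sum]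
      refine Finset.sum_congr rfl (fun i _ => ?_)
      rw [Ext.addEquiv₀_symm_apply, Ext.mk₀_comp_mk₀]
    rw [h2]
    exact AddSubgroup.sum_mem _ (fun i _ => hS' i _)
  | succ p ih =>
    intro F c hc S' hS' x
    exact step Zo hV p ih F c hc S' hS' x

end Main

end Groth.Agent.Lib.Helper6.ExtSumGenLib
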