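import Mathlib

/-!
# The triangulated subcategory of `K(A)` of complexes with terms in a class `P` (helper6)
-/

set_option autoImplicit false
set_option linter.style.haveILetI false
set_option linter.unusedSectionVars false

namespace Groth.Agent.Lib.Helper6.TermwiseK

open CategoryTheory Limits Pretriangulated HomotopyCategory ZeroObject

variable {A : Type*} [Category A] [Abelian A] (P : ObjectProperty A)

/-- complexes all of whose terms satisfy `P` -/
def cxProp : ObjectProperty (CochainComplex A ℤ) := fun K => ∀ n, P (K.X n)

/-- the (strict) image in the homotopy category -/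
def termwise : ObjectProperty (HomotopyCategory A (.up ℤ)) :=
  (cxProp P).strictMap (quotient _ _)

variable {P} in
@[simp]
lemma termwise_quotient_obj_iff (K : CochainComplex A ℤ) :
    termwise P ((quotient _ _).obj K) ↔ cxProp P K := by
  refine ⟨?_, fun h ↦ ⟨_, h⟩⟩
  simp only [termwise, ObjectProperty.strictMap_iff]
  rintro ⟨L, h, hL⟩
  obtain rfl : L = K := congr_arg Quotient.as hL
  exact h

variable [P.IsClosedUnderIsomorphisms] (hP0 : ∀ Z : A, IsZero Z → P Z)
  (hP2 : ∀ X Y : A, P X → P Y → P (X ⊞ Y))

include hP0 in
lemma containsZero : (termwise P).ContainsZero where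
  exists_zero :=
    ⟨(HomotopyCategory.quotient _ _).obj 0, Functor.map_isZero _ (isZero_zero _), by
      simp only [termwise_quotient_obj_iff]
      intro n
      exact hP0 _ (Functor.map_isZero (HomologicalComplex.eval A (.up ℤ) n) (isZero_zero _))⟩

lemma isStableUnderShift : (termwise P).IsStableUnderShift ℤ where
  isStableUnderShiftBy n :=
    { le_shift K hK := by
        obtain ⟨K : CochainComplex _ _, rfl⟩ := K.quotient_obj_surjective
        simp only [termwise_quotient_obj_iff] at hK
        rw [ObjectProperty.prop_shift_iff, shift_quotient_obj, termwise_quotient_obj_iff]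
        intro i
        exact hK _ }

set_option backward.defeqAttrib.useBackward true in
set_option backward.isDefEq.respectTransparency false in
include hP2 in
lemma isTriangulatedClosed₃ : (termwise P).IsTriangulatedClosed₃ where
  ext₃' T hT h₁ h₂ := by
    have h₁' : cxProp P T.obj₁.as := by rwa [← termwise_quotient_obj_iff]
    have h₂' : cxProp P T.obj₂.as := by rwa [← termwise_quotient_obj_iff]
    obtain ⟨f : T.obj₁.as ⟶ T.obj₂.as, hf⟩ := (quotient _ _).map_surjective T.mor₁
    refine ⟨_, ?_,
      ⟨Triangle.π₃.mapIso (isoTriangleOfIso₁₂ T _ hT (mappingCone_triangleh_distinguished f)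
        (Iso.refl _) (Iso.refl _) ?_)⟩⟩
    · dsimp
      simp only [termwise_quotient_obj_iff]
      intro n
      have := HomologicalComplex.HasHomotopyCofiber.hasBinaryBiproduct f n (n + 1) rfl
      exact P.prop_of_iso (HomologicalComplex.homotopyCofiber.XIsoBiprod f n (n + 1) rfl).symm
        (hP2 _ _ (h₁' _) (h₂' _))
    · simp [hf]

include hP0 hP2 in
lemma isTriangulated : (termwise P).IsTriangulated :=
  haveI := containsZero P hP0
  haveI := isStableUnderShift P
  haveI := isTriangulatedClosed₃ P hP2
  { toIsTriangulatedClosed₂ := .of_isTriangulatedClosed₃ }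

end Groth.Agent.Lib.Helper6.TermwiseK
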