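import Mathlib
import Groth.Agent.Lib.Helper6.FAcyc
import Groth.Agent.Lib.Helper6.PhiRes
import Groth.Agent.Lib.Helper6.TermwiseK
import Groth.Agent.Lib.Helper6.DerivStruct

/-!
# The unbounded right derived functor of a left exact functor of finite cohomological dimension
(helper6)
-/

set_option autoImplicit false
set_option linter.style.haveILetI false
set_option linter.unusedSectionVars false
universe w w' v v' u u'
open CategoryTheory CategoryTheory.Limits HomotopyCategory

namespace Groth.Agent.Lib.Helper6.FAcycDeriv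

variable {A : Type u} [Category.{v} A] [Abelian A] [HasDerivedCategory.{w} A]
  [HasInjectiveResolutions A]
  {B : Type u'} [Category.{v'} B] [Abelian B] [HasDerivedCategory.{w'} B]
  (F : A ⥤ B) [F.Additive] [PreservesFiniteLimits F]

/-- the class of `F`-acyclic objects as an object property -/
def acycP : ObjectProperty A := FAcyc.Acyc F

instance : (acycP F).IsClosedUnderIsomorphisms := ⟨fun e h => FAcyc.acyc_of_iso F e h⟩

instance : (TermwiseK.termwise (acycP F)).IsTriangulated :=
  TermwiseK.isTriangulated _ (fun _ hZ => FAcyc.acyc_of_isZero F hZ)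
    (fun _ _ hX hY => FAcyc.acyc_biprod F hX hY)

/-- complexes isomorphic in `K(A)` to a complex of `F`-acyclic objects -/
abbrev SS : ObjectProperty (HomotopyCategory A (.up ℤ)) :=
  (TermwiseK.termwise (acycP F)).isoClosure

lemma SS_quotient_obj (K : CochainComplex A ℤ) (hK : ∀ m, FAcyc.Acyc F (K.X m)) :
    SS F ((HomotopyCategory.quotient A (.up ℤ)).obj K) :=
  ObjectProperty.le_isoClosure _ _ ((TermwiseK.termwise_quotient_obj_iff K).mpr hK)

variable (n : ℕ) (hn : ∀ X : A, IsZero ((F.rightDerived n).obj X))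

include hn in
lemma hres (X : HomotopyCategory A (.up ℤ)) :
    ∃ (Y : HomotopyCategory A (.up ℤ)) (s : X ⟶ Y), SS F Y ∧ (subcategoryAcyclic A).trW s := by
  obtain ⟨K, rfl⟩ := X.quotient_obj_surjective
  have hN : ∀ m : ℕ, n + 1 ≤ m → ∀ X : A, IsZero ((F.rightDerived m).obj X) := fun m hm X =>
    FAcyc.isZero_rightDerived_of_le F n hn m (by lia) X
  obtain ⟨I, f, hf, hI⟩ := PhiRes.exists_quasiIso (FAcyc.Acyc F) (FAcyc.exists_mono_acyc F)
    (n + 1) (fun S hS h₁ => FAcyc.acyc_iff F S hS h₁) K (by lia)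
    (fun K hex hz _ hK => FAcyc.acyc_of_exact_nat F (n + 1) hN K hex hz hK)
  refine ⟨(HomotopyCategory.quotient A (.up ℤ)).obj I, (HomotopyCategory.quotient A (.up ℤ)).map f,
    SS_quotient_obj F I hI, ?_⟩
  rw [← quasiIso_eq_trW_subcategoryAcyclic, quotient_map_mem_quasiIso_iff,
    HomologicalComplex.mem_quasiIso_iff]
  exact hf

include hn in
lemma hF : ((subcategoryAcyclic A).inverseImage (SS F).ι).trW.IsInvertedBy
    ((SS F).ι ⋙ (F.mapHomotopyCategory (.up ℤ) ⋙ DerivedCategory.Qh)) := by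
  intro X Y f hf
  rw [ObjectProperty.trW_iff] at hf
  obtain ⟨Z, g, h, hT, hZ⟩ := hf
  show IsIso (DerivedCategory.Qh.map ((F.mapHomotopyCategory _).map ((SS F).ι.map f)))
  rw [DerivedCategory.isIso_Qh_map_iff, quasiIso_eq_trW_subcategoryAcyclic]
  have hT' := (F.mapHomotopyCategory (.up ℤ)).map_distinguished _
    ((SS F).ι.map_distinguished _ hT)
  rw [ObjectProperty.trW_iff]
  refine ⟨_, _, _, hT', ?_⟩
  obtain ⟨Z', hZ', ⟨e⟩⟩ := Z.property
  obtain ⟨K', hK', rfl⟩ := (ObjectProperty.strictMap_iff _ _ _).1 hZ'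
  have hZa : (subcategoryAcyclic A) ((HomotopyCategory.quotient A (.up ℤ)).obj K') :=
    (subcategoryAcyclic A).prop_of_iso e hZ
  rw [quotient_obj_mem_subcategoryAcyclic_iff_acyclic] at hZa
  have hN : ∀ m : ℕ, n ≤ m → ∀ X : A, IsZero ((F.rightDerived m).obj X) := fun m hm X =>
    FAcyc.isZero_rightDerived_of_le F n hn m hm X
  have hac := FAcyc.acyclic_map_of_acyc F n hN K' hZa hK'
  rw [← quotient_obj_mem_subcategoryAcyclic_iff_acyclic] at hac
  exact (subcategoryAcyclic B).prop_of_iso ((F.mapHomotopyCategory (.up ℤ)).mapIso e.symm) hac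

include hn in
theorem hasRightDerivedFunctor :
    (F.mapHomotopyCategory (ComplexShape.up ℤ) ⋙ DerivedCategory.Qh).HasRightDerivedFunctor
      (HomotopyCategory.quasiIso A (ComplexShape.up ℤ)) := by
  rw [quasiIso_eq_trW_subcategoryAcyclic]
  exact DerivStruct.hasRightDerivedFunctor (SS F) (subcategoryAcyclic A) (hres F n hn) _
    (hF F n hn)

include hn in
theorem isIso_unit_app {D : Type*} [Category D] (L : HomotopyCategory A (.up ℤ) ⥤ D)
    (W : MorphismProperty (HomotopyCategory A (.up ℤ))) (hW : W = (subcategoryAcyclic A).trW)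
    [L.IsLocalization W] {RF : D ⥤ DerivedCategory B}
    (α : F.mapHomotopyCategory (ComplexShape.up ℤ) ⋙ DerivedCategory.Qh ⟶ L ⋙ RF)
    [RF.IsRightDerivedFunctor α W] (K : CochainComplex A ℤ)
    (hK : ∀ m, FAcyc.Acyc F (K.X m)) :
    IsIso (α.app ((HomotopyCategory.quotient A (.up ℤ)).obj K)) := by
  subst hW
  exact DerivStruct.isIso_unit_app (SS F) (subcategoryAcyclic A) (hres F n hn) _
    (hF F n hn) L α _ (SS_quotient_obj F K hK)

end Groth.Agent.Lib.Helper6.FAcycDeriv
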