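import Mathlib

/-!
# Finitely generated / finitely presented objects relative to a class of "finite free" objects
(helper6)
-/

set_option autoImplicit false
set_option linter.unusedSectionVars false

universe v u

namespace Groth.Agent.Lib.Helper6.FGAbstract

open CategoryTheory CategoryTheory.Limits ZeroObject

variable {𝒜 : Type u} [Category.{v} 𝒜] [Abelian 𝒜] (𝒢 : ObjectProperty 𝒜)

/-- finitely generated -/
def FG (M : 𝒜) : Prop := ∃ (P : 𝒜) (_ : 𝒢 P) (p : P ⟶ M), Epi p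

/-- finitely presented -/
def FP (M : 𝒜) : Prop :=
  ∃ (R P : 𝒜) (_ : 𝒢 R) (_ : 𝒢 P) (ψ : R ⟶ P), Nonempty (M ≅ cokernel ψ)

/-- hypotheses on the class of finite free objects -/
structure Hyp : Prop where
  zero : ∀ Z : 𝒜, IsZero Z → 𝒢 Z
  biprod : ∀ {P Q : 𝒜}, 𝒢 P → 𝒢 Q → 𝒢 (P ⊞ Q)
  lift : ∀ {P E M : 𝒜} (_ : 𝒢 P) (e : E ⟶ M) (_ : Epi e) (f : P ⟶ M),
    ∃ (P' : 𝒜) (_ : 𝒢 P') (c : P' ⟶ P) (f' : P' ⟶ E), Epi c ∧ f' ≫ e = c ≫ f

variable {𝒢}

lemma FG.of_epi {E M : 𝒜} (h : FG 𝒢 E) (q : E ⟶ M) [Epi q] : FG 𝒢 M := by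
  obtain ⟨P, hP, p, hp⟩ := h
  exact ⟨P, hP, p ≫ q, epi_comp _ _⟩

lemma FG.of_iso {E M : 𝒜} (h : FG 𝒢 E) (e : E ≅ M) : FG 𝒢 M := h.of_epi e.hom

lemma fg_of_mem {P : 𝒜} (h : 𝒢 P) : FG 𝒢 P := ⟨P, h, 𝟙 P, inferInstance⟩

lemma FP.of_iso {E M : 𝒜} (h : FP 𝒢 E) (e : M ≅ E) : FP 𝒢 M := by
  obtain ⟨R, P, hR, hP, ψ, ⟨e'⟩⟩ := h
  exact ⟨R, P, hR, hP, ψ, ⟨e ≪≫ e'⟩⟩

lemma FP.fg {M : 𝒜} (h : FP 𝒢 M) : FG 𝒢 M := by
  obtain ⟨R, P, hR, hP, ψ, ⟨e⟩⟩ := h
  exact ⟨P, hP, cokernel.π ψ ≫ e.inv, epi_comp _ _⟩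

/-- an epimorphism is the cokernel of its kernel -/
noncomputable def cokernelKernelIso {P M : 𝒜} (p : P ⟶ M) [Epi p] :
    cokernel (kernel.ι p) ≅ M :=
  IsColimit.coconePointUniqueUpToIso (cokernelIsCokernel (kernel.ι p))
    (Abelian.epiIsCokernelOfKernel (KernelFork.ofι (kernel.ι p) (kernel.condition p))
      (kernelIsKernel p))

lemma fp_of_epi_of_fg_kernel {P M : 𝒜} (hP : 𝒢 P) (p : P ⟶ M) [Epi p]
    (hK : FG 𝒢 (kernel p)) : FP 𝒢 M := by
  obtain ⟨R, hR, r, hr⟩ := hK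
  exact ⟨R, P, hR, hP, r ≫ kernel.ι p,
    ⟨(cokernelKernelIso p).symm ≪≫ (cokernelEpiComp r (kernel.ι p)).symm⟩⟩

lemma fp_of_mem (hyp : Hyp 𝒢) {P : 𝒜} (h : 𝒢 P) : FP 𝒢 P := by
  refine ⟨0, P, hyp.zero _ (isZero_zero 𝒜), h, 0, ⟨?_⟩⟩
  exact (cokernelZeroIsoTarget (X := (0 : 𝒜)) (Y := P)).symm

/-- finitely generated objects are closed under extensions -/
lemma fg_ext (hyp : Hyp 𝒢) (S : ShortComplex 𝒜) (hS : S.ShortExact) (h₁ : FG 𝒢 S.X₁)
    (h₃ : FG 𝒢 S.X₃) : FG 𝒢 S.X₂ := by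
  obtain ⟨P₁, hP₁, p₁, hp₁⟩ := h₁
  obtain ⟨P₃, hP₃, p₃, hp₃⟩ := h₃
  have := hS.epi_g
  obtain ⟨P₃', hP₃', c, ℓ, hc, hℓ⟩ := hyp.lift hP₃ S.g inferInstance p₃
  refine ⟨P₁ ⊞ P₃', hyp.biprod hP₁ hP₃', biprod.desc (p₁ ≫ S.f) ℓ, ?_⟩
  rw [epi_iff_surjective_up_to_refinements]
  intro A x₂
  have : Epi (c ≫ p₃) := epi_comp _ _
  obtain ⟨A₁, π₁, hπ₁, y₃, hy₃⟩ := surjective_up_to_refinements_of_epi (c ≫ p₃) (x₂ ≫ S.g)
  have h0 : (π₁ ≫ x₂ - y₃ ≫ ℓ) ≫ S.g = 0 := by
    rw [Preadditive.sub_comp, Category.assoc, Category.assoc, hℓ, hy₃, sub_self]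
  obtain ⟨A₂, π₂, hπ₂, x₁, hx₁⟩ := hS.exact.exact_up_to_refinements _ h0
  obtain ⟨A₃, π₃, hπ₃, y₁, hy₁⟩ := surjective_up_to_refinements_of_epi p₁ x₁
  refine ⟨A₃, π₃ ≫ π₂ ≫ π₁, epi_comp' hπ₃ (epi_comp' hπ₂ hπ₁),
    biprod.lift y₁ (π₃ ≫ π₂ ≫ y₃), ?_⟩
  have e1 : y₁ ≫ p₁ ≫ S.f = π₃ ≫ π₂ ≫ (π₁ ≫ x₂ - y₃ ≫ ℓ) := by
    rw [← Category.assoc, ← hy₁, Category.assoc, ← hx₁]
  rw [biprod.lift_desc, e1]
  simp only [Preadditive.comp_sub, Category.assoc]
  abel

lemma exact_of_cokernel_iso {R P M : 𝒜} (ψ : R ⟶ P) (e : M ≅ cokernel ψ) :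
    ∃ (h : ψ ≫ cokernel.π ψ ≫ e.inv = 0),
      (ShortComplex.mk ψ (cokernel.π ψ ≫ e.inv) h).Exact := by
  have h : ψ ≫ cokernel.π ψ ≫ e.inv = 0 := by rw [cokernel.condition_assoc, Limits.zero_comp]
  refine ⟨h, ShortComplex.exact_of_iso ?_ (ShortComplex.exact_cokernel ψ)⟩
  exact ShortComplex.isoMk (Iso.refl _) (Iso.refl _) e.symm (by simp) (by simp)

section Kernel

variable (hyp : Hyp 𝒢)
  (hker : ∀ {R P : 𝒜} (_ : 𝒢 R) (_ : 𝒢 P) (φ : R ⟶ P), FP 𝒢 (kernel φ))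
  (hcok : ∀ {F G : 𝒜} (α : F ⟶ G), FP 𝒢 F → FP 𝒢 G → FP 𝒢 (cokernel α))

include hker in
lemma fp_of_fg_of_mono_mem {N P : 𝒜} (hN : FG 𝒢 N) (hP : 𝒢 P) (i : N ⟶ P) [Mono i] :
    FP 𝒢 N := by
  obtain ⟨P', hP', p', hp'⟩ := hN
  have h1 : FG 𝒢 (kernel (p' ≫ i)) := (hker hP' hP (p' ≫ i)).fg
  have h2 : FG 𝒢 (kernel p') := h1.of_iso (kernelCompMono p' i)
  exact fp_of_epi_of_fg_kernel hP' p' h2

include hyp hker hcok in
lemma fp_of_fg_of_mono_fp {N F : 𝒜} (hN : FG 𝒢 N) (hF : FP 𝒢 F) (i : N ⟶ F) [Mono i] :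
    FP 𝒢 N := by
  obtain ⟨R, P, hR, hP, ψ, ⟨e⟩⟩ := hF
  obtain ⟨hψp, hex⟩ := exact_of_cokernel_iso ψ e
  let p : P ⟶ F := cokernel.π ψ ≫ e.inv
  have hp : Epi p := epi_comp _ _
  let ρ : R ⟶ pullback p i := pullback.lift ψ 0 (by rw [hψp, Limits.zero_comp])
  have hρ : ρ ≫ pullback.snd p i = 0 := pullback.lift_snd _ _ _
  have hρ1 : ρ ≫ pullback.fst p i = ψ := pullback.lift_fst _ _ _
  have hex' : (ShortComplex.mk ρ (pullback.snd p i) hρ).Exact := by
    rw [ShortComplex.exact_iff_exact_up_to_refinements]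
    intro A x hx
    have hx' : x ≫ pullback.snd p i = 0 := hx
    have h0 : (x ≫ pullback.fst p i) ≫ p = 0 := by
      rw [Category.assoc, pullback.condition, ← Category.assoc, hx', Limits.zero_comp]
    obtain ⟨A', π, hπ, r, hr⟩ := hex.exact_up_to_refinements _ h0
    refine ⟨A', π, hπ, r, ?_⟩
    have hr' : π ≫ x ≫ pullback.fst p i = r ≫ ψ := hr
    apply pullback.hom_ext
    · change (π ≫ x) ≫ pullback.fst p i = (r ≫ ρ) ≫ pullback.fst p i
      rw [Category.assoc, Category.assoc, hρ1, hr']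
    · change (π ≫ x) ≫ pullback.snd p i = (r ≫ ρ) ≫ pullback.snd p i
      rw [Category.assoc, Category.assoc, hρ, hx', Limits.comp_zero, Limits.comp_zero]
  have hsnd : Epi (pullback.snd p i) := inferInstance
  have hfst : Mono (pullback.fst p i) := inferInstance
  have hN' : FG 𝒢 (pullback p i) := by
    have hK : FG 𝒢 (kernel (pullback.snd p i)) := by
      let ρ' : R ⟶ kernel (pullback.snd p i) := kernel.lift _ ρ hρ
      have : Epi ρ' := by
        rw [epi_iff_surjective_up_to_refinements]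
        intro A x
        have hx0 : (x ≫ kernel.ι (pullback.snd p i)) ≫ pullback.snd p i = 0 := by
          rw [Category.assoc, kernel.condition, Limits.comp_zero]
        obtain ⟨A', π, hπ, r, hr⟩ := hex'.exact_up_to_refinements (x ≫ kernel.ι _) hx0
        refine ⟨A', π, hπ, r, ?_⟩
        have hr' : π ≫ x ≫ kernel.ι (pullback.snd p i) = r ≫ ρ := hr
        rw [← cancel_mono (kernel.ι (pullback.snd p i)), Category.assoc, Category.assoc,
          kernel.lift_ι, hr']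
      exact (fg_of_mem hR).of_epi ρ'
    exact fg_ext hyp (ShortComplex.mk (kernel.ι (pullback.snd p i)) (pullback.snd p i)
      (kernel.condition _)) (ShortComplex.ShortExact.mk' (ShortComplex.exact_kernel _)
        inferInstance hsnd) hK hN
  have hN'fp : FP 𝒢 (pullback p i) := fp_of_fg_of_mono_mem hker hN' hP (pullback.fst p i)
  have : Epi (ShortComplex.mk ρ (pullback.snd p i) hρ).g := hsnd
  let eN : cokernel ρ ≅ N :=
    IsColimit.coconePointUniqueUpToIso (cokernelIsCokernel ρ) hex'.gIsCokernel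
  exact (hcok ρ (fp_of_mem hyp hR) hN'fp).of_iso eN.symm

include hyp hker in
lemma fg_kernel {F G : 𝒜} (α : F ⟶ G) (hF : FP 𝒢 F) (hG : FP 𝒢 G) : FG 𝒢 (kernel α) := by
  obtain ⟨PF, hPF, pF, hpF⟩ := hF.fg
  obtain ⟨RG, PG, hRG, hPG, ψG, ⟨eG⟩⟩ := hG
  obtain ⟨hψp, hex⟩ := exact_of_cokernel_iso ψG eG
  let pG : PG ⟶ G := cokernel.π ψG ≫ eG.inv
  have hpG : Epi pG := epi_comp _ _
  obtain ⟨P', hP', c, α', hc, hα'⟩ := hyp.lift hPF pG hpG (pF ≫ α)
  let φ : P' ⊞ RG ⟶ PG := biprod.desc α' (-ψG)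
  have hφ : FG 𝒢 (kernel φ) := (hker (hyp.biprod hP' hRG) hPG φ).fg
  have e : φ = biprod.fst ≫ α' - biprod.snd ≫ ψG := by
    apply biprod.hom_ext'
    · simp [φ]
    · simp [φ]
  have hι : kernel.ι φ ≫ biprod.fst ≫ α' = kernel.ι φ ≫ biprod.snd ≫ ψG := by
    have h2 : kernel.ι φ ≫ (biprod.fst ≫ α' - biprod.snd ≫ ψG) = 0 := by
      rw [← e]; exact kernel.condition φ
    rw [Preadditive.comp_sub, sub_eq_zero] at h2
    exact h2
  have hθ : (kernel.ι φ ≫ biprod.fst ≫ c ≫ pF) ≫ α = 0 := by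
    have h1 : (kernel.ι φ ≫ biprod.fst ≫ c ≫ pF) ≫ α =
        (kernel.ι φ ≫ biprod.fst ≫ α') ≫ pG := by
      simp only [Category.assoc]
      rw [hα']
    rw [h1, hι, Category.assoc, Category.assoc]
    have : ψG ≫ pG = 0 := hψp
    rw [this, Limits.comp_zero, Limits.comp_zero]
  let θ : kernel φ ⟶ kernel α := kernel.lift α _ hθ
  have hθepi : Epi θ := by
    rw [epi_iff_surjective_up_to_refinements]
    intro A x
    have : Epi (c ≫ pF) := epi_comp _ _
    obtain ⟨A₁, π₁, hπ₁, z, hz⟩ :=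
      surjective_up_to_refinements_of_epi (c ≫ pF) (x ≫ kernel.ι α)
    have h0 : (z ≫ α') ≫ pG = 0 := by
      have h1 : (z ≫ c ≫ pF) ≫ α = 0 := by
        rw [← hz]
        simp only [Category.assoc, kernel.condition, Limits.comp_zero]
      rw [Category.assoc, hα']
      simpa only [Category.assoc] using h1
    obtain ⟨A₂, π₂, hπ₂, r, hr⟩ := hex.exact_up_to_refinements _ h0
    have hr' : π₂ ≫ z ≫ α' = r ≫ ψG := hr
    have hw : biprod.lift (π₂ ≫ z) r ≫ φ = 0 := by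
      rw [e, Preadditive.comp_sub, biprod.lift_fst_assoc, biprod.lift_snd_assoc, Category.assoc,
        hr', sub_self]
    refine ⟨A₂, π₂ ≫ π₁, epi_comp' hπ₂ hπ₁, kernel.lift φ _ hw, ?_⟩
    rw [← cancel_mono (kernel.ι α)]
    simp only [θ, Category.assoc, kernel.lift_ι, kernel.lift_ι_assoc, biprod.lift_fst_assoc]
    rw [hz]
  exact hφ.of_epi θ

include hyp hker hcok in
/-- finitely presented objects are closed under kernels (given closure of kernels of maps of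
finite free objects, and cokernels) -/
theorem fp_kernel {F G : 𝒜} (α : F ⟶ G) (hF : FP 𝒢 F) (hG : FP 𝒢 G) : FP 𝒢 (kernel α) :=
  fp_of_fg_of_mono_fp hyp hker hcok (fg_kernel hyp hker α hF hG) hF (kernel.ι α)

end Kernel

section PullbackKernel

variable {X Y Z : 𝒜} (f : X ⟶ Z) (g : Y ⟶ Z)

/-- the kernel of the first projection of a pullback is the kernel of the second map -/
noncomputable def kernelFstIso : kernel (pullback.fst f g) ≅ kernel g where
  hom := kernel.lift g (kernel.ι _ ≫ pullback.snd f g) (by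
    rw [Category.assoc, ← pullback.condition, kernel.condition_assoc, Limits.zero_comp])
  inv := kernel.lift _ (pullback.lift 0 (kernel.ι g) (by
    rw [Limits.zero_comp, kernel.condition])) (pullback.lift_fst _ _ _)
  hom_inv_id := by
    rw [← cancel_mono (kernel.ι _)]
    apply pullback.hom_ext
    · simp only [Category.assoc, kernel.lift_ι_assoc, pullback.lift_fst, Limits.comp_zero,
        Category.id_comp, kernel.condition]
    · simp only [Category.assoc, kernel.lift_ι_assoc, pullback.lift_snd, kernel.lift_ι,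
        Category.id_comp]
  inv_hom_id := by
    rw [← cancel_mono (kernel.ι g)]
    simp only [Category.assoc, kernel.lift_ι, kernel.lift_ι_assoc, pullback.lift_snd,
      Category.id_comp]

/-- the kernel of the second projection of a pullback is the kernel of the first map -/
noncomputable def kernelSndIso : kernel (pullback.snd f g) ≅ kernel f where
  hom := kernel.lift f (kernel.ι _ ≫ pullback.fst f g) (by
    rw [Category.assoc, pullback.condition, kernel.condition_assoc, Limits.zero_comp])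
  inv := kernel.lift _ (pullback.lift (kernel.ι f) 0 (by
    rw [Limits.zero_comp, kernel.condition])) (pullback.lift_snd _ _ _)
  hom_inv_id := by
    rw [← cancel_mono (kernel.ι _)]
    apply pullback.hom_ext
    · simp only [Category.assoc, kernel.lift_ι_assoc, pullback.lift_fst, kernel.lift_ι,
        Category.id_comp]
    · simp only [Category.assoc, kernel.lift_ι_assoc, pullback.lift_snd, Limits.comp_zero,
        Category.id_comp, kernel.condition]
  inv_hom_id := by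
    rw [← cancel_mono (kernel.ι f)]
    simp only [Category.assoc, kernel.lift_ι, kernel.lift_ι_assoc, pullback.lift_fst,
      Category.id_comp]

end PullbackKernel

variable (𝒢) in
/-- stronger hypotheses: local lifts along covers with finitely generated kernel -/
structure Hyp' : Prop extends Hyp 𝒢 where
  lift' : ∀ {P E M : 𝒜} (_ : 𝒢 P) (e : E ⟶ M) (_ : Epi e) (f : P ⟶ M),
    ∃ (P' : 𝒜) (_ : 𝒢 P') (c : P' ⟶ P) (f' : P' ⟶ E),
      Epi c ∧ FG 𝒢 (kernel c) ∧ f' ≫ e = c ≫ f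

section Ext

variable (hyp : Hyp' 𝒢)

include hyp in
/-- the kernel of an epimorphism from a finitely generated object onto a finite free object is
finitely generated -/
lemma fg_kernel_of_epi_mem {E P : 𝒜} (hE : FG 𝒢 E) (hP : 𝒢 P) (q : E ⟶ P) [Epi q] :
    FG 𝒢 (kernel q) := by
  obtain ⟨P', hP', c, σ, hc, hKc, hσ⟩ := hyp.lift' hP q inferInstance (𝟙 P)
  rw [Category.comp_id] at hσ
  -- the pullback `E ×_P P'`
  have hfst : Epi (pullback.fst q c) := inferInstance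
  have h1 : FG 𝒢 (kernel (pullback.fst q c)) := hKc.of_iso (kernelFstIso q c).symm
  have hE' : FG 𝒢 (pullback q c) :=
    fg_ext hyp.toHyp (ShortComplex.mk (kernel.ι (pullback.fst q c)) (pullback.fst q c)
      (kernel.condition _)) (ShortComplex.ShortExact.mk' (ShortComplex.exact_kernel _)
        inferInstance hfst) h1 hE
  -- the second projection is split
  let τ : P' ⟶ pullback q c := pullback.lift σ (𝟙 P') (by rw [hσ, Category.id_comp])
  have hτ : τ ≫ pullback.snd q c = 𝟙 P' := pullback.lift_snd _ _ _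
  let r : pullback q c ⟶ kernel (pullback.snd q c) :=
    kernel.lift _ (𝟙 _ - pullback.snd q c ≫ τ) (by
      rw [Preadditive.sub_comp, Category.id_comp, Category.assoc, hτ, Category.comp_id, sub_self])
  have hr : kernel.ι (pullback.snd q c) ≫ r = 𝟙 _ := by
    rw [← cancel_mono (kernel.ι (pullback.snd q c)), Category.assoc, kernel.lift_ι,
      Preadditive.comp_sub, Category.comp_id, kernel.condition_assoc, Limits.zero_comp, sub_zero,
      Category.id_comp]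
  have : Epi r := epi_of_epi_fac hr
  have h2 : FG 𝒢 (kernel (pullback.snd q c)) := hE'.of_epi r
  exact h2.of_iso (kernelSndIso q c)

include hyp in
/-- the kernel of an epimorphism from a finitely generated object onto a finitely presented
object is finitely generated -/
lemma fg_kernel_of_epi_fp {E M : 𝒜} (hE : FG 𝒢 E) (hM : FP 𝒢 M) (q : E ⟶ M) [Epi q] :
    FG 𝒢 (kernel q) := by
  obtain ⟨R, P, hR, hP, ψ, ⟨e⟩⟩ := hM
  obtain ⟨hψp, hex⟩ := exact_of_cokernel_iso ψ e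
  let p : P ⟶ M := cokernel.π ψ ≫ e.inv
  have hp : Epi p := epi_comp _ _
  -- `kernel p` is finitely generated
  have hKp : FG 𝒢 (kernel p) := by
    have : Epi (kernel.lift p ψ hψp) := by
      have := (ShortComplex.exact_iff_epi_kernel_lift _).1 hex
      exact this
    exact (fg_of_mem hR).of_epi (kernel.lift p ψ hψp)
  have hsnd : Epi (pullback.snd p q) := inferInstance
  have hfst : Epi (pullback.fst p q) := inferInstance
  have h1 : FG 𝒢 (kernel (pullback.snd p q)) := hKp.of_iso (kernelSndIso p q).symm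
  have hE'' : FG 𝒢 (pullback p q) :=
    fg_ext hyp.toHyp (ShortComplex.mk (kernel.ι (pullback.snd p q)) (pullback.snd p q)
      (kernel.condition _)) (ShortComplex.ShortExact.mk' (ShortComplex.exact_kernel _)
        inferInstance hsnd) h1 hE
  have h2 : FG 𝒢 (kernel (pullback.fst p q)) := fg_kernel_of_epi_mem hyp hE'' hP _
  exact h2.of_iso (kernelFstIso p q)

include hyp in
/-- **finitely presented objects are closed under extensions** -/
theorem fp_ext (S : ShortComplex 𝒜) (hS : S.ShortExact) (h₁ : FP 𝒢 S.X₁) (h₃ : FP 𝒢 S.X₃) :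
    FP 𝒢 S.X₂ := by
  have := hS.mono_f
  have := hS.epi_g
  obtain ⟨P₂, hP₂, p₂, hp₂⟩ := fg_ext hyp.toHyp S hS h₁.fg h₃.fg
  have hq : Epi (p₂ ≫ S.g) := epi_comp _ _
  have hK₃ : FG 𝒢 (kernel (p₂ ≫ S.g)) := fg_kernel_of_epi_fp hyp (fg_of_mem hP₂) h₃ _
  -- the map `kernel (p₂ ≫ g) ⟶ X₁`
  have h0 : (kernel.ι (p₂ ≫ S.g) ≫ p₂) ≫ S.g = 0 := by
    rw [Category.assoc, kernel.condition]
  let lam : kernel (p₂ ≫ S.g) ⟶ S.X₁ := hS.exact.lift _ h0
  have hlam : lam ≫ S.f = kernel.ι (p₂ ≫ S.g) ≫ p₂ := hS.exact.lift_f _ _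
  have hlamepi : Epi lam := by
    rw [epi_iff_surjective_up_to_refinements]
    intro A x
    obtain ⟨A', π, hπ, y, hy⟩ := surjective_up_to_refinements_of_epi p₂ (x ≫ S.f)
    have hy0 : y ≫ p₂ ≫ S.g = 0 := by
      rw [← Category.assoc, ← hy, Category.assoc, Category.assoc, S.zero, Limits.comp_zero,
        Limits.comp_zero]
    refine ⟨A', π, hπ, kernel.lift _ y hy0, ?_⟩
    rw [← cancel_mono S.f, Category.assoc, Category.assoc, hlam, kernel.lift_ι_assoc, hy]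
  have hKl : FG 𝒢 (kernel lam) := fg_kernel_of_epi_fp hyp hK₃ h₁ lam
  -- `kernel lam ⟶ kernel p₂` is an epimorphism
  have h1 : (kernel.ι lam ≫ kernel.ι (p₂ ≫ S.g)) ≫ p₂ = 0 := by
    rw [Category.assoc, ← hlam, kernel.condition_assoc, Limits.zero_comp]
  let μ : kernel lam ⟶ kernel p₂ := kernel.lift p₂ _ h1
  have hμ : Epi μ := by
    rw [epi_iff_surjective_up_to_refinements]
    intro A x
    have hx0 : (x ≫ kernel.ι p₂) ≫ p₂ ≫ S.g = 0 := by
      rw [Category.assoc, kernel.condition_assoc, Limits.zero_comp, Limits.comp_zero]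
    have hy0 : kernel.lift (p₂ ≫ S.g) (x ≫ kernel.ι p₂) hx0 ≫ lam = 0 := by
      rw [← cancel_mono S.f, Category.assoc, hlam, kernel.lift_ι_assoc, Category.assoc,
        kernel.condition, Limits.comp_zero, Limits.zero_comp]
    refine ⟨A, 𝟙 A, inferInstance, kernel.lift lam _ hy0, ?_⟩
    rw [Category.id_comp, ← cancel_mono (kernel.ι p₂), Category.assoc, kernel.lift_ι,
      kernel.lift_ι_assoc, kernel.lift_ι]
  exact fp_of_epi_of_fg_kernel hP₂ p₂ (hKl.of_epi μ)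

end Ext

end Groth.Agent.Lib.Helper6.FGAbstract
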