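import Mathlib

/-!
# A cokernel of a map of coproducts of "coproduct-compact" objects is a filtered colimit of
cokernels of maps of finite sub-coproducts (helper6)
-/

set_option autoImplicit false
set_option linter.unusedSectionVars false

universe v u w

namespace Groth.Agent.Lib.Helper6.FilteredPres

open CategoryTheory CategoryTheory.Limits

variable {𝒜 : Type u} [Category.{v} 𝒜] [Abelian 𝒜]

section Sub

variable {I : Type w} (X : I → 𝒜)

/-- the coproduct over a finite subset -/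
noncomputable abbrev sub (I' : Finset I) : 𝒜 := ∐ (fun i : I' => X i.1)

/-- inclusion of finite sub-coproducts -/
noncomputable def subMap {I' I'' : Finset I} (h : I' ⊆ I'') : sub X I' ⟶ sub X I'' :=
  Sigma.desc (fun i => Sigma.ι (fun i : I'' => X i.1) ⟨i.1, h i.2⟩)

@[reassoc (attr := simp)]
lemma ι_subMap {I' I'' : Finset I} (h : I' ⊆ I'') (i : I') :
    Sigma.ι (fun i : I' => X i.1) i ≫ subMap X h =
      Sigma.ι (fun i : I'' => X i.1) ⟨i.1, h i.2⟩ := Sigma.ι_desc _ _

lemma subMap_refl (I' : Finset I) : subMap X (Finset.Subset.refl I') = 𝟙 _ := by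
  refine Sigma.hom_ext _ _ (fun i => ?_)
  rw [ι_subMap, Category.comp_id]

@[reassoc]
lemma subMap_trans {I' I'' I''' : Finset I} (h : I' ⊆ I'') (h' : I'' ⊆ I''') :
    subMap X h ≫ subMap X h' = subMap X (h.trans h') := by
  refine Sigma.hom_ext _ _ (fun i => ?_)
  rw [ι_subMap_assoc, ι_subMap, ι_subMap]

variable [HasCoproduct X]

/-- inclusion of a finite sub-coproduct into the whole coproduct -/
noncomputable def subIncl (I' : Finset I) : sub X I' ⟶ ∐ X := Sigma.desc (fun i => Sigma.ι X i.1)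

@[reassoc (attr := simp)]
lemma ι_subIncl (I' : Finset I) (i : I') :
    Sigma.ι (fun i : I' => X i.1) i ≫ subIncl X I' = Sigma.ι X i.1 := Sigma.ι_desc _ _

@[reassoc (attr := simp)]
lemma subMap_subIncl {I' I'' : Finset I} (h : I' ⊆ I'') :
    subMap X h ≫ subIncl X I'' = subIncl X I' := by
  refine Sigma.hom_ext _ _ (fun i => ?_)
  rw [ι_subMap_assoc, ι_subIncl, ι_subIncl]

end Sub

section Main

variable {I J : Type w} (X : I → 𝒜) (Y : J → 𝒜) [HasCoproduct X] [HasCoproduct Y]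
  (ψ : ∐ Y ⟶ ∐ X)

/-- every component of `ψ` is a finite sum -/
structure Data where
  s : J → Finset I
  γ : ∀ (_ : J) (_ : I), Y ‹J› ⟶ X ‹I›
  hγ : ∀ j, Sigma.ι Y j ≫ ψ = ∑ i ∈ s j, γ j i ≫ Sigma.ι X i

variable {X Y ψ} (d : Data X Y ψ)

/-- the index poset -/
structure Idx where
  fst : Finset I
  snd : Finset J
  h : ∀ j ∈ snd, d.s j ⊆ fst

instance : Preorder (Idx d) := Preorder.lift (fun l => (l.fst, l.snd))

variable {d} in
lemma Idx.le_fst {l m : Idx d} (h : l ≤ m) : l.fst ⊆ m.fst := h.1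

variable {d} in
lemma Idx.le_snd {l m : Idx d} (h : l ≤ m) : l.snd ⊆ m.snd := h.2

instance : Nonempty (Idx d) := ⟨⟨∅, ∅, fun j hj => absurd hj (Finset.notMem_empty j)⟩⟩

instance : IsDirectedOrder (Idx d) where
  directed l m := by
    classical
    refine ⟨⟨l.fst ∪ m.fst, l.snd ∪ m.snd, fun j hj => ?_⟩, ?_, ?_⟩
    · rcases Finset.mem_union.1 hj with h | h
      · exact (l.h j h).trans Finset.subset_union_left
      · exact (m.h j h).trans Finset.subset_union_right
    · exact ⟨Finset.subset_union_left, Finset.subset_union_left⟩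
    · exact ⟨Finset.subset_union_right, Finset.subset_union_right⟩

/-- the restricted map -/
noncomputable def psiSub (l : Idx d) : sub Y l.snd ⟶ sub X l.fst :=
  Sigma.desc (fun j => ∑ i ∈ (d.s j.1).attach,
    d.γ j.1 i.1 ≫ Sigma.ι (fun i : l.fst => X i.1) ⟨i.1, l.h j.1 j.2 i.2⟩)

lemma psiSub_subIncl (l : Idx d) : psiSub d l ≫ subIncl X l.fst = subIncl Y l.snd ≫ ψ := by
  refine Sigma.hom_ext _ _ (fun j => ?_)
  rw [psiSub, Sigma.ι_desc_assoc, ι_subIncl_assoc, d.hγ, Preadditive.sum_comp]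
  simp only [Category.assoc, ι_subIncl]
  exact Finset.sum_attach (d.s j.1) (fun i => d.γ j.1 i ≫ Sigma.ι X i)

lemma psiSub_subMap {l m : Idx d} (h : l ≤ m) :
    psiSub d l ≫ subMap X (Idx.le_fst h) = subMap Y (Idx.le_snd h) ≫ psiSub d m := by
  refine Sigma.hom_ext _ _ (fun j => ?_)
  rw [psiSub, Sigma.ι_desc_assoc, ι_subMap_assoc, psiSub, Sigma.ι_desc, Preadditive.sum_comp]
  simp only [Category.assoc, ι_subMap]

/-- the diagram of finite cokernels -/
noncomputable def D : Idx d ⥤ 𝒜 where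
  obj l := cokernel (psiSub d l)
  map {l m} f := cokernel.map _ _ (subMap Y (Idx.le_snd (leOfHom f)))
    (subMap X (Idx.le_fst (leOfHom f))) (psiSub_subMap d (leOfHom f))
  map_id l := by
    apply coequalizer.hom_ext
    simp only [cokernel.π_desc, Category.comp_id]
    rw [subMap_refl, Category.id_comp]
  map_comp {l m n} f g := by
    apply coequalizer.hom_ext
    simp only [cokernel.π_desc, cokernel.π_desc_assoc, Category.assoc]
    rw [subMap_trans_assoc]

/-- the projection onto `D l` -/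
noncomputable def Dπ (l : Idx d) : sub X l.fst ⟶ (D d).obj l := cokernel.π (psiSub d l)

instance (l : Idx d) : Epi (Dπ d l) := inferInstanceAs (Epi (cokernel.π (psiSub d l)))

@[reassoc]
lemma psiSub_Dπ (l : Idx d) : psiSub d l ≫ Dπ d l = 0 := cokernel.condition _

@[reassoc]
lemma Dπ_map {l m : Idx d} (f : l ⟶ m) :
    Dπ d l ≫ (D d).map f = subMap X (Idx.le_fst (leOfHom f)) ≫ Dπ d m := cokernel.π_desc _ _ _

/-- the cocone maps -/
noncomputable def toCoker (l : Idx d) : (D d).obj l ⟶ cokernel ψ :=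
  cokernel.map _ _ (subIncl Y l.snd) (subIncl X l.fst) (psiSub_subIncl d l)

@[reassoc]
lemma Dπ_toCoker (l : Idx d) : Dπ d l ≫ toCoker d l = subIncl X l.fst ≫ cokernel.π ψ :=
  cokernel.π_desc _ _ _

lemma map_toCoker {l m : Idx d} (f : l ⟶ m) : (D d).map f ≫ toCoker d m = toCoker d l := by
  rw [← cancel_epi (Dπ d l), Dπ_map_assoc, Dπ_toCoker, Dπ_toCoker, subMap_subIncl_assoc]

/-- the cocone with vertex `cokernel ψ` -/
noncomputable def cocone : Cocone (D d) where
  pt := cokernel ψ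
  ι :=
    { app := toCoker d
      naturality := fun l m f => (map_toCoker d f).trans (Category.comp_id _).symm }

/-- the index `({i}, ∅)` -/
abbrev single (i : I) : Idx d := ⟨{i}, ∅, fun j hj => absurd hj (Finset.notMem_empty j)⟩

/-- the index `(s j, {j})` -/
abbrev rel (j : J) : Idx d := ⟨d.s j, {j}, fun j' hj' => by
  rw [Finset.mem_singleton] at hj'
  subst hj'
  exact Finset.Subset.refl _⟩

lemma single_le (l : Idx d) (i : I) (hi : i ∈ l.fst) : single d i ≤ l :=
  ⟨Finset.singleton_subset_iff.2 hi, Finset.empty_subset _⟩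

/-- the component of a cocone at `i` -/
noncomputable def comp (c : Cocone (D d)) (i : I) : X i ⟶ c.pt :=
  Sigma.ι (fun i' : (single d i).fst => X i'.1) ⟨i, Finset.mem_singleton_self i⟩ ≫
    Dπ d (single d i) ≫ c.ι.app (single d i)

lemma comp_eq (c : Cocone (D d)) (l : Idx d) (i : I) (hi : i ∈ l.fst) :
    comp d c i = Sigma.ι (fun i' : l.fst => X i'.1) ⟨i, hi⟩ ≫ Dπ d l ≫ c.ι.app l := by
  have h := c.w (homOfLE (single_le d l i hi))
  rw [comp, ← h, Dπ_map_assoc, ι_subMap_assoc]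

lemma ψ_desc_comp (c : Cocone (D d)) : ψ ≫ Sigma.desc (comp d c) = 0 := by
  classical
  refine Sigma.hom_ext _ _ (fun j => ?_)
  rw [Limits.comp_zero, ← Category.assoc, d.hγ, Preadditive.sum_comp]
  have h1 : ∀ i ∈ d.s j, (d.γ j i ≫ Sigma.ι X i) ≫ Sigma.desc (comp d c) =
      if hi : i ∈ d.s j then d.γ j i ≫ Sigma.ι (fun i' : (rel d j).fst => X i'.1) ⟨i, hi⟩ ≫
        Dπ d (rel d j) ≫ c.ι.app (rel d j) else 0 := by
    intro i hi
    rw [dif_pos hi, Category.assoc, Sigma.ι_desc, comp_eq d c (rel d j) i hi]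
  rw [Finset.sum_congr rfl h1, ← Finset.sum_attach]
  have h2 : ∀ i ∈ (d.s j).attach, (if hi : i.1 ∈ d.s j then
      d.γ j i.1 ≫ Sigma.ι (fun i' : (rel d j).fst => X i'.1) ⟨i.1, hi⟩ ≫
        Dπ d (rel d j) ≫ c.ι.app (rel d j) else 0) =
      (d.γ j i.1 ≫ Sigma.ι (fun i' : (rel d j).fst => X i'.1) ⟨i.1, i.2⟩) ≫
        Dπ d (rel d j) ≫ c.ι.app (rel d j) := by
    intro i _
    rw [dif_pos i.2, Category.assoc]
  rw [Finset.sum_congr rfl h2, ← Preadditive.sum_comp]
  have h3 : Sigma.ι (fun j' : (rel d j).snd => Y j'.1) ⟨j, Finset.mem_singleton_self j⟩ ≫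
      psiSub d (rel d j) = ∑ i ∈ (d.s j).attach,
        d.γ j i.1 ≫ Sigma.ι (fun i' : (rel d j).fst => X i'.1) ⟨i.1, i.2⟩ := by
    rw [psiSub, Sigma.ι_desc]
  rw [← h3, Category.assoc, psiSub_Dπ_assoc, Limits.zero_comp, Limits.comp_zero]

/-- the cocone is colimiting -/
noncomputable def isColimit : IsColimit (cocone d) where
  desc c := cokernel.desc ψ (Sigma.desc (comp d c)) (ψ_desc_comp d c)
  fac c l := by
    change toCoker d l ≫ cokernel.desc ψ (Sigma.desc (comp d c)) (ψ_desc_comp d c) = c.ι.app l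
    rw [← cancel_epi (Dπ d l), Dπ_toCoker_assoc, cokernel.π_desc]
    refine Sigma.hom_ext _ _ (fun i => ?_)
    rw [ι_subIncl_assoc, Sigma.ι_desc, comp_eq d c l i.1 i.2]
  uniq c m hm := by
    have key : ∀ (m' : cokernel ψ ⟶ c.pt), (∀ l, toCoker d l ≫ m' = c.ι.app l) →
        m' = cokernel.desc ψ (Sigma.desc (comp d c)) (ψ_desc_comp d c) := by
      intro m' hm'
      rw [← cancel_epi (cokernel.π ψ), cokernel.π_desc]
      refine Sigma.hom_ext _ _ (fun i => ?_)
      rw [Sigma.ι_desc, comp, ← hm' (single d i), Dπ_toCoker_assoc, ι_subIncl_assoc]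
    exact key m hm

end Main

end Groth.Agent.Lib.Helper6.FilteredPres
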