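import Groth.Agent.Lib.Helper6.FlatCancel
import Mathlib.AlgebraicGeometry.Morphisms.Flat

/-!
# Flatness descends along a flat surjection on the source (scheme level)
-/

set_option autoImplicit false
universe u

namespace Groth.Agent.Lib.Helper6

open CategoryTheory AlgebraicGeometry

/-- If `Y' ⟶ X ⟶ Y` is flat and surjective and `X ⟶ Y ⟶ Z` is flat then `Y ⟶ Z` is flat. -/
theorem flat_of_flat_comp_of_factor {X Y Z Y' : Scheme.{u}} (f : X ⟶ Y) (q : Y ⟶ Z) (l : Y' ⟶ X)
    [Flat (l ≫ f)] [Surjective (l ≫ f)] [Flat (f ≫ q)] : Flat q := by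
  rw [Flat.iff_flat_stalkMap]
  intro y
  obtain ⟨y', rfl⟩ := (l ≫ f).surjective y
  have h1 : ((f ≫ q).stalkMap (l y')).hom.Flat := Flat.stalkMap _ _
  have h2 : ((l ≫ f).stalkMap y').hom.Flat := Flat.stalkMap _ _
  have hloc : IsLocalHom ((l ≫ f).stalkMap y').hom := inferInstance
  rw [Scheme.Hom.stalkMap_comp] at h1 h2 hloc
  refine RingHom.Flat.of_comp_of_comp_faithfullyFlat (q.stalkMap (f (l y'))).hom
    (f.stalkMap (l y')).hom (l.stalkMap y').hom h1 ?_
  have h3 : ((l.stalkMap y').hom.comp (f.stalkMap (l y')).hom).Flat := h2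
  have hloc' : IsLocalHom ((l.stalkMap y').hom.comp (f.stalkMap (l y')).hom) := hloc
  algebraize [(l.stalkMap y').hom.comp (f.stalkMap (l y')).hom]
  exact Module.FaithfullyFlat.of_flat_of_isLocalHom

end Groth.Agent.Lib.Helper6
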