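import Mathlib
import Groth.Agent.Lib.Helper6.PhiRes

/-!
# Flipping `ℤ`-indexed cochain complexes between `A` and `Aᵒᵖ`, and unbounded left resolutions
by objects of a class (helper6)
-/

set_option autoImplicit false
universe v u
open CategoryTheory CategoryTheory.Limits Opposite

namespace Groth.Agent.Lib.Helper6.FlipCx

variable {A : Type u} [Category.{v} A] [Abelian A]

/-- from a cochain complex in `Aᵒᵖ` to a cochain complex in `A` -/
def unflip (L : CochainComplex Aᵒᵖ ℤ) : CochainComplex A ℤ where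
  X i := (L.X (-i)).unop
  d i j := (L.d (-j) (-i)).unop
  shape i j hij := by
    have h : ¬ (ComplexShape.up ℤ).Rel (-j) (-i) := by
      intro h'
      apply hij
      have h1 : -j + 1 = -i := h'
      show i + 1 = j
      lia
    rw [L.shape _ _ h]
    rfl
  d_comp_d' i j k _ _ := by
    rw [← unop_comp, L.d_comp_d]
    rfl

/-- the contravariant action on morphisms -/
def unflipMap {L L' : CochainComplex Aᵒᵖ ℤ} (f : L ⟶ L') : unflip L' ⟶ unflip L where
  f i := (f.f (-i)).unop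
  comm' i j _ := by
    show (f.f (-i)).unop ≫ (L.d (-j) (-i)).unop = (L'.d (-j) (-i)).unop ≫ (f.f (-j)).unop
    rw [← unop_comp, ← unop_comp, f.comm]

/-- from a cochain complex in `A` to a cochain complex in `Aᵒᵖ` -/
def flip (K : CochainComplex A ℤ) : CochainComplex Aᵒᵖ ℤ where
  X i := op (K.X (-i))
  d i j := (K.d (-j) (-i)).op
  shape i j hij := by
    have h : ¬ (ComplexShape.up ℤ).Rel (-j) (-i) := by
      intro h'
      apply hij
      have h1 : -j + 1 = -i := h'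
      show i + 1 = j
      lia
    rw [K.shape _ _ h]
    rfl
  d_comp_d' i j k _ _ := by
    rw [← op_comp, K.d_comp_d]
    rfl

/-- `unflip (flip K) ≅ K` -/
def unflipFlipIso (K : CochainComplex A ℤ) : unflip (flip K) ≅ K :=
  HomologicalComplex.Hom.isoOfComponents (fun i => K.XIsoOfEq (neg_neg i)) (by
    intro i j _
    show (K.XIsoOfEq (neg_neg i)).hom ≫ K.d i j = K.d (- -i) (- -j) ≫ (K.XIsoOfEq (neg_neg j)).hom
    rw [K.XIsoOfEq_hom_comp_d, K.d_comp_XIsoOfEq_hom])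

lemma quasiIso_unflipMap {L L' : CochainComplex Aᵒᵖ ℤ} (f : L ⟶ L') [QuasiIso f] :
    QuasiIso (unflipMap f) := by
  rw [quasiIso_iff]
  intro i
  rw [quasiIsoAt_iff' _ (i - 1) i (i + 1) (by simp) (by simp)]
  have h1 : QuasiIsoAt f (-i) := inferInstance
  rw [quasiIsoAt_iff' _ (-(i + 1)) (-i) (-(i - 1)) (by simp; ring) (by simp; ring)] at h1
  exact ShortComplex.quasiIso_unopMap
    ((HomologicalComplex.shortComplexFunctor' Aᵒᵖ (ComplexShape.up ℤ) (-(i + 1)) (-i)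
      (-(i - 1))).map f)

/-- **Unbounded left resolutions** by objects of a class `P` (dual of `PhiRes.exists_quasiIso`). -/
theorem exists_left_resolution (P : A → Prop)
    (h1 : ∀ X : A, ∃ (Y : A) (p : Y ⟶ X), P Y ∧ Epi p) (n : ℕ) (hn : 1 ≤ n)
    (h2 : ∀ S : ShortComplex A, S.ShortExact → P S.X₃ → (P S.X₂ ↔ P S.X₁))
    (h3 : ∀ K : CochainComplex Aᵒᵖ ℕ, (∀ i : ℕ, 1 ≤ i → i ≤ n → K.ExactAt i) →
      (∀ i : ℕ, n < i → IsZero (K.X i)) → Epi (K.d (n - 1) n) →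
      (∀ i : ℕ, i < n → P (K.X i).unop) → P (K.X n).unop)
    (X : CochainComplex A ℤ) :
    ∃ (Y : CochainComplex A ℤ) (f : Y ⟶ X), QuasiIso f ∧ ∀ k : ℤ, P (Y.X k) := by
  have h1' : ∀ X : Aᵒᵖ, ∃ (Y : Aᵒᵖ) (i : X ⟶ Y), (fun Z : Aᵒᵖ => P Z.unop) Y ∧ Mono i := by
    intro X
    obtain ⟨Y, p, hY, hp⟩ := h1 X.unop
    exact ⟨op Y, p.op, hY, inferInstance⟩
  have h2' : ∀ S : ShortComplex Aᵒᵖ, S.ShortExact → (fun Z : Aᵒᵖ => P Z.unop) S.X₁ →
      ((fun Z : Aᵒᵖ => P Z.unop) S.X₂ ↔ (fun Z : Aᵒᵖ => P Z.unop) S.X₃) := by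
    intro S hS hS1
    exact h2 S.unop hS.unop hS1
  obtain ⟨I, f, hf, hI⟩ := PhiRes.exists_quasiIso (fun Z : Aᵒᵖ => P Z.unop) h1' n h2' (flip X) hn h3
  have := quasiIso_unflipMap f
  exact ⟨unflip I, unflipMap f ≫ (unflipFlipIso X).hom, inferInstance, fun k => hI (-k)⟩

end Groth.Agent.Lib.Helper6.FlipCx
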