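import Mathlib
import Groth.Agent.Lib.Helper6.CoyonedaCoprod

/-!
# Sections of a coproduct of abelian sheaves are locally finite sums (helper6)
-/

set_option autoImplicit false

universe u

namespace Groth.Agent.Lib.Helper6.SheafCoprodLocal

open CategoryTheory CategoryTheory.Limits Opposite

variable {C : Type u} [SmallCategory C] {J : GrothendieckTopology C}

/-- every section of a coproduct of abelian sheaves is locally a finite sum of sections of
the summands -/
theorem exists_cover_finset {ι : Type u} (Y : ι → Sheaf J AddCommGrpCat.{u}) (c : Cofan Y)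
    (hc : IsColimit c) (V : C) (t : c.pt.obj.obj (op V)) :
    ∃ S ∈ J V, ∀ ⦃W : C⦄ (g : W ⟶ V), S g →
      ∃ (F : Finset ι) (y : ∀ i, (Y i).obj.obj (op W)),
        c.pt.obj.map g.op t = ∑ i ∈ F, (c.inj i).hom.app (op W) (y i) := by
  classical
  -- the presheaf coproduct and its sheafification
  let Pre : Cᵒᵖ ⥤ AddCommGrpCat.{u} := ∐ fun i => (Y i).obj
  let Qs : Sheaf J AddCommGrpCat.{u} := (presheafToSheaf J AddCommGrpCat.{u}).obj Pre
  let a : ∀ i, Y i ⟶ Qs := fun i =>
    ObjectProperty.homMk (Sigma.ι (fun i => (Y i).obj) i ≫ toSheafify J Pre)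
  let ψ : c.pt ⟶ Qs := Cofan.IsColimit.desc hc a
  let η : Pre ⟶ c.pt.obj := Sigma.desc fun i => (c.inj i).hom
  let φ : Qs ⟶ c.pt := ObjectProperty.homMk (sheafifyLift J η c.pt.property)
  have hψφ : ψ ≫ φ = 𝟙 c.pt := by
    refine Cofan.IsColimit.hom_ext hc _ _ fun i => ?_
    rw [Cofan.IsColimit.fac_assoc, Category.comp_id]
    apply Sheaf.hom_ext
    change (Sigma.ι (fun i => (Y i).obj) i ≫ toSheafify J Pre) ≫ sheafifyLift J η c.pt.property = _
    rw [Category.assoc, toSheafify_sheafifyLift, Sigma.ι_desc]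
  let s := ψ.hom.app (op V) t
  have hs : φ.hom.app (op V) s = t := by
    have := congrArg (fun f => f.hom.app (op V) t) hψφ
    exact this
  haveI : Presheaf.IsLocallySurjective J (toSheafify J Pre) := inferInstance
  refine ⟨Presheaf.imageSieve (toSheafify J Pre) s, Presheaf.imageSieve_mem J _ s, ?_⟩
  intro W g ⟨q, hq⟩
  -- `q` is a finite sum
  have hcW : IsColimit (Cofan.mk (Pre.obj (op W))
      (fun i => (Sigma.ι (fun i => (Y i).obj) i).app (op W))) :=
    (isColimitMapCoconeCofanMkEquiv ((evaluation Cᵒᵖ AddCommGrpCat.{u}).obj (op W)) _ _)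
      (isColimitOfPreserves ((evaluation Cᵒᵖ AddCommGrpCat.{u}).obj (op W))
        (coproductIsCoproduct fun i => (Y i).obj))
  obtain ⟨F, y, hy⟩ := CoyonedaCoprod.exists_finset_of_isColimit_addCommGrp _ hcW q
  refine ⟨F, y, ?_⟩
  have h1 : c.pt.obj.map g.op t = φ.hom.app (op W) (Qs.obj.map g.op s) := by
    rw [← hs]
    exact (NatTrans.naturality_apply φ.hom g.op s).symm
  have h2 : φ.hom.app (op W) ((toSheafify J Pre).app (op W) q) = η.app (op W) q := by
    have := congrArg (fun f => f.app (op W) q) (toSheafify_sheafifyLift J η c.pt.property)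
    exact this
  rw [h1, ← hq, h2, hy, map_sum]
  refine Finset.sum_congr rfl fun i _ => ?_
  have := congrArg (fun f => f.app (op W) (y i)) (Sigma.ι_desc (fun i => (c.inj i).hom) i)
  exact this

end Groth.Agent.Lib.Helper6.SheafCoprodLocal
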