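import Mathlib
import Groth.Prelude.Def_ModSite
import Groth.Prelude.Def_CohCx
import Groth.Prelude.Def_CohSite
import Groth.Agent.Lib.Helper94.JShriekFree
import Groth.Agent.Lib.Helper94.ModSiteBasic
import Groth.Agent.Lib.Helper6.FreeOnClass
import Groth.Agent.Lib.Helper6.SheafCoprodLocal
import Groth.Agent.Lib.Helper6.CoyonedaCoprod

/-!
# Quasi-compact objects and coproducts of sheaves of modules (helper6)

For a quasi-compact object `U` of a small ringed site, `Hom(j_{U!} O_U, -)` commutes with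
coproducts; for a weakly contractible `U` the module `j_{U!} O_U` is projective.
-/

set_option autoImplicit false
set_option linter.unusedSectionVars false
set_option linter.style.haveILetI false

universe u

namespace Groth.Agent.Lib.Helper6.QcFinite

open CategoryTheory CategoryTheory.Limits Opposite ModSite
open Groth.Agent.Lib.Helper94.JShriek Groth.Agent.Lib.Helper6.FreeOnClass

variable {C : Type u} [SmallCategory C] {J : GrothendieckTopology C} (O : Sheaf J CommRingCat.{u})

section Res

variable {O}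

/-- restriction of sections -/
noncomputable def res (M : Mod O) {W V : C} (a : W ⟶ V) (t : sect M V) : sect M W := M.val.map a.op t

lemma res_app {M N : Mod O} (p : M ⟶ N) {W V : C} (a : W ⟶ V) (t : sect M V) :
    res N a (p.val.app (op V) t) = p.val.app (op W) (res M a t) :=
  (PresheafOfModules.naturality_apply p.val a.op t).symm

lemma res_comp (M : Mod O) {W V U : C} (a : W ⟶ V) (b : V ⟶ U) (t : sect M U) :
    res M (a ≫ b) t = res M a (res M b t) := by
  unfold res
  rw [op_comp, M.val.map_comp]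
  rfl

lemma res_id (M : Mod O) {U : C} (t : sect M U) : res M (𝟙 U) t = t := by
  unfold res
  rw [op_id, M.val.map_id]
  rfl

lemma sect_ext (M : Mod O) {V : C} (S : Sieve V) (hS : S ∈ J V) (s t : sect M V)
    (h : ∀ ⦃W : C⦄ (a : W ⟶ V), S a → res M a s = res M a t) : s = t :=
  sect_ext_of_mem O M S hS s t h

end Res

section Fin

variable {O} {ι : Type u} (X : ι → Mod O)

/-- the idempotent projecting to a finite sub-sum -/
noncomputable def eF (F : Finset ι) : ∐ X ⟶ ∐ X := by
  classical
  exact ∑ i ∈ F, Sigma.π X i ≫ Sigma.ι X i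

lemma ι_eF_of_mem (F : Finset ι) (i : ι) (hi : i ∈ F) : Sigma.ι X i ≫ eF X F = Sigma.ι X i := by
  classical
  unfold eF
  rw [Preadditive.comp_sum, Finset.sum_eq_single i]
  · rw [← Category.assoc, Sigma.ι_π_eq_id, Category.id_comp]
  · intro j _ hji
    rw [← Category.assoc, Sigma.ι_π_of_ne X (Ne.symm hji), Limits.zero_comp]
  · intro h
    exact absurd hi h

lemma eF_comp_of_subset {F F' : Finset ι} (h : F ⊆ F') : eF X F ≫ eF X F' = eF X F := by
  classical
  conv_lhs => rw [eF]
  rw [Preadditive.sum_comp]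
  conv_rhs => rw [eF]
  refine Finset.sum_congr rfl fun i hi => ?_
  rw [Category.assoc, ι_eF_of_mem X F' i (h hi)]

/-- a section of the coproduct is supported in `F` -/
def IsFin {W : C} (t : sect (∐ X) W) (F : Finset ι) : Prop :=
  (eF X F).val.app (op W) t = t

variable {X}

lemma IsFin.mono {W : C} {t : sect (∐ X) W} {F F' : Finset ι} (h : IsFin X t F) (hF : F ⊆ F') :
    IsFin X t F' := by
  unfold IsFin at h ⊢
  have h1 : (eF X F').val.app (op W) ((eF X F).val.app (op W) t) = (eF X F).val.app (op W) t := by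
    have := congrArg (fun p : ∐ X ⟶ ∐ X => p.val.app (op W) t) (eF_comp_of_subset X hF)
    exact this
  rw [h] at h1
  exact h1

lemma IsFin.res {W V : C} {t : sect (∐ X) V} {F : Finset ι} (h : IsFin X t F) (a : W ⟶ V) :
    IsFin X (res (∐ X) a t) F := by
  unfold IsFin at h ⊢
  rw [← res_app, h]

lemma isFin_of_cover {V : C} (t : sect (∐ X) V) (F : Finset ι) (S : Sieve V) (hS : S ∈ J V)
    (h : ∀ ⦃W : C⦄ (a : W ⟶ V), S a → IsFin X (res (∐ X) a t) F) : IsFin X t F := by
  unfold IsFin
  refine sect_ext (∐ X) S hS _ _ fun W a ha => ?_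
  rw [res_app]
  exact h a ha

/-- the morphism form of finiteness -/
lemma comp_eF_of_isFin {W : C} (g : freeOn O W ⟶ ∐ X) (F : Finset ι)
    (h : IsFin X (freeOnHomAddEquiv O W (∐ X) g) F) : g ≫ eF X F = g := by
  apply (freeOnHomAddEquiv O W (∐ X)).injective
  rw [freeOnHomAddEquiv_comp]
  exact h

lemma isFin_of_eq_sum {W : C} (t : sect (∐ X) W) (F : Finset ι) (y : ∀ i, sect (X i) W)
    (h : t = ∑ i ∈ F, (Sigma.ι X i).val.app (op W) (y i)) : IsFin X t F := by
  classical
  let E := freeOnHomAddEquiv O W (∐ X)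
  let g := E.symm t
  let γ : ∀ i, freeOn O W ⟶ X i := fun i => (freeOnHomAddEquiv O W (X i)).symm (y i)
  have hg : g = ∑ i ∈ F, γ i ≫ Sigma.ι X i := by
    apply E.injective
    rw [map_sum]
    change E (E.symm t) = _
    rw [AddEquiv.apply_symm_apply, h]
    refine Finset.sum_congr rfl fun i _ => ?_
    change _ = freeOnHomAddEquiv O W (∐ X) (γ i ≫ Sigma.ι X i)
    rw [freeOnHomAddEquiv_comp]
    change _ = (Sigma.ι X i).val.app (op W)
      (freeOnHomAddEquiv O W (X i) ((freeOnHomAddEquiv O W (X i)).symm (y i)))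
    rw [AddEquiv.apply_symm_apply]
  have hg' := CoyonedaCoprod.eq_sum_π X g F γ hg
  have hge : g ≫ eF X F = g := by
    conv_rhs => rw [hg']
    unfold eF
    rw [Preadditive.comp_sum]
    refine Finset.sum_congr rfl fun i _ => ?_
    rw [Category.assoc]
  unfold IsFin
  have := congrArg E hge
  rw [freeOnHomAddEquiv_comp] at this
  change (eF X F).val.app (op W) (E (E.symm t)) = E (E.symm t) at this
  rwa [AddEquiv.apply_symm_apply] at this

/-- sections of a coproduct of modules are locally finitely supported -/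
theorem exists_cover_isFin {V : C} (t : sect (∐ X) V) :
    ∃ S ∈ J V, ∀ ⦃W : C⦄ (a : W ⟶ V), S a → ∃ F : Finset ι, IsFin X (res (∐ X) a t) F := by
  haveI := Groth.Agent.Lib.Helper94.ModSiteBasic.toSheaf_preservesColimitsOfSize (ringSh O)
  let T := SheafOfModules.toSheaf (ringSh O)
  let c : Cofan (fun i => T.obj (X i)) := Cofan.mk (T.obj (∐ X)) (fun i => T.map (Sigma.ι X i))
  have hc : IsColimit c := isColimitOfHasCoproductOfPreservesColimit T X
  obtain ⟨S, hS, h⟩ := SheafCoprodLocal.exists_cover_finset _ c hc V t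
  refine ⟨S, hS, fun W a ha => ?_⟩
  obtain ⟨F, y, hy⟩ := h a ha
  exact ⟨F, isFin_of_eq_sum _ F y hy⟩

end Fin

section Qc

variable {O}

/-- the sheaf of sets underlying a module -/
noncomputable abbrev setSh (M : Mod O) : Sheaf J (Type u) :=
  (sheafCompose J (forget AddCommGrpCat.{u})).obj (toAb M)

/-- the map of sheaves of sets underlying a morphism of modules -/
noncomputable abbrev setMap {M N : Mod O} (p : M ⟶ N) : setSh M ⟶ setSh N :=
  (sheafCompose J (forget AddCommGrpCat.{u})).map ((SheafOfModules.toSheaf _).map p)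

/-- a section as an element of the underlying sheaf of sets -/
def toSet {M : Mod O} {W : C} (s : sect M W) : (setSh M).obj.obj (op W) := s

variable (J) in
/-- the sheaf associated to a representable presheaf -/
noncomputable abbrev hSh (W : C) : Sheaf J (Type u) :=
  (presheafToSheaf J (Type u)).obj (yoneda.obj W)

variable (J) in
/-- the canonical sections of `h_W^#` -/
noncomputable def can (W : C) {V : C} (a : V ⟶ W) : (hSh J W).obj.obj (op V) :=
  (toSheafify J (yoneda.obj W)).app (op V) a

lemma can_map (W : C) {V V' : C} (h : V' ⟶ V) (a : V ⟶ W) :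
    (hSh J W).obj.map h.op (can J W a) = can J W (h ≫ a) :=
  (NatTrans.naturality_apply (toSheafify J (yoneda.obj W)) h.op a).symm

lemma map_can {W U : C} (b : W ⟶ U) {V : C} (a : V ⟶ W) :
    ((presheafToSheaf J (Type u)).map (yoneda.map b)).hom.app (op V) (can J W a) =
      can J U (a ≫ b) := by
  have := congrArg (fun f => f.app (op V) a) (toSheafify_naturality J (yoneda.map b))
  exact this.symm

/-- the map of sheaves of sets `h_W^# ⟶ |M|` defined by a section -/
noncomputable def sHat (M : Mod O) {W : C} (t : sect M W) : hSh J W ⟶ setSh M :=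
  ObjectProperty.homMk (sheafifyLift J (yonedaEquiv.symm (toSet t)) (setSh M).property)

lemma sHat_can (M : Mod O) {W V : C} (t : sect M W) (a : V ⟶ W) :
    (sHat M t).hom.app (op V) (can J W a) = toSet (res M a t) := by
  have := congrArg (fun f => f.app (op V) a)
    (toSheafify_sheafifyLift J (yonedaEquiv.symm (toSet t)) (setSh M).property)
  exact this

lemma map_sHat (M : Mod O) {W U : C} (b : W ⟶ U) (t : sect M U) :
    (presheafToSheaf J (Type u)).map (yoneda.map b) ≫ sHat M t = sHat M (res M b t) := by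
  apply Sheaf.hom_ext
  apply sheafify_hom_ext _ _ _ (setSh M).property
  change toSheafify J (yoneda.obj W) ≫ sheafifyMap J (yoneda.map b) ≫
    sheafifyLift J (yonedaEquiv.symm (toSet t)) (setSh M).property =
    toSheafify J (yoneda.obj W) ≫
      sheafifyLift J (yonedaEquiv.symm (toSet (res M b t))) (setSh M).property
  rw [← toSheafify_naturality_assoc, toSheafify_sheafifyLift, toSheafify_sheafifyLift,
    yonedaEquiv_symm_naturality_left]
  rfl

lemma sHat_comp {M N : Mod O} (p : M ⟶ N) {W : C} (t : sect M W) :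
    sHat M t ≫ setMap p = sHat N (p.val.app (op W) t) := by
  apply Sheaf.hom_ext
  apply sheafify_hom_ext _ _ _ (setSh N).property
  change toSheafify J (yoneda.obj W) ≫
    sheafifyLift J (yonedaEquiv.symm (toSet t)) (setSh M).property ≫ (setMap p).hom =
    toSheafify J (yoneda.obj W) ≫
      sheafifyLift J (yonedaEquiv.symm (toSet (p.val.app (op W) t))) (setSh N).property
  rw [toSheafify_sheafifyLift_assoc, toSheafify_sheafifyLift, yonedaEquiv_symm_naturality_right]
  rfl

variable {ι : Type u} (X : ι → Mod O)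

theorem exists_isFin_of_isQcObject {U : C} (hU : CohCx.IsQcObject (hSh J U))
    (t : sect (∐ X) U) : ∃ F, IsFin X t F := by
  classical
  let I := Σ W : C, {b : W ⟶ U // ∃ F, IsFin X (res (∐ X) b t) F}
  let L : I → Sheaf J (Type u) := fun i => hSh J i.1
  let f : ∀ i, L i ⟶ hSh J U := fun i => (presheafToSheaf J (Type u)).map (yoneda.map i.2.1)
  have hjs : CohCx.JointlySurjective f := by
    intro V σ
    haveI : Presheaf.IsLocallySurjective J (toSheafify J (yoneda.obj U)) := inferInstance
    let S₁ := Presheaf.imageSieve (toSheafify J (yoneda.obj U)) σ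
    have hS₁ : S₁ ∈ J V :=
      Presheaf.imageSieve_mem J (toSheafify J (yoneda.obj U)) (U := op V) σ
    have key : ∀ ⦃V₁ : C⦄ (g₁ : V₁ ⟶ V), S₁ g₁ → ∃ (a : V₁ ⟶ U) (S₂ : Sieve V₁),
        can J U a = (hSh J U).obj.map g₁.op σ ∧ S₂ ∈ J V₁ ∧
        ∀ ⦃W : C⦄ (h : W ⟶ V₁), S₂ h → ∃ F, IsFin X (res (∐ X) h (res (∐ X) a t)) F := by
      intro V₁ g₁ ⟨a, ha⟩
      obtain ⟨S₂, hS₂, h₂⟩ := exists_cover_isFin (X := X) (res (∐ X) a t)
      exact ⟨a, S₂, ha, hS₂, h₂⟩
    choose a S₂ ha hS₂ hfin using key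
    refine ⟨Sieve.bind S₁ (fun V₁ g₁ hg₁ => S₂ g₁ hg₁),
      J.bind_covering hS₁ (fun V₁ g₁ hg₁ => hS₂ g₁ hg₁), ?_⟩
    rintro V' g ⟨V₁, h, g₁, hg₁, hh, rfl⟩
    refine ⟨⟨V', h ≫ a g₁ hg₁, ?_⟩, can J V' (𝟙 V'), ?_⟩
    · obtain ⟨F, hF⟩ := hfin g₁ hg₁ h hh
      exact ⟨F, by rw [res_comp]; exact hF⟩
    · change ((presheafToSheaf J (Type u)).map (yoneda.map (h ≫ a g₁ hg₁))).hom.app (op V')
        (can J V' (𝟙 V')) = _
      rw [map_can, Category.id_comp, op_comp, Functor.map_comp]
      change _ = (hSh J U).obj.map h.op ((hSh J U).obj.map g₁.op σ)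
      rw [← ha g₁ hg₁, can_map]
  obtain ⟨T, hT⟩ := hU I L f hjs
  have hI : ∀ i : I, ∃ F, IsFin X (res (∐ X) i.2.1 t) F := fun i => i.2.2
  choose Fi hFi using hI
  refine ⟨T.biUnion Fi, ?_⟩
  obtain ⟨S, hS, h⟩ := hT U (can J U (𝟙 U))
  refine isFin_of_cover t _ S hS fun V g hg => ?_
  obtain ⟨⟨i, hi⟩, x, hx⟩ := h V g hg
  -- transport along `sHat`
  have h1 : (sHat (∐ X) t).hom.app (op V) ((hSh J U).obj.map g.op (can J U (𝟙 U))) =
      toSet (res (∐ X) g t) := by
    rw [can_map, Category.comp_id, sHat_can]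
  have h2 : (sHat (∐ X) t).hom.app (op V) ((f i).hom.app (op V) x) =
      (sHat (∐ X) (res (∐ X) i.2.1 t)).hom.app (op V) x := by
    have := congrArg (fun φ => φ.hom.app (op V) x) (map_sHat (∐ X) i.2.1 t)
    exact this
  have h3 : (setMap (eF X (Fi i))).hom.app (op V)
      ((sHat (∐ X) (res (∐ X) i.2.1 t)).hom.app (op V) x) =
      (sHat (∐ X) (res (∐ X) i.2.1 t)).hom.app (op V) x := by
    have e := sHat_comp (eF X (Fi i)) (res (∐ X) i.2.1 t)
    rw [hFi i] at e
    have := congrArg (fun φ => φ.hom.app (op V) x) e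
    exact this
  have h4 : toSet (res (∐ X) g t) = (sHat (∐ X) (res (∐ X) i.2.1 t)).hom.app (op V) x := by
    rw [← h1, ← h2]
    exact congrArg _ hx.symm
  have h5 : IsFin X (res (∐ X) g t) (Fi i) := by
    unfold IsFin
    change (setMap (eF X (Fi i))).hom.app (op V) (toSet (res (∐ X) g t)) = toSet (res (∐ X) g t)
    rw [h4]
    exact h3
  exact h5.mono (Finset.subset_biUnion_of_mem Fi hi)

end Qc

section Results

variable {O}

/-- for quasi-compact `U`, maps from `j_{U!} O_U` to a coproduct are finite sums -/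
theorem exists_finset_of_isQcObject {U : C} (hU : CohCx.IsQcObject (hSh J U))
    {ι : Type u} (X : ι → Mod O) (g : freeOn O U ⟶ ∐ X) :
    ∃ (s : Finset ι) (γ : ∀ i, freeOn O U ⟶ X i), g = ∑ i ∈ s, γ i ≫ Sigma.ι X i := by
  classical
  obtain ⟨F, hF⟩ := exists_isFin_of_isQcObject X hU (freeOnHomAddEquiv O U (∐ X) g)
  have h := comp_eF_of_isFin g F hF
  refine ⟨F, fun i => g ≫ Sigma.π X i, ?_⟩
  conv_lhs => rw [← h]
  unfold eF
  rw [Preadditive.comp_sum]
  refine Finset.sum_congr rfl fun i _ => ?_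
  rw [Category.assoc]

variable (O) in
/-- `Hom(j_{U!} O_U, -)` commutes with coproducts for quasi-compact `U` -/
theorem preservesColimitsOfShape_coyoneda_freeOn {U : C} (hU : CohCx.IsQcObject (hSh J U))
    (ι : Type u) :
    PreservesColimitsOfShape (Discrete ι) (preadditiveCoyoneda.obj (op (freeOn O U))) :=
  CoyonedaCoprod.preservesColimitsOfShape_of_exists_finset ι
    (fun X g => exists_finset_of_isQcObject hU X g)

variable (O) in
/-- sections over `W` as `Hom(j_{W!} O_W, -)` -/
noncomputable def sectionsIso (W : C) :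
    preadditiveCoyoneda.obj (op (freeOn O W)) ≅
      SheafOfModules.toSheaf (ringSh O) ⋙ (sheafSections J AddCommGrpCat.{u}).obj (op W) :=
  NatIso.ofComponents (fun M => (freeOnHomAddEquiv O W M).toAddCommGrpIso)
    (fun {M N} p => by
      ext g
      exact freeOnHomAddEquiv_comp O W g p)

variable (O) in
theorem preservesColimitsOfShape_sections {W : C} (hW : CohCx.IsQcObject (hSh J W))
    (ι : Type u) :
    PreservesColimitsOfShape (Discrete ι)
      (SheafOfModules.toSheaf (ringSh O) ⋙ (sheafSections J AddCommGrpCat.{u}).obj (op W)) :=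
  haveI := preservesColimitsOfShape_coyoneda_freeOn O hW ι
  preservesColimitsOfShape_of_natIso (sectionsIso O W)

variable (O) in
/-- `j_{U!} O_U` is projective for weakly contractible `U` -/
theorem projective_freeOn {U : C} (hwc : CohSite.IsWeaklyContractible J U) :
    Projective (freeOn O U) := by
  constructor
  intro E X f e he
  haveI := Groth.Agent.Lib.Helper94.ModSiteBasic.toSheaf_preservesFiniteColimits (ringSh O)
  have h0 : Epi ((SheafOfModules.toSheaf (ringSh O)).map e) := inferInstance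
  rw [← Sheaf.isLocallySurjective_iff_epi'] at h0
  have h1 : Sheaf.IsLocallySurjective (setMap e) := inferInstance
  have h2 : Epi (setMap e) := inferInstance
  obtain ⟨m, hm⟩ := hwc _ _ (setMap e) h2 (toSet (freeOnHomAddEquiv O U X f))
  refine ⟨(freeOnHomAddEquiv O U E).symm m, ?_⟩
  apply (freeOnHomAddEquiv O U X).injective
  rw [freeOnHomAddEquiv_comp]
  change e.val.app (op U) (freeOnHomAddEquiv O U E ((freeOnHomAddEquiv O U E).symm m)) = _
  rw [AddEquiv.apply_symm_apply]
  exact hm

variable (O) in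
/-- every module is a quotient of a coproduct of modules `j_{U!} O_U` with `U` in a
topologically generating class -/
theorem exists_epi_of_generating (G : Set C)
    (hG : ∀ X : C, ∃ (ι : Type u) (Y : ι → C) (f : ∀ i, Y i ⟶ X),
      Sieve.ofArrows Y f ∈ J X ∧ ∀ i, Y i ∈ G) (M : Mod O) :
    ∃ (ι : Type u) (U : ι → C) (π : (∐ fun i => freeOn O (U i)) ⟶ M),
      (∀ i, U i ∈ G) ∧ Epi π := by
  have hsep := (Groth.Agent.S6152.result O G hG).2
  let ι : Type u := Σ U : G, (freeOn O (U : C) ⟶ M)
  refine ⟨ι, fun i => (i.1 : C), Sigma.desc (fun i => i.2), fun i => i.1.2,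
    ⟨fun {Z} u v huv => ?_⟩⟩
  apply hsep
  rintro _ ⟨U⟩ h
  have := Sigma.ι (fun i : ι => freeOn O (i.1 : C)) ⟨U, h⟩ ≫= huv
  simpa using this

end Results

end Groth.Agent.Lib.Helper6.QcFinite
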