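import Mathlib
import Groth.Agent.Lib.Helper6.QcFinite
import Groth.Agent.Lib.Helper6.FilteredPres

/-!
# Finite subcovers of quasi-compact objects and finitely presented modules (helper6)
-/

set_option autoImplicit false
set_option linter.unusedSectionVars false
set_option linter.style.haveILetI false

universe u

namespace Groth.Agent.Lib.Helper6.QcCover

open CategoryTheory CategoryTheory.Limits Opposite ModSite
open Groth.Agent.Lib.Helper94.JShriek Groth.Agent.Lib.Helper6.FreeOnClass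
  Groth.Agent.Lib.Helper6.QcFinite

variable {C : Type u} [SmallCategory C] {J : GrothendieckTopology C}

section Subcover

/-- a covering family of a quasi-compact object has a finite covering subfamily -/
theorem exists_finset_generate_mem {U : C} (hU : CohCx.IsQcObject (hSh J U)) (R : Presieve U)
    (hR : Sieve.generate R ∈ J U) :
    ∃ T : Finset (Σ W : C, {b : W ⟶ U // R b}),
      Sieve.generate (Presieve.ofArrows (fun i : T => i.1.1) (fun i : T => i.1.2.1)) ∈ J U := by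
  classical
  let I := Σ W : C, {b : W ⟶ U // R b}
  let L : I → Sheaf J (Type u) := fun i => hSh J i.1
  let f : ∀ i, L i ⟶ hSh J U := fun i => (presheafToSheaf J (Type u)).map (yoneda.map i.2.1)
  have hjs : CohCx.JointlySurjective f := by
    intro V σ
    haveI : Presheaf.IsLocallySurjective J (toSheafify J (yoneda.obj U)) := inferInstance
    let S₁ := Presheaf.imageSieve (toSheafify J (yoneda.obj U)) σ
    have hS₁ : S₁ ∈ J V :=
      Presheaf.imageSieve_mem J (toSheafify J (yoneda.obj U)) (U := op V) σ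
    have key : ∀ ⦃V₁ : C⦄ (g₁ : V₁ ⟶ V), S₁ g₁ → ∃ (a : V₁ ⟶ U),
        can J U a = (hSh J U).obj.map g₁.op σ := by
      intro V₁ g₁ ⟨a, ha⟩
      exact ⟨a, ha⟩
    choose a ha using key
    refine ⟨Sieve.bind S₁ (fun V₁ g₁ hg₁ => (Sieve.generate R).pullback (a g₁ hg₁)),
      J.bind_covering hS₁ (fun V₁ g₁ hg₁ => J.pullback_stable _ hR), ?_⟩
    rintro V' g ⟨V₁, h, g₁, hg₁, ⟨Y, c, b, hb, hcb⟩, rfl⟩
    refine ⟨⟨Y, b, hb⟩, can J Y c, ?_⟩
    change ((presheafToSheaf J (Type u)).map (yoneda.map b)).hom.app (op V') (can J Y c) = _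
    rw [map_can, hcb, op_comp, Functor.map_comp]
    change _ = (hSh J U).obj.map h.op ((hSh J U).obj.map g₁.op σ)
    rw [← ha g₁ hg₁, can_map]
  obtain ⟨T, hT⟩ := hU I L f hjs
  refine ⟨T, ?_⟩
  obtain ⟨S, hS, h⟩ := hT U (can J U (𝟙 U))
  refine J.transitive hS _ (fun V g hg => ?_)
  obtain ⟨i, x, hx⟩ := h V g hg
  haveI : Presheaf.IsLocallySurjective J (toSheafify J (yoneda.obj i.1.1)) := inferInstance
  have hS₃ := Presheaf.imageSieve_mem J (toSheafify J (yoneda.obj i.1.1)) (U := op V) x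
  refine J.transitive hS₃ _ (fun V₁ k hk => ?_)
  obtain ⟨a, ha⟩ := hk
  -- `can (a ≫ b_i) = can (k ≫ g)`
  have h1 : can J U (a ≫ i.1.2.1) = can J U (k ≫ g) := by
    have h2 : can J i.1.1 a = (hSh J i.1.1).obj.map k.op x := ha
    calc can J U (a ≫ i.1.2.1) = (f i.1).hom.app (op V₁) (can J i.1.1 a) := (map_can _ _).symm
      _ = (f i.1).hom.app (op V₁) ((hSh J i.1.1).obj.map k.op x) := by rw [h2]
      _ = (hSh J U).obj.map k.op ((f i.1).hom.app (op V) x) :=
          (NatTrans.naturality_apply (f i.1).hom k.op x)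
      _ = (hSh J U).obj.map k.op ((hSh J U).obj.map g.op (can J U (𝟙 U))) := by rw [hx]
      _ = can J U (k ≫ g) := by rw [can_map, Category.comp_id, can_map]
  have hinj : Presheaf.IsLocallyInjective J (toSheafify J (yoneda.obj U)) := inferInstance
  have hS₄ : Presheaf.equalizerSieve (F := yoneda.obj U) (X := op V₁) (a ≫ i.1.2.1) (k ≫ g) ∈
      J V₁ := hinj.equalizerSieve_mem (X := op V₁) (a ≫ i.1.2.1) (k ≫ g) h1
  refine J.superset_covering ?_ hS₄
  intro V₂ m hm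
  have hm' : m ≫ a ≫ i.1.2.1 = m ≫ k ≫ g := hm
  refine ⟨i.1.1, m ≫ a, i.1.2.1, Presieve.ofArrows.mk i, ?_⟩
  rw [Category.assoc, hm', Category.assoc]

end Subcover

section FreeMap

variable (O : Sheaf J CommRingCat.{u})

/-- the generating section of `j_{U!} O_U` -/
noncomputable def gen (U : C) : sect (freeOn O U) U := freeOnHomAddEquiv O U (freeOn O U) (𝟙 _)

/-- the map `j_{W!} O_W ⟶ j_{U!} O_U` induced by `b : W ⟶ U` -/
noncomputable def freeOnMap {W U : C} (b : W ⟶ U) : freeOn O W ⟶ freeOn O U :=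
  (freeOnHomAddEquiv O W (freeOn O U)).symm (res (freeOn O U) b (gen O U))

lemma freeOnHomAddEquiv_eq {U : C} {F : Mod O} (h : freeOn O U ⟶ F) :
    freeOnHomAddEquiv O U F h = h.val.app (op U) (gen O U) := by
  have := freeOnHomAddEquiv_comp O U (𝟙 _) h
  rw [Category.id_comp] at this
  exact this

lemma freeOnMap_comp {W U : C} (b : W ⟶ U) {F : Mod O} (h : freeOn O U ⟶ F) :
    freeOnHomAddEquiv O W F (freeOnMap O b ≫ h) = res F b (freeOnHomAddEquiv O U F h) := by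
  rw [freeOnHomAddEquiv_comp, freeOnMap, AddEquiv.apply_symm_apply, ← res_app,
    ← freeOnHomAddEquiv_eq]

/-- a covering family induces an epimorphism of free modules -/
lemma epi_desc_freeOnMap {T : Type*} {U : C} (W : T → C) (b : ∀ t, W t ⟶ U)
    [HasCoproduct fun t => freeOn O (W t)]
    (hb : Sieve.generate (Presieve.ofArrows W b) ∈ J U) :
    Epi (Sigma.desc fun t => freeOnMap O (b t)) := by
  refine ⟨fun {Z} h₁ h₂ heq => ?_⟩
  apply (freeOnHomAddEquiv O U Z).injective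
  refine sect_ext Z _ hb _ _ ?_
  rintro V g ⟨Y, a, _, ⟨t⟩, rfl⟩
  have e1 : ∀ h : freeOn O U ⟶ Z, res Z (a ≫ b t) (freeOnHomAddEquiv O U Z h) =
      freeOnHomAddEquiv O V Z (freeOnMap O a ≫ freeOnMap O (b t) ≫ h) := fun h => by
    rw [res_comp, ← freeOnMap_comp, ← freeOnMap_comp]
  have := Sigma.ι (fun t => freeOn O (W t)) t ≫= heq
  rw [Sigma.ι_desc_assoc, Sigma.ι_desc_assoc] at this
  rw [e1, e1, this]

end FreeMap

section Lift

variable {O : Sheaf J CommRingCat.{u}}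

/-- sections lift locally along an epimorphism -/
lemma liftSieve_mem {P G : Mod O} (p : P ⟶ G) [Epi p] {U : C} (s : sect G U) :
    ∃ S ∈ J U, ∀ ⦃W : C⦄ (g : W ⟶ U), S g → ∃ t : sect P W, p.val.app (op W) t = res G g s := by
  haveI := Groth.Agent.Lib.Helper94.ModSiteBasic.toSheaf_preservesFiniteColimits (ringSh O)
  have h0 : Epi ((SheafOfModules.toSheaf (ringSh O)).map p) := inferInstance
  rw [← Sheaf.isLocallySurjective_iff_epi'] at h0
  have h1 : Sheaf.IsLocallySurjective (setMap p) := inferInstance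
  refine ⟨Presheaf.imageSieve (setMap p).hom (toSet s),
    Presheaf.imageSieve_mem J (setMap p).hom (U := op U) (toSet s), ?_⟩
  rintro W g ⟨t, ht⟩
  exact ⟨t, ht⟩

/-- finite local lifting over a quasi-compact object, through members of a generating class -/
theorem exists_finite_lift (B : Set C)
    (hB₁ : ∀ X : C, ∃ (κ : Type u) (Y : κ → C) (g : ∀ k, Y k ⟶ X),
      Sieve.ofArrows Y g ∈ J X ∧ ∀ k, Y k ∈ B)
    {U : C} (hU : CohCx.IsQcObject (hSh J U)) {P G : Mod O} (p : P ⟶ G) [Epi p]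
    (s : sect G U) :
    ∃ (n : ℕ) (W : Fin n → C) (b : ∀ k, W k ⟶ U) (t : ∀ k, sect P (W k)),
      (∀ k, W k ∈ B) ∧ Sieve.generate (Presieve.ofArrows W b) ∈ J U ∧
      ∀ k, p.val.app (op (W k)) (t k) = res G (b k) s := by
  classical
  obtain ⟨S, hS, hlift⟩ := liftSieve_mem p s
  let R : Presieve U := fun W g => W ∈ B ∧ ∃ t : sect P W, p.val.app (op W) t = res G g s
  have hR : Sieve.generate R ∈ J U := by
    choose κ Yc y hy hYB using hB₁
    refine J.superset_covering ?_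
      (J.bind_covering hS (R := fun W g _ => Sieve.ofArrows (Yc W) (y W)) (fun W g _ => hy W))
    rintro V f ⟨W, c, g, hg, ⟨Y', d, _, ⟨k⟩, rfl⟩, rfl⟩
    obtain ⟨t, ht⟩ := hlift g hg
    refine ⟨Yc W k, d, y W k ≫ g, ⟨hYB W k, res P (y W k) t, ?_⟩, by rw [Category.assoc]⟩
    rw [← res_app, ht, res_comp]
  obtain ⟨T, hT⟩ := exists_finset_generate_mem hU R hR
  let e : T ≃ Fin T.card := T.equivFin
  have hRk : ∀ k : Fin T.card, ∃ t : sect P (e.symm k).1.1,
      p.val.app (op (e.symm k).1.1) t = res G (e.symm k).1.2.1 s := fun k => (e.symm k).1.2.2.2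
  choose t ht using hRk
  refine ⟨T.card, fun k => (e.symm k).1.1, fun k => (e.symm k).1.2.1, t,
    fun k => (e.symm k).1.2.2.1, ?_, ht⟩
  refine J.superset_covering ?_ hT
  rintro V f ⟨Y, a, _, ⟨i⟩, rfl⟩
  have key : ∀ (j : T) (k : Fin T.card), j = e.symm k →
      Presieve.ofArrows (fun k : Fin T.card => (e.symm k).1.1)
        (fun k : Fin T.card => (e.symm k).1.2.1) j.1.2.1 := by
    rintro j k rfl
    exact Presieve.ofArrows.mk k
  exact ⟨_, a, _, key i (e i) (e.symm_apply_apply i).symm, rfl⟩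

end Lift

section Abstract

variable {𝒜 : Type*} [Category 𝒜] [Abelian 𝒜]

/-- the cokernel of a map into a cokernel, computed through a lift -/
lemma nonempty_cokernel_iso {R P G Q M : 𝒜} (ψ : R ⟶ P) (p : P ⟶ G) (w : ψ ≫ p = 0)
    (hS : (ShortComplex.mk ψ p w).Exact) [Epi p] (γ : Q ⟶ G) (β : Q ⟶ P) (hβ : β ≫ p = γ)
    (Ψ : M ⟶ P) (hΨ : ∀ {Z : 𝒜} (h : P ⟶ Z), Ψ ≫ h = 0 ↔ (β ≫ h = 0 ∧ ψ ≫ h = 0)) :
    Nonempty (cokernel γ ≅ cokernel Ψ) := by
  haveI : Epi (ShortComplex.mk ψ p w).g := inferInstanceAs (Epi p)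
  have hq : Ψ ≫ p ≫ cokernel.π γ = 0 :=
    (hΨ _).2 ⟨by rw [← Category.assoc, hβ, cokernel.condition],
      by rw [← Category.assoc, w, Limits.zero_comp]⟩
  have hcol : IsColimit (CokernelCofork.ofπ (p ≫ cokernel.π γ) hq) :=
    CokernelCofork.IsColimit.ofπ _ _
      (fun {Z} h hh => cokernel.desc γ (hS.desc h ((hΨ h).1 hh).2) (by
          rw [← hβ, Category.assoc]
          have : p ≫ hS.desc h ((hΨ h).1 hh).2 = h := hS.g_desc h _
          rw [this]
          exact ((hΨ h).1 hh).1))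
      (fun {Z} h hh => by
        rw [Category.assoc, cokernel.π_desc]
        exact hS.g_desc h _)
      (fun {Z} h hh m hm => by
        rw [← cancel_epi (cokernel.π γ), ← cancel_epi p, cokernel.π_desc]
        have : p ≫ hS.desc h ((hΨ h).1 hh).2 = h := hS.g_desc h _
        rw [this, ← Category.assoc]
        exact hm)
  exact ⟨(IsColimit.coconePointUniqueUpToIso (cokernelIsCokernel Ψ) hcol).symm⟩

end Abstract

section TypeA

variable (O : Sheaf J CommRingCat.{u}) (B : Set C)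

/-- modules of the form `Coker(⊕ j_{V_j!} O ⟶ ⊕ j_{U_i!} O)` with finitely many `U_i, V_j ∈ B` -/
def IsTypeA (F : Mod O) : Prop :=
  ∃ (m' n' : ℕ) (V' : Fin m' → C) (U' : Fin n' → C)
    (ψ : (∐ fun j => ModSite.freeOn O (V' j)) ⟶ ∐ fun i => ModSite.freeOn O (U' i)),
    (∀ j, V' j ∈ B) ∧ (∀ i, U' i ∈ B) ∧ Nonempty (F ≅ cokernel ψ)

variable {O B}

lemma IsTypeA.of_iso {F F' : Mod O} (h : IsTypeA O B F) (e : F' ≅ F) : IsTypeA O B F' := by
  obtain ⟨m, n, V, U, ψ, hV, hU, ⟨e'⟩⟩ := h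
  exact ⟨m, n, V, U, ψ, hV, hU, ⟨e ≪≫ e'⟩⟩

lemma isTypeA_of_fintype {T₁ : Type*} {T₂ : Type*} [Fintype T₁] [Fintype T₂] (V : T₁ → C)
    (U : T₂ → C) (ψ : (∐ fun j => freeOn O (V j)) ⟶ ∐ fun i => freeOn O (U i))
    (hV : ∀ j, V j ∈ B) (hU : ∀ i, U i ∈ B) {F : Mod O} (e : F ≅ cokernel ψ) :
    IsTypeA O B F := by
  let e₁ := (Fintype.equivFin T₁).symm
  let e₂ := (Fintype.equivFin T₂).symm
  let i₁ : (∐ fun j => freeOn O (V (e₁ j))) ≅ ∐ fun j => freeOn O (V j) :=
    Sigma.whiskerEquiv (f := fun j => freeOn O (V (e₁ j))) (g := fun j => freeOn O (V j)) e₁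
      (fun j => Iso.refl _)
  let i₂ : (∐ fun j => freeOn O (U (e₂ j))) ≅ ∐ fun j => freeOn O (U j) :=
    Sigma.whiskerEquiv (f := fun j => freeOn O (U (e₂ j))) (g := fun j => freeOn O (U j)) e₂
      (fun j => Iso.refl _)
  refine ⟨_, _, fun j => V (e₁ j), fun i => U (e₂ i), i₁.hom ≫ ψ ≫ i₂.inv, fun j => hV _,
    fun i => hU _, ⟨e ≪≫ ?_⟩⟩
  exact cokernel.mapIso ψ (i₁.hom ≫ ψ ≫ i₂.inv) i₁.symm i₂.symm (by simp)

end TypeA

section Cokernel

variable {O : Sheaf J CommRingCat.{u}} {B : Set C}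

/-- cokernels of maps between cokernels of finite free maps -/
theorem isTypeA_cokernel_aux
    (hB₁ : ∀ X : C, ∃ (κ : Type u) (Y : κ → C) (g : ∀ k, Y k ⟶ X),
      Sieve.ofArrows Y g ∈ J X ∧ ∀ k, Y k ∈ B)
    (hB₂ : ∀ U ∈ B, CohCx.IsQcObject (hSh J U))
    {mF nF mG nG : ℕ} (VF : Fin mF → C) (UF : Fin nF → C) (VG : Fin mG → C) (UG : Fin nG → C)
    (ψF : (∐ fun j => freeOn O (VF j)) ⟶ ∐ fun i => freeOn O (UF i))
    (ψG : (∐ fun j => freeOn O (VG j)) ⟶ ∐ fun i => freeOn O (UG i))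
    (hUF : ∀ i, UF i ∈ B) (hVG : ∀ j, VG j ∈ B) (hUG : ∀ i, UG i ∈ B)
    (α : cokernel ψF ⟶ cokernel ψG) : IsTypeA O B (cokernel α) := by
  classical
  let s : ∀ i, sect (cokernel ψG) (UF i) := fun i =>
    freeOnHomAddEquiv O (UF i) _ (Sigma.ι (fun i => freeOn O (UF i)) i ≫ cokernel.π ψF ≫ α)
  have hl := fun i => exists_finite_lift B hB₁ (hB₂ _ (hUF i)) (cokernel.π ψG) (s i)
  choose n W b t hWB hcov hlift using hl
  let T₁ := Σ i : Fin nF, Fin (n i)
  let X : T₁ → Mod O := fun x => freeOn O (W x.1 x.2)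
  let c : ∐ X ⟶ ∐ (fun i => freeOn O (UF i)) :=
    Sigma.desc (fun x => freeOnMap O (b x.1 x.2) ≫ Sigma.ι (fun i => freeOn O (UF i)) x.1)
  have hc : Epi c := by
    refine ⟨fun {Z} h₁ h₂ heq => ?_⟩
    refine Sigma.hom_ext _ _ (fun i => ?_)
    haveI := epi_desc_freeOnMap O (W i) (b i) (hcov i)
    rw [← cancel_epi (Sigma.desc fun k => freeOnMap O (b i k))]
    refine Sigma.hom_ext _ _ (fun k => ?_)
    have := Sigma.ι X ⟨i, k⟩ ≫= heq
    simp only [c, Sigma.ι_desc_assoc, Category.assoc] at this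
    rw [Sigma.ι_desc_assoc, Sigma.ι_desc_assoc]
    exact this
  let β : ∐ X ⟶ ∐ (fun i => freeOn O (UG i)) :=
    Sigma.desc (fun x => (freeOnHomAddEquiv O (W x.1 x.2) _).symm (t x.1 x.2))
  let γ : ∐ X ⟶ cokernel ψG := (c ≫ cokernel.π ψF) ≫ α
  have hβ : β ≫ cokernel.π ψG = γ := by
    refine Sigma.hom_ext _ _ (fun x => ?_)
    apply (freeOnHomAddEquiv O (W x.1 x.2) _).injective
    simp only [β, γ, c, Sigma.ι_desc_assoc, Category.assoc]
    rw [freeOnHomAddEquiv_comp, AddEquiv.apply_symm_apply, freeOnMap_comp]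
    exact hlift x.1 x.2
  let V'' : T₁ ⊕ Fin mG → C := Sum.elim (fun x => W x.1 x.2) VG
  let Ψ : (∐ fun t => freeOn O (V'' t)) ⟶ ∐ (fun i => freeOn O (UG i)) :=
    Sigma.desc (fun t => Sum.rec (motive := fun t => freeOn O (V'' t) ⟶ ∐ (fun i => freeOn O (UG i)))
      (fun x => Sigma.ι X x ≫ β) (fun j => Sigma.ι (fun j => freeOn O (VG j)) j ≫ ψG) t)
  have hΨ : ∀ {Z : Mod O} (h : (∐ (fun i => freeOn O (UG i))) ⟶ Z),
      Ψ ≫ h = 0 ↔ (β ≫ h = 0 ∧ ψG ≫ h = 0) := by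
    intro Z h
    constructor
    · intro hh
      constructor
      · refine Sigma.hom_ext _ _ (fun x => ?_)
        have := Sigma.ι (fun t => freeOn O (V'' t)) (Sum.inl x) ≫= hh
        simp only [Ψ, Sigma.ι_desc_assoc, Category.assoc, Limits.comp_zero] at this
        rw [Limits.comp_zero]
        exact this
      · refine Sigma.hom_ext _ _ (fun j => ?_)
        have := Sigma.ι (fun t => freeOn O (V'' t)) (Sum.inr j) ≫= hh
        simp only [Ψ, Sigma.ι_desc_assoc, Category.assoc, Limits.comp_zero] at this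
        rw [Limits.comp_zero]
        exact this
    · rintro ⟨h1, h2⟩
      refine Sigma.hom_ext _ _ (fun t => ?_)
      rw [Limits.comp_zero]
      cases t with
      | inl x =>
        simp only [Ψ, Sigma.ι_desc_assoc, Category.assoc]
        rw [h1, Limits.comp_zero]
      | inr j =>
        simp only [Ψ, Sigma.ι_desc_assoc, Category.assoc]
        rw [h2, Limits.comp_zero]
  obtain ⟨e1⟩ := nonempty_cokernel_iso ψG (cokernel.π ψG) (cokernel.condition ψG)
    (ShortComplex.exact_cokernel ψG) γ β hβ Ψ hΨ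
  haveI : Epi (c ≫ cokernel.π ψF) := epi_comp _ _
  let e2 : cokernel γ ≅ cokernel α := cokernelEpiComp (c ≫ cokernel.π ψF) α
  refine isTypeA_of_fintype V'' UG Ψ ?_ hUG (e2.symm ≪≫ e1)
  rintro (x | j)
  · exact hWB x.1 x.2
  · exact hVG j

/-- **type A modules are closed under cokernels** -/
theorem isTypeA_cokernel
    (hB₁ : ∀ X : C, ∃ (κ : Type u) (Y : κ → C) (g : ∀ k, Y k ⟶ X),
      Sieve.ofArrows Y g ∈ J X ∧ ∀ k, Y k ∈ B)
    (hB₂ : ∀ U ∈ B, CohCx.IsQcObject (hSh J U))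
    {F G : Mod O} (α : F ⟶ G) (hF : IsTypeA O B F) (hG : IsTypeA O B G) :
    IsTypeA O B (cokernel α) := by
  obtain ⟨mF, nF, VF, UF, ψF, hVF, hUF, ⟨eF⟩⟩ := hF
  obtain ⟨mG, nG, VG, UG, ψG, hVG, hUG, ⟨eG⟩⟩ := hG
  have h := isTypeA_cokernel_aux hB₁ hB₂ VF UF VG UG ψF ψG hUF hVG hUG (eF.inv ≫ α ≫ eG.hom)
  exact h.of_iso (cokernel.mapIso α (eF.inv ≫ α ≫ eG.hom) eF eG (by simp))

end Cokernel

section Filtered

variable {O : Sheaf J CommRingCat.{u}} {B : Set C}

/-- **every module is a filtered colimit of type A modules** -/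
theorem exists_filtered_typeA
    (hB₁ : ∀ X : C, ∃ (κ : Type u) (Y : κ → C) (g : ∀ k, Y k ⟶ X),
      Sieve.ofArrows Y g ∈ J X ∧ ∀ k, Y k ∈ B)
    (hB₂ : ∀ U ∈ B, CohCx.IsQcObject (hSh J U)) (F : Mod O) :
    ∃ (Λ : Type u) (_ : SmallCategory Λ) (_ : IsFiltered Λ) (D : Λ ⥤ Mod O)
      (ι : D ⟶ (Functor.const Λ).obj F),
      (∀ l, IsTypeA O B (D.obj l)) ∧ Nonempty (IsColimit (Cocone.mk F ι)) := by
  classical
  obtain ⟨I, U, π, hU, hπ⟩ := exists_epi_of_generating O B hB₁ F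
  obtain ⟨J', V, π', hV, hπ'⟩ := exists_epi_of_generating O B hB₁ (kernel π)
  let X : I → Mod O := fun i => freeOn O (U i)
  let Y : J' → Mod O := fun j => freeOn O (V j)
  let ψ : ∐ Y ⟶ ∐ X := π' ≫ kernel.ι π
  let e : cokernel ψ ≅ F :=
    cokernelEpiComp π' (kernel.ι π) ≪≫
      IsColimit.coconePointUniqueUpToIso (cokernelIsCokernel (kernel.ι π))
        (Abelian.epiIsCokernelOfKernel (Fork.ofι (kernel.ι π) (kernel.condition π))
          (kernelIsKernel π))
  have hd : ∀ j, ∃ (s : Finset I) (γ : ∀ i, Y j ⟶ X i),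
      Sigma.ι Y j ≫ ψ = ∑ i ∈ s, γ i ≫ Sigma.ι X i := fun j =>
    exists_finset_of_isQcObject (hB₂ _ (hV j)) X (Sigma.ι Y j ≫ ψ)
  choose s γ hγ using hd
  let d : FilteredPres.Data X Y ψ := ⟨s, γ, hγ⟩
  refine ⟨FilteredPres.Idx d, inferInstance, inferInstance, FilteredPres.D d,
    (FilteredPres.cocone d).ι ≫ (Functor.const _).map e.hom, fun l => ?_, ⟨?_⟩⟩
  · exact isTypeA_of_fintype (fun j : l.snd => V j.1) (fun i : l.fst => U i.1)
      (FilteredPres.psiSub d l) (fun j => hV _) (fun i => hU _) (Iso.refl _)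
  · exact IsColimit.ofIsoColimit (FilteredPres.isColimit d) (Cocone.ext e (fun l => rfl))

end Filtered

end Groth.Agent.Lib.Helper6.QcCover
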