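import Mathlib
import Groth.Agent.Lib.Helper6.QcCover

/-!
# Objects all of whose covering sieves contain finite covering families are quasi-compact
(helper6)
-/

set_option autoImplicit false
set_option linter.unusedSectionVars false
set_option linter.style.haveILetI false

universe u

namespace Groth.Agent.Lib.Helper6.QcRefine

open CategoryTheory CategoryTheory.Limits Opposite
open Groth.Agent.Lib.Helper6.QcFinite

variable {C : Type u} [SmallCategory C] {J : GrothendieckTopology C}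

/-- if every covering sieve of `U` contains a finite covering family, then `h_U^#` is a
quasi-compact object of the topos -/
theorem isQcObject_of_finite_refinement {U : C}
    (h : ∀ T ∈ J U, ∃ (κ : Type u) (_ : Finite κ) (Y : κ → C) (g : ∀ k, Y k ⟶ U),
      (∀ k, T (g k)) ∧ Sieve.generate (Presieve.ofArrows Y g) ∈ J U) :
    CohCx.IsQcObject (hSh J U) := by
  classical
  intro I L f hjs
  obtain ⟨S, hS, hlift⟩ := hjs U (can J U (𝟙 U))
  obtain ⟨κ, hκ, Y, g, hgS, hcov⟩ := h S hS
  have hk : ∀ k, ∃ (i : I) (x : (L i).obj.obj (op (Y k))),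
      (f i).hom.app (op (Y k)) x = can J U (g k) := by
    intro k
    obtain ⟨i, x, hx⟩ := hlift (Y k) (g k) (hgS k)
    refine ⟨i, x, ?_⟩
    rw [hx, can_map, Category.comp_id]
  choose ik xk hxk using hk
  refine ⟨(Set.finite_range ik).toFinset, ?_⟩
  intro V σ
  haveI : Presheaf.IsLocallySurjective J (toSheafify J (yoneda.obj U)) := inferInstance
  let S₁ := Presheaf.imageSieve (toSheafify J (yoneda.obj U)) σ
  have hS₁ : S₁ ∈ J V :=
    Presheaf.imageSieve_mem J (toSheafify J (yoneda.obj U)) (U := op V) σ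
  have key : ∀ ⦃V₁ : C⦄ (g₁ : V₁ ⟶ V), S₁ g₁ → ∃ (a : V₁ ⟶ U),
      can J U a = (hSh J U).obj.map g₁.op σ := by
    intro V₁ g₁ ⟨a, ha⟩
    exact ⟨a, ha⟩
  choose a ha using key
  refine ⟨Sieve.bind S₁ (fun V₁ g₁ hg₁ => (Sieve.generate (Presieve.ofArrows Y g)).pullback
      (a g₁ hg₁)), J.bind_covering hS₁ (fun V₁ g₁ hg₁ => J.pullback_stable _ hcov), ?_⟩
  rintro V' m ⟨V₁, c, g₁, hg₁, ⟨Y', d, _, ⟨k⟩, hcd⟩, rfl⟩
  refine ⟨⟨ik k, by simp⟩, (L (ik k)).obj.map d.op (xk k), ?_⟩
  have h1 := NatTrans.naturality_apply (f (ik k)).hom d.op (xk k)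
  rw [h1, hxk, can_map, hcd, op_comp, Functor.map_comp]
  change _ = (hSh J U).obj.map c.op ((hSh J U).obj.map g₁.op σ)
  rw [← ha g₁ hg₁, can_map]

end Groth.Agent.Lib.Helper6.QcRefine
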