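import Mathlib
import Groth.Agent.S0862
import Groth.Agent.Lib.Helper34.ModFree
import Groth.Agent.Lib.Helper68.CompactFS4
import Groth.Agent.Lib.Helper6.QcRefine
import Groth.Agent.Lib.Helper6.ExtSumGenLib

/-!
# `j_{U!} O_U` is compact with respect to uniformly bounded below families (helper6)
-/

set_option autoImplicit false
set_option linter.unusedSectionVars false
set_option linter.style.haveILetI false

universe u

namespace Groth.Agent.Lib.Helper6.FreeCompact

open CategoryTheory CategoryTheory.Limits Opposite Abelian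

section Abstract

/-- an additive functor killing all summands kills a finite coproduct -/
lemma isZero_map_sigma_of_additive {A B : Type*} [Category A] [Category B] [Preadditive A]
    [Preadditive B] (F : A ⥤ B) [F.Additive] {s : Type*} [Fintype s] (X : s → A)
    [HasCoproduct X] (h : ∀ x, IsZero (F.obj (X x))) : IsZero (F.obj (∐ X)) := by
  classical
  have h1 : 𝟙 (∐ X) = ∑ x, Sigma.π X x ≫ Sigma.ι X x := by
    refine Sigma.hom_ext _ _ (fun j => ?_)
    rw [Category.comp_id, Preadditive.comp_sum, Finset.sum_eq_single j]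
    · rw [← Category.assoc, Sigma.ι_π_eq_id, Category.id_comp]
    · intro i _ hij
      rw [← Category.assoc, Sigma.ι_π_of_ne X (Ne.symm hij), Limits.zero_comp]
    · intro hj
      exact absurd (Finset.mem_univ j) hj
  rw [IsZero.iff_id_eq_zero, ← F.map_id, h1, F.map_sum]
  refine Finset.sum_eq_zero (fun x _ => ?_)
  rw [F.map_comp]
  rw [(h x).eq_of_tgt (F.map (Sigma.π X x)) 0, Limits.zero_comp]

/-- a colimit of zero objects is zero -/
lemma isZero_pt_of_isColimit {K A : Type*} [Category K] [Category A] [HasZeroMorphisms A]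
    {D : K ⥤ A} {c : Cocone D} (hc : IsColimit c) (h : ∀ k, IsZero (D.obj k)) : IsZero c.pt := by
  rw [IsZero.iff_id_eq_zero]
  refine hc.hom_ext (fun k => ?_)
  exact (h k).eq_of_src _ _

end Abstract

section AbSheaf

variable {C : Type u} [SmallCategory C] [HasPullbacks C] (J : GrothendieckTopology C)
  (B : Set C) (Cov : ∀ (U : C) (ι : Type u), (ι → Over U) → Prop)
  (h1 : ∀ (U : C) (ι : Type u) (Y : ι → Over U), Cov U ι Y → Finite ι ∧ U ∈ B ∧
    Sieve.ofArrows (fun i => (Y i).left) (fun i => (Y i).hom) ∈ J U ∧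
    ∀ (p : ℕ) (a : Fin (p + 1) → ι), (∏ᶜ fun k => Y (a k)).left ∈ B)
  (h2 : ∀ U ∈ B, ∀ T ∈ J U, ∃ (ι : Type u) (Y : ι → Over U), Cov U ι Y ∧
    ∀ i, T.arrows (Y i).hom)

include h1 h2 in
/-- higher cohomology over a member of `B` vanishes on coproducts of acyclic sheaves -/
theorem subsingleton_H'_sigma (U : C) (hU : U ∈ B) {I : Type u}
    (G : I → Sheaf J AddCommGrpCat.{u}) (q : ℕ)
    (h : ∀ i, Subsingleton (Ext.{u} (CohCx.freeSheaf J U) (G i) (q + 1))) :
    Subsingleton (Ext.{u} (CohCx.freeSheaf J U) (∐ G) (q + 1)) := by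
  let Hq := (Sheaf.cohomologyPresheafFunctor J (q + 1)).flip.obj (op U)
  let D := CoproductsFromFiniteFiltered.liftToFinsetObj (Discrete.functor G)
  haveI := Groth.Agent.S0862.result J B Cov h1 h2 U hU (q + 1) (Finset (Discrete I)) D
  have hc := isColimitOfPreserves Hq
    (CoproductsFromFiniteFiltered.isColimitFiniteSubproductsCocone G)
  have hz : IsZero (Hq.mapCocone (CoproductsFromFiniteFiltered.finiteSubcoproductsCocone G)).pt := by
    refine isZero_pt_of_isColimit hc (fun s => ?_)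
    change IsZero ((extFunctorObj (CohCx.freeSheaf J U) (q + 1)).obj
      (∐ fun x : s => (Discrete.functor G).obj x))
    refine isZero_map_sigma_of_additive _ _ (fun x => ?_)
    haveI : Subsingleton ((extFunctorObj (CohCx.freeSheaf J U) (q + 1)).obj
        ((Discrete.functor G).obj x)) := h x.1.as
    exact AddCommGrpCat.isZero_of_subsingleton _
  exact AddCommGrpCat.subsingleton_of_isZero hz

end AbSheaf

section FreeIso

open ModSite Groth.Agent.Lib.Helper94.JShriek Groth.Agent.Lib.Helper6.QcCover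
  Groth.Agent.Lib.Helper34.ModFree

variable {C : Type u} [SmallCategory C] {J : GrothendieckTopology C}
  (O : Sheaf J CommRingCat.{u}) (U : C)

/-- a section of a module as a section of the underlying abelian sheaf -/
def toA {M : Mod O} (x : sect M U) : (toAb M).obj.obj (op U) := x

/-- a section of the underlying abelian sheaf as a section of the module -/
def toS {M : Mod O} (x : (toAb M).obj.obj (op U)) : sect M U := x

/-- the map `j_{U!} O_U ⟶ P_U` -/
noncomputable def toP : freeOn O U ⟶ P O U :=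
  (freeOnHomAddEquiv O U (P O U)).symm (toS O U (Groth.Agent.Lib.Helper34.ModFree.gen O U))

/-- the map `P_U ⟶ j_{U!} O_U` -/
noncomputable def ofP : P O U ⟶ freeOn O U :=
  ofSect O U (freeOn O U) (toA O U (Groth.Agent.Lib.Helper6.QcCover.gen O U))

lemma freeOnHomAddEquiv_toP :
    freeOnHomAddEquiv O U (P O U) (toP O U) =
      toS O U (Groth.Agent.Lib.Helper34.ModFree.gen O U) :=
  AddEquiv.apply_symm_apply _ _

lemma evalGen_ofP :
    evalGen O U (freeOn O U) (ofP O U) = toA O U (Groth.Agent.Lib.Helper6.QcCover.gen O U) :=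
  evalGen_ofSect O U _ _

lemma toP_ofP : toP O U ≫ ofP O U = 𝟙 _ := by
  apply (freeOnHomAddEquiv O U _).injective
  refine (freeOnHomAddEquiv_comp O U _ _).trans ?_
  refine (congrArg _ (freeOnHomAddEquiv_toP O U)).trans ?_
  have h1 := evalGen_eq O U (freeOn O U) (ofP O U)
  rw [evalGen_ofP] at h1
  exact h1.symm

lemma ofP_toP : ofP O U ≫ toP O U = 𝟙 _ := by
  apply (evalGen_bijective O U _).1
  refine (evalGen_comp O U _ _).trans ?_
  refine (congrArg _ (evalGen_ofP O U)).trans ?_
  have h1 := freeOnHomAddEquiv_eq O (toP O U)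
  rw [freeOnHomAddEquiv_toP] at h1
  exact h1.symm

/-- `j_{U!} O_U` is the free module on the sheafified representable -/
noncomputable def freeOnIsoP : freeOn O U ≅ P O U where
  hom := toP O U
  inv := ofP O U
  hom_inv_id := toP_ofP O U
  inv_hom_id := ofP_toP O U

end FreeIso

section Main

open ModSite Groth.Agent.Lib.Helper94.JShriek Groth.Agent.Lib.Helper6.QcCover
  Groth.Agent.Lib.Helper34.ModFree Groth.Agent.Lib.Helper6.QcFinite

variable {C : Type u} [SmallCategory C] [HasPullbacks C] {J : GrothendieckTopology C}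
  (O : Sheaf J CommRingCat.{u})
  (B : Set C) (Cov : ∀ (U : C) (ι : Type u), (ι → Over U) → Prop)
  (h1 : ∀ (U : C) (ι : Type u) (Y : ι → Over U), Cov U ι Y → Finite ι ∧ U ∈ B ∧
    Sieve.ofArrows (fun i => (Y i).left) (fun i => (Y i).hom) ∈ J U ∧
    ∀ (p : ℕ) (a : Fin (p + 1) → ι), (∏ᶜ fun k => Y (a k)).left ∈ B)
  (h2 : ∀ U ∈ B, ∀ T ∈ J U, ∃ (ι : Type u) (Y : ι → Over U), Cov U ι Y ∧
    ∀ i, T.arrows (Y i).hom)

include h1 h2 in
/-- members of `B` are quasi-compact -/
lemma isQcObject_of_mem (U : C) (hU : U ∈ B) : CohCx.IsQcObject (hSh J U) :=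
  QcRefine.isQcObject_of_finite_refinement (fun T hT => by
    obtain ⟨ι, Y, hY, hT'⟩ := h2 U hU T hT
    obtain ⟨hfin, -, hcov, -⟩ := h1 U ι Y hY
    exact ⟨ι, hfin, fun i => (Y i).left, fun i => (Y i).hom, hT', hcov⟩)

lemma ext_eq_zero_of_iso_left {𝒜 : Type*} [Category 𝒜] [Abelian 𝒜] [HasExt.{u} 𝒜] {X X' Y : 𝒜}
    (e : X ≅ X') {n : ℕ} (h : Subsingleton (Ext.{u} X' Y n)) (x : Ext.{u} X Y n) : x = 0 := by
  have h1 : x = (Ext.mk₀ e.hom).comp ((Ext.mk₀ e.inv).comp x (zero_add n)) (zero_add n) := by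
    rw [Ext.mk₀_comp_mk₀_assoc, e.hom_inv_id, Ext.mk₀_id_comp]
  rw [h1, h.elim ((Ext.mk₀ e.inv).comp x (zero_add n)) 0, Ext.comp_zero]

lemma ext_eq_zero_of_iso_right {𝒜 : Type*} [Category 𝒜] [Abelian 𝒜] [HasExt.{u} 𝒜] {X Y Y' : 𝒜}
    (e : Y ≅ Y') {n : ℕ} (h : Subsingleton (Ext.{u} X Y' n)) (x : Ext.{u} X Y n) : x = 0 := by
  have h1 : x = (x.comp (Ext.mk₀ e.hom) (add_zero n)).comp (Ext.mk₀ e.inv) (add_zero n) := by
    rw [Ext.comp_assoc_of_third_deg_zero, Ext.mk₀_comp_mk₀, e.hom_inv_id, Ext.comp_mk₀_id]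
  rw [h1, h.elim (x.comp (Ext.mk₀ e.hom) (add_zero n)) 0, Ext.zero_comp]

include h1 h2 in
/-- higher `Ext` groups from `j_{U!} O_U`, `U ∈ B`, to coproducts of injective modules vanish -/
lemma ext_sigma_injective_eq_zero [HasExt.{u} (Mod O)] (U : C) (hU : U ∈ B) {I : Type u}
    (G : I → Mod O) (hG : ∀ i, Injective (G i)) (q : ℕ)
    (x : Ext.{u} (freeOn O U) (∐ G) (q + 1)) : x = 0 := by
  haveI := Groth.Agent.Lib.Helper94.ModSiteBasic.toSheaf_preservesColimitsOfSize (ringSh O)
  refine ext_eq_zero_of_iso_left (freeOnIsoP O U) ?_ x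
  refine subsingleton_ext_of_HU O U (∐ G) (q + 1) ?_
  let ε : toAb (∐ G) ≅ ∐ fun i => toAb (G i) :=
    PreservesCoproduct.iso (SheafOfModules.toSheaf (ringSh O)) G
  have h3 : Subsingleton (Ext.{u} (CohCx.freeSheaf J U) (∐ fun i => toAb (G i)) (q + 1)) :=
    subsingleton_H'_sigma J B Cov h1 h2 U hU (fun i => toAb (G i)) q (fun i =>
      Groth.Agent.Lib.Helper19.CechPushHU.hu_subsingleton_of_isTotallyAcyclic _
        (Groth.Agent.Lib.Helper19.CechMod.isTotallyAcyclic_toSheaf_of_injective (ringSh O) (G i))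
        U q)
  have h4 : Subsingleton (Ext.{u} (CohCx.freeSheaf J U) (toAb (∐ G)) (q + 1)) :=
    ⟨fun a b => by
      rw [ext_eq_zero_of_iso_right ε h3 a, ext_eq_zero_of_iso_right ε h3 b]⟩
  exact h4

include h1 h2 in
/-- **S9047**: `j_{U!} O_U`, `U ∈ B`, is compact with respect to uniformly bounded below
families -/
theorem bijective_homSumToHomCoprod [HasDerivedCategory.{u} (Mod O)] (U : C) (hU : U ∈ B)
    {I : Type u} (M : I → DerivedCategory (Mod O)) [HasCoproduct M] (a : ℤ)
    (hM : ∀ i, (M i).IsGE a) :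
    Function.Bijective (CohDer.homSumToHomCoprod
      ((DerivedCategory.singleFunctor (Mod O) 0).obj (freeOn O U)) M) := by
  haveI : HasExt.{u} (Mod O) := inferInstance
  haveI : EnoughInjectives (Mod O) := inferInstance
  haveI : HasExactColimitsOfShape (Discrete I) (Mod O) := inferInstance
  have hqc := isQcObject_of_mem B Cov h1 h2 U hU
  exact Groth.Agent.Lib.Helper68.CompactFS.bijective_of_isGE (freeOn O U)
    (ExtSumGenLib.extSumGen (freeOn O U)
      (fun F g => exists_finset_of_isQcObject hqc F g)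
      (fun G hG q x => ext_sigma_injective_eq_zero O B Cov h1 h2 U hU G hG q x)) a M hM

end Main

end Groth.Agent.Lib.Helper6.FreeCompact
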