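import Mathlib
import Groth.Prelude.Def_DDual2
import Groth.Agent.Lib.Helper6.DerAdjPull

/-!
# `Rf_*` is additive, preserves products, cones and derived limits (helper6)

* `preservesLimits_Rpush`, `additive_Rpush`;
* `exists_distinguished_Rpush`: `Rf_*` sends distinguished triangles to distinguished triangles
  (for some third morphism);
* `isRlim_Rpush`: `Rf_*` commutes with derived limits.
-/

set_option autoImplicit false
set_option linter.style.haveILetI false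
universe u
open CategoryTheory CategoryTheory.Limits AlgebraicGeometry HomotopyCategory
  CategoryTheory.Pretriangulated

attribute [local instance] HasDerivedCategory.standard

namespace Groth.Agent.Lib.Helper6.RpushRlim

open Groth.Agent.Lib.Helper6.DerAdjPull Groth.Agent.Lib.Helper6.PushComp
  Groth.Agent.Lib.Helper6.PullDer Groth.Agent.Lib.Helper99.KInj

variable {X Y : Scheme.{u}} (f : X ⟶ Y) [DCoh.HasRpush f]

instance isRightAdjoint_Rpush : (DCoh.Rpush f).IsRightAdjoint :=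
  haveI := hasLpull f
  (derivedAdj f).isRightAdjoint

instance additive_Rpush : (DCoh.Rpush f).Additive :=
  Functor.additive_of_preserves_binary_products _

/-- K-injective objects of the homotopy category are stable under cones -/
lemma kInjK_obj₃ {A : Type*} [Category A] [Abelian A]
    (T : Triangle (HomotopyCategory A (ComplexShape.up ℤ)))
    (hT : T ∈ distTriang _) (h₁ : kInjK A T.obj₁) (h₂ : kInjK A T.obj₂) : kInjK A T.obj₃ := by
  have e : ∀ Z : HomotopyCategory A (ComplexShape.up ℤ), kInjK A Z ↔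
      (HomotopyCategory.subcategoryAcyclic A).rightOrthogonal Z := fun Z =>
    CochainComplex.isKInjective_iff_rightOrthogonal Z.as
  rw [e] at h₁ h₂ ⊢
  exact (HomotopyCategory.subcategoryAcyclic A).rightOrthogonal.ext_of_isTriangulatedClosed₃
    T hT h₁ h₂

lemma aux_cancel {D : Type*} [Category D] {P Q R S : D} (x : P ⟶ Q) (m : Q ⟶ R) (u : R ≅ S) :
    (x ≫ m ≫ u.hom) ≫ u.inv = x ≫ m := by simp

/-- every object of `D(O_X)` is represented by a K-injective complex -/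
lemma exists_kInj (A : DCoh.D X) : ∃ (J : CochainComplex X.Modules ℤ) (_ : J.IsKInjective),
    Nonempty (DerivedCategory.Qh.obj
      ((HomotopyCategory.quotient X.Modules (ComplexShape.up ℤ)).obj J) ≅ A) := by
  let Φ := (kInjK X.Modules).ι ⋙ (DerivedCategory.Qh : _ ⥤ DerivedCategory X.Modules)
  let MA := Φ.objPreimage A
  let eA : DerivedCategory.Qh.obj MA.obj ≅ A := Φ.objObjPreimageIso A
  obtain ⟨J, hJ⟩ := HomotopyCategory.quotient_obj_surjective MA.obj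
  have h : kInjK X.Modules ((HomotopyCategory.quotient X.Modules (ComplexShape.up ℤ)).obj J) := by
    rw [hJ]
    exact MA.property
  exact ⟨J, h, ⟨eqToIso (by rw [hJ]) ≪≫ eA⟩⟩

/-- `Rf_*` sends distinguished triangles to distinguished triangles -/
theorem exists_distinguished_Rpush {A B C : DCoh.D X} (a : A ⟶ B) (φ : B ⟶ C)
    (c : C ⟶ A⟦(1 : ℤ)⟧) (hT : Triangle.mk a φ c ∈ distTriang _) :
    ∃ (c' : (DCoh.Rpush f).obj C ⟶ ((DCoh.Rpush f).obj A)⟦(1 : ℤ)⟧),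
      Triangle.mk ((DCoh.Rpush f).map a) ((DCoh.Rpush f).map φ) c' ∈ distTriang _ := by
  obtain ⟨JA, hJA, ⟨eA⟩⟩ := exists_kInj A
  obtain ⟨JB, hJB, ⟨eB⟩⟩ := exists_kInj B
  let MA := (HomotopyCategory.quotient X.Modules (ComplexShape.up ℤ)).obj JA
  let MB := (HomotopyCategory.quotient X.Modules (ComplexShape.up ℤ)).obj JB
  have hMA : kInjK X.Modules MA := hJA
  have hMB : kInjK X.Modules MB := hJB
  obtain ⟨μ, hμ⟩ := (CochainComplex.IsKInjective.Qh_map_bijective MA JB).2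
    (eA.hom ≫ a ≫ eB.inv)
  obtain ⟨Z, ν, δ, hK⟩ := distinguished_cocone_triangle μ
  have hZ : kInjK X.Modules Z := kInjK_obj₃ _ hK hMA hMB
  have hQ := DerivedCategory.Qh.map_distinguished _ hK
  have c1 : DerivedCategory.Qh.map μ ≫ eB.hom = eA.hom ≫ a := by
    rw [hμ]
    simp
  let e := isoTriangleOfIso₁₂ _ _ hQ hT eA eB c1
  have he₂ : e.hom.hom₂ = eB.hom := isoTriangleOfIso₁₂_hom_hom₂ _ _ _ _ _ _ _
  let ε₃ : DerivedCategory.Qh.obj Z ≅ C := Triangle.π₃.mapIso e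
  have c2 : DerivedCategory.Qh.map ν ≫ ε₃.hom = eB.hom ≫ φ := by
    have h : DerivedCategory.Qh.map ν ≫ ε₃.hom = e.hom.hom₂ ≫ φ := e.hom.comm₂
    have h' : e.hom.hom₂ ≫ φ = eB.hom ≫ φ := congrArg (· ≫ φ) he₂
    exact h.trans h'
  have hP := (DCoh.pushKh f).map_distinguished _ hK
  haveI hA := isIso_app_of_kInjK (DCoh.pushKh f) (DCoh.Rpush f) (βK f) MA hMA
  haveI hB := isIso_app_of_kInjK (DCoh.pushKh f) (DCoh.Rpush f) (βK f) MB hMB
  haveI hC := isIso_app_of_kInjK (DCoh.pushKh f) (DCoh.Rpush f) (βK f) Z hZ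
  let u₁ : (DCoh.pushKh f).obj MA ≅ (DCoh.Rpush f).obj A :=
    asIso ((βK f).app MA) ≪≫ (DCoh.Rpush f).mapIso eA
  let u₂ : (DCoh.pushKh f).obj MB ≅ (DCoh.Rpush f).obj B :=
    asIso ((βK f).app MB) ≪≫ (DCoh.Rpush f).mapIso eB
  let u₃ : (DCoh.pushKh f).obj Z ≅ (DCoh.Rpush f).obj C :=
    asIso ((βK f).app Z) ≪≫ (DCoh.Rpush f).mapIso ε₃
  have hu₁ : u₁.hom = (βK f).app MA ≫ (DCoh.Rpush f).map eA.hom := rfl
  have hu₂ : u₂.hom = (βK f).app MB ≫ (DCoh.Rpush f).map eB.hom := rfl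
  have hu₃ : u₃.hom = (βK f).app Z ≫ (DCoh.Rpush f).map ε₃.hom := rfl
  have k1 : (DCoh.pushKh f).map μ ≫ u₂.hom = u₁.hom ≫ (DCoh.Rpush f).map a := by
    have n1 : (DCoh.pushKh f).map μ ≫ (βK f).app MB =
      (βK f).app MA ≫ (DCoh.Rpush f).map (DerivedCategory.Qh.map μ) := (βK f).naturality μ
    rw [hu₁, hu₂, Category.assoc, ← (DCoh.Rpush f).map_comp, ← c1, (DCoh.Rpush f).map_comp,
      ← Category.assoc, n1, Category.assoc]
  have k2 : (DCoh.pushKh f).map ν ≫ u₃.hom = u₂.hom ≫ (DCoh.Rpush f).map φ := by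
    have n1 : (DCoh.pushKh f).map ν ≫ (βK f).app Z =
      (βK f).app MB ≫ (DCoh.Rpush f).map (DerivedCategory.Qh.map ν) := (βK f).naturality ν
    rw [hu₂, hu₃, Category.assoc, ← (DCoh.Rpush f).map_comp, ← c2, (DCoh.Rpush f).map_comp,
      ← Category.assoc, n1, Category.assoc]
  refine ⟨u₃.inv ≫ ((DCoh.pushKh f).mapTriangle.obj (Triangle.mk μ ν δ)).mor₃ ≫ u₁.hom⟦(1 : ℤ)⟧', ?_⟩
  refine isomorphic_distinguished _ hP _ (Triangle.isoMk _ _ u₁.symm u₂.symm u₃.symm ?_ ?_ ?_)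
  · change (DCoh.Rpush f).map a ≫ u₂.inv = u₁.inv ≫ (DCoh.pushKh f).map μ
    rw [Iso.comp_inv_eq, Category.assoc, Iso.eq_inv_comp, k1]
  · change (DCoh.Rpush f).map φ ≫ u₃.inv = u₂.inv ≫ (DCoh.pushKh f).map ν
    rw [Iso.comp_inv_eq, Category.assoc, Iso.eq_inv_comp, k2]
  · change (u₃.inv ≫ ((DCoh.pushKh f).mapTriangle.obj (Triangle.mk μ ν δ)).mor₃ ≫
      u₁.hom⟦(1 : ℤ)⟧') ≫ u₁.inv⟦(1 : ℤ)⟧' =
      u₃.inv ≫ ((DCoh.pushKh f).mapTriangle.obj (Triangle.mk μ ν δ)).mor₃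
    exact aux_cancel _ _ ((shiftFunctor (DCoh.D Y) (1 : ℤ)).mapIso u₁)

/-- **`Rf_*` commutes with derived limits** -/
theorem isRlim_Rpush (K : ℕ → DCoh.D X) (t : ∀ n, K (n + 1) ⟶ K n) [HasProduct K]
    [HasProduct fun n => (DCoh.Rpush f).obj (K n)] (L : DCoh.D X) (hL : DCoh.IsRlim K t L) :
    DCoh.IsRlim (fun n => (DCoh.Rpush f).obj (K n)) (fun n => (DCoh.Rpush f).map (t n))
      ((DCoh.Rpush f).obj L) := by
  obtain ⟨a, c, hT⟩ := hL
  obtain ⟨c', hT'⟩ := exists_distinguished_Rpush f a _ c hT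
  haveI : PreservesLimit (Discrete.functor K) (DCoh.Rpush f) := inferInstance
  let c₀ : (DCoh.Rpush f).obj (∏ᶜ K) ≅ ∏ᶜ fun n => (DCoh.Rpush f).obj (K n) :=
    PreservesProduct.iso (DCoh.Rpush f) K
  have hc₀ : ∀ n, c₀.hom ≫ Pi.π (fun n => (DCoh.Rpush f).obj (K n)) n =
      (DCoh.Rpush f).map (Pi.π K n) := fun n => by
    simp [c₀, PreservesProduct.iso_hom]
  have key : (DCoh.Rpush f).map (Pi.lift fun n => Pi.π K n - Pi.π K (n + 1) ≫ t n) ≫ c₀.hom =
      c₀.hom ≫ Pi.lift (fun n => Pi.π (fun n => (DCoh.Rpush f).obj (K n)) n -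
        Pi.π (fun n => (DCoh.Rpush f).obj (K n)) (n + 1) ≫ (DCoh.Rpush f).map (t n)) := by
    apply Pi.hom_ext
    intro n
    rw [Category.assoc, Category.assoc, hc₀, ← Functor.map_comp, Pi.lift_π, Pi.lift_π,
      Functor.map_sub, Functor.map_comp, Preadditive.comp_sub, hc₀, reassoc_of% (hc₀ (n + 1))]
  refine ⟨(DCoh.Rpush f).map a ≫ c₀.hom, c₀.inv ≫ c', ?_⟩
  refine isomorphic_distinguished _ hT' _
    (Triangle.isoMk _ _ (Iso.refl _) c₀.symm c₀.symm ?_ ?_ ?_)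
  · change ((DCoh.Rpush f).map a ≫ c₀.hom) ≫ c₀.inv = 𝟙 _ ≫ (DCoh.Rpush f).map a
    simp
  · change (Pi.lift (fun n => Pi.π (fun n => (DCoh.Rpush f).obj (K n)) n -
        Pi.π (fun n => (DCoh.Rpush f).obj (K n)) (n + 1) ≫ (DCoh.Rpush f).map (t n))) ≫ c₀.inv =
      c₀.inv ≫ (DCoh.Rpush f).map (Pi.lift fun n => Pi.π K n - Pi.π K (n + 1) ≫ t n)
    rw [Iso.comp_inv_eq, Category.assoc, Iso.eq_inv_comp, key]
  · change (c₀.inv ≫ c') ≫ (𝟙 _)⟦(1 : ℤ)⟧' = c₀.inv ≫ c'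
    simp

end Groth.Agent.Lib.Helper6.RpushRlim
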