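import Mathlib
import Groth.Prelude.Def_CxOX
import Groth.Agent.S6508
import Groth.Agent.Lib.Helper6.RpushRlim
import Groth.Agent.Lib.Helper99.SPerf7
import Groth.Agent.Lib.Helper99.Glue
import Groth.Agent.Lib.Cohomology.Helper1_KernelSections

/-!
# `Rj_*` of a perfect complex supported on a subset closed in `X` is perfect (helper6)

* `isZero_of_support`: an `O_X`-module with empty support is zero;
* `mem_support_restrict_iff`: support of a restriction;
* `isZero_restrictD_of_support`: an object of `D(O_X)` restricts to zero on opens missing the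
  supports of its cohomology sheaves;
* `restrictRpushIso`: `(Rj_* E)|_U ≅ E` for an open immersion `j : U ⟶ X`;
* `isPerfect_Rpush_ι`.
-/

set_option autoImplicit false
set_option linter.style.haveILetI false
universe u
open CategoryTheory CategoryTheory.Limits AlgebraicGeometry HomotopyCategory TopologicalSpace
open ZeroObject

attribute [local instance] HasDerivedCategory.standard

namespace Groth.Agent.Lib.Helper6.RjPerf

open Groth.Agent.Lib.Helper6.PushComp Groth.Agent.Lib.Helper6.RpushRlim
  Groth.Agent.Lib.Helper99.SPerf Groth.Agent.Lib.Helper99.KInj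

variable {X : Scheme.{u}}

/-- an `O_X`-module with empty support is zero -/
lemma isZero_of_support (N : X.Modules) (h : ∀ x : X, x ∉ CohB1.support N) : IsZero N := by
  rw [IsZero.iff_id_eq_zero]
  apply Scheme.Modules.hom_ext
  intro U
  haveI : Subsingleton Γ(N, U) :=
    Groth.Agent.Lib.Cohomology.subsingleton_sections_of_disjoint_support N U (fun x _ => h x)
  ext s
  exact Subsingleton.elim _ _

/-- support of the restriction to an open subscheme -/
lemma mem_support_restrict_iff {U : Scheme.{u}} (j : U ⟶ X) [IsOpenImmersion j] (M : X.Modules)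
    (y : U) : y ∈ CohB1.support ((Scheme.Modules.restrictFunctor j).obj M) ↔
      j.base y ∈ CohB1.support M := by
  have e := (Scheme.Modules.restrictStalkNatIso j y).app M
  have e' : ((Scheme.Modules.restrictFunctor j).obj M).presheaf.stalk y ≅
      M.presheaf.stalk (j.base y) := e
  have : Subsingleton (((Scheme.Modules.restrictFunctor j).obj M).presheaf.stalk y) ↔
      Subsingleton (M.presheaf.stalk (j.base y)) :=
    e'.addCommGroupIsoToAddEquiv.toEquiv.subsingleton_congr
  exact not_congr this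

/-- an object of the derived category with vanishing cohomology is zero -/
lemma isZero_of_isZero_homology {A : Type*} [Category A] [Abelian A] [HasDerivedCategory A]
    (K : DerivedCategory A)
    (h : ∀ i : ℤ, IsZero ((DerivedCategory.homologyFunctor A i).obj K)) : IsZero K := by
  haveI : K.IsLE 0 := by
    rw [DerivedCategory.isLE_iff]
    exact fun i _ => h i
  haveI : K.IsGE 1 := by
    rw [DerivedCategory.isGE_iff]
    exact fun i _ => h i
  exact DerivedCategory.TStructure.t.isZero K 0 1 (by omega)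

/-- restriction to an open on which all cohomology sheaves have empty support is zero -/
lemma isZero_restrictD_of_support {U : Scheme.{u}} (j : U ⟶ X) [IsOpenImmersion j] (E : DCoh.D X)
    (h : ∀ (i : ℤ) (y : U), j.base y ∉ CohB1.support (DCoh.HD E i)) :
    IsZero ((DCoh.restrictD j).obj E) := by
  apply isZero_of_isZero_homology
  intro i
  refine IsZero.of_iso ?_ ((homologyMapDCIso (Scheme.Modules.restrictFunctor j) i).app E)
  apply isZero_of_support
  intro y hy
  exact h i y ((mem_support_restrict_iff j _ y).1 hy)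

/-- `(Rj_* E)|_U ≅ E` for an open immersion `j : U ⟶ X` -/
lemma nonempty_restrictRpushIso {U : Scheme.{u}} (j : U ⟶ X) [IsOpenImmersion j]
    [DCoh.HasRpush j] (E : DCoh.D U) :
    Nonempty ((DCoh.restrictD j).obj ((DCoh.Rpush j).obj E) ≅ E) := by
  obtain ⟨J, hJ, ⟨eE⟩⟩ := exists_kInj E
  let eE' : DerivedCategory.Q.obj J ≅ E :=
    (DerivedCategory.quotientCompQhIso U.Modules).symm.app J ≪≫ eE
  haveI := isIso_βCh_app j J (wkc_of_isKInjective J)
  let c : (restrCx j).obj ((pushCh j).obj J) ≅ J :=
    (Functor.mapHomologicalComplexCompIso (Scheme.Modules.restrictFunctorAdjCounitIso j)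
      (ComplexShape.up ℤ) ≪≫ Functor.mapHomologicalComplexIdIso _ _).app J
  exact ⟨(DCoh.restrictD j).mapIso ((DCoh.Rpush j).mapIso eE'.symm) ≪≫
    (DCoh.restrictD j).mapIso (asIso ((βCh j).app J)).symm ≪≫
    restrictDQIso j ((pushCh j).obj J) ≪≫ DerivedCategory.Q.mapIso c ≪≫ eE'⟩

/-- **`Rj_*` of a perfect complex whose cohomology is supported on a subset closed in `X` is
perfect** -/
theorem isPerfect_Rpush_ι (U : X.Opens) [DCoh.HasRpush U.ι]
    (E : DCoh.D (U : Scheme.{u})) (hE : DCoh.IsPerfect E) (T : Set (U : Scheme.{u}))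
    (hjT : IsClosed ((fun x : (U : Scheme.{u}) => U.ι.base x) '' T))
    (hsupp : ∀ i : ℤ, CohB1.support (DCoh.HD E i) ⊆ T) :
    DCoh.IsPerfect ((DCoh.Rpush U.ι).obj E) := by
  rw [isPerfect_iff]
  intro x
  by_cases hx : x ∈ U
  · -- near points of `U`, `Rj_* E` restricts to `E`
    obtain ⟨e⟩ := nonempty_restrictRpushIso U.ι E
    obtain ⟨V', hxV', P, hP, ⟨eP⟩⟩ := (isPerfect_iff E).1 hE ⟨x, hx⟩
    exact (isLocalProp_perf ((DCoh.Rpush U.ι).obj E)).of_two_step U V' x hx hxV'
      ⟨P, hP, ⟨(DCoh.restrictD V'.ι).mapIso e ≪≫ eP⟩⟩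
  · -- away from `U`, `Rj_* E` vanishes near `x`
    let W : X.Opens := ⟨((fun x : (U : Scheme.{u}) => U.ι.base x) '' T)ᶜ, hjT.isOpen_compl⟩
    have hxW : x ∈ W := by
      rintro ⟨y, _, rfl⟩
      exact hx y.2
    haveI : DCoh.HasRpush (U.ι ∣_ W) := Groth.Agent.Lib.Helper99.Glue.hasRpush _
    obtain ⟨φ⟩ := Groth.Agent.S6508.result U.ι W
    have hz : IsZero ((DCoh.restrictD (U.ι ⁻¹ᵁ W).ι).obj E) := by
      apply isZero_restrictD_of_support
      intro i y hy
      have h1 := hsupp i hy
      have h2 : U.ι.base ((U.ι ⁻¹ᵁ W).ι.base y) ∈ W := y.2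
      exact h2 ⟨_, h1, rfl⟩
    have hz' : IsZero ((DCoh.restrictD W.ι).obj ((DCoh.Rpush U.ι).obj E)) :=
      IsZero.of_iso ((DCoh.Rpush (U.ι ∣_ W)).map_isZero hz) (φ.app E)
    have h0 : ∀ i : ℤ, IsZero ((0 : CochainComplex (W : Scheme.{u}).Modules ℤ).X i) := fun i =>
      (HomologicalComplex.eval _ _ i).map_isZero (Limits.isZero_zero _)
    refine ⟨W, hxW, 0, ⟨⟨0, 0, fun i _ => h0 i⟩, fun i => isFinLocFree_of_isZero (h0 i)⟩,
      ⟨hz'.iso ?_⟩⟩
    exact DerivedCategory.Q.map_isZero (Limits.isZero_zero _)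

end Groth.Agent.Lib.Helper6.RjPerf
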