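import Mathlib
import Groth.Agent.Lib.Helper6.RjPerf

/-!
# Support of the cohomology sheaves of `Rf_* E` for a closed map `f` (helper6)
-/

set_option autoImplicit false
set_option linter.style.haveILetI false
universe u
open CategoryTheory CategoryTheory.Limits AlgebraicGeometry HomotopyCategory TopologicalSpace

attribute [local instance] HasDerivedCategory.standard

namespace Groth.Agent.Lib.Helper6.RpushSupp

open Groth.Agent.Lib.Helper6.RjPerf Groth.Agent.Lib.Helper99.SPerf

variable {X Y : Scheme.{u}}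

/-- the zero module has empty support -/
lemma not_mem_support_of_isZero {N : X.Modules} (hN : IsZero N) (x : X) :
    x ∉ CohB1.support N := by
  intro hx
  apply hx
  apply Groth.Agent.Lib.Cohomology.stalk_subsingleton_of_forall_germ_eq_zero
  intro O hxO s
  have h1 : 𝟙 N = 0 := (IsZero.iff_id_eq_zero N).1 hN
  have h2 : s = 0 := by
    have : (𝟙 N : N ⟶ N).app O s = (0 : N ⟶ N).app O s := by rw [h1]
    simpa using this
  rw [h2, map_zero]

/-- the cohomology sheaves of `Rf_* E` are supported on `f(Z)` if those of `E` are supported on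
`Z` and `f(Z)` is closed -/
theorem support_HD_Rpush_subset (f : X ⟶ Y) [DCoh.HasRpush f] (Z : Set X)
    (hfZ : IsClosed (f.base '' Z)) (E : DCoh.D X)
    (hE : ∀ i : ℤ, CohB1.support (DCoh.HD E i) ⊆ Z) (i : ℤ) :
    CohB1.support (DCoh.HD ((DCoh.Rpush f).obj E) i) ⊆ f.base '' Z := by
  intro y hy
  by_contra hyZ
  let W : Y.Opens := ⟨(f.base '' Z)ᶜ, hfZ.isOpen_compl⟩
  have hyW : y ∈ W := hyZ
  haveI : DCoh.HasRpush (f ∣_ W) := Groth.Agent.Lib.Helper99.Glue.hasRpush _
  obtain ⟨φ⟩ := Groth.Agent.S6508.result f W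
  have hz : IsZero ((DCoh.restrictD (f ⁻¹ᵁ W).ι).obj E) := by
    apply isZero_restrictD_of_support
    intro k x hx
    have h1 := hE k hx
    have h2 : f.base ((f ⁻¹ᵁ W).ι.base x) ∈ W := x.2
    exact h2 ⟨_, h1, rfl⟩
  have hz' : IsZero ((DCoh.restrictD W.ι).obj ((DCoh.Rpush f).obj E)) :=
    IsZero.of_iso ((DCoh.Rpush (f ∣_ W)).map_isZero hz) (φ.app E)
  have hz'' : IsZero ((Scheme.Modules.restrictFunctor W.ι).obj
      (DCoh.HD ((DCoh.Rpush f).obj E) i)) :=
    IsZero.of_iso ((DerivedCategory.homologyFunctor _ i).map_isZero hz')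
      ((homologyMapDCIso (Scheme.Modules.restrictFunctor W.ι) i).app _).symm
  have h3 := not_mem_support_of_isZero hz'' ⟨y, hyW⟩
  exact h3 ((mem_support_restrict_iff W.ι _ ⟨y, hyW⟩).2 hy)

end Groth.Agent.Lib.Helper6.RpushSupp
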