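import Mathlib
import Groth.Prelude.Def_CxOX
import Groth.Agent.Lib.Helper6.RjPerf
import Groth.Agent.Lib.Helper6.RpushSupp

/-!
# The unit `E ⟶ Rj_* j^* E` for an open immersion (helper6)

* `restrictRpushNatIso`: natural iso `Rj_* ⋙ j^* ≅ 𝟭`;
* `isIso_counit`: the counit of any adjunction `j^* ⊣ Rj_*` is an isomorphism;
* `isIso_unit_app_of_isZero_restrict`: the unit is an isomorphism at objects vanishing on an open
  `W` with `Wᶜ ⊆ j(X)`;
* `isZero_restrictD_RgammaZ`: `RΓ_Z(G)` vanishes on the open complement of `Z`.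
-/

set_option autoImplicit false
set_option linter.style.haveILetI false
universe u
open CategoryTheory CategoryTheory.Limits AlgebraicGeometry HomotopyCategory TopologicalSpace
open ZeroObject

attribute [local instance] HasDerivedCategory.standard

namespace Groth.Agent.Lib.Helper6.RjUnit

open Groth.Agent.Lib.Helper6.PushComp Groth.Agent.Lib.Helper6.RpushRlim
  Groth.Agent.Lib.Helper6.RjPerf
  Groth.Agent.Lib.Helper99.SPerf Groth.Agent.Lib.Helper99.KInj

variable {X : Scheme.{u}}

/-- `K(j_*) ⋙ K(j^*) ≅ 𝟭` on homotopy categories -/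
noncomputable def mapHCIdIso {U : Scheme.{u}} (j : U ⟶ X) [IsOpenImmersion j] :
    (Scheme.Modules.pushforward j).mapHomotopyCategory (ComplexShape.up ℤ) ⋙
      (Scheme.Modules.restrictFunctor j).mapHomotopyCategory (ComplexShape.up ℤ) ≅
        𝟭 (HomotopyCategory U.Modules (ComplexShape.up ℤ)) :=
  Quotient.natIsoLift _ (Functor.isoWhiskerRight
    (Functor.mapHomologicalComplexCompIso (Scheme.Modules.restrictFunctorAdjCounitIso j)
      (ComplexShape.up ℤ) ≪≫ Functor.mapHomologicalComplexIdIso _ _)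
    (HomotopyCategory.quotient _ (ComplexShape.up ℤ)) ≪≫ Functor.leftUnitor _ ≪≫
      (Functor.rightUnitor _).symm)

/-- `Rj_* ⋙ j^* ≅ 𝟭` for an open immersion `j` -/
theorem nonempty_restrictRpushNatIso {U : Scheme.{u}} (j : U ⟶ X) [IsOpenImmersion j]
    [DCoh.HasRpush j] :
    Nonempty (DCoh.Rpush j ⋙ DCoh.restrictD j ≅ 𝟭 (DCoh.D U)) := by
  have hL := isRightDerivedFunctor_comp_K (DCoh.pushKh j) (DCoh.Rpush j)
    ((DCoh.pushKh j).totalRightDerivedUnit DerivedCategory.Qh
      (HomotopyCategory.quasiIso U.Modules (ComplexShape.up ℤ))) (DCoh.restrictD j)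
  have hR : (𝟭 (DCoh.D U)).IsRightDerivedFunctor (Functor.rightUnitor DerivedCategory.Qh).inv
      (HomotopyCategory.quasiIso U.Modules (ComplexShape.up ℤ)) :=
    Functor.isRightDerivedFunctor_of_inverts _ _ (Functor.rightUnitor DerivedCategory.Qh)
  let e : DCoh.pushKh j ⋙ DCoh.restrictD j ≅ DerivedCategory.Qh :=
    Functor.associator _ _ _ ≪≫
      Functor.isoWhiskerLeft _ (Scheme.Modules.restrictFunctor j).mapDerivedCategoryFactorsh ≪≫
      (Functor.associator _ _ _).symm ≪≫
      Functor.isoWhiskerRight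
        (mapHCIdIso j) DerivedCategory.Qh ≪≫ Functor.leftUnitor _
  exact ⟨Functor.rightDerivedNatIso (DCoh.Rpush j ⋙ DCoh.restrictD j) (𝟭 _)
    (Functor.whiskerRight ((DCoh.pushKh j).totalRightDerivedUnit DerivedCategory.Qh
      (HomotopyCategory.quasiIso U.Modules (ComplexShape.up ℤ))) (DCoh.restrictD j) ≫
        (Functor.associator _ _ _).hom)
    (Functor.rightUnitor DerivedCategory.Qh).inv
    (HomotopyCategory.quasiIso U.Modules (ComplexShape.up ℤ)) e⟩

/-- the counit of any adjunction `j^* ⊣ Rj_*` is an isomorphism -/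
theorem isIso_counit {U : Scheme.{u}} (j : U ⟶ X) [IsOpenImmersion j] [DCoh.HasRpush j]
    (adj : DCoh.restrictD j ⊣ DCoh.Rpush j) : IsIso adj.counit := by
  obtain ⟨θ⟩ := nonempty_restrictRpushNatIso j
  exact adj.isIso_counit_of_iso θ

/-- an object of `D(O_X)` vanishing on two opens covering `X` is zero -/
theorem isZero_of_isZero_restrict {U : Scheme.{u}} (j : U ⟶ X) [IsOpenImmersion j] (W : X.Opens)
    (hW : (W : Set X)ᶜ ⊆ Set.range j.base) (C : DCoh.D X)
    (h1 : IsZero ((DCoh.restrictD j).obj C)) (h2 : IsZero ((DCoh.restrictD W.ι).obj C)) :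
    IsZero C := by
  apply isZero_of_isZero_homology
  intro i
  apply isZero_of_support
  intro x hx
  by_cases hxW : x ∈ W
  · have hz : IsZero ((Scheme.Modules.restrictFunctor W.ι).obj
        ((DerivedCategory.homologyFunctor _ i).obj C)) :=
      IsZero.of_iso ((DerivedCategory.homologyFunctor _ i).map_isZero h2)
        ((homologyMapDCIso (Scheme.Modules.restrictFunctor W.ι) i).app _).symm
    exact Groth.Agent.Lib.Helper6.RpushSupp.not_mem_support_of_isZero hz ⟨x, hxW⟩
      ((mem_support_restrict_iff W.ι _ ⟨x, hxW⟩).2 hx)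
  · obtain ⟨y, rfl⟩ := hW hxW
    have hz : IsZero ((Scheme.Modules.restrictFunctor j).obj
        ((DerivedCategory.homologyFunctor _ i).obj C)) :=
      IsZero.of_iso ((DerivedCategory.homologyFunctor _ i).map_isZero h1)
        ((homologyMapDCIso (Scheme.Modules.restrictFunctor j) i).app _).symm
    exact Groth.Agent.Lib.Helper6.RpushSupp.not_mem_support_of_isZero hz y
      ((mem_support_restrict_iff j _ y).2 hx)

/-- `Rj_* F` vanishes on an open `W` if `F` vanishes on `j⁻¹ W` -/
theorem isZero_restrictD_Rpush {U : Scheme.{u}} (j : U ⟶ X) [IsOpenImmersion j] (W : X.Opens)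
    [DCoh.HasRpush j] (F : DCoh.D U) (hF : IsZero ((DCoh.restrictD (j ⁻¹ᵁ W).ι).obj F)) :
    IsZero ((DCoh.restrictD W.ι).obj ((DCoh.Rpush j).obj F)) := by
  haveI : DCoh.HasRpush (j ∣_ W) := Groth.Agent.Lib.Helper99.Glue.hasRpush _
  obtain ⟨φ⟩ := Groth.Agent.S6508.result j W
  exact IsZero.of_iso ((DCoh.Rpush (j ∣_ W)).map_isZero hF) (φ.app F)

/-- the unit `E ⟶ Rj_* j^* E` is an isomorphism at objects vanishing on an open `W` whose
complement lies in the image of `j` -/
theorem isIso_unit_app_of_isZero_restrict {U : Scheme.{u}} (j : U ⟶ X) [IsOpenImmersion j]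
    (W : X.Opens) (hW : (W : Set X)ᶜ ⊆ Set.range j.base) [DCoh.HasRpush j]
    (adj : DCoh.restrictD j ⊣ DCoh.Rpush j) (E : DCoh.D X)
    (hE : IsZero ((DCoh.restrictD W.ι).obj E)) : IsIso (adj.unit.app E) := by
  haveI := isIso_counit j adj
  have h1 : IsIso ((DCoh.restrictD j).map (adj.unit.app E)) := by
    have h := adj.left_triangle_components E
    have : IsIso ((DCoh.restrictD j).map (adj.unit.app E) ≫
        adj.counit.app ((DCoh.restrictD j).obj E)) := by
      rw [h]; exact IsIso.id _
    exact IsIso.of_isIso_comp_right _ (adj.counit.app ((DCoh.restrictD j).obj E))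
  obtain ⟨C, g, h, hT⟩ := Pretriangulated.distinguished_cocone_triangle (adj.unit.app E)
  have hC : IsZero C := by
    apply isZero_of_isZero_restrict j W hW
    · have hT' := (DCoh.restrictD j).map_distinguished _ hT
      exact Pretriangulated.Triangle.isZero₃_of_isIso₁ _ hT' h1
    · have hT' := (DCoh.restrictD W.ι).map_distinguished _ hT
      refine Pretriangulated.Triangle.isZero₃_of_isZero₁₂ _ hT' hE ?_
      apply isZero_restrictD_Rpush
      have e : (DCoh.restrictD (j ⁻¹ᵁ W).ι).obj ((DCoh.restrictD j).obj E) ≅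
          (DCoh.restrictD (j ∣_ W)).obj ((DCoh.restrictD W.ι).obj E) :=
        ((restrictDComp (j ⁻¹ᵁ W).ι j).app E).symm ≪≫
          (restrictDCongr (morphismRestrict_ι j W).symm).app E ≪≫
          (restrictDComp (j ∣_ W) W.ι).app E
      exact IsZero.of_iso ((DCoh.restrictD (j ∣_ W)).map_isZero hE) e
  exact (Pretriangulated.Triangle.isZero₃_iff_isIso₁ _ hT).1 hC

/-- `Γ_Z(F)` vanishes on the open complement of `Z` -/
lemma isZero_restrict_gammaZ {U : Scheme.{u}} (j : U ⟶ X) [IsOpenImmersion j] (F : X.Modules) :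
    IsZero ((Scheme.Modules.restrictFunctor j).obj ((DCoh.gammaZ j).obj F)) := by
  have h := (Scheme.Modules.restrictAdjunction j).left_triangle_components F
  haveI : Mono ((Scheme.Modules.restrictFunctor j).map
      ((Scheme.Modules.restrictAdjunction j).unit.app F)) := by
    haveI : Mono ((Scheme.Modules.restrictFunctor j).map
        ((Scheme.Modules.restrictAdjunction j).unit.app F) ≫
          (Scheme.Modules.restrictAdjunction j).counit.app
            ((Scheme.Modules.restrictFunctor j).obj F)) := by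
      rw [h]; infer_instance
    exact mono_of_mono _ ((Scheme.Modules.restrictAdjunction j).counit.app
            ((Scheme.Modules.restrictFunctor j).obj F))
  have e : (Scheme.Modules.restrictFunctor j).obj
      (kernel ((Scheme.Modules.restrictAdjunction j).unit.app F)) ≅
        kernel ((Scheme.Modules.restrictFunctor j).map
          ((Scheme.Modules.restrictAdjunction j).unit.app F)) :=
    PreservesKernel.iso _ _
  exact IsZero.of_iso (isZero_kernel_of_mono _) e

/-- a complex with zero terms is zero in the derived category -/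
lemma isZero_Q_of_isZero_X {A : Type*} [Category A] [Abelian A] [HasDerivedCategory A]
    (K : CochainComplex A ℤ) (h : ∀ i, IsZero (K.X i)) : IsZero (DerivedCategory.Q.obj K) := by
  apply DerivedCategory.Q.map_isZero
  rw [IsZero.iff_id_eq_zero]
  ext i
  exact (h i).eq_of_src _ _

/-- `RΓ_Z(G)` vanishes on the open complement of `Z` -/
theorem isZero_restrictD_RgammaZ {U : Scheme.{u}} (j : U ⟶ X) [IsOpenImmersion j]
    [CxOX.HasRgammaZ j] (G : DCoh.D X) :
    IsZero ((DCoh.restrictD j).obj ((CxOX.RgammaZ j).obj G)) := by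
  obtain ⟨I, hI, ⟨eG⟩⟩ := exists_kInj G
  have hI' : kInjK X.Modules ((HomotopyCategory.quotient X.Modules (ComplexShape.up ℤ)).obj I) :=
    hI
  haveI := isIso_app_of_kInjK (CxOX.gammaZKh j) (CxOX.RgammaZ j)
    ((CxOX.gammaZKh j).totalRightDerivedUnit DerivedCategory.Qh
      (HomotopyCategory.quasiIso X.Modules (ComplexShape.up ℤ))) _ hI'
  let K : CochainComplex X.Modules ℤ :=
    ((DCoh.gammaZ j).mapHomologicalComplex (ComplexShape.up ℤ)).obj I
  have e1 : (CxOX.RgammaZ j).obj G ≅ DerivedCategory.Q.obj K :=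
    (CxOX.RgammaZ j).mapIso eG.symm ≪≫
      (asIso (((CxOX.gammaZKh j).totalRightDerivedUnit DerivedCategory.Qh
        (HomotopyCategory.quasiIso X.Modules (ComplexShape.up ℤ))).app
          ((HomotopyCategory.quotient X.Modules (ComplexShape.up ℤ)).obj I))).symm ≪≫
      DerivedCategory.Qh.mapIso
        (((DCoh.gammaZ j).mapHomotopyCategoryFactors (ComplexShape.up ℤ)).app I) ≪≫
      (DerivedCategory.quotientCompQhIso X.Modules).app K
  have hz : IsZero (DerivedCategory.Q.obj ((restrCx j).obj K)) := by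
    apply isZero_Q_of_isZero_X
    intro i
    exact isZero_restrict_gammaZ j (I.X i)
  exact IsZero.of_iso hz ((DCoh.restrictD j).mapIso e1 ≪≫ restrictDQIso j K)

end Groth.Agent.Lib.Helper6.RjUnit
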