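import Mathlib
import Groth.Prelude.Def_CxOX
import Groth.Agent.Lib.Helper19.SiteLocCoh
import Groth.Agent.Lib.Helper6.RjUnit

/-!
# The sequence `0 ⟶ Γ_Z(I) ⟶ I ⟶ j_* j^* I ⟶ 0` for injective `O_X`-modules (helper6)
-/

set_option autoImplicit false
set_option linter.style.haveILetI false
universe u
open CategoryTheory CategoryTheory.Limits AlgebraicGeometry TopologicalSpace

attribute [local instance] HasDerivedCategory.standard

namespace Groth.Agent.Lib.Helper6.GammaZSES

variable {X : Scheme.{u}}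

/-- the counit `j_! j^* F ⟶ F` is a monomorphism for an open `V ⊆ X` -/
theorem mono_extZeroAdj_counit_app (V : X.Opens) (F : X.Modules) :
    Mono ((CxOX.extZeroAdj V.ι).counit.app F) := by
  let A2 := (((Scheme.Modules.overEquiv V).symm.toAdjunction).comp
    (ModSite.extZeroAdj X.sheaf V)).ofNatIsoRight (Scheme.Modules.overFunctorEquiv V)
  have h := Adjunction.leftAdjointUniq_hom_app_counit (CxOX.extZeroAdj V.ι) A2 F
  rw [← h]
  have hm : Mono (A2.counit.app F) := by
    haveI := Groth.Agent.Lib.Helper19.SiteLocCoh.mono_extZeroAdj_counit_app X.sheaf V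
      (fun W => inferInstance) F
    dsimp only [A2]
    rw [Adjunction.ofNatIsoRight_counit]
    simp only [NatTrans.comp_app, Functor.whiskerRight_app, Adjunction.comp_counit_app]
    haveI i1 : IsIso ((Scheme.Modules.overFunctorEquiv V).inv.app F) :=
      inferInstanceAs (IsIso ((Scheme.Modules.overFunctorEquiv V).app F).inv)
    haveI i2 : IsIso ((Scheme.Modules.overEquiv V).symm.toAdjunction.counit.app
        ((ModSite.restr X.sheaf V).obj F)) := by
      rw [Equivalence.toAdjunction_counit]
      exact inferInstanceAs (IsIso (((Scheme.Modules.overEquiv V).symm.counitIso.app _).hom))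
    refine @mono_comp _ _ _ _ _ _ (IsIso.mono_of_iso _) _ (@mono_comp _ _ _ _ _ _ ?_ _ this)
    exact IsIso.mono_of_iso _
  exact @mono_comp _ _ _ _ _ _ (IsIso.mono_of_iso _) _ hm

/-- the unit `I ⟶ j_* j^* I` is an epimorphism for `I` injective -/
theorem epi_unit_app_of_injective (V : X.Opens) (I : X.Modules) [Injective I] :
    Epi ((Scheme.Modules.restrictAdjunction V.ι).unit.app I) := by
  haveI := mono_extZeroAdj_counit_app V ((Scheme.Modules.pushforward V.ι).obj
    ((Scheme.Modules.restrictFunctor V.ι).obj I))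
  exact Groth.Agent.Lib.Helper19.SiteLocCoh.epi_unit_of_mono_counit (CxOX.extZeroAdj V.ι)
    (Scheme.Modules.restrictAdjunction V.ι) I

open Groth.Agent.Lib.Helper6.PushComp Groth.Agent.Lib.Helper6.RpushRlim
  Groth.Agent.Lib.Helper6.RjPerf Groth.Agent.Lib.Helper6.RjUnit
  Groth.Agent.Lib.Helper99.SPerf Groth.Agent.Lib.Helper99.KInj

/-- the termwise inclusion `Γ_Z(I) ⟶ I` -/
noncomputable def fmap {U : Scheme.{u}} (j : U ⟶ X) [IsOpenImmersion j]
    (I : CochainComplex X.Modules ℤ) :
    ((DCoh.gammaZ j).mapHomologicalComplex (ComplexShape.up ℤ)).obj I ⟶ I where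
  f i := (CxOX.gammaZι j).app (I.X i)
  comm' i k _ := ((CxOX.gammaZι j).naturality (I.d i k)).symm

/-- the termwise unit `I ⟶ j_* j^* I` -/
noncomputable def gmap {U : Scheme.{u}} (j : U ⟶ X) [IsOpenImmersion j]
    (I : CochainComplex X.Modules ℤ) :
    I ⟶ (pushCh j).obj ((restrCx j).obj I) where
  f i := (Scheme.Modules.restrictAdjunction j).unit.app (I.X i)
  comm' i k _ := ((Scheme.Modules.restrictAdjunction j).unit.naturality (I.d i k)).symm

/-- the short complex `Γ_Z(I) ⟶ I ⟶ j_* j^* I` of complexes -/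
noncomputable def sc {U : Scheme.{u}} (j : U ⟶ X) [IsOpenImmersion j]
    (I : CochainComplex X.Modules ℤ) : ShortComplex (CochainComplex X.Modules ℤ) :=
  ShortComplex.mk (fmap j I) (gmap j I) (by
    apply HomologicalComplex.hom_ext
    intro i
    exact kernel.condition ((Scheme.Modules.restrictAdjunction j).unit.app (I.X i)))

/-- it is short exact when the terms of `I` are injective -/
theorem sc_shortExact (V : X.Opens) (I : CochainComplex X.Modules ℤ)
    (hI : ∀ n, Injective (I.X n)) : (sc V.ι I).ShortExact := by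
  apply HomologicalComplex.shortExact_of_degreewise_shortExact
  intro i
  haveI := hI i
  haveI : Epi ((Scheme.Modules.restrictAdjunction V.ι).unit.app (I.X i)) :=
    epi_unit_app_of_injective V (I.X i)
  refine ShortComplex.ShortExact.mk' ?_ ?_ ?_
  · exact ShortComplex.exact_of_f_is_kernel _
      (kernelIsKernel ((Scheme.Modules.restrictAdjunction V.ι).unit.app (I.X i)))
  · exact inferInstanceAs (Mono (kernel.ι ((Scheme.Modules.restrictAdjunction V.ι).unit.app
      (I.X i))))
  · exact inferInstanceAs (Epi ((Scheme.Modules.restrictAdjunction V.ι).unit.app (I.X i)))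

/-- `RΓ_Z` of a K-injective complex is computed termwise -/
theorem nonempty_RgammaZ_Q_iso {U : Scheme.{u}} (j : U ⟶ X) [IsOpenImmersion j]
    [CxOX.HasRgammaZ j] (I : CochainComplex X.Modules ℤ) [hI : I.IsKInjective] :
    Nonempty ((CxOX.RgammaZ j).obj (DerivedCategory.Q.obj I) ≅
      DerivedCategory.Q.obj (((DCoh.gammaZ j).mapHomologicalComplex (ComplexShape.up ℤ)).obj I)) := by
  have hI' : kInjK X.Modules ((HomotopyCategory.quotient X.Modules (ComplexShape.up ℤ)).obj I) :=
    hI
  haveI := isIso_app_of_kInjK (CxOX.gammaZKh j) (CxOX.RgammaZ j)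
    ((CxOX.gammaZKh j).totalRightDerivedUnit DerivedCategory.Qh
      (HomotopyCategory.quasiIso X.Modules (ComplexShape.up ℤ))) _ hI'
  let K : CochainComplex X.Modules ℤ :=
    ((DCoh.gammaZ j).mapHomologicalComplex (ComplexShape.up ℤ)).obj I
  exact ⟨(CxOX.RgammaZ j).mapIso ((DerivedCategory.quotientCompQhIso X.Modules).app I).symm ≪≫
      (asIso (((CxOX.gammaZKh j).totalRightDerivedUnit DerivedCategory.Qh
        (HomotopyCategory.quasiIso X.Modules (ComplexShape.up ℤ))).app
          ((HomotopyCategory.quotient X.Modules (ComplexShape.up ℤ)).obj I))).symm ≪≫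
      DerivedCategory.Qh.mapIso
        (((DCoh.gammaZ j).mapHomotopyCategoryFactors (ComplexShape.up ℤ)).app I) ≪≫
      (DerivedCategory.quotientCompQhIso X.Modules).app K⟩

open Groth.Agent.Lib.Helper99.RestrKInj in
/-- every object of `D(O_X)` is represented by a K-injective complex with injective terms -/
theorem exists_kInj_injective (G : DCoh.D X) :
    ∃ (I : CochainComplex X.Modules ℤ) (_ : I.IsKInjective), (∀ n, Injective (I.X n)) ∧
      Nonempty (G ≅ DerivedCategory.Q.obj I) := by
  let M := DerivedCategory.Q.objPreimage G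
  obtain ⟨I, f, hI, hf, -, hinj⟩ := Groth.Agent.Lib.Helper99.KInj.exists_kInjective_resolution M
  haveI := hf
  exact ⟨I, hI, hinj, ⟨(DerivedCategory.Q.objObjPreimageIso G).symm ≪≫
    asIso (DerivedCategory.Q.map f)⟩⟩

open Groth.Agent.Lib.Helper99.RestrKInj in
/-- if `RΓ_Z(G) = 0` then `G` is a derived direct image from the open complement of `Z` -/
theorem exists_iso_Rpush_of_isZero_RgammaZ (V : X.Opens) [CxOX.HasRgammaZ V.ι]
    [DCoh.HasRpush V.ι] (G : DCoh.D X) (hz : IsZero ((CxOX.RgammaZ V.ι).obj G)) :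
    ∃ B : DCoh.D (V : Scheme.{u}), Nonempty (G ≅ (DCoh.Rpush V.ι).obj B) := by
  obtain ⟨I, hI, hinj, ⟨eG⟩⟩ := exists_kInj_injective G
  have hS := sc_shortExact V I hinj
  have hT := DerivedCategory.triangleOfSES_distinguished hS
  obtain ⟨e1⟩ := nonempty_RgammaZ_Q_iso V.ι I
  have h1 : IsZero (DerivedCategory.triangleOfSES hS).obj₁ :=
    IsZero.of_iso hz ((CxOX.RgammaZ V.ι).mapIso eG ≪≫ e1).symm
  have h2 : IsIso (DerivedCategory.Q.map (gmap V.ι I)) :=
    (Pretriangulated.Triangle.isZero₁_iff_isIso₂ _ hT).1 h1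
  haveI : ((restrCx V.ι).obj I).IsKInjective := isKInjective_restrict V I
  haveI := isIso_βCh_app V.ι ((restrCx V.ι).obj I) (wkc_of_isKInjective _)
  exact ⟨DerivedCategory.Q.obj ((restrCx V.ι).obj I),
    ⟨eG ≪≫ asIso (DerivedCategory.Q.map (gmap V.ι I)) ≪≫
      asIso ((βCh V.ι).app ((restrCx V.ι).obj I))⟩⟩

end Groth.Agent.Lib.Helper6.GammaZSES
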