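import Mathlib
import Groth.Prelude.Def_CxOX
import Groth.Agent.Lib.Helper6.GammaZSES
import Groth.Agent.Lib.Helper6.RpushSupp

/-!
# `Γ_Z` of an injective `O_X`-module is injective (helper6)
-/

set_option autoImplicit false
set_option linter.style.haveILetI false
universe u
open CategoryTheory CategoryTheory.Limits AlgebraicGeometry TopologicalSpace

namespace Groth.Agent.Lib.Helper6.GammaZInj

open Groth.Agent.Lib.Helper6.GammaZSES Groth.Agent.Lib.Helper6.RjPerf

lemma injective_of_retract {C : Type*} [Category C] {K I : C} (i : K ⟶ I) (r : I ⟶ K)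
    (h : i ≫ r = 𝟙 K) [Injective I] : Injective K where
  factors g f _ := ⟨Injective.factorThru (g ≫ i) f ≫ r, by
    rw [← Category.assoc, Injective.comp_factorThru, Category.assoc, h, Category.comp_id]⟩

variable {X : Scheme.{u}}

/-- `Γ_Z(I)` is injective for `I` injective, case of an open subscheme -/
theorem injective_gammaZ_ι (V : X.Opens) (I : X.Modules) [Injective I] :
    Injective ((DCoh.gammaZ V.ι).obj I) := by
  haveI := mono_extZeroAdj_counit_app V ((Scheme.Modules.pushforward V.ι).obj
    ((Scheme.Modules.restrictFunctor V.ι).obj I))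
  obtain ⟨s, hs⟩ := Groth.Agent.Lib.Helper19.SiteLocCoh.exists_section_unit_of_mono_counit
    (CxOX.extZeroAdj V.ι) (Scheme.Modules.restrictAdjunction V.ι) I
  let η : I ⟶ (Scheme.Modules.pushforward V.ι).obj ((Scheme.Modules.restrictFunctor V.ι).obj I) :=
    (Scheme.Modules.restrictAdjunction V.ι).unit.app I
  have hs' : s ≫ η = 𝟙 _ := hs
  have hp : (𝟙 I - η ≫ s) ≫ η = 0 := by
    rw [Preadditive.sub_comp, Category.id_comp, Category.assoc, hs', Category.comp_id, sub_self]
  let r : I ⟶ kernel η := kernel.lift η (𝟙 I - η ≫ s) hp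
  have key : Injective (kernel η) := by
    refine injective_of_retract (kernel.ι η) r ?_
    rw [← cancel_mono (kernel.ι η), Category.assoc, kernel.lift_ι, Preadditive.comp_sub,
      Category.comp_id, ← Category.assoc, kernel.condition, zero_comp, sub_zero, Category.id_comp]
  exact key

/-- `k ≫ η = 0` iff `k` restricts to zero -/
lemma comp_unit_eq_zero_iff {U : Scheme.{u}} (j : U ⟶ X) [IsOpenImmersion j] {K I : X.Modules}
    (k : K ⟶ I) : k ≫ (Scheme.Modules.restrictAdjunction j).unit.app I = 0 ↔
      (Scheme.Modules.restrictFunctor j).map k = 0 := by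
  let adj := Scheme.Modules.restrictAdjunction j
  have hn : k ≫ adj.unit.app I = adj.homEquiv K ((Scheme.Modules.restrictFunctor j).obj I)
      ((Scheme.Modules.restrictFunctor j).map k) := by
    rw [Adjunction.homEquiv_unit]
    exact adj.unit.naturality k
  have h0 : adj.homEquiv K ((Scheme.Modules.restrictFunctor j).obj I) 0 = 0 := by
    rw [Adjunction.homEquiv_unit, Functor.map_zero, comp_zero]
  constructor
  · intro h
    apply (adj.homEquiv K ((Scheme.Modules.restrictFunctor j).obj I)).injective
    rw [← hn, h0]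
    exact h
  · intro h
    rw [hn, h, h0]

/-- the sections supported off `j₁(U₁)` are supported off `j₂(U₂)` when `j₂(U₂) ⊆ j₁(U₁)` -/
lemma kernel_ι_comp_unit {U₁ U₂ : Scheme.{u}} (j₁ : U₁ ⟶ X) (j₂ : U₂ ⟶ X) [IsOpenImmersion j₁]
    [IsOpenImmersion j₂] (h : Set.range j₂.base ⊆ Set.range j₁.base) (I : X.Modules) :
    kernel.ι ((Scheme.Modules.restrictAdjunction j₁).unit.app I) ≫
      (Scheme.Modules.restrictAdjunction j₂).unit.app I = 0 := by
  let K := kernel ((Scheme.Modules.restrictAdjunction j₁).unit.app I)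
  let k : K ⟶ I := kernel.ι ((Scheme.Modules.restrictAdjunction j₁).unit.app I)
  have h1 : (Scheme.Modules.restrictFunctor j₁).map k = 0 :=
    (comp_unit_eq_zero_iff j₁ k).1 (kernel.condition _)
  haveI : Mono ((Scheme.Modules.restrictFunctor j₁).map k) := inferInstance
  have hz1 : IsZero ((Scheme.Modules.restrictFunctor j₁).obj K) :=
    IsZero.of_mono_eq_zero _ h1
  have hz2 : IsZero ((Scheme.Modules.restrictFunctor j₂).obj K) := by
    apply isZero_of_support
    intro y hy
    have hy' := (mem_support_restrict_iff j₂ K y).1 hy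
    obtain ⟨x, hx⟩ := h ⟨y, rfl⟩
    rw [← hx] at hy'
    exact Groth.Agent.Lib.Helper6.RpushSupp.not_mem_support_of_isZero hz1 x
      ((mem_support_restrict_iff j₁ K x).2 hy')
  exact (comp_unit_eq_zero_iff j₂ k).2 (hz2.eq_of_src _ _)

/-- `Γ_Z` only depends on the image of the open immersion -/
noncomputable def gammaZIso {U₁ U₂ : Scheme.{u}} (j₁ : U₁ ⟶ X) (j₂ : U₂ ⟶ X)
    [IsOpenImmersion j₁] [IsOpenImmersion j₂] (h : Set.range j₁.base = Set.range j₂.base)
    (I : X.Modules) :
    kernel ((Scheme.Modules.restrictAdjunction j₁).unit.app I) ≅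
      kernel ((Scheme.Modules.restrictAdjunction j₂).unit.app I) where
  hom := kernel.lift _ (kernel.ι _) (kernel_ι_comp_unit j₁ j₂ h.ge I)
  inv := kernel.lift _ (kernel.ι _) (kernel_ι_comp_unit j₂ j₁ h.le I)
  hom_inv_id := by
    rw [← cancel_mono (kernel.ι _), Category.assoc, kernel.lift_ι, kernel.lift_ι,
      Category.id_comp]
  inv_hom_id := by
    rw [← cancel_mono (kernel.ι _), Category.assoc, kernel.lift_ι, kernel.lift_ι,
      Category.id_comp]

/-- **`Γ_Z(I)` is injective for `I` injective** -/
theorem injective_gammaZ {U : Scheme.{u}} (j : U ⟶ X) [IsOpenImmersion j] (I : X.Modules)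
    [Injective I] : Injective ((DCoh.gammaZ j).obj I) := by
  have h : Set.range j.opensRange.ι.base = Set.range j.base := by
    rw [Scheme.Opens.range_ι, Scheme.Hom.coe_opensRange]
  have h1 : Injective (kernel ((Scheme.Modules.restrictAdjunction j.opensRange.ι).unit.app I)) :=
    injective_gammaZ_ι j.opensRange I
  have h2 : Injective (kernel ((Scheme.Modules.restrictAdjunction j).unit.app I)) :=
    Injective.of_iso (gammaZIso j.opensRange.ι j h I) h1
  exact h2

end Groth.Agent.Lib.Helper6.GammaZInj
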