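import Mathlib

/-!
# The heart of a t-structure is abelian (BBD 1.3.6), via Mathlib's `AbelianSubcategory`.
-/

set_option autoImplicit false
set_option linter.style.haveILetI false
set_option linter.unusedSectionVars false

universe v u v' u'

open CategoryTheory CategoryTheory.Limits CategoryTheory.Pretriangulated CategoryTheory.Triangulated
open ZeroObject

namespace Groth.Agent.Lib.Helper6.HeartAbelian

variable {C : Type u} [Category.{v} C] [Preadditive C] [HasZeroObject C] [HasShift C ℤ]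
  [∀ n : ℤ, (shiftFunctor C n).Additive] [Pretriangulated C] (t : TStructure C)
  {H : Type u'} [Category.{v'} H] [Preadditive H] [t.Heart H]

lemma hι ⦃X Y : H⦄ ⦃n : ℤ⦄ (f : t.ιHeart.obj X ⟶ (t.ιHeart.obj Y)⟦n⟧) (hn : n < 0) : f = 0 := by
  have : t.IsGE ((t.ιHeart.obj Y)⟦n⟧) (-n) := t.isGE_shift _ 0 n (-n)
  exact t.zero f 0 (-n) (by lia)

/-- An object which is `≤ 0` and `≥ 0` comes from the heart. -/
lemma exists_iso_of_mem (M : C) [t.IsLE M 0] [t.IsGE M 0] :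
    ∃ (K : H), Nonempty (t.ιHeart.obj K ≅ M) := by
  have h : t.heart M := (t.mem_heart_iff M).2 ⟨inferInstance, inferInstance⟩
  rw [← t.essImage_ιHeart H] at h
  obtain ⟨K, ⟨e⟩⟩ := h
  exact ⟨K, ⟨e⟩⟩

lemma admissible [IsTriangulated C] : AbelianSubcategory.admissibleMorphism (t.ιHeart (H := H)) = ⊤ := by
  ext X₁ X₂ f₁
  simp only [MorphismProperty.top_apply, iff_true]
  intro X₃ f₂ f₃ hT
  have h1 : t.IsLE X₃ 0 := t.isLE₂ _ (rot_of_distTriang _ hT) 0
    (show t.IsLE (t.ιHeart.obj X₂) 0 from inferInstance)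
    (show t.IsLE ((t.ιHeart.obj X₁)⟦(1 : ℤ)⟧) 0 from
      have := t.isLE_shift (t.ιHeart.obj X₁) 0 1 (-1)
      t.isLE_of_le _ (-1) 0 (by lia))
  have h2 : t.IsGE X₃ (-1) := t.isGE₂ _ (rot_of_distTriang _ hT) (-1)
    (show t.IsGE (t.ιHeart.obj X₂) (-1) from t.isGE_of_ge _ (-1) 0 (by lia))
    (show t.IsGE ((t.ιHeart.obj X₁)⟦(1 : ℤ)⟧) (-1) from t.isGE_shift _ 0 1 (-1))
  -- the truncation triangle
  have hd := t.triangleLEGE_distinguished (-1) 0 (by lia) X₃
  let L := (t.truncLE (-1)).obj X₃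
  let Q' := (t.truncGE 0).obj X₃
  have hL1 : t.IsLE L (-1) := by dsimp [L]; infer_instance
  have hL2 : t.IsGE L (-1) := by dsimp [L, TStructure.truncLE]; infer_instance
  have hQ1 : t.IsGE Q' 0 := by dsimp [Q']; infer_instance
  have hQ2 : t.IsLE Q' 0 := by dsimp [Q']; infer_instance
  have hL3 : t.IsLE (L⟦(-1 : ℤ)⟧) 0 := t.isLE_shift L (-1) (-1) 0
  have hL4 : t.IsGE (L⟦(-1 : ℤ)⟧) 0 := t.isGE_shift L (-1) (-1) 0
  obtain ⟨K, ⟨eK⟩⟩ := exists_iso_of_mem (H := H) t (L⟦(-1 : ℤ)⟧)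
  obtain ⟨Q, ⟨eQ⟩⟩ := exists_iso_of_mem (H := H) t Q'
  let e₁ : (t.ιHeart.obj K)⟦(1 : ℤ)⟧ ≅ L :=
    (shiftFunctor C (1 : ℤ)).mapIso eK ≪≫ (shiftEquiv C (1 : ℤ)).counitIso.app L
  refine ⟨K, Q, e₁.hom ≫ (t.truncLEι (-1)).app X₃, (t.truncGEπ 0).app X₃ ≫ eQ.inv,
    eQ.hom ≫ (t.truncGEδLE (-1) 0 (by lia)).app X₃ ≫ e₁.inv⟦(1 : ℤ)⟧', ?_⟩
  refine isomorphic_distinguished _ hd _ ?_
  refine Triangle.isoMk _ _ e₁ (Iso.refl _) eQ ?_ ?_ ?_
  · change (e₁.hom ≫ (t.truncLEι (-1)).app X₃) ≫ 𝟙 _ = e₁.hom ≫ (t.truncLEι (-1)).app X₃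
    rw [Category.comp_id]
  · change ((t.truncGEπ 0).app X₃ ≫ eQ.inv) ≫ eQ.hom = 𝟙 _ ≫ (t.truncGEπ 0).app X₃
    rw [Category.assoc, Iso.inv_hom_id, Category.comp_id, Category.id_comp]
  · change (eQ.hom ≫ (t.truncGEδLE (-1) 0 (by lia)).app X₃ ≫ e₁.inv⟦(1 : ℤ)⟧') ≫ e₁.hom⟦(1 : ℤ)⟧' =
      eQ.hom ≫ (t.truncGEδLE (-1) 0 (by lia)).app X₃
    simp only [Category.assoc, ← Functor.map_comp, Iso.inv_hom_id, CategoryTheory.Functor.map_id]
    erw [Category.comp_id]

include t in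
lemma hasZeroObject : HasZeroObject H := by
  obtain ⟨Z, ⟨e⟩⟩ := exists_iso_of_mem (H := H) t (0 : C)
  refine ⟨Z, ?_⟩
  rw [IsZero.iff_id_eq_zero]
  apply (t.ιHeart (H := H)).map_injective
  rw [CategoryTheory.Functor.map_id, Functor.map_zero]
  exact (IsZero.of_iso (isZero_zero C) e).eq_of_src _ _

include t in
lemma hasBinaryBiproducts : HasBinaryBiproducts H := by
  refine ⟨fun X Y => ?_⟩
  have h1 : t.IsLE (t.ιHeart.obj X ⊞ t.ιHeart.obj Y) 0 :=
    t.isLE₂ _ (binaryBiproductTriangle_distinguished (t.ιHeart.obj X) (t.ιHeart.obj Y)) 0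
      (show t.IsLE (t.ιHeart.obj X) 0 from inferInstance)
      (show t.IsLE (t.ιHeart.obj Y) 0 from inferInstance)
  have h2 : t.IsGE (t.ιHeart.obj X ⊞ t.ιHeart.obj Y) 0 :=
    t.isGE₂ _ (binaryBiproductTriangle_distinguished (t.ιHeart.obj X) (t.ιHeart.obj Y)) 0
      (show t.IsGE (t.ιHeart.obj X) 0 from inferInstance)
      (show t.IsGE (t.ιHeart.obj Y) 0 from inferInstance)
  obtain ⟨Z, ⟨e⟩⟩ := exists_iso_of_mem (H := H) t (t.ιHeart.obj X ⊞ t.ιHeart.obj Y)
  refine HasBinaryBiproduct.mk ⟨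
    { pt := Z
      fst := t.ιHeart.preimage (e.hom ≫ biprod.fst)
      snd := t.ιHeart.preimage (e.hom ≫ biprod.snd)
      inl := t.ιHeart.preimage (biprod.inl ≫ e.inv)
      inr := t.ιHeart.preimage (biprod.inr ≫ e.inv)
      inl_fst := t.ιHeart.map_injective (by simp)
      inl_snd := t.ιHeart.map_injective (by simp)
      inr_fst := t.ιHeart.map_injective (by simp)
      inr_snd := t.ιHeart.map_injective (by simp) }, isBinaryBilimitOfTotal _ ?_⟩
  apply t.ιHeart.map_injective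
  simp only [Functor.map_add, Functor.map_comp, Functor.map_preimage, CategoryTheory.Functor.map_id,
    Category.assoc]
  rw [← cancel_epi e.inv, ← cancel_mono e.hom]
  simp only [Preadditive.comp_add, Preadditive.add_comp, Category.assoc, Iso.inv_hom_id,
    Iso.inv_hom_id_assoc, Category.comp_id]
  exact biprod.total

include t in
lemma hasFiniteProducts : HasFiniteProducts H := by
  have := hasZeroObject (H := H) t
  have := hasBinaryBiproducts (H := H) t
  have : HasTerminal H := HasZeroObject.hasTerminal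
  exact hasFiniteProducts_of_has_binary_and_terminal

end Groth.Agent.Lib.Helper6.HeartAbelian

namespace Groth.Agent.Lib.Helper6.HeartAbelian

variable {C : Type u} [Category.{v} C] [Preadditive C] [HasZeroObject C] [HasShift C ℤ]
  [∀ n : ℤ, (shiftFunctor C n).Additive] [Pretriangulated C] [IsTriangulated C] (t : TStructure C)
  {H : Type u'} [Category.{v'} H] [Abelian H] [t.Heart H]

lemma shortExact_of_distinguished {X Y Z : H} (u : X ⟶ Y) (v : Y ⟶ Z)
    (w : t.ιHeart.obj Z ⟶ (t.ιHeart.obj X)⟦(1 : ℤ)⟧)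
    (hT : Triangle.mk (t.ιHeart.map u) (t.ιHeart.map v) w ∈ distTriang C) :
    ∃ huv : u ≫ v = 0, (ShortComplex.mk u v huv).ShortExact := by
  have huv : u ≫ v = 0 := t.ιHeart.map_injective (by
    have : t.ιHeart.map u ≫ t.ιHeart.map v = 0 := comp_distTriang_mor_zero₁₂ _ hT
    rw [Functor.map_comp, this, Functor.map_zero])
  refine ⟨huv, ?_⟩
  have hk : IsLimit (KernelFork.ofι u huv) :=
    AbelianSubcategory.isLimitKernelForkOfDistTriang (hι t) u v w hT
  have hc : IsColimit (CokernelCofork.ofπ v huv) :=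
    AbelianSubcategory.isColimitCokernelCoforkOfDistTriang (hι t) u v w hT
  have : Mono u := mono_of_isLimit_fork hk
  have : Epi v := epi_of_isColimit_cofork hc
  exact ShortComplex.ShortExact.mk' (ShortComplex.exact_of_f_is_kernel _ hk) ‹_› ‹_›

lemma exists_distinguished_of_shortExact {X Y Z : H} (u : X ⟶ Y) (v : Y ⟶ Z)
    (huv : u ≫ v = 0) (hS : (ShortComplex.mk u v huv).ShortExact) :
    ∃ (w : t.ιHeart.obj Z ⟶ (t.ιHeart.obj X)⟦(1 : ℤ)⟧),
        Triangle.mk (t.ιHeart.map u) (t.ιHeart.map v) w ∈ distTriang C := by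
  have : Epi v := hS.epi_g
  obtain ⟨X₁, i, δ, hI⟩ :=
    AbelianSubcategory.exists_distinguished_triangle_of_epi (hι t) (admissible t) v
  have hiv : i ≫ v = 0 := t.ιHeart.map_injective (by
    have : t.ιHeart.map i ≫ t.ιHeart.map v = 0 := comp_distTriang_mor_zero₁₂ _ hI
    rw [Functor.map_comp, this, Functor.map_zero])
  have hk : IsLimit (KernelFork.ofι i hiv) :=
    AbelianSubcategory.isLimitKernelForkOfDistTriang (hι t) i v δ hI
  have hk' : IsLimit (KernelFork.ofι u huv) := hS.fIsKernel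
  let e : X ≅ X₁ := IsLimit.conePointUniqueUpToIso hk' hk
  have he : e.hom ≫ i = u :=
    IsLimit.conePointUniqueUpToIso_hom_comp hk' hk WalkingParallelPair.zero
  refine ⟨δ ≫ (t.ιHeart.map e.inv)⟦(1 : ℤ)⟧', isomorphic_distinguished _ hI _ ?_⟩
  refine Triangle.isoMk _ _ (t.ιHeart.mapIso e) (Iso.refl _) (Iso.refl _) ?_ ?_ ?_
  · change t.ιHeart.map u ≫ 𝟙 _ = t.ιHeart.map e.hom ≫ t.ιHeart.map i
    rw [Category.comp_id, ← Functor.map_comp, he]
  · change t.ιHeart.map v ≫ 𝟙 _ = 𝟙 _ ≫ t.ιHeart.map v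
    rw [Category.comp_id, Category.id_comp]
  · change (δ ≫ (t.ιHeart.map e.inv)⟦(1 : ℤ)⟧') ≫ (t.ιHeart.map e.hom)⟦(1 : ℤ)⟧' = 𝟙 _ ≫ δ
    rw [Category.assoc, ← Functor.map_comp, ← Functor.map_comp, Iso.inv_hom_id,
      CategoryTheory.Functor.map_id, CategoryTheory.Functor.map_id, Category.id_comp]
    exact Category.comp_id _

end Groth.Agent.Lib.Helper6.HeartAbelian
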