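import Mathlib

/-!
# The degree-zero cohomology functor of a t-structure is homological (BBD 1.3.6)
-/

set_option autoImplicit false
set_option linter.style.haveILetI false
set_option linter.unusedSectionVars false

universe v u v' u'

open CategoryTheory CategoryTheory.Limits CategoryTheory.Pretriangulated CategoryTheory.Triangulated
open ZeroObject

namespace Groth.Agent.Lib.Helper6.HeartHomological

variable {C : Type u} [Category.{v} C] [Preadditive C] [HasZeroObject C] [HasShift C ℤ]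
  [∀ n : ℤ, (shiftFunctor C n).Additive] [Pretriangulated C] [IsTriangulated C] (t : TStructure C)

/-- Four-lemma chase: if the third vertex of a distinguished triangle is `≥ 0`, then
`τ≥0 X ⟶ τ≥0 Y` is "injective on maps from objects `≤ 0`". -/
lemma eq_zero_of_comp_truncGE_map (T : Triangle C) (hT : T ∈ distTriang C) (hZ : t.IsGE T.obj₃ 0)
    {W : C} [t.IsLE W 0] (a : W ⟶ (t.truncGE 0).obj T.obj₁)
    (ha : a ≫ (t.truncGE 0).map T.mor₁ = 0) : a = 0 := by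
  have hiso : IsIso ((t.truncLT 0).map T.mor₁) := t.isIso₁_truncLT_map_of_isGE T hT 0 hZ
  have hinj : ∀ (b : W ⟶ T.obj₁), b ≫ T.mor₁ = 0 → b = 0 := by
    intro b hb
    obtain ⟨c, hc⟩ := Triangle.coyoneda_exact₂ _ (inv_rot_of_distTriang _ hT) b hb
    have : t.IsGE (T.invRotate.obj₁) 1 :=
      show t.IsGE (T.obj₃⟦(-1 : ℤ)⟧) 1 from t.isGE_shift T.obj₃ 0 (-1) 1
    rw [hc, t.zero c 0 1 (by lia), zero_comp]
    exact rfl
  have h1 : a ≫ (t.truncGEδLT 0).app T.obj₁ = 0 := by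
    rw [← cancel_mono (((t.truncLT 0).map T.mor₁)⟦(1 : ℤ)⟧'), zero_comp, Category.assoc]
    have := (t.truncGEδLT 0).naturality T.mor₁
    dsimp at this
    rw [← this, reassoc_of% ha, zero_comp]
  obtain ⟨b, hb⟩ : ∃ b : W ⟶ T.obj₁, a = b ≫ (t.truncGEπ 0).app T.obj₁ :=
    Triangle.coyoneda_exact₃ _ (t.triangleLTGE_distinguished 0 T.obj₁) a h1
  have h2 : (b ≫ T.mor₁) ≫ (t.truncGEπ 0).app T.obj₂ = 0 := by
    rw [Category.assoc, ← t.truncGEπ_naturality, ← Category.assoc, ← hb, ha]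
  obtain ⟨c, hc⟩ : ∃ c : W ⟶ (t.truncLT 0).obj T.obj₂,
      b ≫ T.mor₁ = c ≫ (t.truncLTι 0).app T.obj₂ :=
    Triangle.coyoneda_exact₂ _ (t.triangleLTGE_distinguished 0 T.obj₂) _ h2
  have h3 : b = (c ≫ inv ((t.truncLT 0).map T.mor₁)) ≫ (t.truncLTι 0).app T.obj₁ := by
    rw [← sub_eq_zero]
    apply hinj
    rw [Preadditive.sub_comp, hc, Category.assoc, Category.assoc]
    have := (t.truncLTι 0).naturality T.mor₁
    dsimp at this
    rw [← this, IsIso.inv_hom_id_assoc, sub_self]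
  rw [hb, h3, Category.assoc, t.truncLTι_comp_truncGEπ_app, comp_zero]

/-- If the first vertex of a distinguished triangle `X ⟶ Y ⟶ Z` is `≤ 0`, there is a
distinguished triangle `X ⟶ τ≤0 Y ⟶ τ≤0 Z`. -/
lemma exists_distinguished_truncLE (T : Triangle C) (hT : T ∈ distTriang C) [t.IsLE T.obj₁ 0] :
    ∃ (b : (t.truncLE 0).obj T.obj₃ ⟶ T.obj₁⟦(1 : ℤ)⟧),
      Triangle.mk (t.liftTruncLE T.mor₁ 0) ((t.truncLE 0).map T.mor₂) b ∈ distTriang C := by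
  obtain ⟨N, a, b, hT₁⟩ := distinguished_cocone_triangle (t.liftTruncLE T.mor₁ 0)
  have hT₂ : Triangle.mk ((t.truncLEι 0).app T.obj₂) ((t.truncGTπ 0).app T.obj₂)
      ((t.truncGTδLE 0).app T.obj₂) ∈ distTriang C := t.triangleLEGT_distinguished 0 T.obj₂
  have hT₃ : Triangle.mk T.mor₁ T.mor₂ T.mor₃ ∈ distTriang C := hT
  have oct := someOctahedron (t.liftTruncLE_ι T.mor₁ 0) hT₁ hT₂ hT₃
  have hN : t.IsLE N 0 := t.isLE₂ _ (rot_of_distTriang _ hT₁) 0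
    (show t.IsLE ((t.truncLE 0).obj T.obj₂) 0 from inferInstance)
    (show t.IsLE (T.obj₁⟦(1 : ℤ)⟧) 0 from
      have := t.isLE_shift T.obj₁ 0 1 (-1)
      t.isLE_of_le _ (-1) 0 (by lia))
  obtain ⟨e', he'⟩ := t.triangle_iso_exists oct.mem (t.triangleLEGT_distinguished 0 T.obj₃)
    (Iso.refl _) 0 1 hN (show t.IsGE ((t.truncGT 0).obj T.obj₂) 1 from t.isGE_truncGT_obj _ 0 1)
    (show t.IsLE ((t.truncLE 0).obj T.obj₃) 0 from inferInstance)
    (show t.IsGE ((t.truncGT 0).obj T.obj₃) 1 from t.isGE_truncGT_obj _ 0 1)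
  let e₁ : N ≅ (t.truncLE 0).obj T.obj₃ := Triangle.π₁.mapIso e'
  have he₁ : e₁.hom ≫ (t.truncLEι 0).app T.obj₃ = oct.m₁ := by
    have : oct.m₁ ≫ e'.hom.hom₂ = e'.hom.hom₁ ≫ (t.truncLEι 0).app T.obj₃ := e'.hom.comm₁
    rw [he'] at this
    erw [Category.comp_id] at this
    exact this.symm
  have hae : a ≫ e₁.hom = (t.truncLE 0).map T.mor₂ := by
    apply t.to_truncLE_obj_ext
    rw [Category.assoc, he₁, oct.comm₁]
    exact ((t.truncLEι 0).naturality T.mor₂).symm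
  refine ⟨e₁.inv ≫ b, isomorphic_distinguished _ hT₁ _ ?_⟩
  refine Triangle.isoMk _ _ (Iso.refl _) (Iso.refl _) e₁.symm ?_ ?_ ?_
  · change t.liftTruncLE T.mor₁ 0 ≫ 𝟙 _ = 𝟙 _ ≫ t.liftTruncLE T.mor₁ 0
    rw [Category.comp_id, Category.id_comp]
  · change (t.truncLE 0).map T.mor₂ ≫ e₁.inv = 𝟙 _ ≫ a
    rw [Category.id_comp, ← hae, Category.assoc, Iso.hom_inv_id, Category.comp_id]
  · change (e₁.inv ≫ b) ≫ (𝟙 T.obj₁)⟦(1 : ℤ)⟧' = e₁.inv ≫ b
    rw [CategoryTheory.Functor.map_id, Category.comp_id]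

section Heart

variable {H : Type u'} [Category.{v'} H] [Abelian H] [t.Heart H] (H0 : C ⥤ H)
  (e : H0 ⋙ t.ιHeart ≅ t.truncGE 0 ⋙ t.truncLE 0)

include e in
lemma preservesZeroMorphisms : H0.PreservesZeroMorphisms := ⟨fun X Y => by
  apply t.ιHeart.map_injective
  have h : e.hom.app X ≫ (t.truncGE 0 ⋙ t.truncLE 0).map (0 : X ⟶ Y) ≫ e.inv.app Y =
    t.ιHeart.map (H0.map 0) := NatIso.naturality_2 e (0 : X ⟶ Y)
  rw [(t.truncGE 0 ⋙ t.truncLE 0).map_zero, zero_comp, comp_zero] at h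
  rw [(t.ιHeart (H := H)).map_zero]
  exact h.symm⟩

/-- The canonical map `ι (H0 M) ⟶ τ≥0 M`. -/
noncomputable def d : H0 ⋙ t.ιHeart ⟶ t.truncGE 0 :=
  e.hom ≫ Functor.whiskerLeft (t.truncGE 0) (t.truncLEι 0) ≫ (Functor.rightUnitor _).hom

lemma d_app (M : C) : (d t H0 e).app M = e.hom.app M ≫ (t.truncLEι 0).app ((t.truncGE 0).obj M) := by
  simp [d]

lemma d_naturality {M N : C} (φ : M ⟶ N) :
    t.ιHeart.map (H0.map φ) ≫ (d t H0 e).app N = (d t H0 e).app M ≫ (t.truncGE 0).map φ :=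
  (d t H0 e).naturality φ

lemma eq_zero_of_comp_d {W : H} {M : C} (a : W ⟶ H0.obj M)
    (h : t.ιHeart.map a ≫ (d t H0 e).app M = 0) : a = 0 := by
  apply t.ιHeart.map_injective
  rw [(t.ιHeart (H := H)).map_zero]
  rw [d_app] at h
  have h' : (t.ιHeart.map a ≫ e.hom.app M) ≫ (t.truncLEι 0).app ((t.truncGE 0).obj M) =
      0 ≫ (t.truncLEι 0).app ((t.truncGE 0).obj M) := by
    rw [zero_comp, Category.assoc]
    exact h
  have h'' : t.ιHeart.map a ≫ e.hom.app M = 0 := t.to_truncLE_obj_ext h'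
  exact (cancel_mono (e.hom.app M)).1 (h''.trans zero_comp.symm)

/-- The iso `τ≥0 τ≤0 ≅ ι H0`. -/
noncomputable def E : t.truncLE 0 ⋙ t.truncGE 0 ≅ H0 ⋙ t.ιHeart :=
  (show t.truncLE 0 ⋙ t.truncGE 0 ≅ t.truncGE 0 ⋙ t.truncLE 0 from
    t.truncGELTIsoLTGE 0 (0 + 1)) ≪≫ e.symm

/-- The canonical map `τ≤0 M ⟶ ι (H0 M)`. -/
noncomputable def c : t.truncLE 0 ⟶ H0 ⋙ t.ιHeart :=
  (Functor.rightUnitor _).inv ≫ Functor.whiskerLeft (t.truncLE 0) (t.truncGEπ 0) ≫ (E t H0 e).hom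

lemma c_app (M : C) : (c t H0 e).app M =
    (t.truncGEπ 0).app ((t.truncLE 0).obj M) ≫ (E t H0 e).hom.app M := by
  simp [c]

lemma c_naturality {M N : C} (φ : M ⟶ N) :
    (t.truncLE 0).map φ ≫ (c t H0 e).app N = (c t H0 e).app M ≫ t.ιHeart.map (H0.map φ) :=
  (c t H0 e).naturality φ

lemma exists_c_fac {M : C} (V : C) [t.IsGE V 0] (φ : (t.truncLE 0).obj M ⟶ V) :
    ∃ ψ : t.ιHeart.obj (H0.obj M) ⟶ V, (c t H0 e).app M ≫ ψ = φ := by
  refine ⟨(E t H0 e).inv.app M ≫ t.descTruncGE φ 0, ?_⟩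
  rw [c_app, Category.assoc, Iso.hom_inv_id_app_assoc]
  exact t.π_descTruncGE φ 0

lemma eq_zero_of_c_comp {W : H} {M : C} (ψ : H0.obj M ⟶ W)
    (h : (c t H0 e).app M ≫ t.ιHeart.map ψ = 0) : ψ = 0 := by
  apply t.ιHeart.map_injective
  rw [(t.ιHeart (H := H)).map_zero]
  rw [c_app, Category.assoc] at h
  have h' : (t.truncGEπ 0).app ((t.truncLE 0).obj M) ≫
      ((E t H0 e).hom.app M ≫ t.ιHeart.map ψ) =
      (t.truncGEπ 0).app ((t.truncLE 0).obj M) ≫ 0 := by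
    rw [comp_zero]
    exact h
  have h'' : (E t H0 e).hom.app M ≫ t.ιHeart.map ψ = 0 := t.from_truncGE_obj_ext h'
  exact (cancel_epi ((E t H0 e).hom.app M)).1 (h''.trans comp_zero.symm)

include e in
lemma mono_H0_map (T : Triangle C) (hT : T ∈ distTriang C) (hZ : t.IsGE T.obj₃ 0) :
    Mono (H0.map T.mor₁) := by
  have := preservesZeroMorphisms t H0 e
  rw [Preadditive.mono_iff_cancel_zero]
  intro W a ha
  apply eq_zero_of_comp_d t H0 e
  apply eq_zero_of_comp_truncGE_map t T hT hZ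
  rw [Category.assoc, ← d_naturality, ← Category.assoc, ← Functor.map_comp, ha,
    (t.ιHeart (H := H)).map_zero, zero_comp]

include e in
lemma exact_H0_of_isLE (T : Triangle C) (hT : T ∈ distTriang C) [t.IsLE T.obj₁ 0]
    (w : H0.map T.mor₁ ≫ H0.map T.mor₂ = 0) :
    (ShortComplex.mk (H0.map T.mor₁) (H0.map T.mor₂) w).Exact := by
  have := preservesZeroMorphisms t H0 e
  obtain ⟨b, hb⟩ := exists_distinguished_truncLE t T hT
  have hex : ∀ {W : H} (φ : H0.obj T.obj₂ ⟶ W), H0.map T.mor₁ ≫ φ = 0 →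
      ∃ ψ : H0.obj T.obj₃ ⟶ W, H0.map T.mor₂ ≫ ψ = φ := by
    intro W φ hφ
    have h1 : t.liftTruncLE T.mor₁ 0 ≫ ((c t H0 e).app T.obj₂ ≫ t.ιHeart.map φ) = 0 := by
      have h0 : t.liftTruncLE T.mor₁ 0 =
          inv ((t.truncLEι 0).app T.obj₁) ≫ (t.truncLE 0).map T.mor₁ := by
        apply t.to_truncLE_obj_ext
        have hn : (t.truncLE 0).map T.mor₁ ≫ (t.truncLEι 0).app T.obj₂ =
          (t.truncLEι 0).app T.obj₁ ≫ T.mor₁ := (t.truncLEι 0).naturality T.mor₁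
        rw [t.liftTruncLE_ι, Category.assoc, hn, IsIso.inv_hom_id_assoc]
      rw [h0, Category.assoc, reassoc_of% (c_naturality t H0 e T.mor₁), ← Functor.map_comp, hφ,
        (t.ιHeart (H := H)).map_zero, comp_zero, comp_zero]
    obtain ⟨ψ', hψ'⟩ : ∃ ψ' : (t.truncLE 0).obj T.obj₃ ⟶ t.ιHeart.obj W,
        (c t H0 e).app T.obj₂ ≫ t.ιHeart.map φ = (t.truncLE 0).map T.mor₂ ≫ ψ' :=
      Triangle.yoneda_exact₂ _ hb _ h1
    obtain ⟨ψ'', hψ''⟩ := exists_c_fac t H0 e (t.ιHeart.obj W) ψ'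
    refine ⟨t.ιHeart.preimage ψ'', ?_⟩
    rw [← sub_eq_zero]
    apply eq_zero_of_c_comp t H0 e
    rw [Functor.map_sub, Functor.map_comp, Functor.map_preimage, Preadditive.comp_sub,
      ← reassoc_of% (c_naturality t H0 e T.mor₂), hψ'', ← hψ', sub_self]
  have huniq : ∀ {W : H} (ψ : H0.obj T.obj₃ ⟶ W), H0.map T.mor₂ ≫ ψ = 0 → ψ = 0 := by
    intro W ψ hψ
    apply eq_zero_of_c_comp t H0 e
    have h1 : (t.truncLE 0).map T.mor₂ ≫ ((c t H0 e).app T.obj₃ ≫ t.ιHeart.map ψ) = 0 := by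
      rw [reassoc_of% (c_naturality t H0 e T.mor₂), ← Functor.map_comp, hψ,
        (t.ιHeart (H := H)).map_zero, comp_zero]
    obtain ⟨χ, hχ⟩ : ∃ χ : T.obj₁⟦(1 : ℤ)⟧ ⟶ t.ιHeart.obj W,
        (c t H0 e).app T.obj₃ ≫ t.ιHeart.map ψ = b ≫ χ :=
      Triangle.yoneda_exact₃ _ hb _ h1
    have : t.IsLE (T.obj₁⟦(1 : ℤ)⟧) (-1) := t.isLE_shift T.obj₁ 0 1 (-1)
    rw [hχ, t.zero χ (-1) 0 (by lia), comp_zero]
  exact ShortComplex.exact_of_g_is_cokernel _ (CokernelCofork.IsColimit.ofπ _ _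
    (fun φ hφ => (hex φ hφ).choose) (fun φ hφ => (hex φ hφ).choose_spec)
    (fun φ hφ m hm => by
      rw [← sub_eq_zero]
      apply huniq
      rw [Preadditive.comp_sub, hm, (hex φ hφ).choose_spec, sub_self]))

include e in
theorem isHomological : H0.IsHomological := by
  have := preservesZeroMorphisms t H0 e
  refine ⟨fun T hT => ?_⟩
  obtain ⟨Z', g', h', hT₃⟩ :=
    distinguished_cocone_triangle ((t.truncLEι 0).app T.obj₁ ≫ T.mor₁)
  have hT₁ : Triangle.mk ((t.truncLEι 0).app T.obj₁) ((t.truncGTπ 0).app T.obj₁)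
      ((t.truncGTδLE 0).app T.obj₁) ∈ distTriang C := t.triangleLEGT_distinguished 0 T.obj₁
  have hT₂ : Triangle.mk T.mor₁ T.mor₂ T.mor₃ ∈ distTriang C := hT
  have oct := someOctahedron rfl hT₁ hT₂ hT₃
  have hge : t.IsGE (((t.truncGT 0).obj T.obj₁)⟦(1 : ℤ)⟧) 0 :=
    have := t.isGE_truncGT_obj T.obj₁ 0 1
    t.isGE_shift _ 1 1 0
  have hmono : Mono (H0.map oct.m₃) :=
    mono_H0_map t H0 e _ (rot_of_distTriang _ oct.mem) hge
  have hle : t.IsLE (Triangle.mk ((t.truncLEι 0).app T.obj₁ ≫ T.mor₁) g' h').obj₁ 0 :=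
    show t.IsLE ((t.truncLE 0).obj T.obj₁) 0 from inferInstance
  have hw : H0.map ((t.truncLEι 0).app T.obj₁ ≫ T.mor₁) ≫ H0.map g' = 0 := by
    have h0 : ((t.truncLEι 0).app T.obj₁ ≫ T.mor₁) ≫ g' = 0 := comp_distTriang_mor_zero₁₂ _ hT₃
    rw [← H0.map_comp, h0, H0.map_zero]
  have hex := exact_H0_of_isLE t H0 e
    (Triangle.mk ((t.truncLEι 0).app T.obj₁ ≫ T.mor₁) g' h') hT₃ hw
  rw [ShortComplex.exact_iff_exact_up_to_refinements] at hex ⊢
  intro A x₂ hx₂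
  replace hx₂ : x₂ ≫ H0.map T.mor₂ = 0 := hx₂
  have h3 : H0.map g' ≫ H0.map oct.m₃ = H0.map T.mor₂ := by
    rw [← H0.map_comp]
    exact congrArg H0.map oct.comm₃
  obtain ⟨A', π, hπ, x₁, hx₁⟩ := hex x₂ ((cancel_mono (H0.map oct.m₃)).1
    ((Category.assoc _ _ _).trans ((congrArg (fun k => x₂ ≫ k) h3).trans
      (hx₂.trans zero_comp.symm))))
  replace hx₁ : π ≫ x₂ = x₁ ≫ H0.map ((t.truncLEι 0).app T.obj₁ ≫ T.mor₁) := hx₁
  refine ⟨A', π, hπ, x₁ ≫ H0.map ((t.truncLEι 0).app T.obj₁), ?_⟩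
  change π ≫ x₂ = (x₁ ≫ H0.map ((t.truncLEι 0).app T.obj₁)) ≫ H0.map T.mor₁
  rw [Category.assoc, ← H0.map_comp]
  exact hx₁

end Heart

end Groth.Agent.Lib.Helper6.HeartHomological
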