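import Mathlib
import Groth.Prelude.Def_DerLim

/-!
# Homotopy colimits of subsequences (helper6 library)

* `exists_iso_of_retract`: an abstract criterion for two cones to be isomorphic;
* the explicit maps between `∐ K` and `∐ K ∘ n` for a strictly increasing `n`.
-/

set_option autoImplicit false
universe v u
open CategoryTheory CategoryTheory.Limits CategoryTheory.Pretriangulated

namespace Groth.Agent.Lib.Helper6.HocolimSub

section abstract

variable {D : Type u} [Category.{v} D] [Preadditive D] [HasZeroObject D] [HasShift D ℤ]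
  [∀ n : ℤ, (shiftFunctor D n).Additive] [Pretriangulated D]

/-- If `φ' : X' ⟶ Y'` is a "deformation retract" of `φ : X ⟶ Y` (maps `(b, a)`, `(b', a')` of
arrows, with `b ≫ b' = 𝟙`, `a ≫ a' = 𝟙` and a homotopy `h` from `(b' ≫ b, a' ≫ a)` to the
identity), then the cones are isomorphic, compatibly with `a`. -/
theorem exists_iso_of_retract (T T' : Triangle D) (hT : T ∈ distTriang D) (hT' : T' ∈ distTriang D)
    (a : T'.obj₂ ⟶ T.obj₂) (b : T'.obj₁ ⟶ T.obj₁) (a' : T.obj₂ ⟶ T'.obj₂) (b' : T.obj₁ ⟶ T'.obj₁)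
    (h : T.obj₂ ⟶ T.obj₁)
    (h1 : T'.mor₁ ≫ a = b ≫ T.mor₁) (h2 : T.mor₁ ≫ a' = b' ≫ T'.mor₁)
    (h3a : a ≫ a' = 𝟙 _) (h3b : b ≫ b' = 𝟙 _)
    (h4a : 𝟙 _ - a' ≫ a = h ≫ T.mor₁) (h4b : 𝟙 _ - b' ≫ b = T.mor₁ ≫ h) :
    ∃ e : T'.obj₃ ≅ T.obj₃, T'.mor₂ ≫ e.hom = a ≫ T.mor₂ := by
  obtain ⟨c, hc1, hc2⟩ := complete_distinguished_triangle_morphism T' T hT' hT b a h1
  obtain ⟨c', hc'1, hc'2⟩ := complete_distinguished_triangle_morphism T T' hT hT' b' a' h2
  -- `c ≫ c'` is an isomorphism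
  have hcc' : IsIso (c ≫ c') := by
    let ψ : T' ⟶ T' :=
      { hom₁ := 𝟙 _
        hom₂ := 𝟙 _
        hom₃ := c ≫ c'
        comm₁ := by simp
        comm₂ := by
          rw [Category.id_comp, reassoc_of% hc1, hc'1, reassoc_of% h3a]
        comm₃ := by
          rw [Category.assoc, ← hc'2, ← reassoc_of% hc2, ← CategoryTheory.Functor.map_comp, h3b,
            CategoryTheory.Functor.map_id] }
    exact isIso₃_of_isIso₁₂ ψ hT' hT' (inferInstanceAs (IsIso (𝟙 _)))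
      (inferInstanceAs (IsIso (𝟙 _)))
  -- `w = 𝟙 - c' ≫ c` squares to zero
  obtain ⟨w, hw⟩ : ∃ w : T.obj₃ ⟶ T.obj₃, w = 𝟙 _ - c' ≫ c := ⟨_, rfl⟩
  have e : c' ≫ c = 𝟙 _ - w := by rw [hw]; abel
  have hw1 : T.mor₂ ≫ w = 0 := by
    rw [hw, Preadditive.comp_sub, Category.comp_id, reassoc_of% hc'1, hc1, ← Category.assoc]
    have : T.mor₂ - (a' ≫ a) ≫ T.mor₂ = (𝟙 _ - a' ≫ a) ≫ T.mor₂ := by
      rw [Preadditive.sub_comp, Category.id_comp]
    rw [this, h4a, Category.assoc, comp_distTriang_mor_zero₁₂ _ hT, comp_zero]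
  have hw2 : w ≫ T.mor₃ = 0 := by
    rw [hw, Preadditive.sub_comp, Category.id_comp, Category.assoc, ← hc2, ← reassoc_of% hc'2,
      ← CategoryTheory.Functor.map_comp]
    have : T.mor₃ - T.mor₃ ≫ (shiftFunctor D (1 : ℤ)).map (b' ≫ b) =
        T.mor₃ ≫ (shiftFunctor D (1 : ℤ)).map (𝟙 _ - b' ≫ b) := by
      rw [CategoryTheory.Functor.map_sub, CategoryTheory.Functor.map_id, Preadditive.comp_sub,
        Category.comp_id]
    rw [this, h4b, CategoryTheory.Functor.map_comp, ← Category.assoc,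
      comp_distTriang_mor_zero₃₁ _ hT, zero_comp]
  obtain ⟨w', hw'⟩ := Triangle.yoneda_exact₃ T hT _ hw1
  have hww : w ≫ w = 0 := by
    conv_lhs => rw [hw']
    rw [← Category.assoc, ← hw', hw2, zero_comp]
  -- conclude
  have hr : c ≫ (c' ≫ inv (c ≫ c')) = 𝟙 _ := by rw [← Category.assoc, IsIso.hom_inv_id]
  have hl : ((𝟙 _ + w) ≫ c') ≫ c = 𝟙 _ := by
    rw [Category.assoc, e, Preadditive.comp_sub, Preadditive.add_comp, Preadditive.add_comp, hww,
      Category.id_comp, Category.comp_id, Category.id_comp]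
    abel
  have hlr : (𝟙 _ + w) ≫ c' = c' ≫ inv (c ≫ c') := by
    calc (𝟙 _ + w) ≫ c' = ((𝟙 _ + w) ≫ c') ≫ (c ≫ (c' ≫ inv (c ≫ c'))) := by
          rw [hr, Category.comp_id]
      _ = (((𝟙 _ + w) ≫ c') ≫ c) ≫ (c' ≫ inv (c ≫ c')) := by
          simp only [Category.assoc]
      _ = c' ≫ inv (c ≫ c') := by rw [hl, Category.id_comp]
  exact ⟨⟨c, c' ≫ inv (c ≫ c'), hr, by rw [← hlr]; exact hl⟩, hc1⟩

end abstract

section concrete

variable {D : Type u} [Category.{v} D] [Preadditive D] (F : ℕ ⥤ D)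
  [HasCoproduct (fun m : ℕ => F.obj m)]

/-- the composite `F.obj m ⟶ F.obj j ⟶ ∐ F.obj` -/
noncomputable def J (m j : ℕ) (h : m ≤ j) : F.obj m ⟶ ∐ (fun m : ℕ => F.obj m) :=
  F.map (homOfLE h) ≫ Sigma.ι (fun m : ℕ => F.obj m) j

lemma J_congr (m j j' : ℕ) (h : m ≤ j) (hj : j = j') : J F m j h = J F m j' (hj ▸ h) := by
  subst hj; rfl

lemma J_self (m : ℕ) : J F m m le_rfl = Sigma.ι (fun m : ℕ => F.obj m) m := by
  have : homOfLE (le_refl m) = 𝟙 m := Subsingleton.elim _ _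
  rw [J, this, CategoryTheory.Functor.map_id, Category.id_comp]

lemma map_J (m m' j : ℕ) (h : m ≤ m') (h' : m' ≤ j) :
    F.map (homOfLE h) ≫ J F m' j h' = J F m j (h.trans h') := by
  rw [J, J, ← Category.assoc, ← CategoryTheory.Functor.map_comp, homOfLE_comp]

/-- `1 - shift` -/
noncomputable abbrev φ : (∐ (fun m : ℕ => F.obj m)) ⟶ ∐ (fun m : ℕ => F.obj m) :=
  𝟙 _ - DerLim.shiftMap (fun m : ℕ => F.obj m) (fun m : ℕ => F.map (homOfLE (Nat.le_succ m)))

lemma ι_φ (m : ℕ) : Sigma.ι (fun m : ℕ => F.obj m) m ≫ φ F =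
    Sigma.ι (fun m : ℕ => F.obj m) m - J F m (m + 1) (Nat.le_succ m) := by
  rw [φ, Preadditive.comp_sub, Category.comp_id, DerLim.shiftMap, Sigma.ι_desc]
  rfl

lemma J_φ (m j : ℕ) (h : m ≤ j) :
    J F m j h ≫ φ F = J F m j h - J F m (j + 1) (h.trans (Nat.le_succ j)) := by
  conv_lhs => rw [J, Category.assoc, ι_φ, Preadditive.comp_sub, map_J]
  rfl

/-- the partial sums `∑_{j < k} (F.obj m ⟶ F.obj (m + j) ⟶ ∐ F.obj)` -/
noncomputable def S (m : ℕ) : ℕ → (F.obj m ⟶ ∐ (fun m : ℕ => F.obj m))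
  | 0 => 0
  | k + 1 => S m k + J F m (m + k) (Nat.le_add_right m k)

lemma S_zero (m : ℕ) : S F m 0 = 0 := rfl

lemma S_succ (m k : ℕ) : S F m (k + 1) = S F m k + J F m (m + k) (Nat.le_add_right m k) := rfl

lemma S_φ (m k : ℕ) : S F m k ≫ φ F =
    Sigma.ι (fun m : ℕ => F.obj m) m - J F m (m + k) (Nat.le_add_right m k) := by
  induction k with
  | zero =>
    rw [S_zero, zero_comp]
    have := J_self F m
    rw [show J F m (m + 0) (Nat.le_add_right m 0) = J F m m le_rfl from rfl, this, sub_self]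
  | succ k ih =>
    rw [S_succ, Preadditive.add_comp, ih, J_φ]
    rw [show J F m (m + (k + 1)) (Nat.le_add_right m (k + 1)) =
      J F m (m + k + 1) ((Nat.le_add_right m k).trans (Nat.le_succ (m + k))) from rfl]
    abel

lemma S_succ' (m k : ℕ) : S F m (k + 1) = Sigma.ι (fun m : ℕ => F.obj m) m +
    F.map (homOfLE (Nat.le_succ m)) ≫ S F (m + 1) k := by
  induction k with
  | zero =>
    show (0 : F.obj m ⟶ _) + J F m m le_rfl =
      Sigma.ι (fun m : ℕ => F.obj m) m + F.map (homOfLE (Nat.le_succ m)) ≫ 0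
    rw [zero_add, comp_zero, add_zero, J_self]
  | succ k ih =>
    rw [S_succ, ih, S_succ, Preadditive.comp_add, map_J, add_assoc]
    congr 2
    exact J_congr F m (m + (k + 1)) (m + 1 + k) _ (by lia)

lemma S_desc {Z : D} (β : ∀ j, F.obj j ⟶ Z) (m k : ℕ)
    (hβ : ∀ j (h : m ≤ j), m < j → j < m + k → F.map (homOfLE h) ≫ β j = 0) (hk : 0 < k) :
    S F m k ≫ Sigma.desc β = β m := by
  induction k with
  | zero => exact absurd hk (lt_irrefl 0)
  | succ k ih =>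
    rw [S_succ, Preadditive.add_comp]
    by_cases hk0 : k = 0
    · subst hk0
      rw [S_zero, zero_comp, zero_add]
      rw [show J F m (m + 0) (Nat.le_add_right m 0) = J F m m le_rfl from rfl, J_self,
        Sigma.ι_desc]
    · rw [ih (fun j h h1 h2 => hβ j h h1 (by lia)) (Nat.pos_of_ne_zero hk0), J, Category.assoc,
        Sigma.ι_desc, hβ (m + k) _ (by lia) (by lia), add_zero]

variable (n : ℕ → ℕ) (hn : StrictMono n) [HasCoproduct (fun i : ℕ => F.obj (n i))]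

/-- the composite `F.obj m ⟶ F.obj (n i) ⟶ ∐ F.obj ∘ n` -/
noncomputable def J' (m i : ℕ) (h : m ≤ n i) : F.obj m ⟶ ∐ (fun i : ℕ => F.obj (n i)) :=
  F.map (homOfLE h) ≫ Sigma.ι (fun i : ℕ => F.obj (n i)) i

lemma J'_congr (m i i' : ℕ) (h : m ≤ n i) (hi : i = i') :
    J' F n m i h = J' F n m i' (hi ▸ h) := by
  subst hi; rfl

lemma J'_self (i : ℕ) : J' F n (n i) i le_rfl = Sigma.ι (fun i : ℕ => F.obj (n i)) i := by
  have : homOfLE (le_refl (n i)) = 𝟙 (n i) := Subsingleton.elim _ _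
  rw [J', this, CategoryTheory.Functor.map_id, Category.id_comp]

lemma map_J' (m m' i : ℕ) (h : m ≤ m') (h' : m' ≤ n i) :
    F.map (homOfLE h) ≫ J' F n m' i h' = J' F n m i (h.trans h') := by
  rw [J', J', ← Category.assoc, ← CategoryTheory.Functor.map_comp, homOfLE_comp]

/-- `1 - shift` for the subsequence -/
noncomputable abbrev φ' : (∐ (fun i : ℕ => F.obj (n i))) ⟶ ∐ (fun i : ℕ => F.obj (n i)) :=
  𝟙 _ - DerLim.shiftMap (fun i : ℕ => F.obj (n i))
    (fun i : ℕ => F.map (homOfLE (hn.monotone (Nat.le_succ i))))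

lemma ι_φ' (i : ℕ) : Sigma.ι (fun i : ℕ => F.obj (n i)) i ≫ φ' F n hn =
    Sigma.ι (fun i : ℕ => F.obj (n i)) i - J' F n (n i) (i + 1) (hn.monotone (Nat.le_succ i)) := by
  rw [φ', Preadditive.comp_sub, Category.comp_id, DerLim.shiftMap, Sigma.ι_desc]
  rfl

lemma J'_φ' (m i : ℕ) (h : m ≤ n i) :
    J' F n m i h ≫ φ' F n hn =
      J' F n m i h - J' F n m (i + 1) (h.trans (hn.monotone (Nat.le_succ i))) := by
  conv_lhs => rw [J', Category.assoc, ι_φ', Preadditive.comp_sub, map_J']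
  rfl

include hn in
lemma exists_le (m : ℕ) : ∃ i, m ≤ n i := ⟨m, hn.id_le m⟩

/-- the least index `i` with `m ≤ n i` -/
noncomputable def idx (m : ℕ) : ℕ := Nat.find (exists_le n hn m)

lemma le_idx (m : ℕ) : m ≤ n (idx n hn m) := Nat.find_spec (exists_le n hn m)

lemma idx_le (m i : ℕ) (h : m ≤ n i) : idx n hn m ≤ i := Nat.find_min' (exists_le n hn m) h

lemma lt_of_lt_idx (m i : ℕ) (h : i < idx n hn m) : n i < m :=
  not_le.1 (Nat.find_min (exists_le n hn m) h)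

lemma idx_n (i : ℕ) : idx n hn (n i) = i := by
  apply le_antisymm (idx_le n hn _ _ le_rfl)
  by_contra! h
  exact absurd (hn h) (not_lt.2 (le_idx n hn (n i)))

lemma idx_succ_of_lt (m : ℕ) (h : m < n (idx n hn m)) : idx n hn (m + 1) = idx n hn m := by
  apply le_antisymm (idx_le n hn _ _ h)
  exact idx_le n hn _ _ ((Nat.le_succ m).trans (le_idx n hn (m + 1)))

lemma idx_succ_of_eq (m : ℕ) (h : n (idx n hn m) = m) : idx n hn (m + 1) = idx n hn m + 1 := by
  apply le_antisymm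
  · apply idx_le
    have := hn (Nat.lt_succ_self (idx n hn m))
    lia
  · by_contra! h'
    have h1 : idx n hn (m + 1) ≤ idx n hn m := by lia
    have h2 := hn.monotone h1
    have h3 := le_idx n hn (m + 1)
    lia

/-- the inclusion of the subsequence -/
noncomputable def aMap : (∐ (fun i : ℕ => F.obj (n i))) ⟶ ∐ (fun m : ℕ => F.obj m) :=
  Sigma.desc (fun i => Sigma.ι (fun m : ℕ => F.obj m) (n i))

/-- the partial sums between consecutive terms of the subsequence -/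
noncomputable def bMap : (∐ (fun i : ℕ => F.obj (n i))) ⟶ ∐ (fun m : ℕ => F.obj m) :=
  Sigma.desc (fun i => S F (n i) (n (i + 1) - n i))

/-- pushing forward to the next term of the subsequence -/
noncomputable def a'Map : (∐ (fun m : ℕ => F.obj m)) ⟶ ∐ (fun i : ℕ => F.obj (n i)) :=
  Sigma.desc (fun m => J' F n m (idx n hn m) (le_idx n hn m))

/-- the components of the projection onto the subsequence -/
noncomputable def b'Comp (m : ℕ) : F.obj m ⟶ ∐ (fun i : ℕ => F.obj (n i)) :=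
  if n (idx n hn m) = m then J' F n m (idx n hn m) (le_idx n hn m) else 0

/-- projection onto the subsequence -/
noncomputable def b'Map : (∐ (fun m : ℕ => F.obj m)) ⟶ ∐ (fun i : ℕ => F.obj (n i)) :=
  Sigma.desc (b'Comp F n hn)

/-- the homotopy -/
noncomputable def hMap : (∐ (fun m : ℕ => F.obj m)) ⟶ ∐ (fun m : ℕ => F.obj m) :=
  Sigma.desc (fun m => S F m (n (idx n hn m) - m))

lemma J'_aMap (m i : ℕ) (h : m ≤ n i) : J' F n m i h ≫ aMap F n = J F m (n i) h := by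
  rw [J', Category.assoc, aMap, Sigma.ι_desc]
  rfl

lemma h1 : φ' F n hn ≫ aMap F n = bMap F n ≫ φ F := by
  apply Sigma.hom_ext
  intro i
  rw [← Category.assoc, ι_φ', Preadditive.sub_comp, J'_aMap, ← Category.assoc]
  conv_lhs => rw [aMap, Sigma.ι_desc]
  conv_rhs => rw [bMap, Sigma.ι_desc, S_φ]
  congr 1
  exact J_congr F _ _ _ _ (by have := hn.monotone (Nat.le_succ i); lia)

lemma ι_a'Map (m : ℕ) : Sigma.ι (fun m : ℕ => F.obj m) m ≫ a'Map F n hn =
    J' F n m (idx n hn m) (le_idx n hn m) := by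
  rw [a'Map, Sigma.ι_desc]

lemma ι_b'Map (m : ℕ) : Sigma.ι (fun m : ℕ => F.obj m) m ≫ b'Map F n hn = b'Comp F n hn m := by
  rw [b'Map, Sigma.ι_desc]

lemma h2 : φ F ≫ a'Map F n hn = b'Map F n hn ≫ φ' F n hn := by
  apply Sigma.hom_ext
  intro m
  rw [← Category.assoc, ι_φ, Preadditive.sub_comp, ι_a'Map, J, Category.assoc, ι_a'Map, map_J',
    ← Category.assoc, ι_b'Map, b'Comp]
  by_cases hm : n (idx n hn m) = m
  · rw [if_pos hm, J'_φ']
    congr 1
    exact J'_congr F n _ _ _ _ (idx_succ_of_eq n hn m hm)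
  · rw [if_neg hm, zero_comp]
    have hlt : m < n (idx n hn m) := lt_of_le_of_ne (le_idx n hn m) (Ne.symm hm)
    rw [sub_eq_zero]
    exact (J'_congr F n _ _ _ _ (idx_succ_of_lt n hn m hlt)).symm

lemma h3a : aMap F n ≫ a'Map F n hn = 𝟙 _ := by
  apply Sigma.hom_ext
  intro i
  rw [← Category.assoc, aMap, Sigma.ι_desc, ι_a'Map, Category.comp_id,
    J'_congr F n _ _ _ _ (idx_n n hn i)]
  exact J'_self F n i

lemma b'Comp_n (i : ℕ) : b'Comp F n hn (n i) = Sigma.ι (fun i : ℕ => F.obj (n i)) i := by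
  rw [b'Comp, if_pos (by rw [idx_n]), J'_congr F n _ _ _ _ (idx_n n hn i)]
  exact J'_self F n i

lemma b'Comp_eq_zero (i j : ℕ) (h1 : n i < j) (h2 : j < n (i + 1)) : b'Comp F n hn j = 0 := by
  rw [b'Comp, if_neg]
  intro h
  rw [← h] at h1 h2
  have h1' := hn.lt_iff_lt.1 h1
  have h2' := hn.lt_iff_lt.1 h2
  lia

lemma h3b : bMap F n ≫ b'Map F n hn = 𝟙 _ := by
  apply Sigma.hom_ext
  intro i
  rw [← Category.assoc, bMap, Sigma.ι_desc, Category.comp_id, b'Map,
    S_desc F (b'Comp F n hn) (n i) (n (i + 1) - n i) ?_ ?_, b'Comp_n]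
  · intro j h h1 h2
    rw [b'Comp_eq_zero F n hn i j h1 (by lia), comp_zero]
  · have := hn (Nat.lt_succ_self i)
    lia

lemma h4a : 𝟙 _ - a'Map F n hn ≫ aMap F n = hMap F n hn ≫ φ F := by
  apply Sigma.hom_ext
  intro m
  rw [Preadditive.comp_sub, Category.comp_id, ← Category.assoc, ι_a'Map, J'_aMap,
    ← Category.assoc, hMap, Sigma.ι_desc, S_φ]
  congr 1
  exact J_congr F _ _ _ _ (by have := le_idx n hn m; lia)

lemma ι_bMap (i : ℕ) : Sigma.ι (fun i : ℕ => F.obj (n i)) i ≫ bMap F n =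
    S F (n i) (n (i + 1) - n i) := by
  rw [bMap, Sigma.ι_desc]

lemma ι_hMap (m : ℕ) : Sigma.ι (fun m : ℕ => F.obj m) m ≫ hMap F n hn =
    S F m (n (idx n hn m) - m) := by
  rw [hMap, Sigma.ι_desc]

lemma h4b_aux (i : ℕ) : Sigma.ι (fun m : ℕ => F.obj m) (n i) - b'Comp F n hn (n i) ≫ bMap F n =
    S F (n i) (n (idx n hn (n i)) - n i) -
      F.map (homOfLE (Nat.le_succ (n i))) ≫ S F (n i + 1) (n (idx n hn (n i + 1)) - (n i + 1)) := by
  have hlt := hn (Nat.lt_succ_self i)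
  rw [b'Comp_n, ι_bMap, idx_n, Nat.sub_self, S_zero, zero_sub,
    idx_succ_of_eq n hn (n i) (by rw [idx_n]), idx_n,
    show n (i + 1) - n i = (n (i + 1) - (n i + 1)) + 1 by lia, S_succ']
  abel

lemma h4b : 𝟙 _ - b'Map F n hn ≫ bMap F n = φ F ≫ hMap F n hn := by
  apply Sigma.hom_ext
  intro m
  rw [Preadditive.comp_sub, Category.comp_id, ← Category.assoc, ι_b'Map, ← Category.assoc, ι_φ,
    Preadditive.sub_comp, ι_hMap, J, Category.assoc, ι_hMap]
  by_cases hm : n (idx n hn m) = m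
  · obtain ⟨i, hi⟩ : ∃ i, i = idx n hn m := ⟨_, rfl⟩
    rw [← hi] at hm
    subst hm
    exact h4b_aux F n hn i
  · have hlt : m < n (idx n hn m) := lt_of_le_of_ne (le_idx n hn m) (Ne.symm hm)
    rw [b'Comp, if_neg hm, zero_comp, sub_zero, idx_succ_of_lt n hn m hlt,
      show n (idx n hn m) - m = (n (idx n hn m) - (m + 1)) + 1 by lia, S_succ']
    abel

end concrete

section main

variable {D : Type u} [Category.{v} D] [Preadditive D] [HasZeroObject D] [HasShift D ℤ]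
  [∀ n : ℤ, (shiftFunctor D n).Additive] [Pretriangulated D]

theorem hocolim_subsequence_iso
    (F : ℕ ⥤ D) (n : ℕ → ℕ) (hn : StrictMono n)
    [HasCoproduct (fun m : ℕ => F.obj m)] [HasCoproduct (fun i : ℕ => F.obj (n i))]
    (L : D) (ι : ∀ m : ℕ, F.obj m ⟶ L)
    (hL : DerLim.IsHocolim (fun m : ℕ => F.obj m)
      (fun m : ℕ => F.map (homOfLE (Nat.le_succ m))) L ι)
    (L' : D) (ι' : ∀ i : ℕ, F.obj (n i) ⟶ L')
    (hL' : DerLim.IsHocolim (fun i : ℕ => F.obj (n i))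
      (fun i : ℕ => F.map (homOfLE (hn.monotone (Nat.le_succ i)))) L' ι') :
    ∃ e : L' ≅ L, ∀ i : ℕ, ι' i ≫ e.hom = ι (n i) := by
  obtain ⟨c, hc⟩ := hL
  obtain ⟨c', hc'⟩ := hL'
  obtain ⟨e, he⟩ : ∃ e : L' ≅ L, Sigma.desc ι' ≫ e.hom = aMap F n ≫ Sigma.desc ι :=
    exists_iso_of_retract _ _ hc hc' (aMap F n) (bMap F n) (a'Map F n hn)
      (b'Map F n hn) (hMap F n hn) (h1 F n hn) (h2 F n hn) (h3a F n hn) (h3b F n hn)
      (h4a F n hn) (h4b F n hn)
  refine ⟨e, fun i => ?_⟩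
  have h := Sigma.ι (fun i : ℕ => F.obj (n i)) i ≫= he
  rw [Sigma.ι_desc_assoc, aMap, Sigma.ι_desc_assoc, Sigma.ι_desc] at h
  exact h

end main

end Groth.Agent.Lib.Helper6.HocolimSub
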