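import Mathlib
import Groth.Agent.Lib.Helper6.TwistFun

/-!
# The functorial termwise-injective hull of a cochain complex (helper6 library)

Given a functorial embedding `e : 𝟭 ⟶ J` into injectives, the functor
`N(M) = cocone (Disc J(M) ⟶ Disc J(M) / M)` with `N(M)^k = (J(M^k) ⊞ J(M^{k+1})) ⊞ Q(M)^{k-1}`.
-/

set_option autoImplicit false
universe v u
open CategoryTheory CategoryTheory.Limits

namespace Groth.Agent.Lib.Helper6.InjHullCx

open Groth.Agent.Lib.Helper6.TwistCx Groth.Agent.Lib.Helper6.PhiRes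
  Groth.Agent.Lib.Helper6.TwistFun

variable {A : Type u} [Category.{v} A] [Abelian A]

lemma bmap_id {X Y : A} : biprod.map (𝟙 X) (𝟙 Y) = 𝟙 (X ⊞ Y) := by
  apply biprod.hom_ext <;> simp

lemma bmap_comp {X Y X' Y' X'' Y'' : A} (a : X ⟶ X') (a' : X' ⟶ X'') (b : Y ⟶ Y')
    (b' : Y' ⟶ Y'') : biprod.map (a ≫ a') (b ≫ b') = biprod.map a b ≫ biprod.map a' b' := by
  apply biprod.hom_ext <;> simp

lemma comp_inl_eq_lift {X Y Z : A} (a : X ⟶ Y) :
    a ≫ (biprod.inl : Y ⟶ Y ⊞ Z) = biprod.lift a 0 := by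
  apply biprod.hom_ext <;> simp

variable (J : A ⥤ A) (e : 𝟭 A ⟶ J)

/-- the disc functor -/
noncomputable def Dfun : CochainComplex A ℤ ⥤ CochainComplex A ℤ where
  obj M := discZ (fun i => J.obj (M.X i))
  map φ := discZMap (fun i => J.map (φ.f i))
  map_id M := by
    ext i
    rw [discZMap_f, HomologicalComplex.id_f, HomologicalComplex.id_f, J.map_id, J.map_id]
    exact bmap_id
  map_comp φ ψ := by
    ext i
    rw [HomologicalComplex.comp_f, discZMap_f, discZMap_f, discZMap_f, HomologicalComplex.comp_f,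
      HomologicalComplex.comp_f, J.map_comp, J.map_comp]
    exact bmap_comp _ _ _ _

/-- the embedding into the disc functor -/
noncomputable def iNat : 𝟭 (CochainComplex A ℤ) ⟶ Dfun J where
  app M := toDiscZ _ M (fun i => e.app (M.X i))
  naturality M M' φ :=
    (toDiscZ_discZMap (fun i => J.map (φ.f i)) (fun i => e.app (M.X i))
      (fun i => e.app (M'.X i)) φ (fun i => (e.naturality (φ.f i)).symm)).symm

/-- the quotient functor -/
noncomputable def Qfun : CochainComplex A ℤ ⥤ CochainComplex A ℤ where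
  obj M := cokernel ((iNat J e).app M)
  map {M M'} φ := cokernel.map ((iNat J e).app M) ((iNat J e).app M') φ ((Dfun J).map φ)
    ((iNat J e).naturality φ).symm
  map_id M := by
    apply coequalizer.hom_ext
    simp
  map_comp φ ψ := by
    apply coequalizer.hom_ext
    simp

/-- the projection to the quotient functor -/
noncomputable def πNat : Dfun J ⟶ Qfun J e where
  app M := cokernel.π ((iNat J e).app M)
  naturality M M' φ := by
    show (Dfun J).map φ ≫ cokernel.π ((iNat J e).app M') = cokernel.π ((iNat J e).app M) ≫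
      cokernel.map ((iNat J e).app M) ((iNat J e).app M') φ ((Dfun J).map φ)
        ((iNat J e).naturality φ).symm
    simp

/-- the twist -/
noncomputable def τ (M : CochainComplex A ℤ) :
    Twist ((Dfun J).obj M) (shiftM1 ((Qfun J e).obj M)) :=
  (twistOfHom (𝟙 ((Qfun J e).obj M))).precomp ((πNat J e).app M)


lemma τ_nat {M M' : CochainComplex A ℤ} (φ : M ⟶ M') (i j : ℤ) :
    ((Dfun J).map φ).f i ≫ (τ J e M').θ i j =
      (τ J e M).θ i j ≫ (shiftM1Map ((Qfun J e).map φ)).f j := by
  have h1 : ((Dfun J).map φ).f i ≫ ((πNat J e).app M').f i =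
      ((πNat J e).app M).f i ≫ ((Qfun J e).map φ).f i := by
    rw [← HomologicalComplex.comp_f, ← HomologicalComplex.comp_f, (πNat J e).naturality φ]
  have h2 := θmap_naturality (𝟙 ((Qfun J e).obj M)) (𝟙 ((Qfun J e).obj M')) ((Qfun J e).map φ)
    ((Qfun J e).map φ) (by rw [Category.id_comp, Category.comp_id]) i j
  show ((Dfun J).map φ).f i ≫ (((πNat J e).app M').f i ≫ θmap (𝟙 ((Qfun J e).obj M')) i j) =
    (((πNat J e).app M).f i ≫ θmap (𝟙 ((Qfun J e).obj M)) i j) ≫ ((Qfun J e).map φ).f (j - 1)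
  rw [reassoc_of% h1, h2, Category.assoc]

lemma iNat_τ (M : CochainComplex A ℤ) (i j : ℤ) :
    ((iNat J e).app M).f i ≫ (τ J e M).θ i j = 0 := by
  show ((iNat J e).app M).f i ≫ (((πNat J e).app M).f i ≫ θmap (𝟙 ((Qfun J e).obj M)) i j) = 0
  rw [← Category.assoc, ← HomologicalComplex.comp_f]
  have : (iNat J e).app M ≫ (πNat J e).app M = 0 := cokernel.condition _
  rw [this, HomologicalComplex.zero_f, zero_comp]

/-- the hull functor -/
noncomputable def Nfun : CochainComplex A ℤ ⥤ CochainComplex A ℤ where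
  obj M := tw (τ J e M)
  map {M M'} φ := twMap (τ J e M) (τ J e M') ((Dfun J).map φ) (shiftM1Map ((Qfun J e).map φ))
    (τ_nat J e φ)
  map_id M := by
    ext i
    show biprod.map (((Dfun J).map (𝟙 M)).f i) (((Qfun J e).map (𝟙 M)).f (i - 1)) =
      𝟙 (((Dfun J).obj M).X i ⊞ ((Qfun J e).obj M).X (i - 1))
    rw [CategoryTheory.Functor.map_id, CategoryTheory.Functor.map_id, HomologicalComplex.id_f,
      HomologicalComplex.id_f]
    exact bmap_id
  map_comp {M M' M''} φ ψ := by
    ext i
    show biprod.map (((Dfun J).map (φ ≫ ψ)).f i) (((Qfun J e).map (φ ≫ ψ)).f (i - 1)) =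
      biprod.map (((Dfun J).map φ).f i) (((Qfun J e).map φ).f (i - 1)) ≫
        biprod.map (((Dfun J).map ψ).f i) (((Qfun J e).map ψ).f (i - 1))
    rw [CategoryTheory.Functor.map_comp, CategoryTheory.Functor.map_comp,
      HomologicalComplex.comp_f, HomologicalComplex.comp_f]
    exact bmap_comp _ _ _ _

/-- the embedding into the hull -/
noncomputable def jNat : 𝟭 (CochainComplex A ℤ) ⟶ Nfun J e where
  app M := toTw (τ J e M) ((iNat J e).app M) (iNat_τ J e M)
  naturality M M' φ :=
    (toTw_twMap (τ J e M) (τ J e M') ((Dfun J).map φ) (shiftM1Map ((Qfun J e).map φ))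
      (τ_nat J e φ) ((iNat J e).app M) (iNat_τ J e M) ((iNat J e).app M') (iNat_τ J e M') φ
      ((iNat J e).naturality φ).symm).symm

variable (hmono : ∀ X : A, Mono (e.app X))

include hmono in
lemma mono_iNat_f (M : CochainComplex A ℤ) (i : ℤ) : Mono (((iNat J e).app M).f i) := by
  have := hmono (M.X i)
  exact mono_of_mono_fac (biprod.lift_fst (e.app (M.X i)) (M.d i (i + 1) ≫ e.app (M.X (i + 1))))

include hmono in
lemma mono_jNat_f (M : CochainComplex A ℤ) (i : ℤ) : Mono (((jNat J e).app M).f i) := by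
  have := mono_iNat_f J e hmono M i
  exact mono_of_mono_fac (biprod.lift_fst (((iNat J e).app M).f i) 0)

include hmono in
lemma quasiIso_jNat (M : CochainComplex A ℤ) : QuasiIso ((jNat J e).app M) := by
  have hmonoM : Mono ((iNat J e).app M) :=
    HomologicalComplex.mono_of_mono_f _ (mono_iNat_f J e hmono M)
  have hzero : (iNat J e).app M ≫ (πNat J e).app M = 0 := cokernel.condition _
  have hS : (ShortComplex.mk _ _ hzero).ShortExact :=
    { exact := ShortComplex.exact_of_g_is_cokernel _ (cokernelIsCokernel _)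
      mono_f := hmonoM
      epi_g := inferInstanceAs (Epi (cokernel.π _)) }
  have hz : ∀ i, ((iNat J e).app M).f i ≫ ((πNat J e).app M).f i = 0 := fun i => by
    rw [← HomologicalComplex.comp_f, hzero, HomologicalComplex.zero_f]
  have hSi := fun i => hS.map_of_exact (HomologicalComplex.eval A (ComplexShape.up ℤ) i)
  have hmono' : ∀ i, Mono (((iNat J e).app M).f i) := fun i => (hSi i).mono_f
  have hepi : ∀ i, Epi (((πNat J e).app M).f i) := fun i => (hSi i).epi_g
  have hexact : ∀ i, (ShortComplex.mk _ _ (hz i)).Exact := fun i => (hSi i).exact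
  exact quasiIso_toTw ((iNat J e).app M) ((πNat J e).app M) hmono' hepi hz hexact
    (twistOfHom (𝟙 ((Qfun J e).obj M))) (H3_twistOfHom _) (H4_twistOfHom _)

variable (hinj : ∀ X : A, Injective (J.obj X))

include hinj in
lemma factor_jNat (M : CochainComplex A ℤ) (n : ℤ) :
    ∃ (I : A) (_ : Injective I) (a : M.X n ⟶ I) (b : I ⟶ ((Nfun J e).obj M).X n),
      Mono b ∧ a ≫ b = ((jNat J e).app M).f n := by
  have := hinj (M.X n)
  have := hinj (M.X (n + 1))
  have hb : Mono (biprod.inl : (J.obj (M.X n) ⊞ J.obj (M.X (n + 1))) ⟶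
      (J.obj (M.X n) ⊞ J.obj (M.X (n + 1))) ⊞ ((Qfun J e).obj M).X (n - 1)) := inferInstance
  exact ⟨J.obj (M.X n) ⊞ J.obj (M.X (n + 1)), inferInstance, ((iNat J e).app M).f n,
    (biprod.inl : (J.obj (M.X n) ⊞ J.obj (M.X (n + 1))) ⟶
      (J.obj (M.X n) ⊞ J.obj (M.X (n + 1))) ⊞ ((Qfun J e).obj M).X (n - 1)),
    hb, comp_inl_eq_lift _⟩

end Groth.Agent.Lib.Helper6.InjHullCx
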