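import Mathlib

/-!
# K-injective complexes with injective terms and the extension property (helper6)
-/

set_option autoImplicit false

namespace Groth.Agent.Lib.Helper6.KInjExt

open CategoryTheory Limits HomologicalComplex CochainComplex CochainComplex.HomComplex

variable {A : Type*} [Category A] [Abelian A]

section Forward

/-- extension along a monomorphism with acyclic cokernel into a K-injective complex with
injective terms -/
theorem exists_extension {I : CochainComplex A ℤ} [I.IsKInjective] (hI : ∀ n, Injective (I.X n))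
    (S : ShortComplex (CochainComplex A ℤ)) (hS : S.ShortExact) (h3 : S.X₃.Acyclic)
    (φ : S.X₁ ⟶ I) : ∃ ψ : S.X₂ ⟶ I, S.f ≫ ψ = φ := by
  have hSn : ∀ n, (S.map (eval A (ComplexShape.up ℤ) n)).ShortExact :=
    fun n => hS.map_of_exact _
  have hmono : ∀ n, Mono (S.f.f n) := fun n => (hSn n).mono_f
  have hepi : ∀ n, Epi (S.g.f n) := fun n => (hSn n).epi_g
  have hfg : ∀ n, S.f.f n ≫ S.g.f n = 0 := fun n => by
    rw [← HomologicalComplex.comp_f, S.zero, HomologicalComplex.zero_f]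
  let ψ₀ : ∀ n, S.X₂.X n ⟶ I.X n := fun n => Injective.factorThru (φ.f n) (S.f.f n)
  have hψ₀ : ∀ n, S.f.f n ≫ ψ₀ n = φ.f n := fun n => Injective.comp_factorThru _ _
  let D : ∀ p q, S.X₂.X p ⟶ I.X q := fun p q => ψ₀ p ≫ I.d p q - S.X₂.d p q ≫ ψ₀ q
  have hD : ∀ p q, S.f.f p ≫ D p q = 0 := fun p q => by
    simp only [D, Preadditive.comp_sub]
    rw [← Category.assoc, hψ₀, ← Category.assoc, S.f.comm, Category.assoc, hψ₀, φ.comm, sub_self]
  have hex : ∀ p q, ∃ ε : S.X₃.X p ⟶ I.X q, S.g.f p ≫ ε = D p q := fun p q =>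
    haveI := (hSn p).epi_g
    ⟨(hSn p).exact.desc (D p q) (hD p q), (hSn p).exact.g_desc (D p q) (hD p q)⟩
  choose ε hε using hex
  let z : Cochain S.X₃ I 1 := Cochain.mk (fun p q _ => ε p q)
  have hz : δ 1 2 z = 0 := by
    ext p q hpq
    rw [δ_v 1 2 rfl z p q hpq (p + 1) (p + 1) (by lia) rfl]
    simp only [Cochain.mk_v, Cochain.zero_v, z]
    rw [← cancel_epi (S.g.f p)]
    simp only [Int.negOnePow_even 2 ⟨1, rfl⟩, one_smul, Preadditive.comp_add, comp_zero]
    rw [← Category.assoc, hε, ← Category.assoc, S.g.comm, Category.assoc, hε]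
    simp [D]
  obtain ⟨α, hα⟩ := IsKInjective.eq_δ_of_cocycle (Cocycle.mk z 2 rfl hz) h3 0 (by simp)
  have hα' : ∀ p q (hpq : p + 1 = q),
      α.v p p (add_zero p) ≫ I.d p q - S.X₃.d p q ≫ α.v q q (add_zero q) = ε p q := by
    intro p q hpq
    have := congrArg (fun c => c.v p q hpq) hα
    simp only [Cocycle.mk_coe, z, Cochain.mk_v] at this
    rw [δ_v 0 1 rfl α p q hpq p q (by lia) hpq] at this
    simpa [sub_eq_add_neg] using this
  refine ⟨{ f := fun n => ψ₀ n - S.g.f n ≫ α.v n n (add_zero n), comm' := ?_ }, ?_⟩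
  · intro i j hij
    have hij' : i + 1 = j := hij
    have h1 : S.g.f i ≫ α.v i i (add_zero i) ≫ I.d i j -
        S.g.f i ≫ S.X₃.d i j ≫ α.v j j (add_zero j) = ψ₀ i ≫ I.d i j - S.X₂.d i j ≫ ψ₀ j := by
      rw [← Preadditive.comp_sub, hα' i j hij', hε]
    simp only [Preadditive.sub_comp, Preadditive.comp_sub, Category.assoc]
    rw [← S.g.comm_assoc]
    rw [sub_eq_sub_iff_add_eq_add] at h1 ⊢
    exact h1.symm.trans (add_comm _ _)
  · ext n
    simp only [HomologicalComplex.comp_f, Preadditive.comp_sub, hψ₀]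
    rw [← Category.assoc, hfg, zero_comp, sub_zero]

end Forward

section Backward

lemma acyclic_shift (K : CochainComplex A ℤ) (hK : K.Acyclic) (n : ℤ) : (K⟦n⟧).Acyclic := by
  rw [← HomotopyCategory.quotient_obj_mem_subcategoryAcyclic_iff_acyclic] at hK ⊢
  exact ObjectProperty.prop_of_iso _
    (((HomotopyCategory.quotient A (.up ℤ)).commShiftIso n).symm.app K)
    ((HomotopyCategory.subcategoryAcyclic A).le_shift n _ hK)

variable (I : CochainComplex A ℤ)
  (hext : ∀ (S : ShortComplex (CochainComplex A ℤ)), S.ShortExact → S.X₃.Acyclic →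
        ∀ φ : S.X₁ ⟶ I, ∃ ψ : S.X₂ ⟶ I, S.f ≫ ψ = φ)

include hext in
theorem isKInjective_of_ext : I.IsKInjective where
  nonempty_homotopy_zero {K} u hK := by
    obtain ⟨ψ, hψ'⟩ : ∃ ψ : mappingCone (𝟙 K) ⟶ I, mappingCone.inr (𝟙 K) ≫ ψ = u :=
      hext (mappingCone.triangleRotateShortComplex (𝟙 K))
        (HomologicalComplex.shortExact_of_degreewise_shortExact _
          (fun n => (mappingCone.triangleRotateShortComplexSplitting (𝟙 K) n).shortExact))
        (acyclic_shift K hK 1) u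
    exact ⟨(Homotopy.ofEq (by rw [← hψ', Category.comp_id])).trans
      ((((mappingCone.homotopyToZeroOfId K).compLeft (mappingCone.inr (𝟙 K))).compRight ψ).trans
        (Homotopy.ofEq (by rw [comp_zero, zero_comp])))⟩

end Backward

section Disk

variable (n : ℤ)

lemma ne_succ : n ≠ n + 1 := by lia

lemma rel_succ : (ComplexShape.up ℤ).Rel n (n + 1) := rfl

/-- the disk complex with `X` in degrees `n` and `n+1` -/
noncomputable abbrev disk (X : A) : CochainComplex A ℤ :=
  HomologicalComplex.double (𝟙 X) (rel_succ n)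

/-- functoriality of the disk -/
noncomputable def diskMap {X Y : A} (u : X ⟶ Y) : disk n X ⟶ disk n Y :=
  HomologicalComplex.mkHomFromDouble _ (ne_succ n) (u ≫ (doubleXIso₀ _ _).inv)
    (u ≫ (doubleXIso₁ _ _ (ne_succ n)).inv)
    (by rw [double_d _ _ (ne_succ n)]; simp)
    (fun k _ => by rw [double_d_eq_zero₀ _ _ _ _ (ne_succ n).symm]; simp)

lemma diskMap_f₀ {X Y : A} (u : X ⟶ Y) :
    (diskMap n u).f n = (doubleXIso₀ (𝟙 X) (rel_succ n)).hom ≫ u ≫
      (doubleXIso₀ (𝟙 Y) (rel_succ n)).inv :=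
  HomologicalComplex.mkHomFromDouble_f₀ ..

lemma diskMap_f₁ {X Y : A} (u : X ⟶ Y) :
    (diskMap n u).f (n + 1) = (doubleXIso₁ (𝟙 X) (rel_succ n) (ne_succ n)).hom ≫ u ≫
      (doubleXIso₁ (𝟙 Y) (rel_succ n) (ne_succ n)).inv :=
  HomologicalComplex.mkHomFromDouble_f₁ ..

lemma diskMap_comp {X Y Z : A} (u : X ⟶ Y) (v : Y ⟶ Z) :
    diskMap n u ≫ diskMap n v = diskMap n (u ≫ v) := by
  ext
  · simp [diskMap_f₀]
  · simp [diskMap_f₁]

lemma diskMap_zero {X Y : A} : diskMap n (0 : X ⟶ Y) = 0 := by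
  ext
  · simp [diskMap_f₀]
  · simp [diskMap_f₁]

/-- morphisms from the disk -/
noncomputable def homFromDisk {X : A} {K : CochainComplex A ℤ} (h : X ⟶ K.X n) : disk n X ⟶ K :=
  HomologicalComplex.mkHomFromDouble _ (ne_succ n) h (h ≫ K.d n (n + 1)) (by simp)
    (fun k _ => by simp)

lemma homFromDisk_f₀ {X : A} {K : CochainComplex A ℤ} (h : X ⟶ K.X n) :
    (homFromDisk n h).f n = (doubleXIso₀ (𝟙 X) (rel_succ n)).hom ≫ h :=
  HomologicalComplex.mkHomFromDouble_f₀ ..

lemma acyclic_disk (X : A) : (disk n X).Acyclic := by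
  intro k
  by_cases h0 : k = n
  · subst h0
    rw [HomologicalComplex.exactAt_iff' _ (k - 1) k (k + 1) (by simp) (by simp)]
    rw [ShortComplex.exact_iff_mono _ (double_d_eq_zero₀ (𝟙 X) (rel_succ k) _ _ (by lia))]
    show Mono ((disk k X).d k (k + 1))
    rw [double_d _ _ (ne_succ k)]
    infer_instance
  · by_cases h1 : k = n + 1
    · subst h1
      rw [HomologicalComplex.exactAt_iff' _ n (n + 1) (n + 1 + 1) (by simp) (by simp)]
      rw [ShortComplex.exact_iff_epi _ (double_d_eq_zero₀ (𝟙 X) (rel_succ n) _ _ (by lia))]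
      show Epi ((disk n X).d n (n + 1))
      rw [double_d _ _ (ne_succ n)]
      infer_instance
    · exact ShortComplex.exact_of_isZero_X₂ _ (isZero_double_X (𝟙 X) (rel_succ n) k h0 h1)

lemma shortExact_disk (S : ShortComplex A) (hS : S.ShortExact) :
    (ShortComplex.mk (diskMap n S.f) (diskMap n S.g)
      (by rw [diskMap_comp, S.zero, diskMap_zero])).ShortExact := by
  apply HomologicalComplex.shortExact_of_degreewise_shortExact
  intro k
  by_cases h0 : k = n
  · subst h0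
    refine ShortComplex.shortExact_of_iso (ShortComplex.isoMk
      (doubleXIso₀ (𝟙 S.X₁) (rel_succ k)).symm (doubleXIso₀ (𝟙 S.X₂) (rel_succ k)).symm
      (doubleXIso₀ (𝟙 S.X₃) (rel_succ k)).symm ?_ ?_) hS
    · show (doubleXIso₀ _ _).inv ≫ (diskMap k S.f).f k = S.f ≫ (doubleXIso₀ _ _).inv
      rw [diskMap_f₀]
      exact Iso.inv_hom_id_assoc _ _
    · show (doubleXIso₀ _ _).inv ≫ (diskMap k S.g).f k = S.g ≫ (doubleXIso₀ _ _).inv
      rw [diskMap_f₀]
      exact Iso.inv_hom_id_assoc _ _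
  · by_cases h1 : k = n + 1
    · subst h1
      refine ShortComplex.shortExact_of_iso (ShortComplex.isoMk
        (doubleXIso₁ (𝟙 S.X₁) (rel_succ n) (ne_succ n)).symm
        (doubleXIso₁ (𝟙 S.X₂) (rel_succ n) (ne_succ n)).symm
        (doubleXIso₁ (𝟙 S.X₃) (rel_succ n) (ne_succ n)).symm ?_ ?_) hS
      · show (doubleXIso₁ _ _ (ne_succ n)).inv ≫ (diskMap n S.f).f (n + 1) =
          S.f ≫ (doubleXIso₁ _ _ (ne_succ n)).inv
        rw [diskMap_f₁]
        exact Iso.inv_hom_id_assoc _ _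
      · show (doubleXIso₁ _ _ (ne_succ n)).inv ≫ (diskMap n S.g).f (n + 1) =
          S.g ≫ (doubleXIso₁ _ _ (ne_succ n)).inv
        rw [diskMap_f₁]
        exact Iso.inv_hom_id_assoc _ _
    · have z1 : IsZero ((disk n S.X₁).X k) := isZero_double_X (𝟙 _) (rel_succ n) k h0 h1
      have z2 : IsZero ((disk n S.X₂).X k) := isZero_double_X (𝟙 _) (rel_succ n) k h0 h1
      have z3 : IsZero ((disk n S.X₃).X k) := isZero_double_X (𝟙 _) (rel_succ n) k h0 h1
      exact
        { exact := ShortComplex.exact_of_isZero_X₂ _ z2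
          mono_f := ⟨fun _ _ _ => z1.eq_of_tgt _ _⟩
          epi_g := ⟨fun _ _ _ => z3.eq_of_src _ _⟩ }

end Disk

section Backward2

variable (I : CochainComplex A ℤ)
  (hext : ∀ (S : ShortComplex (CochainComplex A ℤ)), S.ShortExact → S.X₃.Acyclic →
        ∀ φ : S.X₁ ⟶ I, ∃ ψ : S.X₂ ⟶ I, S.f ≫ ψ = φ)

include hext in
theorem injective_of_ext (n : ℤ) : Injective (I.X n) where
  factors {X Y} g f _ := by
    have hS : (ShortComplex.mk f (cokernel.π f) (cokernel.condition f)).ShortExact :=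
      { exact := ShortComplex.exact_cokernel f }
    obtain ⟨ψ, hψ⟩ : ∃ ψ : disk n Y ⟶ I, diskMap n f ≫ ψ = homFromDisk n g :=
      hext _ (shortExact_disk n _ hS) (acyclic_disk n _) (homFromDisk n g)
    refine ⟨(doubleXIso₀ (𝟙 Y) (rel_succ n)).inv ≫ ψ.f n, ?_⟩
    have := congrArg (fun φ => φ.f n) hψ
    simp only [HomologicalComplex.comp_f, diskMap_f₀, homFromDisk_f₀, Category.assoc] at this
    exact (cancel_epi (doubleXIso₀ (𝟙 X) (rel_succ n)).hom).1 this

end Backward2

end Groth.Agent.Lib.Helper6.KInjExt
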