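import Mathlib
import Groth.Agent.Lib.Helper6.ConeTw

/-!
# A functorial embedding killing maps from a small family of acyclic complexes (helper6 library)

* `exact_of_evaluation`: a short complex of functors is exact if it is so pointwise;
* `exactAt_sigma`: coproducts of complexes exact in degree `n` are exact in degree `n` (AB4);
* `Nfun K`, `jNat K`: `N M` is the cone of the canonical map `∐_{(i, w : K i ⟶ M)} K i ⟶ M`.
-/

set_option autoImplicit false
universe v u w
open CategoryTheory CategoryTheory.Limits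

namespace Groth.Agent.Lib.Helper6.KillCx

open Groth.Agent.Lib.Helper6.TwistCx Groth.Agent.Lib.Helper6.TwistFun
  Groth.Agent.Lib.Helper6.ConeTw

section exact

variable {A : Type u} [Category.{v} A] [Abelian A]

lemma bmap_id {X Y : A} : biprod.map (𝟙 X) (𝟙 Y) = 𝟙 (X ⊞ Y) := by
  apply biprod.hom_ext <;> simp

lemma bmap_comp {X Y X' Y' X'' Y'' : A} (a : X ⟶ X') (a' : X' ⟶ X'') (b : Y ⟶ Y')
    (b' : Y' ⟶ Y'') : biprod.map (a ≫ a') (b ≫ b') = biprod.map a b ≫ biprod.map a' b' := by
  apply biprod.hom_ext <;> simp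

lemma exact_of_evaluation {J : Type w} [Category J] (S : ShortComplex (J ⥤ A))
    (h : ∀ j, (S.map ((evaluation J A).obj j)).Exact) : S.Exact := by
  rw [S.exact_iff_isZero_homology]
  apply Functor.isZero
  intro j
  have := (h j)
  rw [ShortComplex.exact_iff_isZero_homology] at this
  exact this.of_iso (S.mapHomologyIso ((evaluation J A).obj j)).symm

variable {κ : Type w} (K : κ → CochainComplex A ℤ) (n : ℤ)

/-- the short complex of functors `Discrete κ ⥤ A` given by a family of complexes in degrees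
`n - 1`, `n`, `n + 1` -/
def famSC : ShortComplex (Discrete κ ⥤ A) :=
  ShortComplex.mk
    (X₁ := Discrete.functor K ⋙ HomologicalComplex.eval A _ (n - 1))
    (X₂ := Discrete.functor K ⋙ HomologicalComplex.eval A _ n)
    (X₃ := Discrete.functor K ⋙ HomologicalComplex.eval A _ (n + 1))
    (Discrete.natTrans (fun p => (K p.as).d (n - 1) n))
    (Discrete.natTrans (fun p => (K p.as).d n (n + 1)))
    (by ext p; exact (K p.as).d_comp_d _ _ _)

lemma exact_famSC (h : ∀ p, (K p).ExactAt n) : (famSC K n).Exact := by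
  apply exact_of_evaluation
  intro p
  have := h p.as
  rw [HomologicalComplex.exactAt_iff' _ (n - 1) n (n + 1) (by simp) (by simp)] at this
  exact this

lemma exactAt_sigma [HasColimitsOfShape (Discrete κ) A] [HasExactColimitsOfShape (Discrete κ) A]
    (h : ∀ p, (K p).ExactAt n) : (∐ K).ExactAt n := by
  rw [HomologicalComplex.exactAt_iff' _ (n - 1) n (n + 1) (by simp) (by simp)]
  have hc := colimit.isColimit (Discrete.functor K)
  exact colim.exact_mapShortComplex (S := famSC K n) (exact_famSC K n h)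
    (c₁ := (HomologicalComplex.eval A _ (n - 1)).mapCocone (colimit.cocone (Discrete.functor K)))
    (isColimitOfPreserves _ hc)
    (c₂ := (HomologicalComplex.eval A _ n).mapCocone (colimit.cocone (Discrete.functor K)))
    (isColimitOfPreserves _ hc)
    (c₃ := (HomologicalComplex.eval A _ (n + 1)).mapCocone (colimit.cocone (Discrete.functor K)))
    (isColimitOfPreserves _ hc)
    (f := (∐ K).d (n - 1) n) (g := (∐ K).d n (n + 1))
    (fun j => ((colimit.cocone (Discrete.functor K)).ι.app j).comm (n - 1) n)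
    (fun j => ((colimit.cocone (Discrete.functor K)).ι.app j).comm n (n + 1))

end exact

section functor

variable {A : Type u} [Category.{v} A] [Abelian A] [IsGrothendieckAbelian.{v} A]
  {ι : Type v} (K : ι → CochainComplex A ℤ)

/-- the family indexed by pairs `(i, w : K i ⟶ M)` -/
abbrev fam (M : CochainComplex A ℤ) : (Σ i, (K i ⟶ M)) → CochainComplex A ℤ := fun p => K p.1

/-- the coproduct of all `K i` over all maps `K i ⟶ M` -/
noncomputable def src (M : CochainComplex A ℤ) : CochainComplex A ℤ := ∐ (fam K M)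

/-- the canonical map -/
noncomputable def uMap (M : CochainComplex A ℤ) : src K M ⟶ M :=
  Sigma.desc (fun p => p.2)

/-- the inclusions -/
noncomputable def srcι (M : CochainComplex A ℤ) (i : ι) (w : K i ⟶ M) : K i ⟶ src K M :=
  Sigma.ι (fam K M) ⟨i, w⟩

@[reassoc (attr := simp)]
lemma srcι_uMap (M : CochainComplex A ℤ) (i : ι) (w : K i ⟶ M) :
    srcι K M i w ≫ uMap K M = w :=
  Sigma.ι_desc (f := fam K M) (fun p => p.2) ⟨i, w⟩

lemma src_hom_ext {M T : CochainComplex A ℤ} {f g : src K M ⟶ T}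
    (h : ∀ i w, srcι K M i w ≫ f = srcι K M i w ≫ g) : f = g := by
  apply Sigma.hom_ext
  rintro ⟨i, w⟩
  exact h i w

/-- functoriality of `src` -/
noncomputable def srcMap {M M' : CochainComplex A ℤ} (φ : M ⟶ M') : src K M ⟶ src K M' :=
  Sigma.desc (fun p => srcι K M' p.1 (p.2 ≫ φ))

@[reassoc (attr := simp)]
lemma srcι_srcMap {M M' : CochainComplex A ℤ} (φ : M ⟶ M') (i : ι) (w : K i ⟶ M) :
    srcι K M i w ≫ srcMap K φ = srcι K M' i (w ≫ φ) :=
  Sigma.ι_desc (f := fam K M) (fun p => srcι K M' p.1 (p.2 ≫ φ)) ⟨i, w⟩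

lemma srcMap_id (M : CochainComplex A ℤ) : srcMap K (𝟙 M) = 𝟙 _ := by
  apply src_hom_ext
  intro i w
  rw [srcι_srcMap, Category.comp_id, Category.comp_id]

lemma srcMap_comp {M M' M'' : CochainComplex A ℤ} (φ : M ⟶ M') (ψ : M' ⟶ M'') :
    srcMap K (φ ≫ ψ) = srcMap K φ ≫ srcMap K ψ := by
  apply src_hom_ext
  intro i w
  rw [srcι_srcMap, srcι_srcMap_assoc, srcι_srcMap, Category.assoc]

lemma uMap_naturality {M M' : CochainComplex A ℤ} (φ : M ⟶ M') :
    uMap K M ≫ φ = srcMap K φ ≫ uMap K M' := by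
  apply src_hom_ext
  intro i w
  rw [srcι_uMap_assoc, srcι_srcMap_assoc, srcι_uMap]

lemma exactAt_src (hK : ∀ i n, (K i).ExactAt n) (M : CochainComplex A ℤ) (n : ℤ) :
    (src K M).ExactAt n :=
  exactAt_sigma (fam K M) n (fun p => hK p.1 n)

/-- the functor `M ↦ cone (∐ K i ⟶ M)` -/
noncomputable def Nfun : CochainComplex A ℤ ⥤ CochainComplex A ℤ where
  obj M := tw (coneTwist (uMap K M))
  map {M M'} φ := coneMap (uMap K M) (uMap K M') (srcMap K φ) φ (uMap_naturality K φ)
  map_id M := by
    ext i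
    show biprod.map ((srcMap K (𝟙 M)).f (i + 1)) ((𝟙 M : M ⟶ M).f i) =
      𝟙 ((src K M).X (i + 1) ⊞ M.X i)
    rw [srcMap_id, HomologicalComplex.id_f, HomologicalComplex.id_f]
    exact bmap_id
  map_comp {M M' M''} φ ψ := by
    ext i
    show biprod.map ((srcMap K (φ ≫ ψ)).f (i + 1)) ((φ ≫ ψ).f i) =
      biprod.map ((srcMap K φ).f (i + 1)) (φ.f i) ≫ biprod.map ((srcMap K ψ).f (i + 1)) (ψ.f i)
    rw [srcMap_comp, HomologicalComplex.comp_f, HomologicalComplex.comp_f]
    exact bmap_comp _ _ _ _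

/-- the embedding into the cone -/
noncomputable def jNat : 𝟭 (CochainComplex A ℤ) ⟶ Nfun K where
  app M := twInr (coneTwist (uMap K M))
  naturality M M' φ :=
    (twInr_coneMap (uMap K M) (uMap K M') (srcMap K φ) φ (uMap_naturality K φ)).symm

lemma mono_jNat_f (M : CochainComplex A ℤ) (n : ℤ) : Mono (((jNat K).app M).f n) :=
  inferInstanceAs (Mono ((twInr (coneTwist (uMap K M))).f n))

lemma quasiIso_jNat (hK : ∀ i n, (K i).ExactAt n) (M : CochainComplex A ℤ) :
    QuasiIso ((jNat K).app M) :=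
  quasiIso_twInr (coneTwist (uMap K M))
    (fun n => exactAt_shiftP1 (src K M) n (exactAt_src K hK M (n + 1)))

/-- every map from a `K i` becomes null-homotopic in `N M` -/
noncomputable def homotopy_jNat (M : CochainComplex A ℤ) (i : ι) (w : K i ⟶ M) :
    Homotopy (w ≫ (jNat K).app M) 0 := by
  have e1 : w ≫ (jNat K).app M =
      srcι K M i w ≫ (uMap K M ≫ twInr (coneTwist (uMap K M))) := by
    show w ≫ twInr (coneTwist (uMap K M)) = _
    rw [srcι_uMap_assoc]
  have e2 : srcι K M i w ≫ (0 : src K M ⟶ tw (coneTwist (uMap K M))) = 0 := comp_zero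
  exact (Homotopy.ofEq e1).trans
    (((coneHomotopy (uMap K M)).compLeft (srcι K M i w)).trans (Homotopy.ofEq e2))

end functor

end Groth.Agent.Lib.Helper6.KillCx
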