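import Mathlib
import Groth.Agent.Lib.Helper6.FAcyc
import Groth.Agent.Lib.Helper6.FlipCx

/-!
# The class of objects with `RⁱF = 0` for `i ≠ n` (helper6)

`F` left exact of cohomological dimension `≤ n`; `PP F n X` means `RⁱF X = 0` for all `i ≠ n`.
Closure properties, the syzygy condition needed for unbounded left resolutions, exactness of
`G = RⁿF` on short exact sequences with cokernel in `PP`, and `G` sends acyclic complexes with
terms in `PP` to acyclic complexes.
-/

set_option autoImplicit false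
universe v v' u u'
open CategoryTheory CategoryTheory.Limits Opposite

namespace Groth.Agent.Lib.Helper6.PClass

open Groth.Agent.Lib.Helper47.RDerLES (derivedLES)
open Groth.Agent.Lib.Helper6.FAcyc (cyclesSES cyclesSES_shortExact)

variable {A : Type u} [Category.{v} A] [Abelian A] [HasInjectiveResolutions A]
  {B : Type u'} [Category.{v'} B] [Abelian B] (F : A ⥤ B) [F.Additive] (n : ℕ)

/-- objects with `RⁱF = 0` for `i ≠ n` -/
def PP (X : A) : Prop := ∀ i : ℕ, i ≠ n → IsZero ((F.rightDerived i).obj X)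

lemma pp_of_isZero {Z : A} (hZ : IsZero Z) : PP F n Z := fun _ _ => Functor.map_isZero _ hZ

lemma pp_of_iso {X Y : A} (e : X ≅ Y) (hX : PP F n X) : PP F n Y := fun i hi =>
  IsZero.of_iso (hX i hi) ((F.rightDerived i).mapIso e.symm)

lemma pp_X₂ (S : ShortComplex A) (hS : S.ShortExact) (h₁ : PP F n S.X₁) (h₃ : PP F n S.X₃) :
    PP F n S.X₂ := fun i hi =>
  ((derivedLES F).exact₂ S hS i).isZero_X₂ ((h₁ i hi).eq_of_src _ _) ((h₃ i hi).eq_of_tgt _ _)

lemma pp_biprod {X Y : A} (hX : PP F n X) (hY : PP F n Y) : PP F n (X ⊞ Y) := by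
  let S : ShortComplex A := ShortComplex.mk (biprod.inl : X ⟶ X ⊞ Y) biprod.snd (by simp)
  have hS : S.ShortExact := (ShortComplex.Splitting.ofHasBinaryBiproduct X Y).shortExact
  exact pp_X₂ F n S hS hX hY

section LeftExact

variable [PreservesFiniteLimits F]

lemma mono_R0_map {X Y : A} (f : X ⟶ Y) [Mono f] : Mono ((F.rightDerived 0).map f) := by
  have nat := F.toRightDerivedZero.naturality f
  have e : (F.rightDerived 0).map f = inv (F.toRightDerivedZero.app X) ≫
      F.map f ≫ F.toRightDerivedZero.app Y := by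
    rw [nat]; simp
  rw [e]
  infer_instance

lemma isZero_R0_of_mono {X Y : A} (f : X ⟶ Y) [Mono f]
    (h : IsZero ((F.rightDerived 0).obj Y)) : IsZero ((F.rightDerived 0).obj X) := by
  have := mono_R0_map F f
  exact IsZero.of_mono ((F.rightDerived 0).map f) h

variable (hdim : ∀ (X : A) (i : ℕ), n < i → IsZero ((F.rightDerived i).obj X))

include hdim in
lemma pp_all_of_eq_zero (hn0 : n = 0) (X : A) : PP F n X := fun i hi => hdim X i (by lia)

include hdim in
lemma pp_X₁ (S : ShortComplex A) (hS : S.ShortExact) (h₂ : PP F n S.X₂) (h₃ : PP F n S.X₃) :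
    PP F n S.X₁ := by
  intro i hi
  have := hS.mono_f
  cases i with
  | zero => exact isZero_R0_of_mono F S.f (h₂ 0 hi)
  | succ i' =>
    by_cases hi' : i' = n
    · exact hdim _ _ (by lia)
    · exact ((derivedLES F).exact₁ S hS i' (i' + 1) rfl).isZero_X₂
        ((h₃ i' hi').eq_of_src _ _) ((h₂ (i' + 1) hi).eq_of_tgt _ _)

include hdim in
lemma pp_iff (S : ShortComplex A) (hS : S.ShortExact) (h₃ : PP F n S.X₃) :
    PP F n S.X₂ ↔ PP F n S.X₁ :=
  ⟨fun h₂ => pp_X₁ F n hdim S hS h₂ h₃, fun h₁ => pp_X₂ F n S hS h₁ h₃⟩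

include hdim in
/-- the syzygy condition, in the form needed by `FlipCx.exists_left_resolution` (with `n + 1`). -/
lemma h3_op (K : CochainComplex Aᵒᵖ ℕ) (hex : ∀ i : ℕ, 1 ≤ i → i ≤ n + 1 → K.ExactAt i)
    (_hz : ∀ i : ℕ, n + 1 < i → IsZero (K.X i)) (hepi : Epi (K.d (n + 1 - 1) (n + 1)))
    (hK : ∀ i : ℕ, i < n + 1 → PP F n (K.X i).unop) : PP F n (K.X (n + 1)).unop := by
  by_cases hn0 : n = 0
  · exact pp_all_of_eq_zero F n hdim hn0 _
  have hn1 : 1 ≤ n := by lia
  let M : HomologicalComplex A (ComplexShape.up ℕ).symm := K.unop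
  have hexM : ∀ i : ℕ, 1 ≤ i → i ≤ n + 1 → M.ExactAt i := fun i h1 h2 => (hex i h1 h2).unop
  have hMP : ∀ i : ℕ, i < n + 1 → PP F n (M.X i) := hK
  have hrel : ∀ k : ℕ, (ComplexShape.up ℕ).symm.Rel (k + 1) k := fun k =>
    (show (ComplexShape.up ℕ).Rel k (k + 1) from rfl)
  have key : ∀ k : ℕ, 1 ≤ k → k ≤ n → ∀ i : ℕ, i < k → i < n →
      IsZero ((F.rightDerived i).obj (M.cycles k)) := by
    intro k hk
    induction k, hk using Nat.le_induction with
    | base =>
      intro _ i hi hin
      obtain rfl : i = 0 := by lia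
      exact isZero_R0_of_mono F (M.iCycles 1) (hMP 1 (by lia) 0 (by lia))
    | succ k hk ih =>
      intro hkn i hi hin
      cases i with
      | zero => exact isZero_R0_of_mono F (M.iCycles (k + 1)) (hMP (k + 1) (by lia) 0 (by lia))
      | succ i' =>
        have hS := cyclesSES_shortExact M (k + 1) k (hrel k) (hexM k (by lia) (by lia))
        exact ((derivedLES F).exact₁ _ hS i' (i' + 1) rfl).isZero_X₂
          ((ih (by lia) i' (by lia) (by lia)).eq_of_src _ _)
          ((hMP (k + 1) (by lia) (i' + 1) (by lia)).eq_of_tgt _ _)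
  have hS := cyclesSES_shortExact M (n + 1) n (hrel n) (hexM n hn1 (by lia))
  have hsub : n + 1 - 1 = n := by lia
  rw [hsub] at hepi
  have hmono : Mono (M.d (n + 1) n) := inferInstanceAs (Mono (K.d n (n + 1)).unop)
  have hZ : IsZero (M.cycles (n + 1)) := by
    apply IsZero.of_mono_eq_zero (M.iCycles (n + 1))
    rw [← cancel_mono (M.d (n + 1) n), HomologicalComplex.iCycles_d, zero_comp]
  show PP F n (M.X (n + 1))
  intro i hi
  by_cases hin : n < i
  · exact hdim _ _ hin
  · have hZ' : IsZero ((F.rightDerived i).obj (M.cycles (n + 1))) :=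
      Functor.map_isZero (F.rightDerived i) hZ
    exact ((derivedLES F).exact₂ _ hS i).isZero_X₂
      (hZ'.eq_of_src _ _)
      ((key n hn1 le_rfl i (by lia) (by lia)).eq_of_tgt _ _)

include hdim in
/-- `G = RⁿF` is exact on short exact sequences with cokernel in `PP`. -/
lemma shortExact_map_G (S : ShortComplex A) (hS : S.ShortExact) (h₃ : PP F n S.X₃) :
    (S.map (F.rightDerived n)).ShortExact := by
  have := hS.mono_f
  have hmono : Mono ((F.rightDerived n).map S.f) := by
    cases n with
    | zero => exact mono_R0_map F S.f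
    | succ n' =>
      exact ((derivedLES F).exact₁ S hS n' (n' + 1) rfl).mono_g ((h₃ n' (by lia)).eq_of_src _ _)
  have hepi : Epi ((F.rightDerived n).map S.g) :=
    ((derivedLES F).exact₃ S hS n (n + 1) rfl).epi_f ((hdim S.X₁ (n + 1) (by lia)).eq_of_tgt _ _)
  exact
    { exact := (derivedLES F).exact₂ S hS n
      mono_f := hmono
      epi_g := hepi }

include hdim in
lemma pp_cycles (K : CochainComplex A ℤ) (hK : K.Acyclic) (hP : ∀ j, PP F n (K.X j)) (p : ℤ) :
    PP F n (K.cycles p) := by
  have key : ∀ i : ℕ, i < n → ∀ p : ℤ, IsZero ((F.rightDerived i).obj (K.cycles p)) := by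
    intro i
    induction i with
    | zero =>
      intro h0 p
      exact isZero_R0_of_mono F (K.iCycles p) (hP p 0 (by lia))
    | succ i' ih =>
      intro hi p
      have hS := cyclesSES_shortExact K p (p + 1) (by simp) (hK (p + 1))
      exact ((derivedLES F).exact₁ _ hS i' (i' + 1) rfl).isZero_X₂
        ((ih (by lia) (p + 1)).eq_of_src _ _) ((hP p (i' + 1) (by lia)).eq_of_tgt _ _)
  intro i hi
  by_cases hin : n < i
  · exact hdim _ _ hin
  · exact key i (by lia) p

include hdim in
/-- `G = RⁿF` sends acyclic complexes with terms in `PP` to acyclic complexes. -/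
lemma acyclic_map_G (Q : CochainComplex A ℤ) (hQ : Q.Acyclic) (hP : ∀ j, PP F n (Q.X j)) :
    (((F.rightDerived n).mapHomologicalComplex (ComplexShape.up ℤ)).obj Q).Acyclic := by
  intro m
  rw [HomologicalComplex.exactAt_iff' _ (m - 1) m (m + 1) (by simp) (by simp)]
  have h1 := shortExact_map_G F n hdim _ (cyclesSES_shortExact Q (m - 1) m (by simp) (hQ m))
    (pp_cycles F n hdim Q hQ hP m)
  have h2 := shortExact_map_G F n hdim _ (cyclesSES_shortExact Q m (m + 1) (by simp) (hQ (m + 1)))
    (pp_cycles F n hdim Q hQ hP (m + 1))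
  have h3 := shortExact_map_G F n hdim _
    (cyclesSES_shortExact Q (m + 1) (m + 1 + 1) (by simp) (hQ (m + 1 + 1)))
    (pp_cycles F n hdim Q hQ hP (m + 1 + 1))
  have : Epi ((F.rightDerived n).map (Q.toCycles (m - 1) m)) := h1.epi_g
  have : Mono ((F.rightDerived n).map (Q.iCycles (m + 1))) := h3.mono_f
  have w' : ((F.rightDerived n).map (Q.toCycles (m - 1) m) ≫ (F.rightDerived n).map (Q.iCycles m)) ≫
      ((F.rightDerived n).map (Q.toCycles m (m + 1)) ≫
        (F.rightDerived n).map (Q.iCycles (m + 1))) = 0 := by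
    rw [← Functor.map_comp, ← Functor.map_comp, ← Functor.map_comp, HomologicalComplex.toCycles_i,
      HomologicalComplex.toCycles_i, Q.d_comp_d, Functor.map_zero]
  have key := RDPlus.exact_of_factor ((F.rightDerived n).map (Q.toCycles (m - 1) m))
    ((F.rightDerived n).map (Q.iCycles m))
    ((F.rightDerived n).map (Q.toCycles m (m + 1))) ((F.rightDerived n).map (Q.iCycles (m + 1)))
    ((cyclesSES Q m (m + 1)).map (F.rightDerived n)).zero h2.exact w'
  refine ShortComplex.exact_of_iso (ShortComplex.isoMk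
    (S₁ := ShortComplex.mk _ _ w')
    (S₂ := (((F.rightDerived n).mapHomologicalComplex (ComplexShape.up ℤ)).obj Q).sc' (m - 1) m
      (m + 1))
    (Iso.refl _) (Iso.refl _) (Iso.refl _) ?_ ?_) key
  · show 𝟙 _ ≫ (F.rightDerived n).map (Q.d (m - 1) m) =
      ((F.rightDerived n).map (Q.toCycles (m - 1) m) ≫ (F.rightDerived n).map (Q.iCycles m)) ≫ 𝟙 _
    rw [Category.id_comp, Category.comp_id, ← Functor.map_comp, HomologicalComplex.toCycles_i]
  · show 𝟙 _ ≫ (F.rightDerived n).map (Q.d m (m + 1)) =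
      ((F.rightDerived n).map (Q.toCycles m (m + 1)) ≫
        (F.rightDerived n).map (Q.iCycles (m + 1))) ≫ 𝟙 _
    rw [Category.id_comp, Category.comp_id, ← Functor.map_comp, HomologicalComplex.toCycles_i]

end LeftExact

end Groth.Agent.Lib.Helper6.PClass
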