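import Mathlib
import Groth.Agent.Lib.Helper6.PClass
import Groth.Agent.Lib.Helper6.TermwiseK
import Groth.Agent.Lib.Helper6.KanDual
import Groth.Agent.Lib.Helper94.ResolvingSub
import Groth.Agent.Lib.Helper94.DerivesLeft
import Groth.Agent.Lib.Helper36.KanPrecomp

/-!
# The unbounded left derived functor of `G = RⁿF` (helper6)

`F` left exact of cohomological dimension `≤ n`, every object a quotient of an object with
`RⁱF = 0` for `i ≠ n`.  Then `G = RⁿF`, as a functor `Ch(A) ⥤ D(B)`, has a left derived functor with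
respect to quasi-isomorphisms, and the counit of any such left derived functor is an isomorphism on
complexes whose terms are in `PP F n`.
-/

set_option autoImplicit false
set_option linter.style.haveILetI false
set_option linter.unusedSectionVars false
universe w w' v v' u u'
open CategoryTheory CategoryTheory.Limits HomotopyCategory

namespace Groth.Agent.Lib.Helper6.LGExist

open Groth.Agent.Lib.Helper6.PClass

variable {A : Type u} [Category.{v} A] [Abelian A] [HasDerivedCategory.{w} A]
  [EnoughInjectives A]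
  {B : Type u'} [Category.{v'} B] [Abelian B] [HasDerivedCategory.{w'} B]
  (F : A ⥤ B) [F.Additive] [PreservesFiniteLimits F] (n : ℕ) [(F.rightDerived n).Additive]

/-- the class `PP F n` as an object property -/
def ppP : ObjectProperty A := PP F n

instance : (ppP F n).IsClosedUnderIsomorphisms := ⟨fun e h => pp_of_iso F n e h⟩

instance : (TermwiseK.termwise (ppP F n)).IsTriangulated :=
  TermwiseK.isTriangulated _ (fun _ hZ => pp_of_isZero F n hZ)
    (fun _ _ hX hY => pp_biprod F n hX hY)

/-- complexes isomorphic in `K(A)` to a complex with terms in `PP F n` -/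
abbrev SS : ObjectProperty (HomotopyCategory A (.up ℤ)) :=
  (TermwiseK.termwise (ppP F n)).isoClosure

lemma SS_quotient_obj (K : CochainComplex A ℤ) (hK : ∀ m, PP F n (K.X m)) :
    SS F n ((HomotopyCategory.quotient A (.up ℤ)).obj K) :=
  ObjectProperty.le_isoClosure _ _ ((TermwiseK.termwise_quotient_obj_iff K).mpr hK)

variable (hdim : ∀ (X : A) (i : ℕ), n < i → IsZero ((F.rightDerived i).obj X))
  (hP : ∀ X : A, ∃ (Y : A) (p : Y ⟶ X), Epi p ∧ PP F n Y)

include hdim hP in
/-- unbounded left resolutions by complexes with terms in `PP F n` -/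
lemma exists_resolution (K : CochainComplex A ℤ) :
    ∃ (Y : CochainComplex A ℤ) (f : Y ⟶ K), QuasiIso f ∧ ∀ k : ℤ, PP F n (Y.X k) :=
  FlipCx.exists_left_resolution (PP F n)
    (fun X => by
      obtain ⟨Y, p, hp, hY⟩ := hP X
      exact ⟨Y, p, hY, hp⟩)
    (n + 1) (by lia) (fun S hS h₃ => pp_iff F n hdim S hS h₃)
    (fun K hex hz hepi hK => h3_op F n hdim K hex hz hepi hK) K

include hdim hP in
lemma hres (X : HomotopyCategory A (.up ℤ)) :
    ∃ (Y : HomotopyCategory A (.up ℤ)) (s : Y ⟶ X), SS F n Y ∧ (subcategoryAcyclic A).trW s := by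
  obtain ⟨K, rfl⟩ := X.quotient_obj_surjective
  obtain ⟨I, f, hf, hI⟩ := exists_resolution F n hdim hP K
  refine ⟨(HomotopyCategory.quotient A (.up ℤ)).obj I, (HomotopyCategory.quotient A (.up ℤ)).map f,
    SS_quotient_obj F n I hI, ?_⟩
  rw [← quasiIso_eq_trW_subcategoryAcyclic, quotient_map_mem_quasiIso_iff,
    HomologicalComplex.mem_quasiIso_iff]
  exact hf

/-- the functor `G = RⁿF` on the homotopy category, to `D(B)` -/
noncomputable abbrev GK : HomotopyCategory A (.up ℤ) ⥤ DerivedCategory B :=
  (F.rightDerived n).mapHomotopyCategory (.up ℤ) ⋙ DerivedCategory.Qh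

/-- the functor `G = RⁿF` on cochain complexes, to `D(B)` -/
noncomputable abbrev GCh : CochainComplex A ℤ ⥤ DerivedCategory B :=
  (F.rightDerived n).mapHomologicalComplex (.up ℤ) ⋙ DerivedCategory.Q

include hdim in
lemma hG : ((subcategoryAcyclic A).inverseImage (SS F n).ι).trW.IsInvertedBy
    ((SS F n).ι ⋙ GK F n) := by
  intro X Y f hf
  rw [ObjectProperty.trW_iff] at hf
  obtain ⟨Z, g, h, hT, hZ⟩ := hf
  show IsIso (DerivedCategory.Qh.map
    (((F.rightDerived n).mapHomotopyCategory _).map ((SS F n).ι.map f)))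
  rw [DerivedCategory.isIso_Qh_map_iff, quasiIso_eq_trW_subcategoryAcyclic]
  have hT' := ((F.rightDerived n).mapHomotopyCategory (.up ℤ)).map_distinguished _
    ((SS F n).ι.map_distinguished _ hT)
  rw [ObjectProperty.trW_iff]
  refine ⟨_, _, _, hT', ?_⟩
  obtain ⟨Z', hZ', ⟨e⟩⟩ := Z.property
  obtain ⟨K', hK', rfl⟩ := (ObjectProperty.strictMap_iff _ _ _).1 hZ'
  have hZa : (subcategoryAcyclic A) ((HomotopyCategory.quotient A (.up ℤ)).obj K') :=
    (subcategoryAcyclic A).prop_of_iso e hZ
  rw [quotient_obj_mem_subcategoryAcyclic_iff_acyclic] at hZa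
  have hac := acyclic_map_G F n hdim K' hZa hK'
  rw [← quotient_obj_mem_subcategoryAcyclic_iff_acyclic] at hac
  exact (subcategoryAcyclic B).prop_of_iso
    (((F.rightDerived n).mapHomotopyCategory (.up ℤ)).mapIso e.symm) hac

include hdim hP in
lemma isLeftDerivabilityStructure :
    ((SS F n).triangulatedLocalizerMorphism (subcategoryAcyclic A)).IsLeftDerivabilityStructure :=
  Groth.Agent.Lib.Helper94.ResolvingSub.isLeftDerivabilityStructure (SS F n)
    (subcategoryAcyclic A) (hres F n hdim hP)

include hdim hP in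
/-- existence of the left derived functor on the homotopy category -/
theorem hasLeftDerivedFunctor_K :
    (GK F n).HasLeftDerivedFunctor (HomotopyCategory.quasiIso A (ComplexShape.up ℤ)) := by
  rw [quasiIso_eq_trW_subcategoryAcyclic]
  haveI := isLeftDerivabilityStructure F n hdim hP
  exact KanDual.hasLeftDerivedFunctor_of_isLeftDerivabilityStructure
    ((SS F n).triangulatedLocalizerMorphism (subcategoryAcyclic A)) (GK F n) (hG F n hdim)

include hdim hP in
theorem isIso_counit_app_K {D : Type*} [Category D] (L : HomotopyCategory A (.up ℤ) ⥤ D)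
    (W : MorphismProperty (HomotopyCategory A (.up ℤ))) (hW : W = (subcategoryAcyclic A).trW)
    [L.IsLocalization W] {LG : D ⥤ DerivedCategory B}
    (α : L ⋙ LG ⟶ GK F n) [LG.IsLeftDerivedFunctor α W] (K : CochainComplex A ℤ)
    (hK : ∀ m, PP F n (K.X m)) :
    IsIso (α.app ((HomotopyCategory.quotient A (.up ℤ)).obj K)) := by
  subst hW
  haveI := isLeftDerivabilityStructure F n hdim hP
  exact Groth.Agent.Lib.Helper94.DerivesLeft.isIso_app_of_isLeftDerivabilityStructure
    ((SS F n).triangulatedLocalizerMorphism (subcategoryAcyclic A)) (GK F n) (hG F n hdim)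
    L LG α ⟨_, SS_quotient_obj F n K hK⟩

/-- `quotient ⋙ GK ≅ GCh` -/
noncomputable def e₂ : HomotopyCategory.quotient A (.up ℤ) ⋙ GK F n ≅ GCh F n :=
  (Functor.associator _ _ _).symm ≪≫
    Functor.isoWhiskerRight ((F.rightDerived n).mapHomotopyCategoryFactors (.up ℤ))
      DerivedCategory.Qh ≪≫ Functor.associator _ _ _ ≪≫
    Functor.isoWhiskerLeft _ (DerivedCategory.quotientCompQhIso B)

section ChLevel

variable [(GK F n).HasLeftDerivedFunctor (HomotopyCategory.quasiIso A (ComplexShape.up ℤ))]

/-- the left derived functor at the level of the homotopy category -/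
noncomputable abbrev LGK : DerivedCategory A ⥤ DerivedCategory B :=
  (GK F n).totalLeftDerived DerivedCategory.Qh (HomotopyCategory.quasiIso A (ComplexShape.up ℤ))

/-- its counit -/
noncomputable abbrev αK : DerivedCategory.Qh ⋙ LGK F n ⟶ GK F n :=
  (GK F n).totalLeftDerivedCounit DerivedCategory.Qh
    (HomotopyCategory.quasiIso A (ComplexShape.up ℤ))

/-- the counit at the level of complexes -/
noncomputable def αCh : DerivedCategory.Q ⋙ LGK F n ⟶ GCh F n :=
  Groth.Agent.Lib.Helper36.KanPre.preαIso (HomotopyCategory.quotient A (.up ℤ)) (LGK F n) (αK F n)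
    (DerivedCategory.quotientCompQhIso A) (e₂ F n)

instance isLeftDerivedFunctor_Ch :
    (LGK F n).IsLeftDerivedFunctor (αCh F n)
      (HomologicalComplex.quasiIso A (ComplexShape.up ℤ)) := by
  have h1 : (LGK F n).IsRightKanExtension (αK F n) :=
    Functor.IsLeftDerivedFunctor.isRightKanExtension _ _
      (HomotopyCategory.quasiIso A (ComplexShape.up ℤ))
  exact ⟨Groth.Agent.Lib.Helper36.KanPre.isRightKanExtension_precomp_iso
    (HomotopyCategory.quotient A (.up ℤ)) (LGK F n) (αK F n)
    (DerivedCategory.quotientCompQhIso A) (e₂ F n)⟩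

end ChLevel

include hdim hP in
/-- **Existence** of the left derived functor of `G = RⁿF` on cochain complexes. -/
theorem hasLeftDerivedFunctor :
    (GCh F n).HasLeftDerivedFunctor (HomologicalComplex.quasiIso A (ComplexShape.up ℤ)) := by
  haveI := hasLeftDerivedFunctor_K F n hdim hP
  exact Functor.HasLeftDerivedFunctor.mk' (LGK F n) (αCh F n)

include hdim hP in
lemma isIso_αCh_app [(GK F n).HasLeftDerivedFunctor
      (HomotopyCategory.quasiIso A (ComplexShape.up ℤ))]
    (K : CochainComplex A ℤ) (hK : ∀ m, PP F n (K.X m)) : IsIso ((αCh F n).app K) := by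
  have := isIso_counit_app_K F n hdim hP DerivedCategory.Qh
    (HomotopyCategory.quasiIso A (ComplexShape.up ℤ))
    (quasiIso_eq_trW_subcategoryAcyclic A) (αK F n) K hK
  show IsIso ((LGK F n).map ((DerivedCategory.quotientCompQhIso A).inv.app K) ≫
    (αK F n).app ((HomotopyCategory.quotient A (.up ℤ)).obj K) ≫ (e₂ F n).hom.app K)
  infer_instance

include hdim hP in
/-- **The counit of any left derived functor of `G` is an isomorphism on complexes with terms in
`PP F n`.** -/
theorem isIso_counit_app (LG : DerivedCategory A ⥤ DerivedCategory B)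
    (α : DerivedCategory.Q ⋙ LG ⟶ GCh F n)
    [LG.IsLeftDerivedFunctor α (HomologicalComplex.quasiIso A (ComplexShape.up ℤ))]
    (K : CochainComplex A ℤ) (hK : ∀ m, PP F n (K.X m)) : IsIso (α.app K) := by
  haveI := hasLeftDerivedFunctor_K F n hdim hP
  have h := Functor.leftDerivedNatTrans_app LG (LGK F n) α (αCh F n)
    (HomologicalComplex.quasiIso A (ComplexShape.up ℤ)) (𝟙 (GCh F n)) K
  have hiso : IsIso (Functor.leftDerivedNatTrans LG (LGK F n) α (αCh F n)
      (HomologicalComplex.quasiIso A (ComplexShape.up ℤ)) (𝟙 (GCh F n))) :=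
    (Functor.leftDerivedNatIso LG (LGK F n) α (αCh F n)
      (HomologicalComplex.quasiIso A (ComplexShape.up ℤ)) (Iso.refl (GCh F n))).isIso_hom
  have := isIso_αCh_app F n hdim hP K hK
  have h' : α.app K = (Functor.leftDerivedNatTrans LG (LGK F n) α (αCh F n)
      (HomologicalComplex.quasiIso A (ComplexShape.up ℤ)) (𝟙 (GCh F n))).app
        (DerivedCategory.Q.obj K) ≫ (αCh F n).app K := by
    rw [h]
    simp
  rw [h']
  infer_instance

end Groth.Agent.Lib.Helper6.LGExist
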