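import Mathlib
import Groth.Agent.Lib.Helper6.FAcycDeriv
import Groth.Agent.Lib.Helper6.KanDual

/-!
# The unit of the unbounded right derived functor on complexes of `F`-acyclic objects (helper6)

`F` left exact with `RᴺF = 0`.  For any right derived functor `(RF, α)` of
`F.mapHomologicalComplex ⋙ Q` with respect to quasi-isomorphisms of cochain complexes, `α.app K` is
an isomorphism when all terms of `K` are `F`-acyclic.
-/

set_option autoImplicit false
set_option linter.style.haveILetI false
set_option linter.unusedSectionVars false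
universe w w' v v' u u'
open CategoryTheory CategoryTheory.Limits HomotopyCategory

namespace Groth.Agent.Lib.Helper6.RFUnit

variable {A : Type u} [Category.{v} A] [Abelian A] [HasDerivedCategory.{w} A]
  [HasInjectiveResolutions A]
  {B : Type u'} [Category.{v'} B] [Abelian B] [HasDerivedCategory.{w'} B]
  (F : A ⥤ B) [F.Additive] [PreservesFiniteLimits F]

/-- `F` on the homotopy category, to `D(B)` -/
noncomputable abbrev FK : HomotopyCategory A (.up ℤ) ⥤ DerivedCategory B :=
  F.mapHomotopyCategory (.up ℤ) ⋙ DerivedCategory.Qh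

/-- `F` on cochain complexes, to `D(B)` -/
noncomputable abbrev FCh : CochainComplex A ℤ ⥤ DerivedCategory B :=
  F.mapHomologicalComplex (.up ℤ) ⋙ DerivedCategory.Q

/-- `quotient ⋙ FK ≅ FCh` -/
noncomputable def e₂ : HomotopyCategory.quotient A (.up ℤ) ⋙ FK F ≅ FCh F :=
  (Functor.associator _ _ _).symm ≪≫
    Functor.isoWhiskerRight (F.mapHomotopyCategoryFactors (.up ℤ))
      DerivedCategory.Qh ≪≫ Functor.associator _ _ _ ≪≫
    Functor.isoWhiskerLeft _ (DerivedCategory.quotientCompQhIso B)

section ChLevel

variable [(FK F).HasRightDerivedFunctor (HomotopyCategory.quasiIso A (ComplexShape.up ℤ))]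

/-- the right derived functor at the level of the homotopy category -/
noncomputable abbrev RFK : DerivedCategory A ⥤ DerivedCategory B :=
  (FK F).totalRightDerived DerivedCategory.Qh (HomotopyCategory.quasiIso A (ComplexShape.up ℤ))

/-- its unit -/
noncomputable abbrev αK : FK F ⟶ DerivedCategory.Qh ⋙ RFK F :=
  (FK F).totalRightDerivedUnit DerivedCategory.Qh
    (HomotopyCategory.quasiIso A (ComplexShape.up ℤ))

/-- the unit at the level of complexes -/
noncomputable def αCh : FCh F ⟶ DerivedCategory.Q ⋙ RFK F :=
  KanDual.preαIso (HomotopyCategory.quotient A (.up ℤ)) (RFK F) (αK F)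
    (DerivedCategory.quotientCompQhIso A) (e₂ F)

instance isRightDerivedFunctor_Ch :
    (RFK F).IsRightDerivedFunctor (αCh F)
      (HomologicalComplex.quasiIso A (ComplexShape.up ℤ)) := by
  have h1 : (RFK F).IsLeftKanExtension (αK F) :=
    Functor.IsRightDerivedFunctor.isLeftKanExtension _ _
      (HomotopyCategory.quasiIso A (ComplexShape.up ℤ))
  exact ⟨KanDual.isLeftKanExtension_precomp_iso
    (HomotopyCategory.quotient A (.up ℤ)) (RFK F) (αK F)
    (DerivedCategory.quotientCompQhIso A) (e₂ F)⟩

end ChLevel

variable (N : ℕ) (hN : ∀ X : A, IsZero ((F.rightDerived N).obj X))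

include hN in
lemma isIso_αCh_app [(FK F).HasRightDerivedFunctor
      (HomotopyCategory.quasiIso A (ComplexShape.up ℤ))]
    (K : CochainComplex A ℤ) (hK : ∀ m, FAcyc.Acyc F (K.X m)) : IsIso ((αCh F).app K) := by
  have := FAcycDeriv.isIso_unit_app F N hN DerivedCategory.Qh
    (HomotopyCategory.quasiIso A (ComplexShape.up ℤ))
    (quasiIso_eq_trW_subcategoryAcyclic A) (αK F) K hK
  show IsIso ((e₂ F).inv.app K ≫
    (αK F).app ((HomotopyCategory.quotient A (.up ℤ)).obj K) ≫
      (RFK F).map ((DerivedCategory.quotientCompQhIso A).hom.app K))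
  infer_instance

include hN in
/-- **The unit of any right derived functor of `F` is an isomorphism on complexes of `F`-acyclic
objects.** -/
theorem isIso_unit_app (RF : DerivedCategory A ⥤ DerivedCategory B)
    (α : FCh F ⟶ DerivedCategory.Q ⋙ RF)
    [RF.IsRightDerivedFunctor α (HomologicalComplex.quasiIso A (ComplexShape.up ℤ))]
    (K : CochainComplex A ℤ) (hK : ∀ m, FAcyc.Acyc F (K.X m)) : IsIso (α.app K) := by
  haveI := FAcycDeriv.hasRightDerivedFunctor F N hN
  have h := Functor.rightDerivedNatTrans_app (RFK F) RF (αCh F) α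
    (HomologicalComplex.quasiIso A (ComplexShape.up ℤ)) (𝟙 (FCh F)) K
  have hiso : IsIso (Functor.rightDerivedNatTrans (RFK F) RF (αCh F) α
      (HomologicalComplex.quasiIso A (ComplexShape.up ℤ)) (𝟙 (FCh F))) :=
    (Functor.rightDerivedNatIso (RFK F) RF (αCh F) α
      (HomologicalComplex.quasiIso A (ComplexShape.up ℤ)) (Iso.refl (FCh F))).isIso_hom
  have := isIso_αCh_app F N hN K hK
  have h' : α.app K = (αCh F).app K ≫ (Functor.rightDerivedNatTrans (RFK F) RF (αCh F) α
      (HomologicalComplex.quasiIso A (ComplexShape.up ℤ)) (𝟙 (FCh F))).app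
        (DerivedCategory.Q.obj K) := by
    rw [h]
    simp
  rw [h']
  infer_instance

end Groth.Agent.Lib.Helper6.RFUnit
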