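import Mathlib
import Groth.Agent.Lib.Helper6.PClass
import Groth.Agent.Lib.Helper6.TwistFun

/-!
# One step of the injective-disc tower (helper6)

For a cochain complex `Y`, the short exact sequence `0 ⟶ Y ⟶ JJ Y ⟶ CC Y ⟶ 0` where `JJ Y` is the
(contractible) disc complex on chosen injective hulls of the terms of `Y`; lifting of morphisms;
the isomorphism `Q ((CC Y)⟦-1⟧) ≅ Q Y` in the derived category and its naturality.
-/

set_option autoImplicit false
universe w v u
open CategoryTheory CategoryTheory.Limits DerivedCategory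

namespace Groth.Agent.Lib.Helper6.Tower

open Groth.Agent.Lib.Helper6.PhiRes Groth.Agent.Lib.Helper6.TwistFun

variable {A : Type u} [Category.{v} A] [Abelian A]

/-- the contraction of a disc complex -/
noncomputable def discZContract (I : ℤ → A) : Homotopy (𝟙 (discZ I)) 0 where
  hom i j := if h : j + 1 = i then ((discZ I).XIsoOfEq h).inv ≫
    (biprod.fst ≫ biprod.inr : I (j + 1) ⊞ I (j + 1 + 1) ⟶ I j ⊞ I (j + 1)) else 0
  zero i j hij := dif_neg hij
  comm i := by
    obtain ⟨j, rfl⟩ : ∃ j, i = j + 1 := ⟨i - 1, by lia⟩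
    rw [dNext_eq _ (show (ComplexShape.up ℤ).Rel (j + 1) (j + 1 + 1) from rfl),
      prevD_eq _ (show (ComplexShape.up ℤ).Rel j (j + 1) from rfl), dif_pos rfl, dif_pos rfl,
      HomologicalComplex.zero_f, add_zero, HomologicalComplex.XIsoOfEq_rfl,
      HomologicalComplex.XIsoOfEq_rfl, Iso.refl_inv, Iso.refl_inv, Category.id_comp,
      Category.id_comp, HomologicalComplex.id_f, discZ_d, discZ_d]
    show 𝟙 (I (j + 1) ⊞ I (j + 1 + 1)) =
      (biprod.snd ≫ biprod.inl) ≫ (biprod.fst ≫ biprod.inr) +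
        (biprod.fst ≫ biprod.inr) ≫ (biprod.snd ≫ biprod.inl)
    rw [Category.assoc, biprod.inl_fst_assoc, Category.assoc, biprod.inr_snd_assoc]
    exact (biprod.total (X := I (j + 1)) (Y := I (j + 1 + 1))).symm.trans (add_comm _ _)

variable [EnoughInjectives A]

/-- the disc complex on injective hulls of the terms -/
noncomputable def JJ (Y : CochainComplex A ℤ) : CochainComplex A ℤ :=
  discZ (fun i => Injective.under (Y.X i))

/-- the embedding -/
noncomputable def ιJ (Y : CochainComplex A ℤ) : Y ⟶ JJ Y :=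
  toDiscZ _ Y (fun i => Injective.ι (Y.X i))

instance (Y : CochainComplex A ℤ) : Mono (ιJ Y) :=
  mono_toDiscZ _ Y _ (fun _ => inferInstance)

instance (Y : CochainComplex A ℤ) (j : ℤ) : Injective ((JJ Y).X j) :=
  inferInstanceAs (Injective (Injective.under (Y.X j) ⊞ Injective.under (Y.X (j + 1))))

/-- the contraction of `JJ Y` -/
noncomputable def JJContract (Y : CochainComplex A ℤ) : Homotopy (𝟙 (JJ Y)) 0 := discZContract _

/-- the cokernel -/
noncomputable def CC (Y : CochainComplex A ℤ) : CochainComplex A ℤ := cokernel (ιJ Y)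

/-- the projection -/
noncomputable def πC (Y : CochainComplex A ℤ) : JJ Y ⟶ CC Y := cokernel.π (ιJ Y)

/-- the short exact sequence `0 ⟶ Y ⟶ JJ Y ⟶ CC Y ⟶ 0` -/
noncomputable abbrev ses (Y : CochainComplex A ℤ) : ShortComplex (CochainComplex A ℤ) :=
  ShortComplex.mk (ιJ Y) (πC Y) (cokernel.condition _)

lemma ses_shortExact (Y : CochainComplex A ℤ) : (ses Y).ShortExact :=
  { exact := ShortComplex.exact_of_g_is_cokernel _ (cokernelIsCokernel _)
    mono_f := inferInstanceAs (Mono (ιJ Y))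
    epi_g := inferInstanceAs (Epi (cokernel.π _)) }

/-- a lift of a morphism to the disc complexes -/
noncomputable def JJmap {Y Y' : CochainComplex A ℤ} (f : Y ⟶ Y') : JJ Y ⟶ JJ Y' :=
  discZMap (fun i => Injective.factorThru (f.f i ≫ Injective.ι (Y'.X i)) (Injective.ι (Y.X i)))

lemma ιJ_JJmap {Y Y' : CochainComplex A ℤ} (f : Y ⟶ Y') : ιJ Y ≫ JJmap f = f ≫ ιJ Y' :=
  toDiscZ_discZMap _ _ _ f (fun i => Injective.comp_factorThru _ _)

/-- the induced morphism on cokernels -/
noncomputable def CCmap {Y Y' : CochainComplex A ℤ} (f : Y ⟶ Y') : CC Y ⟶ CC Y' :=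
  cokernel.map (ιJ Y) (ιJ Y') f (JJmap f) (ιJ_JJmap f)

lemma πC_CCmap {Y Y' : CochainComplex A ℤ} (f : Y ⟶ Y') : πC Y ≫ CCmap f = JJmap f ≫ πC Y' := by
  show cokernel.π (ιJ Y) ≫ cokernel.map (ιJ Y) (ιJ Y') f (JJmap f) (ιJ_JJmap f) =
    JJmap f ≫ cokernel.π (ιJ Y')
  simp

/-- a lift of a morphism to the sequences -/
noncomputable def sesMap {Y Y' : CochainComplex A ℤ} (f : Y ⟶ Y') : ses Y ⟶ ses Y' where
  τ₁ := f
  τ₂ := JJmap f
  τ₃ := CCmap f
  comm₁₂ := (ιJ_JJmap f).symm
  comm₂₃ := (πC_CCmap f).symm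

@[simp] lemma sesMap_τ₁ {Y Y' : CochainComplex A ℤ} (f : Y ⟶ Y') : (sesMap f).τ₁ = f := rfl

@[simp] lemma sesMap_τ₃ {Y Y' : CochainComplex A ℤ} (f : Y ⟶ Y') : (sesMap f).τ₃ = CCmap f := rfl

end Groth.Agent.Lib.Helper6.Tower
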