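import Mathlib
import Groth.Agent.Lib.Helper6.TowerA

/-!
# The tower step in the derived category (helper6)
-/

set_option autoImplicit false
universe w v u
open CategoryTheory CategoryTheory.Limits DerivedCategory Pretriangulated

namespace Groth.Agent.Lib.Helper6.Tower

variable {A : Type u} [Category.{v} A] [Abelian A] [HasDerivedCategory.{w} A]

lemma isZero_Q_of_contractible (K : CochainComplex A ℤ) (h : Homotopy (𝟙 K) 0) :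
    IsZero (Q.obj K) := by
  rw [IsZero.iff_id_eq_zero, ← Q.map_id, DerivedCategory.Q_map_eq_of_homotopy _ h, Q.map_zero]

variable [EnoughInjectives A]

lemma isZero_Q_JJ (Y : CochainComplex A ℤ) : IsZero (Q.obj (JJ Y)) :=
  isZero_Q_of_contractible _ (JJContract Y)

/-- the connecting morphism `Q (CC Y) ⟶ (Q Y)⟦1⟧` -/
noncomputable def δD (Y : CochainComplex A ℤ) : Q.obj (CC Y) ⟶ (Q.obj Y)⟦(1 : ℤ)⟧ :=
  triangleOfSESδ (ses_shortExact Y)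

instance (Y : CochainComplex A ℤ) : IsIso (δD Y) :=
  (Triangle.isZero₂_iff_isIso₃ _ (triangleOfSES_distinguished (ses_shortExact Y))).1
    (isZero_Q_JJ Y)

/-- the isomorphism `Q ((CC Y)⟦-1⟧) ≅ Q Y` -/
noncomputable def vIso (Y : CochainComplex A ℤ) : Q.obj ((CC Y)⟦(-1 : ℤ)⟧) ≅ Q.obj Y :=
  (Q.commShiftIso (-1 : ℤ)).app (CC Y) ≪≫
    (shiftFunctor (DerivedCategory A) (-1 : ℤ)).mapIso (asIso (δD Y)) ≪≫
    (shiftFunctorCompIsoId (DerivedCategory A) (1 : ℤ) (-1) (by norm_num)).app (Q.obj Y)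

lemma vIso_naturality {Y Y' : CochainComplex A ℤ} (φ : ses Y ⟶ ses Y') :
    (vIso Y).hom ≫ Q.map φ.τ₁ = Q.map (φ.τ₃⟦(-1 : ℤ)⟧') ≫ (vIso Y').hom := by
  have h1 : δD Y ≫ (Q.map φ.τ₁)⟦(1 : ℤ)⟧' = Q.map φ.τ₃ ≫ δD Y' :=
    triangleOfSESδ_naturality (ses_shortExact Y) (ses_shortExact Y') φ
  have h2 : ((Q.map φ.τ₁)⟦(1 : ℤ)⟧')⟦(-1 : ℤ)⟧' ≫
      (shiftFunctorCompIsoId (DerivedCategory A) (1 : ℤ) (-1) (by norm_num)).hom.app (Q.obj Y') =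
      (shiftFunctorCompIsoId (DerivedCategory A) (1 : ℤ) (-1) (by norm_num)).hom.app (Q.obj Y) ≫
        Q.map φ.τ₁ :=
    (shiftFunctorCompIsoId (DerivedCategory A) (1 : ℤ) (-1) (by norm_num)).hom.naturality
      (Q.map φ.τ₁)
  have h3 : Q.map (φ.τ₃⟦(-1 : ℤ)⟧') ≫ (Q.commShiftIso (-1 : ℤ)).hom.app (CC Y') =
      (Q.commShiftIso (-1 : ℤ)).hom.app (CC Y) ≫ (Q.map φ.τ₃)⟦(-1 : ℤ)⟧' :=
    (Q.commShiftIso (-1 : ℤ)).hom.naturality φ.τ₃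
  have h4 : (δD Y)⟦(-1 : ℤ)⟧' ≫ ((Q.map φ.τ₁)⟦(1 : ℤ)⟧')⟦(-1 : ℤ)⟧' =
      (Q.map φ.τ₃)⟦(-1 : ℤ)⟧' ≫ (δD Y')⟦(-1 : ℤ)⟧' := by
    rw [← Functor.map_comp, ← Functor.map_comp]
    exact congrArg (shiftFunctor (DerivedCategory A) (-1 : ℤ)).map h1
  show ((Q.commShiftIso (-1 : ℤ)).hom.app (CC Y) ≫ (δD Y)⟦(-1 : ℤ)⟧' ≫
    (shiftFunctorCompIsoId (DerivedCategory A) (1 : ℤ) (-1) (by norm_num)).hom.app (Q.obj Y)) ≫
      Q.map φ.τ₁ = Q.map (φ.τ₃⟦(-1 : ℤ)⟧') ≫ ((Q.commShiftIso (-1 : ℤ)).hom.app (CC Y') ≫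
    (δD Y')⟦(-1 : ℤ)⟧' ≫
    (shiftFunctorCompIsoId (DerivedCategory A) (1 : ℤ) (-1) (by norm_num)).hom.app (Q.obj Y'))
  have e1 : ((Q.commShiftIso (-1 : ℤ)).hom.app (CC Y) ≫ (δD Y)⟦(-1 : ℤ)⟧' ≫
      (shiftFunctorCompIsoId (DerivedCategory A) (1 : ℤ) (-1) (by norm_num)).hom.app (Q.obj Y)) ≫
        Q.map φ.τ₁
      = (Q.commShiftIso (-1 : ℤ)).hom.app (CC Y) ≫ (δD Y)⟦(-1 : ℤ)⟧' ≫
        ((shiftFunctorCompIsoId (DerivedCategory A) (1 : ℤ) (-1) (by norm_num)).hom.app (Q.obj Y) ≫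
          Q.map φ.τ₁) := by simp only [Category.assoc]
  have e2 : (Q.commShiftIso (-1 : ℤ)).hom.app (CC Y) ≫ (δD Y)⟦(-1 : ℤ)⟧' ≫
        (((Q.map φ.τ₁)⟦(1 : ℤ)⟧')⟦(-1 : ℤ)⟧' ≫
          (shiftFunctorCompIsoId (DerivedCategory A) (1 : ℤ) (-1) (by norm_num)).hom.app
            (Q.obj Y')) = (Q.commShiftIso (-1 : ℤ)).hom.app (CC Y) ≫ ((δD Y)⟦(-1 : ℤ)⟧' ≫
        ((Q.map φ.τ₁)⟦(1 : ℤ)⟧')⟦(-1 : ℤ)⟧') ≫
          (shiftFunctorCompIsoId (DerivedCategory A) (1 : ℤ) (-1) (by norm_num)).hom.app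
            (Q.obj Y') := by simp only [Category.assoc]
  have e3 : (Q.commShiftIso (-1 : ℤ)).hom.app (CC Y) ≫ ((Q.map φ.τ₃)⟦(-1 : ℤ)⟧' ≫
        (δD Y')⟦(-1 : ℤ)⟧') ≫
          (shiftFunctorCompIsoId (DerivedCategory A) (1 : ℤ) (-1) (by norm_num)).hom.app
            (Q.obj Y') = ((Q.commShiftIso (-1 : ℤ)).hom.app (CC Y) ≫ (Q.map φ.τ₃)⟦(-1 : ℤ)⟧') ≫
        (δD Y')⟦(-1 : ℤ)⟧' ≫
          (shiftFunctorCompIsoId (DerivedCategory A) (1 : ℤ) (-1) (by norm_num)).hom.app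
            (Q.obj Y') := by simp only [Category.assoc]
  have e4 : (Q.map (φ.τ₃⟦(-1 : ℤ)⟧') ≫ (Q.commShiftIso (-1 : ℤ)).hom.app (CC Y')) ≫
        (δD Y')⟦(-1 : ℤ)⟧' ≫
          (shiftFunctorCompIsoId (DerivedCategory A) (1 : ℤ) (-1) (by norm_num)).hom.app
            (Q.obj Y') = Q.map (φ.τ₃⟦(-1 : ℤ)⟧') ≫ ((Q.commShiftIso (-1 : ℤ)).hom.app (CC Y') ≫
        (δD Y')⟦(-1 : ℤ)⟧' ≫
        (shiftFunctorCompIsoId (DerivedCategory A) (1 : ℤ) (-1) (by norm_num)).hom.app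
          (Q.obj Y')) := by simp only [Category.assoc]
  refine e1.trans ?_
  rw [← h2]
  refine e2.trans ?_
  rw [h4]
  refine e3.trans ?_
  rw [← h3]
  exact e4

lemma vIso_nat {Y Y' : CochainComplex A ℤ} (f : Y ⟶ Y') :
    (vIso Y).hom ≫ Q.map f = Q.map ((CCmap f)⟦(-1 : ℤ)⟧') ≫ (vIso Y').hom :=
  vIso_naturality (sesMap f)

lemma vIso_inv_nat {Y Y' : CochainComplex A ℤ} (f : Y ⟶ Y') :
    Q.map f ≫ (vIso Y').inv = (vIso Y).inv ≫ Q.map ((CCmap f)⟦(-1 : ℤ)⟧') := by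
  rw [Iso.comp_inv_eq, Category.assoc, ← vIso_nat, Iso.inv_hom_id_assoc]

end Groth.Agent.Lib.Helper6.Tower
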