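import Mathlib
import Groth.Agent.Lib.Helper6.TowerB

/-!
# The connecting chain maps of the tower and the classes `Tm` (helper6)
-/

set_option autoImplicit false
universe w w' v v' u u'
open CategoryTheory CategoryTheory.Limits DerivedCategory Pretriangulated

namespace Groth.Agent.Lib.Helper6.Tower

open Groth.Agent.Lib.Helper47.RDerLES (derivedLES)
open Groth.Agent.Lib.Helper6.PClass (mono_R0_map)

variable {A : Type u} [Category.{v} A] [Abelian A] [EnoughInjectives A]
  {B : Type u'} [Category.{v'} B] [Abelian B] (F : A ⥤ B) [F.Additive]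

/-- `RᵐF` applied termwise to cochain complexes -/
noncomputable abbrev RCh (m : ℕ) : CochainComplex A ℤ ⥤ CochainComplex B ℤ :=
  (F.rightDerived m).mapHomologicalComplex (ComplexShape.up ℤ)

/-- evaluation of a short complex of complexes in degree `j` -/
abbrev sesAt (S : ShortComplex (CochainComplex A ℤ)) (j : ℤ) : ShortComplex A :=
  S.map (HomologicalComplex.eval A (ComplexShape.up ℤ) j)

omit [EnoughInjectives A] in
lemma sesAt_shortExact (S : ShortComplex (CochainComplex A ℤ)) (hS : S.ShortExact) (j : ℤ) :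
    (sesAt S j).ShortExact :=
  hS.map_of_exact (HomologicalComplex.eval A (ComplexShape.up ℤ) j)

/-- the morphism of short complexes given by the differentials -/
def sesAtD (S : ShortComplex (CochainComplex A ℤ)) (j k : ℤ) : sesAt S j ⟶ sesAt S k where
  τ₁ := S.X₁.d j k
  τ₂ := S.X₂.d j k
  τ₃ := S.X₃.d j k
  comm₁₂ := (S.f.comm j k).symm
  comm₂₃ := (S.g.comm j k).symm

/-- the morphism of short complexes induced in degree `j` -/
def sesAtMap {S S' : ShortComplex (CochainComplex A ℤ)} (φ : S ⟶ S') (j : ℤ) :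
    sesAt S j ⟶ sesAt S' j :=
  (HomologicalComplex.eval A (ComplexShape.up ℤ) j).mapShortComplex.map φ

/-- the connecting chain map `RᵐF(X₃) ⟶ Rᵐ⁺¹F(X₁)` of a short exact sequence of complexes -/
noncomputable def bd (S : ShortComplex (CochainComplex A ℤ)) (hS : S.ShortExact) (m : ℕ) :
    (RCh F m).obj S.X₃ ⟶ (RCh F (m + 1)).obj S.X₁ where
  f j := (derivedLES F).δ (sesAt S j) (sesAt_shortExact S hS j) m (m + 1) rfl
  comm' j k _ :=
    ((derivedLES F).δ_natural (sesAt_shortExact S hS j) (sesAt_shortExact S hS k)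
      (sesAtD S j k) m (m + 1) rfl).symm

lemma bd_naturality {S S' : ShortComplex (CochainComplex A ℤ)} (hS : S.ShortExact)
    (hS' : S'.ShortExact) (φ : S ⟶ S') (m : ℕ) :
    (RCh F m).map φ.τ₃ ≫ bd F S' hS' m = bd F S hS m ≫ (RCh F (m + 1)).map φ.τ₁ := by
  ext j
  exact (derivedLES F).δ_natural (sesAt_shortExact S hS j) (sesAt_shortExact S' hS' j)
    (sesAtMap φ j) m (m + 1) rfl

lemma bd_nat {Y Y' : CochainComplex A ℤ} (f : Y ⟶ Y') (m : ℕ) :
    (RCh F m).map (CCmap f) ≫ bd F (ses Y') (ses_shortExact Y') m =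
      bd F (ses Y) (ses_shortExact Y) m ≫ (RCh F (m + 1)).map f :=
  bd_naturality F (ses_shortExact Y) (ses_shortExact Y') (sesMap f) m

lemma epi_bd_f (S : ShortComplex (CochainComplex A ℤ)) (hS : S.ShortExact) (m : ℕ) (j : ℤ)
    (h1 : IsZero ((F.rightDerived (m + 1)).obj (S.X₂.X j))) : Epi ((bd F S hS m).f j) :=
  ((derivedLES F).exact₁ (sesAt S j) (sesAt_shortExact S hS j) m (m + 1) rfl).epi_f
    (h1.eq_of_tgt _ _)

lemma mono_bd_f (S : ShortComplex (CochainComplex A ℤ)) (hS : S.ShortExact) (m : ℕ) (j : ℤ)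
    (h0 : IsZero ((F.rightDerived m).obj (S.X₂.X j))) : Mono ((bd F S hS m).f j) :=
  ((derivedLES F).exact₃ (sesAt S j) (sesAt_shortExact S hS j) m (m + 1) rfl).mono_g
    (h0.eq_of_src _ _)

lemma isIso_bd (S : ShortComplex (CochainComplex A ℤ)) (hS : S.ShortExact) (m : ℕ)
    (h0 : ∀ j, IsZero ((F.rightDerived m).obj (S.X₂.X j)))
    (h1 : ∀ j, IsZero ((F.rightDerived (m + 1)).obj (S.X₂.X j))) : IsIso (bd F S hS m) := by
  have : ∀ j, IsIso ((bd F S hS m).f j) := fun j => by
    have := epi_bd_f F S hS m j (h1 j)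
    have := mono_bd_f F S hS m j (h0 j)
    exact isIso_of_mono_of_epi _
  exact HomologicalComplex.Hom.isIso_of_components _

section Zero

variable [HasDerivedCategory.{w'} B] [PreservesFiniteLimits F]

/-- in degree `0`, the connecting map is a quasi-isomorphism when `R⁰F(X₁)`, `R⁰F(X₂)` are acyclic
and `R¹F` vanishes on the terms of `X₂`. -/
lemma isIso_Q_bd_zero (S : ShortComplex (CochainComplex A ℤ)) (hS : S.ShortExact)
    (h1 : ∀ j, IsZero ((F.rightDerived 1).obj (S.X₂.X j)))
    (hz₁ : IsZero (Q.obj ((RCh F 0).obj S.X₁))) (hz₂ : IsZero (Q.obj ((RCh F 0).obj S.X₂))) :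
    IsIso (Q.map (bd F S hS 0)) := by
  let a := (RCh F 0).map S.f
  let b := (RCh F 0).map S.g
  let c := bd F S hS 0
  have wab : a ≫ b = 0 := by
    show (RCh F 0).map S.f ≫ (RCh F 0).map S.g = 0
    rw [← Functor.map_comp, S.zero, Functor.map_zero]
  have wbc : b ≫ c = 0 := by
    ext j
    exact (derivedLES F).comp_δ (sesAt S j) (sesAt_shortExact S hS j) 0 1 rfl
  have hab : (ShortComplex.mk a b wab).Exact :=
    HomologicalComplex.exact_of_degreewise_exact _ (fun j =>
      (derivedLES F).exact₂ (sesAt S j) (sesAt_shortExact S hS j) 0)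
  have hbc : (ShortComplex.mk b c wbc).Exact :=
    HomologicalComplex.exact_of_degreewise_exact _ (fun j =>
      (derivedLES F).exact₃ (sesAt S j) (sesAt_shortExact S hS j) 0 1 rfl)
  have hmono : Mono a := HomologicalComplex.mono_of_mono_f _ (fun j => by
    have : Mono (S.f.f j) := (sesAt_shortExact S hS j).mono_f
    exact mono_R0_map F (S.f.f j))
  have hepi : Epi c := HomologicalComplex.epi_of_epi_f _ (fun j => epi_bd_f F S hS 0 j (h1 j))
  -- first sequence
  have hT1 : (ShortComplex.mk a (cokernel.π a) (cokernel.condition a)).ShortExact :=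
    { exact := ShortComplex.exact_of_g_is_cokernel _ (cokernelIsCokernel _)
      mono_f := hmono
      epi_g := inferInstanceAs (Epi (cokernel.π a)) }
  have hz₃ : IsZero (Q.obj (cokernel a)) :=
    (triangleOfSES hT1).isZero₃_of_isZero₁₂ (triangleOfSES_distinguished hT1) hz₁ hz₂
  -- second sequence
  have wdc : cokernel.desc a b wab ≫ c = 0 := by
    rw [← cancel_epi (cokernel.π a), cokernel.π_desc_assoc, wbc, comp_zero]
  have hmono2 : Mono (cokernel.desc a b wab) := hab.mono_cokernelDesc
  let φ : ShortComplex.mk b c wbc ⟶ ShortComplex.mk (cokernel.desc a b wab) c wdc :=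
    { τ₁ := cokernel.π a
      τ₂ := 𝟙 _
      τ₃ := 𝟙 _
      comm₁₂ := by
        dsimp
        rw [cokernel.π_desc, Category.comp_id]
      comm₂₃ := by
        dsimp
        rw [Category.id_comp, Category.comp_id] }
  have : Epi φ.τ₁ := inferInstanceAs (Epi (cokernel.π a))
  have : IsIso φ.τ₂ := inferInstanceAs (IsIso (𝟙 _))
  have : Mono φ.τ₃ := inferInstanceAs (Mono (𝟙 _))
  have hT2 : (ShortComplex.mk (cokernel.desc a b wab) c wdc).ShortExact :=
    { exact := (ShortComplex.exact_iff_of_epi_of_isIso_of_mono φ).1 hbc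
      mono_f := hmono2
      epi_g := hepi }
  exact (Triangle.isZero₁_iff_isIso₂ _ (triangleOfSES_distinguished hT2)).1 hz₃

end Zero

end Groth.Agent.Lib.Helper6.Tower
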