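import Mathlib
import Groth.Agent.Lib.Helper6.TowerC
import Groth.Agent.Lib.Helper6.RFUnit

/-!
# The classes `Tm` and the inductive comparison `RF (Q Y) ≅ Q (RᵐF Y)⟦-m⟧` (helper6)
-/

set_option autoImplicit false
universe w w' v v' u u'
open CategoryTheory CategoryTheory.Limits DerivedCategory Pretriangulated

namespace Groth.Agent.Lib.Helper6.Tower

open Groth.Agent.Lib.Helper47.RDerLES (derivedLES)
open Groth.Agent.Lib.Helper6.PClass (mono_R0_map)

variable {A : Type u} [Category.{v} A] [Abelian A] [HasDerivedCategory.{w} A] [EnoughInjectives A]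
  {B : Type u'} [Category.{v'} B] [Abelian B] [HasDerivedCategory.{w'} B]
  (F : A ⥤ B) [F.Additive] [PreservesFiniteLimits F]

/-- the class of complexes at stage `m` of the tower -/
def Tm (m : ℕ) (Y : CochainComplex A ℤ) : Prop :=
  (∀ (j : ℤ) (i : ℕ), 1 ≤ i → i ≠ m → IsZero ((F.rightDerived i).obj (Y.X j))) ∧
  (1 ≤ m → IsZero (Q.obj ((RCh F 0).obj Y)))

lemma acyc_of_Tm_zero (Y : CochainComplex A ℤ) (h : Tm F 0 Y) (j : ℤ) : FAcyc.Acyc F (Y.X j) :=
  fun i hi => h.1 j i hi (by lia)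

omit [HasDerivedCategory.{w} A] [PreservesFiniteLimits F] in
lemma isZero_Q_RCh_JJ (Y : CochainComplex A ℤ) : IsZero (Q.obj ((RCh F 0).obj (JJ Y))) := by
  have h := DerivedCategory.Q_map_eq_of_homotopy _ ((F.rightDerived 0).mapHomotopy (JJContract Y))
  rw [CategoryTheory.Functor.map_id, Functor.map_zero, CategoryTheory.Functor.map_id,
    Functor.map_zero] at h
  rw [IsZero.iff_id_eq_zero]
  exact h

omit [HasDerivedCategory.{w} A] in
lemma Tm_CC (m : ℕ) (Y : CochainComplex A ℤ) (h : Tm F (m + 1) Y) : Tm F m (CC Y) := by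
  constructor
  · intro j i hi him
    obtain ⟨i', rfl⟩ : ∃ i', i = i' + 1 := ⟨i - 1, by lia⟩
    have hS := sesAt_shortExact (ses Y) (ses_shortExact Y) j
    have hinj : Injective (sesAt (ses Y) j).X₂ := inferInstanceAs (Injective ((JJ Y).X j))
    exact ((derivedLES F).exact₃ _ hS (i' + 1) (i' + 1 + 1) rfl).isZero_X₂
      ((F.isZero_rightDerived_obj_injective_succ i' _).eq_of_src _ _)
      ((h.1 j (i' + 1 + 1) (by lia) (by lia)).eq_of_tgt _ _)
  · intro hm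
    have hT : ((ses Y).map (RCh F 0)).ShortExact := by
      apply HomologicalComplex.shortExact_of_degreewise_shortExact
      intro j
      have hS := sesAt_shortExact (ses Y) (ses_shortExact Y) j
      have : Mono ((ses Y).f.f j) := hS.mono_f
      exact
        { exact := (derivedLES F).exact₂ _ hS 0
          mono_f := mono_R0_map F ((ses Y).f.f j)
          epi_g := ((derivedLES F).exact₃ _ hS 0 1 rfl).epi_f
            ((h.1 j 1 le_rfl (by lia)).eq_of_tgt _ _) }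
    exact (triangleOfSES hT).isZero₃_of_isZero₁₂ (triangleOfSES_distinguished hT)
      (h.2 (by lia)) (isZero_Q_RCh_JJ F Y)

omit [HasDerivedCategory.{w} A] [PreservesFiniteLimits F] in
lemma Tm_shift (m : ℕ) (K : CochainComplex A ℤ) (a : ℤ)
    (h : Tm F m K) : Tm F m (K⟦a⟧) := by
  constructor
  · intro j i hi him
    exact h.1 (j + a) i hi him
  · intro hm
    have e : Q.obj ((RCh F 0).obj (K⟦a⟧)) ≅ (Q.obj ((RCh F 0).obj K))⟦a⟧ :=
      Q.mapIso (((RCh F 0).commShiftIso a).app K) ≪≫ (Q.commShiftIso a).app _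
    exact IsZero.of_iso ((shiftFunctor (DerivedCategory B) a).map_isZero (h.2 hm)) e

/-- the functor `Y ↦ Q (RᵐF Y)⟦-m⟧` -/
noncomputable abbrev Φ (m : ℕ) : CochainComplex A ℤ ⥤ DerivedCategory B :=
  RCh F m ⋙ Q ⋙ shiftFunctor (DerivedCategory B) (-(m : ℤ))

/-- the functor `Y ↦ Q (RᵐF Y)⟦-(m+1)⟧` -/
noncomputable abbrev Φ' (m : ℕ) : CochainComplex A ℤ ⥤ DerivedCategory B :=
  RCh F m ⋙ Q ⋙ shiftFunctor (DerivedCategory B) (-((m + 1 : ℕ) : ℤ))

/-- `Φ m (K⟦-1⟧) ≅ Q (RᵐF K)⟦-(m+1)⟧`, naturally -/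
noncomputable def Ψ (m : ℕ) :
    shiftFunctor (CochainComplex A ℤ) (-1 : ℤ) ⋙ Φ F m ≅ Φ' F m :=
  (Functor.isoWhiskerRight ((RCh F m).commShiftIso (-1 : ℤ))
      (Q ⋙ shiftFunctor (DerivedCategory B) (-(m : ℤ))) :
    shiftFunctor (CochainComplex A ℤ) (-1 : ℤ) ⋙ Φ F m ≅
      (RCh F m ⋙ shiftFunctor (CochainComplex B ℤ) (-1 : ℤ)) ⋙
        (Q ⋙ shiftFunctor (DerivedCategory B) (-(m : ℤ)))) ≪≫
  (Functor.isoWhiskerLeft (RCh F m) (Functor.isoWhiskerRight (Q.commShiftIso (-1 : ℤ))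
      (shiftFunctor (DerivedCategory B) (-(m : ℤ)))) :
    (RCh F m ⋙ shiftFunctor (CochainComplex B ℤ) (-1 : ℤ)) ⋙
        (Q ⋙ shiftFunctor (DerivedCategory B) (-(m : ℤ))) ≅
      RCh F m ⋙ ((Q ⋙ shiftFunctor (DerivedCategory B) (-1 : ℤ)) ⋙
        shiftFunctor (DerivedCategory B) (-(m : ℤ)))) ≪≫
  (Functor.isoWhiskerLeft (RCh F m) (Functor.isoWhiskerLeft Q
      (shiftFunctorAdd' (DerivedCategory B) (-1 : ℤ) (-(m : ℤ)) (-((m + 1 : ℕ) : ℤ))
        (by push_cast; ring)).symm) :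
    RCh F m ⋙ ((Q ⋙ shiftFunctor (DerivedCategory B) (-1 : ℤ)) ⋙
        shiftFunctor (DerivedCategory B) (-(m : ℤ))) ≅ Φ' F m)

end Groth.Agent.Lib.Helper6.Tower
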