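import Mathlib
import Groth.Agent.Lib.Helper6.TowerD

/-!
# The inductive comparison `RF (Q Y) ≅ Q (RᵐF Y)⟦-m⟧` on the classes `Tm` (helper6)
-/

set_option autoImplicit false
universe w w' v v' u u'
open CategoryTheory CategoryTheory.Limits DerivedCategory Pretriangulated

namespace Groth.Agent.Lib.Helper6.Tower

variable {A : Type u} [Category.{v} A] [Abelian A] [HasDerivedCategory.{w} A] [EnoughInjectives A]
  {B : Type u'} [Category.{v'} B] [Abelian B] [HasDerivedCategory.{w'} B]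
  (F : A ⥤ B) [F.Additive] [PreservesFiniteLimits F]
  (RF : DerivedCategory A ⥤ DerivedCategory B)

/-- a natural family of comparison isomorphisms on the class `Tm F m` -/
structure NatFam (m : ℕ) where
  θ : ∀ (Y : CochainComplex A ℤ), Tm F m Y → (RF.obj (Q.obj Y) ≅ (Φ F m).obj Y)
  nat : ∀ (Y Y' : CochainComplex A ℤ) (hY : Tm F m Y) (hY' : Tm F m Y') (f : Y ⟶ Y'),
    RF.map (Q.map f) ≫ (θ Y' hY').hom = (θ Y hY).hom ≫ (Φ F m).map f

omit [HasDerivedCategory.{w} A] in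
lemma isIso_Q_bd (m : ℕ) (Y : CochainComplex A ℤ) (hY : Tm F (m + 1) Y) :
    IsIso (Q.map (bd F (ses Y) (ses_shortExact Y) m)) := by
  have hinj : ∀ j, Injective ((ses Y).X₂.X j) := fun j =>
    inferInstanceAs (Injective ((JJ Y).X j))
  have h1 : ∀ j, IsZero ((F.rightDerived (m + 1)).obj ((ses Y).X₂.X j)) := fun j =>
    F.isZero_rightDerived_obj_injective_succ m _
  by_cases hm : m = 0
  · subst hm
    exact isIso_Q_bd_zero F (ses Y) (ses_shortExact Y) h1 (hY.2 (by lia)) (isZero_Q_RCh_JJ F Y)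
  · obtain ⟨m', rfl⟩ : ∃ m', m = m' + 1 := ⟨m - 1, by lia⟩
    have h0 : ∀ j, IsZero ((F.rightDerived (m' + 1)).obj ((ses Y).X₂.X j)) := fun j =>
      F.isZero_rightDerived_obj_injective_succ m' _
    have := isIso_bd F (ses Y) (ses_shortExact Y) (m' + 1) h0 h1
    infer_instance

variable (α : RFUnit.FCh F ⟶ Q ⋙ RF)
  [RF.IsRightDerivedFunctor α (HomologicalComplex.quasiIso A (ComplexShape.up ℤ))]

/-- the base case -/
noncomputable def natFamZero (N : ℕ) (hN : ∀ X : A, IsZero ((F.rightDerived N).obj X)) :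
    NatFam F RF 0 where
  θ Y hY :=
    haveI := RFUnit.isIso_unit_app F N hN RF α Y (acyc_of_Tm_zero F Y hY)
    (asIso (α.app Y)).symm ≪≫
      Q.mapIso ((NatIso.mapHomologicalComplex (F.rightDerivedZeroIsoSelf).symm
        (ComplexShape.up ℤ)).app Y) ≪≫
      (shiftFunctorZero' (DerivedCategory B) (-((0 : ℕ) : ℤ)) (by simp)).symm.app
        (Q.obj ((RCh F 0).obj Y))
  nat Y Y' hY hY' f := by
    haveI := RFUnit.isIso_unit_app F N hN RF α Y (acyc_of_Tm_zero F Y hY)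
    haveI := RFUnit.isIso_unit_app F N hN RF α Y' (acyc_of_Tm_zero F Y' hY')
    have e1 : RF.map (Q.map f) ≫ inv (α.app Y') = inv (α.app Y) ≫ (RFUnit.FCh F).map f := by
      rw [IsIso.comp_inv_eq, Category.assoc, IsIso.eq_inv_comp]
      exact (α.naturality f).symm
    have e2 : (RFUnit.FCh F).map f ≫ Q.map ((NatIso.mapHomologicalComplex
        (F.rightDerivedZeroIsoSelf).symm (ComplexShape.up ℤ)).hom.app Y') =
        Q.map ((NatIso.mapHomologicalComplex
          (F.rightDerivedZeroIsoSelf).symm (ComplexShape.up ℤ)).hom.app Y) ≫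
          Q.map ((RCh F 0).map f) := by
      show Q.map ((F.mapHomologicalComplex (ComplexShape.up ℤ)).map f) ≫ _ = _
      rw [← Q.map_comp, ← Q.map_comp]
      exact congrArg Q.map ((NatIso.mapHomologicalComplex
        (F.rightDerivedZeroIsoSelf).symm (ComplexShape.up ℤ)).hom.naturality f)
    have e3 : Q.map ((RCh F 0).map f) ≫
        (shiftFunctorZero' (DerivedCategory B) (-((0 : ℕ) : ℤ)) (by simp)).inv.app
          (Q.obj ((RCh F 0).obj Y')) =
        (shiftFunctorZero' (DerivedCategory B) (-((0 : ℕ) : ℤ)) (by simp)).inv.app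
          (Q.obj ((RCh F 0).obj Y)) ≫ (Φ F 0).map f :=
      (shiftFunctorZero' (DerivedCategory B) (-((0 : ℕ) : ℤ)) (by simp)).inv.naturality
        (Q.map ((RCh F 0).map f))
    show RF.map (Q.map f) ≫ (inv (α.app Y') ≫ Q.map ((NatIso.mapHomologicalComplex
        (F.rightDerivedZeroIsoSelf).symm (ComplexShape.up ℤ)).hom.app Y') ≫
        (shiftFunctorZero' (DerivedCategory B) (-((0 : ℕ) : ℤ)) (by simp)).inv.app
          (Q.obj ((RCh F 0).obj Y'))) =
      (inv (α.app Y) ≫ Q.map ((NatIso.mapHomologicalComplex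
        (F.rightDerivedZeroIsoSelf).symm (ComplexShape.up ℤ)).hom.app Y) ≫
        (shiftFunctorZero' (DerivedCategory B) (-((0 : ℕ) : ℤ)) (by simp)).inv.app
          (Q.obj ((RCh F 0).obj Y))) ≫ (Φ F 0).map f
    rw [reassoc_of% e1, reassoc_of% e2, e3]
    simp only [Category.assoc]

omit α in
/-- the inductive step -/
noncomputable def natFamSucc (m : ℕ) (T : NatFam F RF m) : NatFam F RF (m + 1) where
  θ Y hY :=
    RF.mapIso (vIso Y).symm ≪≫
      T.θ ((CC Y)⟦(-1 : ℤ)⟧) (Tm_shift F m _ (-1) (Tm_CC F m Y hY)) ≪≫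
      (Ψ F m).app (CC Y) ≪≫
      (shiftFunctor (DerivedCategory B) (-((m + 1 : ℕ) : ℤ))).mapIso
        (@asIso _ _ _ _ (Q.map (bd F (ses Y) (ses_shortExact Y) m)) (isIso_Q_bd F m Y hY))
  nat Y Y' hY hY' f := by
    have hC := Tm_shift F m _ (-1) (Tm_CC F m Y hY)
    have hC' := Tm_shift F m _ (-1) (Tm_CC F m Y' hY')
    have e1' : RF.map (Q.map f) ≫ RF.map (vIso Y').inv =
        RF.map (vIso Y).inv ≫ RF.map (Q.map ((CCmap f)⟦(-1 : ℤ)⟧')) := by
      rw [← RF.map_comp, ← RF.map_comp]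
      exact congrArg RF.map (vIso_inv_nat f)
    have e2 : RF.map (Q.map ((CCmap f)⟦(-1 : ℤ)⟧')) ≫
        (T.θ ((CC Y')⟦(-1 : ℤ)⟧) hC').hom =
        (T.θ ((CC Y)⟦(-1 : ℤ)⟧) hC).hom ≫ (Φ F m).map ((CCmap f)⟦(-1 : ℤ)⟧') :=
      T.nat _ _ hC hC' ((CCmap f)⟦(-1 : ℤ)⟧')
    have e3 : (Φ F m).map ((CCmap f)⟦(-1 : ℤ)⟧') ≫ (Ψ F m).hom.app (CC Y') =
        (Ψ F m).hom.app (CC Y) ≫ (Φ' F m).map (CCmap f) :=
      (Ψ F m).hom.naturality (CCmap f)
    have hb := congrArg (fun t => (shiftFunctor (DerivedCategory B) (-((m + 1 : ℕ) : ℤ))).map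
      (Q.map t)) (bd_nat F f m)
    simp only [Functor.map_comp] at hb
    show RF.map (Q.map f) ≫ (RF.map (vIso Y').inv ≫ (T.θ ((CC Y')⟦(-1 : ℤ)⟧) hC').hom ≫
        (Ψ F m).hom.app (CC Y') ≫
        (shiftFunctor (DerivedCategory B) (-((m + 1 : ℕ) : ℤ))).map
          (Q.map (bd F (ses Y') (ses_shortExact Y') m))) =
      (RF.map (vIso Y).inv ≫ (T.θ ((CC Y)⟦(-1 : ℤ)⟧) hC).hom ≫
        (Ψ F m).hom.app (CC Y) ≫
        (shiftFunctor (DerivedCategory B) (-((m + 1 : ℕ) : ℤ))).map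
          (Q.map (bd F (ses Y) (ses_shortExact Y) m))) ≫ (Φ F (m + 1)).map f
    rw [reassoc_of% e1', reassoc_of% e2, reassoc_of% e3, hb]
    simp only [Category.assoc, Functor.comp_map]

/-- the comparison family exists at every stage -/
theorem nonempty_natFam (α : RFUnit.FCh F ⟶ Q ⋙ RF)
    [RF.IsRightDerivedFunctor α (HomologicalComplex.quasiIso A (ComplexShape.up ℤ))]
    (N : ℕ) (hN : ∀ X : A, IsZero ((F.rightDerived N).obj X)) (m : ℕ) :
    Nonempty (NatFam F RF m) := by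
  induction m with
  | zero => exact ⟨natFamZero F RF α N hN⟩
  | succ m ih => exact ⟨natFamSucc F RF m ih.some⟩

end Groth.Agent.Lib.Helper6.Tower
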