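import Mathlib
import Groth.Agent.Lib.Helper6.TowerE
import Groth.Agent.Lib.Helper6.LGExist
import Groth.Agent.Lib.Helper6.ExtNatIso

/-!
# `RF ≅ L(RⁿF)⟦-n⟧` (helper6)

`F` left exact of cohomological dimension `≤ n`, every object a quotient of an object with
`RⁱF = 0` for `i ≠ n`, `G = RⁿF`.  Then any total right derived functor of `F` on `D(A)` is isomorphic
to any total left derived functor of `G` followed by the shift by `-n`.
-/

set_option autoImplicit false
universe w w' v v' u u'
open CategoryTheory CategoryTheory.Limits DerivedCategory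

namespace Groth.Agent.Lib.Helper6.LGShift

open Groth.Agent.Lib.Helper6.PClass Groth.Agent.Lib.Helper6.Tower

variable {A : Type u} [Category.{v} A] [Abelian A] [HasDerivedCategory.{w} A] [EnoughInjectives A]
  {B : Type u'} [Category.{v'} B] [Abelian B] [HasDerivedCategory.{w'} B]
  (F : A ⥤ B) [F.Additive] [PreservesFiniteLimits F] (n : ℕ) [(F.rightDerived n).Additive]

omit [HasDerivedCategory.{w} A] [PreservesFiniteLimits F] [(F.rightDerived n).Additive] in
lemma Tm_of_pp (X : CochainComplex A ℤ) (hX : ∀ k, PP F n (X.X k)) : Tm F n X := by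
  constructor
  · intro j i _ hin
    exact hX j i hin
  · intro hn
    have hz : IsZero ((RCh F 0).obj X) := by
      rw [IsZero.iff_id_eq_zero]
      ext j
      exact (hX j 0 (by lia)).eq_of_src _ _
    exact Functor.map_isZero Q hz

variable (hdim : ∀ (X : A) (i : ℕ), n < i → IsZero ((F.rightDerived i).obj X))
  (hP : ∀ X : A, ∃ (Y : A) (p : Y ⟶ X), Epi p ∧ PP F n Y)

include hdim hP in
theorem nonempty_iso (RF : DerivedCategory A ⥤ DerivedCategory B)
    (α : RFUnit.FCh F ⟶ Q ⋙ RF)
    [RF.IsRightDerivedFunctor α (HomologicalComplex.quasiIso A (ComplexShape.up ℤ))]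
    (LG : DerivedCategory A ⥤ DerivedCategory B) (β : Q ⋙ LG ⟶ LGExist.GCh F n)
    [LG.IsLeftDerivedFunctor β (HomologicalComplex.quasiIso A (ComplexShape.up ℤ))] :
    Nonempty (RF ≅ LG ⋙ shiftFunctor (DerivedCategory B) (-(n : ℤ))) := by
  obtain ⟨T⟩ := Tower.nonempty_natFam F RF α (n + 1) (fun X => hdim X (n + 1) (by lia)) n
  have hiso : ∀ (X : CochainComplex A ℤ), (∀ k, PP F n (X.X k)) → IsIso (β.app X) :=
    fun X hX => LGExist.isIso_counit_app F n hdim hP LG β X hX
  refine ExtNatIso.nonempty_natIso RF (LG ⋙ shiftFunctor (DerivedCategory B) (-(n : ℤ)))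
    (fun X => ∀ k, PP F n (X.X k)) (LGExist.exists_resolution F n hdim hP)
    (fun X hX => T.θ X (Tm_of_pp F n X hX) ≪≫
      (shiftFunctor (DerivedCategory B) (-(n : ℤ))).mapIso
        (@asIso _ _ _ _ (β.app X) (hiso X hX)).symm) ?_
  intro X X' hX hX' f
  haveI := hiso X hX
  haveI := hiso X' hX'
  have e1 := T.nat X X' (Tm_of_pp F n X hX) (Tm_of_pp F n X' hX') f
  have e2 : Q.map ((RCh F n).map f) ≫ inv (β.app X') = inv (β.app X) ≫ LG.map (Q.map f) := by
    rw [IsIso.comp_inv_eq, Category.assoc, IsIso.eq_inv_comp]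
    exact (β.naturality f).symm
  have e2' := congrArg (shiftFunctor (DerivedCategory B) (-(n : ℤ))).map e2
  simp only [Functor.map_comp] at e2'
  show RF.map (Q.map f) ≫ ((T.θ X' (Tm_of_pp F n X' hX')).hom ≫
      (shiftFunctor (DerivedCategory B) (-(n : ℤ))).map (inv (β.app X'))) =
    ((T.θ X (Tm_of_pp F n X hX)).hom ≫
      (shiftFunctor (DerivedCategory B) (-(n : ℤ))).map (inv (β.app X))) ≫
      (shiftFunctor (DerivedCategory B) (-(n : ℤ))).map (LG.map (Q.map f))
  rw [reassoc_of% e1]
  simp only [Category.assoc, Functor.comp_map]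
  rw [e2']

end Groth.Agent.Lib.Helper6.LGShift
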