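import Mathlib
import Groth.Prelude.Def_DDual2
import Groth.Prelude.Def_CxOX
import Groth.Agent.Lib.Helper6.PullComp

/-!
# `Lj^*` for an open immersion is restriction, and `Lf^*` commutes with restriction (helper6)

* `lpullOpenIso j : Lj^* ≅ restrictD j` for an open immersion `j`;
* `nonempty_restrict_comp_iso f V`: `Lf^* ⋙ (-)|_{f⁻¹V} ≅ (-)|_V ⋙ L(f|_V)^*`.
-/

set_option autoImplicit false
set_option linter.style.haveILetI false
universe u
open CategoryTheory CategoryTheory.Limits AlgebraicGeometry TopologicalSpace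

attribute [local instance] HasDerivedCategory.standard

namespace Groth.Agent.Lib.Helper6.LpullOpen

open Groth.Agent.Lib.Helper6.PullDer Groth.Agent.Lib.Helper6.PullComp

section General

variable {V W : Type*} [Category V] [Category W] [Preadditive V] [Preadditive W]
  {ι : Type*}

/-- a natural isomorphism induces an isomorphism of the induced functors on homotopy categories -/
def mapHomotopyCategoryIso {F G : V ⥤ W} [F.Additive] [G.Additive] (α : F ≅ G)
    (c : ComplexShape ι) : F.mapHomotopyCategory c ≅ G.mapHomotopyCategory c where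
  hom := NatTrans.mapHomotopyCategory α.hom c
  inv := NatTrans.mapHomotopyCategory α.inv c
  hom_inv_id := by
    rw [← NatTrans.mapHomotopyCategory_comp, α.hom_inv_id, NatTrans.mapHomotopyCategory_id]
  inv_hom_id := by
    rw [← NatTrans.mapHomotopyCategory_comp, α.inv_hom_id, NatTrans.mapHomotopyCategory_id]

end General

variable {X Y : Scheme.{u}}

/-- derived pullbacks along equal morphisms -/
noncomputable def lpullCongr {f g : X ⟶ Y} (h : f = g) [DCoh.HasLpull f] [DCoh.HasLpull g] :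
    DCoh.Lpull f ≅ DCoh.Lpull g := by
  subst h
  exact Iso.refl _

section Open

variable {U : Scheme.{u}} (j : U ⟶ Y) [IsOpenImmersion j]

/-- for an open immersion, pullback is restriction -/
noncomputable def pullbackIsoRestrict :
    Scheme.Modules.pullback j ≅ Scheme.Modules.restrictFunctor j :=
  (Scheme.Modules.pullbackPushforwardAdjunction j).leftAdjointUniq
    (Scheme.Modules.restrictAdjunction j)

/-- `Qh ⋙ restrictD j ≅ pullKh j` -/
noncomputable def eOpen : DerivedCategory.Qh ⋙ DCoh.restrictD j ≅ DCoh.pullKh j :=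
  (Scheme.Modules.restrictFunctor j).mapDerivedCategoryFactorsh ≪≫
    Functor.isoWhiskerRight (mapHomotopyCategoryIso (pullbackIsoRestrict j).symm
      (ComplexShape.up ℤ)) DerivedCategory.Qh

instance : (DCoh.restrictD j).IsLeftDerivedFunctor (eOpen j).hom
    (HomotopyCategory.quasiIso Y.Modules (ComplexShape.up ℤ)) :=
  Functor.isLeftDerivedFunctor_of_inverts _ _ _

/-- `Lj^* ≅ restrictD j` -/
noncomputable def lpullOpenIso [DCoh.HasLpull j] : DCoh.Lpull j ≅ DCoh.restrictD j :=
  Functor.leftDerivedUnique (DCoh.restrictD j) (DCoh.Lpull j)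
    ((DCoh.pullKh j).totalLeftDerivedCounit DerivedCategory.Qh
      (HomotopyCategory.quasiIso Y.Modules (ComplexShape.up ℤ)))
    (eOpen j).hom (HomotopyCategory.quasiIso Y.Modules (ComplexShape.up ℤ))

end Open

/-- `Lf^*` commutes with restriction to opens -/
theorem nonempty_restrict_comp_iso (f : X ⟶ Y) (VY : Y.Opens) [DCoh.HasLpull f]
    [DCoh.HasLpull (f ∣_ VY)] :
    Nonempty (DCoh.Lpull f ⋙ DCoh.restrictD (f ⁻¹ᵁ VY).ι ≅
      DCoh.restrictD VY.ι ⋙ DCoh.Lpull (f ∣_ VY)) := by
  haveI := hasLpull (f ⁻¹ᵁ VY).ι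
  haveI := hasLpull VY.ι
  haveI := hasLpull ((f ⁻¹ᵁ VY).ι ≫ f)
  haveI := hasLpull ((f ∣_ VY) ≫ VY.ι)
  obtain ⟨e2⟩ := nonempty_comp_iso (f ⁻¹ᵁ VY).ι f
  obtain ⟨e4⟩ := nonempty_comp_iso (f ∣_ VY) VY.ι
  exact ⟨Functor.isoWhiskerLeft _ (lpullOpenIso (f ⁻¹ᵁ VY).ι).symm ≪≫ e2 ≪≫
    lpullCongr (morphismRestrict_ι f VY).symm ≪≫ e4.symm ≪≫
    Functor.isoWhiskerRight (lpullOpenIso VY.ι) _⟩

end Groth.Agent.Lib.Helper6.LpullOpen
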