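import Mathlib
import Groth.Agent.Lib.Helper6.LpullOpen
import Groth.Agent.Lib.Helper6.BddOrth
import Groth.Agent.Lib.Helper99.SPerf6
import Groth.Agent.Lib.QCoh.Helper74_LocFreeLift

/-!
# The derived pullback of a perfect complex is perfect (helper6)

* `relProj_structureModule`, `relProj_freeMod`: free modules of finite rank are projective
  relatively to the sectionwise acyclic complexes;
* `leftOrth_of_freeCx`: bounded complexes of finite free modules are in `LeftOrth (𝒵 Y)`, hence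
  `Lf^*` is computed termwise on them (`isIso_αCh_app`);
* `isPerfect_Lpull`: `Lf^*` preserves perfect objects.
-/

set_option autoImplicit false
set_option linter.style.haveILetI false
universe u
open CategoryTheory CategoryTheory.Limits AlgebraicGeometry TopologicalSpace Opposite

attribute [local instance] HasDerivedCategory.standard

namespace Groth.Agent.Lib.Helper6.PerfPull

open Groth.Agent.Lib.Helper6.CellOrth Groth.Agent.Lib.Helper6.PullDer
  Groth.Agent.Lib.Helper6.PullComp Groth.Agent.Lib.Helper6.LpullOpen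
  Groth.Agent.Lib.Helper99.SPerf Groth.Agent.Lib.QCoh

variable {X Y : Scheme.{u}}

/-- the structure sheaf is projective relatively to the sectionwise acyclic complexes -/
lemma relProj_structureModule (Y : Scheme.{u}) : RelProj (𝒵 Y) (Coh.structureModule Y) := by
  intro Z hZ q' q hq u hu
  have hZ' := (SectAcyc.sectAcyclic_iff (J := Opens.grothendieckTopology Y) (O := Y.sheaf) Z).1 hZ
  have hs : (Z.d q (q + 1)).app ⊤ (u.app ⊤ (1 : Γ(Y, ⊤))) = 0 := by
    have h := congrArg (fun w : Coh.structureModule Y ⟶ Z.X (q + 1) => w.app ⊤ (1 : Γ(Y, ⊤))) hu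
    exact h
  obtain ⟨t, ht⟩ := hZ' ⊤ q' q hq (u.app ⊤ (1 : Γ(Y, ⊤))) hs
  refine ⟨Lift74.unitHomOfTop (Z.X q') t, ?_⟩
  apply Lift74.unitHom_ext
  rw [Scheme.Modules.Hom.comp_app, ConcreteCategory.comp_apply, Lift74.unitHomOfTop_app_one]
  exact ht

lemma relProj_freeMod (Y : Scheme.{u}) (n : ℕ) : RelProj (𝒵 Y) (FlatMod.freeMod Y n) :=
  SectAcyc.relProj_sigma _ (fun _ => relProj_structureModule Y)

/-- bounded complexes of finite free modules are in the left orthogonal of the sectionwise acyclic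
complexes -/
theorem leftOrth_of_freeCx (P : CochainComplex Y.Modules ℤ) (h : FreeCx P) :
    LeftOrth (𝒵 Y) P := by
  obtain ⟨a, b, hab, hf⟩ := h
  refine BddOrth.leftOrth_of_bounded P a b (fun p hp => hab p (Or.inl hp))
    (fun p hp => hab p (Or.inr hp)) (fun p => ?_)
  obtain ⟨n, ⟨e⟩⟩ := hf p
  exact SectAcyc.relProj_of_iso e.symm (relProj_freeMod Y n)

theorem freeCx_pullCh (f : X ⟶ Y) (P : CochainComplex Y.Modules ℤ) (h : FreeCx P) :
    FreeCx ((pullCh f).obj P) := by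
  obtain ⟨a, b, hab, hf⟩ := h
  refine ⟨a, b, fun i hi => (Scheme.Modules.pullback f).map_isZero (hab i hi), fun i => ?_⟩
  obtain ⟨n, ⟨e⟩⟩ := hf i
  exact ⟨n, ⟨(Scheme.Modules.pullback f).mapIso e ≪≫ pullbackFreeModIso f n⟩⟩

/-- **`Lf^*` preserves perfect objects** -/
theorem isPerfect_Lpull (f : X ⟶ Y) [DCoh.HasLpull f] (E : DCoh.D Y) (hE : DCoh.IsPerfect E) :
    DCoh.IsPerfect ((DCoh.Lpull f).obj E) := by
  rw [isPerfect_iff_free] at hE ⊢
  intro x
  obtain ⟨VY, hy, P₀, hP₀, ⟨e⟩⟩ := hE (f.base x)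
  haveI := hasLpull (f ∣_ VY)
  obtain ⟨φ⟩ := nonempty_restrict_comp_iso f VY
  haveI := isIso_αCh_app (f ∣_ VY) P₀ (leftOrth_of_freeCx P₀ hP₀)
  exact ⟨f ⁻¹ᵁ VY, hy, (pullCh (f ∣_ VY)).obj P₀, freeCx_pullCh _ P₀ hP₀,
    ⟨φ.app E ≪≫ (DCoh.Lpull (f ∣_ VY)).mapIso e ≪≫ asIso ((αCh (f ∣_ VY)).app P₀)⟩⟩

end Groth.Agent.Lib.Helper6.PerfPull
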