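import Mathlib
import Groth.Agent.Lib.Helper6.PerfPull
import Groth.Agent.Lib.Helper6.CellOrthBdd
import Groth.Agent.Lib.Helper99.SPerf7

/-!
# The derived pullback of an `m`-pseudo-coherent complex is `m`-pseudo-coherent (helper6)

* `isLE_pullCh`: `f^*` is right t-exact on `LeftOrth (𝒵 Y)`;
* `cond_Q_map_iff`, `chainCond_iff_isLE_mappingCone`: the approximation condition `Cond m` in terms of
  the mapping cone;
* `cond_Lpull_map`: `Lf^*` preserves `Cond m`;
* `isPseudoCoherentD_Lpull`: `Lf^*` preserves `m`-pseudo-coherent objects.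
-/

set_option autoImplicit false
set_option linter.style.haveILetI false
universe u
open CategoryTheory CategoryTheory.Limits AlgebraicGeometry TopologicalSpace Opposite
  CochainComplex HomologicalComplex

attribute [local instance] HasDerivedCategory.standard

namespace Groth.Agent.Lib.Helper6.PCPull

open Groth.Agent.Lib.Helper6.CellOrth Groth.Agent.Lib.Helper6.PullDer
  Groth.Agent.Lib.Helper6.PullComp Groth.Agent.Lib.Helper6.LpullOpen
  Groth.Agent.Lib.Helper6.PerfPull Groth.Agent.Lib.Helper6.CellOrthBdd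
  Groth.Agent.Lib.Helper99.SPerf Groth.Agent.Lib.QCoh

section Abstract

variable {C : Type*} [Category C] [Abelian C] [HasDerivedCategory C]

theorem cond_Q_map_iff {E F : CochainComplex C ℤ} (t : E ⟶ F) (m : ℤ) :
    Cond m (DerivedCategory.Q.map t) ↔
      (∀ i : ℤ, m < i → IsIso (homologyMap t i)) ∧ Epi (homologyMap t m) := by
  constructor
  · intro h
    have key : ∀ i : ℤ, (HomologicalComplex.homologyFunctor C (ComplexShape.up ℤ) i).map t =
        (DerivedCategory.homologyFunctorFactors C i).inv.app E ≫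
        (DerivedCategory.homologyFunctor C i).map (DerivedCategory.Q.map t) ≫
        (DerivedCategory.homologyFunctorFactors C i).hom.app F := by
      intro i
      have := (DerivedCategory.homologyFunctorFactors C i).hom.naturality t
      dsimp only [Functor.comp_map] at this
      rw [this, Iso.inv_hom_id_app_assoc]
    refine ⟨fun i hi => ?_, ?_⟩
    · haveI := h.1 i hi
      change IsIso ((HomologicalComplex.homologyFunctor C (ComplexShape.up ℤ) i).map t)
      rw [key]
      infer_instance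
    · haveI := h.2
      change Epi ((HomologicalComplex.homologyFunctor C (ComplexShape.up ℤ) m).map t)
      rw [key]
      infer_instance
  · intro h
    exact Cond.of_Q_map t h.1 h.2

theorem chainCond_iff_isLE_mappingCone {E F : CochainComplex C ℤ} (t : E ⟶ F) (m : ℤ) :
    ((∀ i : ℤ, m < i → IsIso (homologyMap t i)) ∧ Epi (homologyMap t m)) ↔
      (mappingCone t).IsLE (m - 1) := by
  rw [CochainComplex.isLE_iff]
  have hT := DerivedCategory.mappingCone_triangle_distinguished t
  constructor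
  · intro h i hi
    rw [exactAt_iff_isZero_homology]
    refine isZero_homology_mappingCone t i ?_ ?_
    · rcases eq_or_lt_of_le (show m ≤ i by lia) with rfl | h'
      · exact h.2
      · haveI := h.1 i h'
        infer_instance
    · haveI := h.1 (i + 1) (by lia)
      infer_instance
  · intro h
    have hz : ∀ i : ℤ, m ≤ i → IsZero ((mappingCone t).homology i) := fun i hi =>
      (exactAt_iff_isZero_homology _ _).1 (h i (by lia))
    have hepi : ∀ i : ℤ, m ≤ i → Epi (homologyMap t i) := fun i hi =>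
      (homologyMap_exact₂_of_distTriang _ hT i).epi_f ((hz i hi).eq_of_tgt _ _)
    have hmono : ∀ i : ℤ, m ≤ i → Mono (homologyMap t (i + 1)) := fun i hi =>
      (homologyMap_exact₁_of_distTriang _ hT i (i + 1) rfl).mono_g ((hz i hi).eq_of_src _ _)
    refine ⟨fun i hi => ?_, hepi m le_rfl⟩
    haveI := hepi i hi.le
    haveI : Mono (homologyMap t i) := by
      have := hmono (i - 1) (by lia)
      rwa [sub_add_cancel] at this
    exact isIso_of_mono_of_epi _

end Abstract

variable {X Y : Scheme.{u}}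

/-- `f^*` is right t-exact on the left orthogonal of the sectionwise acyclic complexes -/
theorem isLE_pullCh (f : X ⟶ Y) (P : CochainComplex Y.Modules ℤ) (hP : LeftOrth (𝒵 Y) P)
    (n : ℤ) [P.IsLE n] : ((pullCh f).obj P).IsLE n := by
  obtain ⟨K, r, hr, hK, hKz⟩ := exists_resolution_bdd (hepi (Y := Y)) (P.truncLE n) n
    (fun i hi => (P.truncLE n).isZero_of_isStrictlyLE n i hi)
  let φ : K ⟶ P := r ≫ P.ιTruncLE n
  have hφ : QuasiIso φ := inferInstance
  have hcone : (mappingCone φ).Acyclic :=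
    (Groth.Agent.Lib.Helper94.KFlatAbs.quasiIso_iff_acyclic_mappingCone φ).1 hφ
  have hcone' := acyclic_pullback f _ hcone (leftOrth_mappingCone φ hK hP)
  have hq : QuasiIso ((pullCh f).map φ) := by
    rw [Groth.Agent.Lib.Helper94.KFlatAbs.quasiIso_iff_acyclic_mappingCone]
    intro i
    exact (hcone' i).of_iso (mappingCone.mapHomologicalComplexIso φ (Scheme.Modules.pullback f))
  rw [CochainComplex.isLE_iff]
  intro i hi
  have hz : IsZero (((pullCh f).obj K).X i) :=
    (Scheme.Modules.pullback f).map_isZero (hKz i hi)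
  exact (exactAt_iff_of_quasiIsoAt ((pullCh f).map φ) i).1 (ExactAt.of_isZero hz)

/-- `f^*` preserves the approximation condition for maps between complexes of the left
orthogonal -/
theorem cond_pullCh (f : X ⟶ Y) {P₁ P₂ : CochainComplex Y.Modules ℤ} (φ : P₁ ⟶ P₂)
    (h₁ : LeftOrth (𝒵 Y) P₁) (h₂ : LeftOrth (𝒵 Y) P₂) (m : ℤ)
    (hφ : Cond m (DerivedCategory.Q.map φ)) :
    Cond m (DerivedCategory.Q.map ((pullCh f).map φ)) := by
  rw [cond_Q_map_iff, chainCond_iff_isLE_mappingCone] at hφ ⊢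
  haveI := hφ
  haveI := isLE_pullCh f (mappingCone φ) (leftOrth_mappingCone φ h₁ h₂) (m - 1)
  exact CochainComplex.isLE_of_iso
    (mappingCone.mapHomologicalComplexIso φ (Scheme.Modules.pullback f)) (m - 1)

/-- `Lf^*` preserves the approximation condition -/
theorem cond_Lpull_map (f : X ⟶ Y) [DCoh.HasLpull f] {A B : DCoh.D Y} (α : A ⟶ B) (m : ℤ)
    (hα : Cond m α) : Cond m ((DCoh.Lpull f).map α) := by
  obtain ⟨PA, pA, hpA, hPA⟩ := hres ((DerivedCategory.Q : _ ⥤ DCoh.D Y).objPreimage A)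
  obtain ⟨PB, pB, hpB, hPB⟩ := hres ((DerivedCategory.Q : _ ⥤ DCoh.D Y).objPreimage B)
  haveI : IsIso (DerivedCategory.Q.map pA) := by
    rw [DerivedCategory.isIso_Q_map_iff_quasiIso]; exact hpA
  haveI : IsIso (DerivedCategory.Q.map pB) := by
    rw [DerivedCategory.isIso_Q_map_iff_quasiIso]; exact hpB
  let eA : DerivedCategory.Q.obj PA ≅ A :=
    asIso (DerivedCategory.Q.map pA) ≪≫ DerivedCategory.Q.objObjPreimageIso A
  let eB : DerivedCategory.Q.obj PB ≅ B :=
    asIso (DerivedCategory.Q.map pB) ≪≫ DerivedCategory.Q.objObjPreimageIso B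
  let α' : DerivedCategory.Q.obj PA ⟶ DerivedCategory.Q.obj PB := eA.hom ≫ α ≫ eB.inv
  have hα' : Cond m α' := Cond.comp (Cond.of_isIso _) (Cond.comp hα (Cond.of_isIso _))
  have hα'' : α = eA.inv ≫ α' ≫ eB.hom := by simp [α']
  rw [hα'', Functor.map_comp, Functor.map_comp]
  refine Cond.comp (Cond.of_isIso _) (Cond.comp ?_ (Cond.of_isIso _))
  obtain ⟨X₂, s, hs, g₀, hfac⟩ := DerivedCategory.right_fac α'
  obtain ⟨P₂, p, hp, hP₂⟩ := hres X₂
  haveI : IsIso (DerivedCategory.Q.map p) := by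
    rw [DerivedCategory.isIso_Q_map_iff_quasiIso]; exact hp
  haveI : IsIso (DerivedCategory.Q.map (p ≫ s)) := by
    rw [DerivedCategory.Q.map_comp]; infer_instance
  have e1 : α' = inv (DerivedCategory.Q.map (p ≫ s)) ≫ DerivedCategory.Q.map (p ≫ g₀) := by
    rw [hfac, IsIso.eq_inv_comp, DerivedCategory.Q.map_comp, DerivedCategory.Q.map_comp,
      Category.assoc, IsIso.hom_inv_id_assoc]
  have hg : Cond m (DerivedCategory.Q.map (p ≫ g₀)) := by
    have h : DerivedCategory.Q.map (p ≫ g₀) = DerivedCategory.Q.map (p ≫ s) ≫ α' := by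
      rw [e1, IsIso.hom_inv_id_assoc]
    rw [h]
    exact Cond.comp (Cond.of_isIso _) hα'
  rw [e1, Functor.map_comp, Functor.map_inv]
  refine Cond.comp (Cond.of_isIso _) ?_
  have nat := (αCh f).naturality (p ≫ g₀)
  haveI := isIso_αCh_app f P₂ hP₂
  haveI := isIso_αCh_app f PB hPB
  have h : (DCoh.Lpull f).map (DerivedCategory.Q.map (p ≫ g₀)) = (αCh f).app P₂ ≫
      DerivedCategory.Q.map ((pullCh f).map (p ≫ g₀)) ≫ inv ((αCh f).app PB) := by
    rw [← Category.assoc, IsIso.eq_comp_inv]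
    exact nat
  rw [h]
  exact Cond.comp (Cond.of_isIso _) (Cond.comp (cond_pullCh f _ hP₂ hPB m hg) (Cond.of_isIso _))

/-- the local property underlying `m`-pseudo-coherence, with finite free complexes -/
def PCFreeProp (m : ℤ) (K : DCoh.D X) (U : Scheme.{u}) (Φ : DCoh.D X ⥤ DCoh.D U) : Prop :=
  ∃ (E : CochainComplex U.Modules ℤ) (α : DerivedCategory.Q.obj E ⟶ Φ.obj K),
    FreeCx E ∧ Cond m α

theorem isLocalProp_pcFree (m : ℤ) (K : DCoh.D X) : IsLocalProp (PCFreeProp m K) where
  post Φ k _ h := by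
    obtain ⟨E, α, hE, hα⟩ := h
    exact ⟨(restrCx k).obj E, (restrictDQIso k E).inv ≫ (DCoh.restrictD k).map α,
      hE.restrict k, Cond.comp (Cond.of_isIso _) (hα.map_restrictD k)⟩
  iso e h := by
    obtain ⟨E, α, hE, hα⟩ := h
    exact ⟨E, α ≫ e.hom.app K, hE, Cond.comp hα (Cond.of_isIso _)⟩

theorem exists_pcFree (m : ℤ) (K : DCoh.D X) (hK : DCoh.IsPseudoCoherentD m K) (x : X) :
    ∃ V : X.Opens, x ∈ V ∧ PCFreeProp m K V (DCoh.restrictD V.ι) := by
  obtain ⟨V, hx, E, α, hE, hα⟩ := (isPseudoCoherentD_iff m K).1 hK x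
  obtain ⟨W, hxW, hW⟩ := exists_free_nbhd E hE (⟨x, hx⟩ : (V : Scheme.{u}))
  exact (isLocalProp_pcFree m K).of_two_step V W x hx hxW
    ⟨_, (restrictDQIso W.ι E).inv ≫ (DCoh.restrictD W.ι).map α, hW,
      Cond.comp (Cond.of_isIso _) (hα.map_restrictD W.ι)⟩

/-- **`Lf^*` preserves `m`-pseudo-coherent objects** -/
theorem isPseudoCoherentD_Lpull (f : X ⟶ Y) [DCoh.HasLpull f] (m : ℤ) (E : DCoh.D Y)
    (hE : DCoh.IsPseudoCoherentD m E) : DCoh.IsPseudoCoherentD m ((DCoh.Lpull f).obj E) := by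
  rw [isPseudoCoherentD_iff]
  intro x
  obtain ⟨VY, hy, E₀, α, hE₀, hα⟩ := exists_pcFree m E hE (f.base x)
  haveI := hasLpull (f ∣_ VY)
  obtain ⟨φ⟩ := nonempty_restrict_comp_iso f VY
  haveI := isIso_αCh_app (f ∣_ VY) E₀ (leftOrth_of_freeCx E₀ hE₀)
  refine ⟨f ⁻¹ᵁ VY, hy, (pullCh (f ∣_ VY)).obj E₀,
    inv ((αCh (f ∣_ VY)).app E₀) ≫ (DCoh.Lpull (f ∣_ VY)).map α ≫ (φ.app E).inv,
    (freeCx_pullCh _ E₀ hE₀).isStrictlyPerfect, ?_⟩
  exact Cond.comp (Cond.of_isIso _) (Cond.comp (cond_Lpull_map _ α m hα) (Cond.of_isIso _))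

end Groth.Agent.Lib.Helper6.PCPull
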