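import Mathlib
import Groth.Agent.Lib.Helper6.QcCover
import Groth.Agent.Lib.Helper6.FGAbstract

/-!
# Type A modules on a ringed site with quasi-compact generators: kernels and extensions
(helper6)
-/

set_option autoImplicit false
set_option linter.unusedSectionVars false
set_option linter.style.haveILetI false

universe u

namespace Groth.Agent.Lib.Helper6.QcCoh

open CategoryTheory CategoryTheory.Limits Opposite ModSite
open Groth.Agent.Lib.Helper94.JShriek Groth.Agent.Lib.Helper6.FreeOnClass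
  Groth.Agent.Lib.Helper6.QcFinite Groth.Agent.Lib.Helper6.QcCover
  Groth.Agent.Lib.Helper6.FGAbstract

variable {C : Type u} [SmallCategory C] {J : GrothendieckTopology C}
  (O : Sheaf J CommRingCat.{u}) (B : Set C)

/-- finite direct sums of `j_{U!} O_U`, `U ∈ B` -/
def IsBFree : ObjectProperty (Mod O) := fun P =>
  ∃ (n : ℕ) (U : Fin n → C), (∀ i, U i ∈ B) ∧ Nonempty (P ≅ ∐ fun i => freeOn O (U i))

variable {O B}

lemma IsBFree.of_iso {P Q : Mod O} (h : IsBFree O B P) (e : Q ≅ P) : IsBFree O B Q := by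
  obtain ⟨n, U, hU, ⟨e'⟩⟩ := h
  exact ⟨n, U, hU, ⟨e ≪≫ e'⟩⟩

lemma isBFree_of_fintype {T : Type*} [Fintype T] (U : T → C) (hU : ∀ t, U t ∈ B) :
    IsBFree O B (∐ fun t => freeOn O (U t)) := by
  let e₁ := (Fintype.equivFin T).symm
  refine ⟨_, fun j => U (e₁ j), fun j => hU _, ⟨?_⟩⟩
  exact (Sigma.whiskerEquiv (f := fun j => freeOn O (U (e₁ j))) (g := fun j => freeOn O (U j)) e₁
      (fun j => Iso.refl _)).symm

lemma fp_iff_isTypeA (F : Mod O) : FP (IsBFree O B) F ↔ IsTypeA O B F := by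
  constructor
  · rintro ⟨R, P, ⟨m, V, hV, ⟨eR⟩⟩, ⟨n, U, hU, ⟨eP⟩⟩, ψ, ⟨e⟩⟩
    refine ⟨m, n, V, U, eR.inv ≫ ψ ≫ eP.hom, hV, hU, ⟨e ≪≫ ?_⟩⟩
    exact cokernel.mapIso ψ (eR.inv ≫ ψ ≫ eP.hom) eR eP (by simp)
  · rintro ⟨m, n, V, U, ψ, hV, hU, ⟨e⟩⟩
    exact ⟨_, _, ⟨m, V, hV, ⟨Iso.refl _⟩⟩, ⟨n, U, hU, ⟨Iso.refl _⟩⟩, ψ, ⟨e⟩⟩

/-- binary biproducts of finite coproducts -/
noncomputable def biprodSigmaIso {T T' : Type} [Fintype T] [Fintype T'] (X : T → Mod O)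
    (X' : T' → Mod O) : (∐ X) ⊞ (∐ X') ≅ ∐ (Sum.elim X X') where
  hom := biprod.desc (Sigma.desc (fun t => Sigma.ι (Sum.elim X X') (Sum.inl t)))
    (Sigma.desc (fun t => Sigma.ι (Sum.elim X X') (Sum.inr t)))
  inv := Sigma.desc (fun t => Sum.rec (motive := fun t => Sum.elim X X' t ⟶ (∐ X) ⊞ (∐ X'))
    (fun a => Sigma.ι X a ≫ biprod.inl) (fun b => Sigma.ι X' b ≫ biprod.inr) t)
  hom_inv_id := by
    apply biprod.hom_ext'
    · refine Sigma.hom_ext _ _ (fun t => ?_)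
      rw [biprod.inl_desc_assoc, Sigma.ι_desc_assoc, Category.comp_id]
      exact Sigma.ι_desc _ _
    · refine Sigma.hom_ext _ _ (fun t => ?_)
      rw [biprod.inr_desc_assoc, Sigma.ι_desc_assoc, Category.comp_id]
      exact Sigma.ι_desc _ _
  inv_hom_id := by
    refine Sigma.hom_ext _ _ (fun t => ?_)
    rw [Sigma.ι_desc_assoc, Category.comp_id]
    cases t with
    | inl a =>
      change (Sigma.ι X a ≫ biprod.inl) ≫ _ = _
      rw [Category.assoc, biprod.inl_desc, Sigma.ι_desc]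
    | inr b =>
      change (Sigma.ι X' b ≫ biprod.inr) ≫ _ = _
      rw [Category.assoc, biprod.inr_desc, Sigma.ι_desc]

section Hyp

variable (hB₁ : ∀ X : C, ∃ (κ : Type u) (Y : κ → C) (g : ∀ k, Y k ⟶ X),
    Sieve.ofArrows Y g ∈ J X ∧ ∀ k, Y k ∈ B)
  (hB₂ : ∀ U ∈ B, CohCx.IsQcObject (hSh J U))

include hB₁ hB₂ in
/-- local lifting of maps out of finite free modules along epimorphisms -/
lemma exists_lift_free {n : ℕ} (U : Fin n → C) (hU : ∀ i, U i ∈ B) {E M : Mod O} (e : E ⟶ M)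
    [Epi e] (f : (∐ fun i => freeOn O (U i)) ⟶ M) :
    ∃ (P' : Mod O) (_ : IsBFree O B P') (c : P' ⟶ ∐ fun i => freeOn O (U i)) (f' : P' ⟶ E),
      Epi c ∧ f' ≫ e = c ≫ f := by
  classical
  let s : ∀ i, sect M (U i) := fun i =>
    freeOnHomAddEquiv O (U i) _ (Sigma.ι (fun i => freeOn O (U i)) i ≫ f)
  have hl := fun i => exists_finite_lift B hB₁ (hB₂ _ (hU i)) e (s i)
  choose m W b t hWB hcov hlift using hl
  let T₁ := Σ i : Fin n, Fin (m i)
  let X : T₁ → Mod O := fun x => freeOn O (W x.1 x.2)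
  let c : ∐ X ⟶ ∐ (fun i => freeOn O (U i)) :=
    Sigma.desc (fun x => freeOnMap O (b x.1 x.2) ≫ Sigma.ι (fun i => freeOn O (U i)) x.1)
  have hc : Epi c := by
    refine ⟨fun {Z} h₁ h₂ heq => ?_⟩
    refine Sigma.hom_ext _ _ (fun i => ?_)
    haveI := epi_desc_freeOnMap O (W i) (b i) (hcov i)
    rw [← cancel_epi (Sigma.desc fun k => freeOnMap O (b i k))]
    refine Sigma.hom_ext _ _ (fun k => ?_)
    have := Sigma.ι X ⟨i, k⟩ ≫= heq
    simp only [c, Sigma.ι_desc_assoc, Category.assoc] at this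
    rw [Sigma.ι_desc_assoc, Sigma.ι_desc_assoc]
    exact this
  let f' : ∐ X ⟶ E :=
    Sigma.desc (fun x => (freeOnHomAddEquiv O (W x.1 x.2) _).symm (t x.1 x.2))
  refine ⟨∐ X, isBFree_of_fintype (fun x : T₁ => W x.1 x.2) (fun x => hWB x.1 x.2), c, f', hc, ?_⟩
  refine Sigma.hom_ext _ _ (fun x => ?_)
  apply (freeOnHomAddEquiv O (W x.1 x.2) _).injective
  simp only [f', c, Sigma.ι_desc_assoc, Category.assoc]
  rw [freeOnHomAddEquiv_comp, AddEquiv.apply_symm_apply, freeOnMap_comp]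
  exact hlift x.1 x.2

include hB₁ hB₂ in
lemma hyp : Hyp (IsBFree O B) where
  zero Z hZ := by
    refine ⟨0, Fin.elim0, fun i => i.elim0, ⟨hZ.iso ?_⟩⟩
    rw [IsZero.iff_id_eq_zero]
    exact Sigma.hom_ext _ _ (fun i => i.elim0)
  biprod := by
    rintro P Q ⟨n, U, hU, ⟨eP⟩⟩ ⟨m, U', hU', ⟨eQ⟩⟩
    have h := isBFree_of_fintype (O := O) (B := B) (T := Fin n ⊕ Fin m) (Sum.elim U U')
      (by
        rintro (a | b)
        · exact hU a
        · exact hU' b)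
    refine h.of_iso ?_
    refine biprod.mapIso eP eQ ≪≫ biprodSigmaIso _ _ ≪≫ ?_
    exact Sigma.whiskerEquiv (Equiv.refl _) (fun t => by
      cases t with
      | inl a => exact Iso.refl _
      | inr b => exact Iso.refl _)
  lift := by
    rintro P E M ⟨n, U, hU, ⟨eP⟩⟩ e he f
    obtain ⟨P', hP', c, f', hc, h⟩ := exists_lift_free hB₁ hB₂ U hU e (eP.inv ≫ f)
    exact ⟨P', hP', c ≫ eP.inv, f', epi_comp _ _, by rw [h, Category.assoc]⟩

end Hyp

section Kernel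

/-- **S9117**: type A modules are closed under kernels if kernels of maps of finite free modules
are of type A -/
theorem isTypeA_kernel
    (hB₁ : ∀ X : C, ∃ (κ : Type u) (Y : κ → C) (g : ∀ k, Y k ⟶ X),
      Sieve.ofArrows Y g ∈ J X ∧ ∀ k, Y k ∈ B)
    (hB₂ : ∀ U ∈ B, CohCx.IsQcObject (hSh J U))
    (hker : ∀ (m n : ℕ) (V : Fin m → C) (U : Fin n → C)
      (φ : (∐ fun j => ModSite.freeOn O (V j)) ⟶ ∐ fun i => ModSite.freeOn O (U i)),
      (∀ j, V j ∈ B) → (∀ i, U i ∈ B) → IsTypeA O B (kernel φ))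
    {F G : Mod O} (α : F ⟶ G) (hF : IsTypeA O B F) (hG : IsTypeA O B G) :
    IsTypeA O B (kernel α) := by
  rw [← fp_iff_isTypeA] at hF hG ⊢
  refine fp_kernel (hyp hB₁ hB₂) ?_ ?_ α hF hG
  · rintro R P ⟨m, V, hV, ⟨eR⟩⟩ ⟨n, U, hU, ⟨eP⟩⟩ φ
    rw [fp_iff_isTypeA]
    refine (hker m n V U (eR.inv ≫ φ ≫ eP.hom) hV hU).of_iso ?_
    exact kernel.mapIso φ (eR.inv ≫ φ ≫ eP.hom) eR eP (by simp)
  · intro F' G' α' hF' hG'
    rw [fp_iff_isTypeA] at hF' hG' ⊢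
    exact isTypeA_cokernel hB₁ hB₂ α' hF' hG'

end Kernel

end Groth.Agent.Lib.Helper6.QcCoh
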