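import Mathlib
import Groth.Agent.Lib.Helper6.QcCoh

/-!
# Type A modules on a ringed site with quasi-compact generators: extensions (helper6)
-/

set_option autoImplicit false
set_option linter.unusedSectionVars false
set_option linter.style.haveILetI false

universe u

namespace Groth.Agent.Lib.Helper6.QcCohExt

open CategoryTheory CategoryTheory.Limits Opposite ModSite
open Groth.Agent.Lib.Helper94.JShriek Groth.Agent.Lib.Helper6.FreeOnClass
  Groth.Agent.Lib.Helper6.QcFinite Groth.Agent.Lib.Helper6.QcCover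
  Groth.Agent.Lib.Helper6.FGAbstract Groth.Agent.Lib.Helper6.QcCoh

variable {C : Type u} [SmallCategory C] {J : GrothendieckTopology C}
  {O : Sheaf J CommRingCat.{u}} {B : Set C}

lemma freeOnMap_comp_map {W V U : C} (a : W ⟶ V) (b : V ⟶ U) :
    freeOnMap O a ≫ freeOnMap O b = freeOnMap O (a ≫ b) := by
  apply (freeOnHomAddEquiv O W _).injective
  rw [freeOnMap_comp]
  unfold freeOnMap
  rw [AddEquiv.apply_symm_apply, AddEquiv.apply_symm_apply, res_comp]

/-- gluing sections of a sheaf of modules along a covering family -/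
lemma exists_glue [HasPullbacks C] (M : Mod O) {T : Type*} {U : C} (W : T → C)
    (b : ∀ t, W t ⟶ U) (hb : Sieve.generate (Presieve.ofArrows W b) ∈ J U)
    (m : ∀ t, sect M (W t))
    (hm : ∀ k l, res M (pullback.fst (b k) (b l)) (m k) =
      res M (pullback.snd (b k) (b l)) (m l)) :
    ∃ s : sect M U, ∀ t, res M (b t) s = m t := by
  have hsh : Presieve.IsSheaf J (M.val.presheaf ⋙ forget AddCommGrpCat.{u}) :=
    (isSheaf_iff_isSheaf_of_type _ _).1
      ((Presheaf.isSheaf_iff_isSheaf_forget J M.val.presheaf (forget AddCommGrpCat.{u})).1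
        M.isSheaf)
  have h1 := (Presieve.isSheafFor_iff_generate (P := M.val.presheaf ⋙ forget AddCommGrpCat.{u})
    (Presieve.ofArrows W b)).2 (hsh _ hb)
  rw [Presieve.isSheafFor_arrows_iff_pullbacks] at h1
  obtain ⟨s, hs, -⟩ := h1 m (fun k l => hm k l)
  exact ⟨s, hs⟩

section Cover

variable {T : Type} [Fintype T] (U : T → C) (m : T → ℕ) (W : ∀ i, Fin (m i) → C)
  (b : ∀ i k, W i k ⟶ U i)

/-- the map of free modules induced by a family of finite families of maps -/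
noncomputable def coverMap :
    (∐ fun x : (Σ i : T, Fin (m i)) => freeOn O (W x.1 x.2)) ⟶ ∐ fun i => freeOn O (U i) :=
  Sigma.desc (fun x => freeOnMap O (b x.1 x.2) ≫ Sigma.ι (fun i => freeOn O (U i)) x.1)

@[reassoc]
lemma ι_coverMap (x : Σ i : T, Fin (m i)) :
    Sigma.ι (fun x : (Σ i : T, Fin (m i)) => freeOn O (W x.1 x.2)) x ≫ coverMap (O := O) U m W b =
      freeOnMap O (b x.1 x.2) ≫ Sigma.ι (fun i => freeOn O (U i)) x.1 :=
  Sigma.ι_desc _ _

lemma epi_coverMap (hcov : ∀ i, Sieve.generate (Presieve.ofArrows (W i) (b i)) ∈ J (U i)) :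
    Epi (coverMap (O := O) U m W b) := by
  refine ⟨fun {Z} h₁ h₂ heq => ?_⟩
  refine Sigma.hom_ext _ _ (fun i => ?_)
  haveI := epi_desc_freeOnMap O (W i) (b i) (hcov i)
  rw [← cancel_epi (Sigma.desc fun k => freeOnMap O (b i k))]
  refine Sigma.hom_ext _ _ (fun k => ?_)
  have := Sigma.ι (fun x : (Σ i : T, Fin (m i)) => freeOn O (W x.1 x.2)) ⟨i, k⟩ ≫= heq
  rw [ι_coverMap_assoc, ι_coverMap_assoc] at this
  rw [Sigma.ι_desc_assoc, Sigma.ι_desc_assoc]
  exact this

variable [HasPullbacks C]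

/-- the relations map -/
noncomputable def relMap :
    (∐ fun y : (Σ i : T, Fin (m i) × Fin (m i)) =>
        freeOn O (pullback (b y.1 y.2.1) (b y.1 y.2.2))) ⟶
      ∐ fun x : (Σ i : T, Fin (m i)) => freeOn O (W x.1 x.2) :=
  Sigma.desc (fun y =>
    freeOnMap O (pullback.fst (b y.1 y.2.1) (b y.1 y.2.2)) ≫
        Sigma.ι (fun x : (Σ i : T, Fin (m i)) => freeOn O (W x.1 x.2)) ⟨y.1, y.2.1⟩ -
      freeOnMap O (pullback.snd (b y.1 y.2.1) (b y.1 y.2.2)) ≫
        Sigma.ι (fun x : (Σ i : T, Fin (m i)) => freeOn O (W x.1 x.2)) ⟨y.1, y.2.2⟩)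

@[reassoc]
lemma ι_relMap (y : Σ i : T, Fin (m i) × Fin (m i)) :
    Sigma.ι (fun y : (Σ i : T, Fin (m i) × Fin (m i)) =>
        freeOn O (pullback (b y.1 y.2.1) (b y.1 y.2.2))) y ≫ relMap (O := O) U m W b =
    freeOnMap O (pullback.fst (b y.1 y.2.1) (b y.1 y.2.2)) ≫
        Sigma.ι (fun x : (Σ i : T, Fin (m i)) => freeOn O (W x.1 x.2)) ⟨y.1, y.2.1⟩ -
      freeOnMap O (pullback.snd (b y.1 y.2.1) (b y.1 y.2.2)) ≫
        Sigma.ι (fun x : (Σ i : T, Fin (m i)) => freeOn O (W x.1 x.2)) ⟨y.1, y.2.2⟩ :=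
  Sigma.ι_desc _ _

lemma relMap_coverMap : relMap (O := O) U m W b ≫ coverMap U m W b = 0 := by
  refine Sigma.hom_ext _ _ (fun y => ?_)
  rw [ι_relMap_assoc, Limits.comp_zero, Preadditive.sub_comp, Category.assoc, Category.assoc,
    ι_coverMap, ι_coverMap, ← Category.assoc, ← Category.assoc, freeOnMap_comp_map,
    freeOnMap_comp_map, pullback.condition, sub_self]

lemma exists_desc_coverMap
    (hcov : ∀ i, Sieve.generate (Presieve.ofArrows (W i) (b i)) ∈ J (U i)) {Z : Mod O}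
    (h : (∐ fun x : (Σ i : T, Fin (m i)) => freeOn O (W x.1 x.2)) ⟶ Z)
    (hh : relMap (O := O) U m W b ≫ h = 0) :
    ∃ l : (∐ fun i => freeOn O (U i)) ⟶ Z, coverMap U m W b ≫ l = h := by
  let X : (Σ i : T, Fin (m i)) → Mod O := fun x => freeOn O (W x.1 x.2)
  let s : ∀ (i : T) (k : Fin (m i)), sect Z (W i k) := fun i k =>
    freeOnHomAddEquiv O (W i k) Z (Sigma.ι X ⟨i, k⟩ ≫ h)
  have hs : ∀ (i : T) (k l : Fin (m i)), res Z (pullback.fst (b i k) (b i l)) (s i k) =
      res Z (pullback.snd (b i k) (b i l)) (s i l) := by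
    intro i k l
    have h1 := Sigma.ι (fun y : (Σ i : T, Fin (m i) × Fin (m i)) =>
        freeOn O (pullback (b y.1 y.2.1) (b y.1 y.2.2))) ⟨i, (k, l)⟩ ≫= hh
    rw [ι_relMap_assoc, Limits.comp_zero, Preadditive.sub_comp, sub_eq_zero, Category.assoc,
      Category.assoc] at h1
    rw [← freeOnMap_comp, ← freeOnMap_comp]
    exact congrArg _ h1
  have hg := fun i => exists_glue Z (W i) (b i) (hcov i) (s i) (hs i)
  choose g hg using hg
  refine ⟨Sigma.desc (fun i => (freeOnHomAddEquiv O (U i) Z).symm (g i)), ?_⟩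
  refine Sigma.hom_ext _ _ (fun x => ?_)
  rw [ι_coverMap_assoc, Sigma.ι_desc]
  apply (freeOnHomAddEquiv O (W x.1 x.2) Z).injective
  rw [freeOnMap_comp, AddEquiv.apply_symm_apply, hg]

/-- `coverMap` is the cokernel of `relMap` -/
noncomputable def isColimitCoverMap
    (hcov : ∀ i, Sieve.generate (Presieve.ofArrows (W i) (b i)) ∈ J (U i)) :
    IsColimit (CokernelCofork.ofπ (coverMap (O := O) U m W b) (relMap_coverMap U m W b)) :=
  haveI := epi_coverMap (O := O) U m W b hcov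
  CokernelCofork.IsColimit.ofπ' _ _ (fun k hk =>
    ⟨(exists_desc_coverMap U m W b hcov k hk).choose,
      (exists_desc_coverMap U m W b hcov k hk).choose_spec⟩)

lemma epi_kernel_lift_relMap
    (hcov : ∀ i, Sieve.generate (Presieve.ofArrows (W i) (b i)) ∈ J (U i)) :
    Epi (kernel.lift (coverMap (O := O) U m W b) (relMap U m W b) (relMap_coverMap U m W b)) := by
  have hex : (ShortComplex.mk (relMap (O := O) U m W b) (coverMap U m W b)
      (relMap_coverMap U m W b)).Exact :=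
    ShortComplex.exact_of_g_is_cokernel _ (isColimitCoverMap U m W b hcov)
  exact (ShortComplex.exact_iff_epi_kernel_lift _).1 hex

end Cover

section Hyp

variable (hB₁ : ∀ X : C, ∃ (κ : Type u) (Y : κ → C) (g : ∀ k, Y k ⟶ X),
    Sieve.ofArrows Y g ∈ J X ∧ ∀ k, Y k ∈ B)

include hB₁ in
/-- a quasi-compact object has a finite covering family by members of `B` -/
lemma exists_finite_cover (O : Sheaf J CommRingCat.{u}) {U : C}
    (hU : CohCx.IsQcObject (hSh J U)) :
    ∃ (n : ℕ) (W : Fin n → C) (b : ∀ k, W k ⟶ U),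
      (∀ k, W k ∈ B) ∧ Sieve.generate (Presieve.ofArrows W b) ∈ J U := by
  obtain ⟨n, W, b, t, hWB, hcov, -⟩ :=
    exists_finite_lift (O := O) B hB₁ hU (𝟙 (freeOn O U)) (gen O U)
  exact ⟨n, W, b, hWB, hcov⟩

include hB₁ in
/-- finite coproducts of free modules on quasi-compact objects are finitely generated -/
lemma fg_sigma_of_qc {T : Type} [Fintype T] (U : T → C)
    (hU : ∀ i, CohCx.IsQcObject (hSh J (U i))) :
    FG (IsBFree O B) (∐ fun i => freeOn O (U i)) := by
  have := fun i => exists_finite_cover hB₁ O (hU i)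
  choose m W b hWB hcov using this
  exact ⟨_, isBFree_of_fintype (fun x : (Σ i : T, Fin (m i)) => W x.1 x.2) (fun x => hWB _ _),
    coverMap U m W b, epi_coverMap U m W b hcov⟩

variable (hB₂ : ∀ U ∈ B, CohCx.IsQcObject (hSh J U)) [HasPullbacks C]
  (hB₃ : ∀ (U U₁ U₂ : C) (f₁ : U₁ ⟶ U) (f₂ : U₂ ⟶ U), U ∈ B → U₁ ∈ B → U₂ ∈ B →
    CohCx.IsQcObject (hSh J (pullback f₁ f₂)))

include hB₁ hB₂ hB₃ in
/-- local lifting of maps out of finite free modules along epimorphisms, with finitely generated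
kernel -/
lemma exists_lift_free' {n : ℕ} (U : Fin n → C) (hU : ∀ i, U i ∈ B) {E M : Mod O} (e : E ⟶ M)
    [Epi e] (f : (∐ fun i => freeOn O (U i)) ⟶ M) :
    ∃ (P' : Mod O) (_ : IsBFree O B P') (c : P' ⟶ ∐ fun i => freeOn O (U i)) (f' : P' ⟶ E),
      Epi c ∧ FG (IsBFree O B) (kernel c) ∧ f' ≫ e = c ≫ f := by
  classical
  let s : ∀ i, sect M (U i) := fun i =>
    freeOnHomAddEquiv O (U i) _ (Sigma.ι (fun i => freeOn O (U i)) i ≫ f)
  have hl := fun i => exists_finite_lift B hB₁ (hB₂ _ (hU i)) e (s i)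
  choose m W b t hWB hcov hlift using hl
  let T₁ := Σ i : Fin n, Fin (m i)
  let X : T₁ → Mod O := fun x => freeOn O (W x.1 x.2)
  let f' : ∐ X ⟶ E :=
    Sigma.desc (fun x => (freeOnHomAddEquiv O (W x.1 x.2) _).symm (t x.1 x.2))
  refine ⟨∐ X, isBFree_of_fintype (fun x : T₁ => W x.1 x.2) (fun x => hWB x.1 x.2),
    coverMap U m W b, f', epi_coverMap U m W b hcov, ?_, ?_⟩
  · haveI := epi_kernel_lift_relMap (O := O) U m W b hcov
    refine FG.of_epi (fg_sigma_of_qc hB₁ _ (fun y => ?_))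
      (kernel.lift (coverMap (O := O) U m W b) (relMap U m W b) (relMap_coverMap U m W b))
    exact hB₃ _ _ _ _ _ (hU _) (hWB _ _) (hWB _ _)
  · refine Sigma.hom_ext _ _ (fun x => ?_)
    apply (freeOnHomAddEquiv O (W x.1 x.2) _).injective
    rw [ι_coverMap_assoc, Sigma.ι_desc_assoc]
    rw [freeOnHomAddEquiv_comp, AddEquiv.apply_symm_apply, freeOnMap_comp]
    exact hlift x.1 x.2

include hB₁ hB₂ hB₃ in
lemma hyp' : Hyp' (IsBFree O B) where
  toHyp := hyp hB₁ hB₂
  lift' := by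
    rintro P E M ⟨n, U, hU, ⟨eP⟩⟩ e he f
    obtain ⟨P', hP', c, f', hc, hK, h⟩ :=
      exists_lift_free' hB₁ hB₂ hB₃ U hU e (eP.inv ≫ f)
    refine ⟨P', hP', c ≫ eP.inv, f', epi_comp _ _, ?_, by rw [h, Category.assoc]⟩
    exact hK.of_iso (kernelCompMono c eP.inv).symm

include hB₁ hB₂ hB₃ in
/-- **S9116**: type A modules are closed under extensions -/
theorem isTypeA_ext (S : ShortComplex (Mod O)) (hS : S.ShortExact) (h₁ : IsTypeA O B S.X₁)
    (h₃ : IsTypeA O B S.X₃) : IsTypeA O B S.X₂ := by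
  rw [← fp_iff_isTypeA] at h₁ h₃ ⊢
  exact fp_ext (hyp' hB₁ hB₂ hB₃) S hS h₁ h₃

end Hyp

end Groth.Agent.Lib.Helper6.QcCohExt
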