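import Mathlib
import Groth.Agent.Lib.Helper6.HeartHomological

/-!
# The t-structure induced on a Verdier quotient (helper6)

`C` a triangulated category with a bounded t-structure `t`, `D` a triangulated subcategory stable
under the cohomology objects of `t` and whose intersection with the heart is stable under
subobjects and quotients. Then the Verdier quotient carries a unique t-structure making the
quotient functor t-exact.
-/

set_option autoImplicit false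
set_option linter.style.haveILetI false
set_option linter.unusedSectionVars false

universe v u v' u'

open CategoryTheory CategoryTheory.Limits CategoryTheory.Pretriangulated CategoryTheory.Triangulated
open ZeroObject

namespace Groth.Agent.Lib.Helper6.QuotT

variable {C : Type u} [Category.{v} C] [Preadditive C] [HasZeroObject C] [HasShift C ℤ]
  [∀ n : ℤ, (shiftFunctor C n).Additive] [Pretriangulated C] [IsTriangulated C]
  (t : TStructure C) (hb : ∀ X : C, t.bounded X)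
  (D : ObjectProperty C) [D.IsTriangulated] [D.IsClosedUnderIsomorphisms]
  (h1 : ∀ X : C, D X → ∀ n : ℤ, D ((t.truncGELE n n).obj X))
  (h2 : ∀ (X Y Z : C) (f : X ⟶ Y) (g : Y ⟶ Z) (h : Z ⟶ X⟦(1 : ℤ)⟧),
      Triangle.mk f g h ∈ distTriang C → t.heart X → t.heart Y → t.heart Z → D Y → D X ∧ D Z)

section Devissage

include h1 in
lemma D_truncLE_step (X : C) (hX : D X) (n : ℤ) (h : D ((t.truncLE (n - 1)).obj X)) :
    D ((t.truncLE n).obj X) := by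
  have hT := t.triangleLEGE_distinguished (n - 1) n (by omega) ((t.truncLE n).obj X)
  haveI := t.isIso_truncLE_map_truncLEι_app (n - 1) n (by omega) X
  have h₁ : D ((t.truncLE (n - 1)).obj ((t.truncLE n).obj X)) :=
    D.prop_of_iso (asIso ((t.truncLE (n - 1)).map ((t.truncLEι n).app X))).symm h
  have h₃ : D ((t.truncGE n).obj ((t.truncLE n).obj X)) := h1 X hX n
  exact D.ext_of_isTriangulatedClosed₂ _ hT h₁ h₃

include hb h1 in
lemma D_truncLE (X : C) (hX : D X) (n : ℤ) : D ((t.truncLE n).obj X) := by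
  obtain ⟨a, ha⟩ := (hb X).1
  have key : ∀ k : ℕ, D ((t.truncLE (a - 1 + k)).obj X) := by
    intro k
    induction k with
    | zero =>
      exact D.prop_of_isZero (t.isZero_truncLE_obj_of_isGE (a - 1 + (0 : ℕ)) a (by simp) X)
    | succ k ih =>
      refine D_truncLE_step t D h1 X hX _ ?_
      have : a - 1 + ((k + 1 : ℕ) : ℤ) - 1 = a - 1 + (k : ℤ) := by push_cast; ring
      rw [this]
      exact ih
  by_cases hn : n < a
  · haveI := t.isGE_of_ge X (n + 1) a (by omega)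
    exact D.prop_of_isZero (t.isZero_truncLE_obj_of_isGE n (n + 1) rfl X)
  · obtain ⟨k, rfl⟩ : ∃ k : ℕ, n = a - 1 + k := ⟨(n - a + 1).toNat, by omega⟩
    exact key k

include hb h1 in
lemma D_truncGE (X : C) (hX : D X) (n : ℤ) : D ((t.truncGE n).obj X) := by
  have hT := t.triangleLEGE_distinguished (n - 1) n (by omega) X
  exact D.ext_of_isTriangulatedClosed₃ ((t.triangleLEGE (n - 1) n (by omega)).obj X) hT
    (D_truncLE t hb D h1 X hX (n - 1)) hX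

end Devissage

section Mono

include hb h1 h2 in
/-- If `M ⟶ N ⟶ W` is distinguished with `M ≤ 0`, `W ≥ 0` and `N ∈ D`, then `M ∈ D`. -/
lemma D_of_mono (T : Triangle C) (hT : T ∈ distTriang C) (hM : t.IsLE T.obj₁ 0)
    (hW : t.IsGE T.obj₃ 0) (hN : D T.obj₂) : D T.obj₁ := by
  -- the part in degrees `≤ -1`
  have ha : D ((t.truncLE (-1)).obj T.obj₁) := by
    haveI := t.isIso₁_truncLE_map_of_isGE T hT (-1) 0 (by omega) hW
    exact D.prop_of_iso (asIso ((t.truncLE (-1)).map T.mor₁)).symm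
      (D_truncLE t hb D h1 _ hN (-1))
  -- the part in degree `0`
  let M₀ := (t.truncGE 0).obj T.obj₁
  let N₀ := (t.truncLE 0).obj ((t.truncGE 0).obj T.obj₂)
  have hM₀le : t.IsLE M₀ 0 := by dsimp [M₀]; infer_instance
  have hM₀ge : t.IsGE M₀ 0 := by dsimp [M₀]; infer_instance
  have hN₀le : t.IsLE N₀ 0 := by dsimp [N₀]; infer_instance
  have hN₀ge : t.IsGE N₀ 0 := by dsimp [N₀]; infer_instance
  have hDN₀ : D N₀ := D_truncLE t hb D h1 _ (D_truncGE t hb D h1 _ hN 0) 0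
  let u : M₀ ⟶ (t.truncGE 0).obj T.obj₂ := (t.truncGE 0).map T.mor₁
  let u' : M₀ ⟶ N₀ := t.liftTruncLE u 0
  have hu' : u' ≫ (t.truncLEι 0).app _ = u := t.liftTruncLE_ι u 0
  have hinj : ∀ {Y : C} [t.IsLE Y 0] (g : Y ⟶ M₀), g ≫ u' = 0 → g = 0 := by
    intro Y _ g hg
    apply HeartHomological.eq_zero_of_comp_truncGE_map t T hT hW g
    change g ≫ u = 0
    rw [← hu', reassoc_of% hg, zero_comp]
  obtain ⟨K, k, h, hK⟩ := distinguished_cocone_triangle₁ u'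
  have hKinv := inv_rot_of_distTriang _ hK
  have hK₁ : t.IsGE K 1 := by
    rw [t.isGE_iff_orthogonal 0 1 (by omega)]
    intro Y f hY
    have hfk : f ≫ k = 0 := hinj (f ≫ k) (by
      rw [Category.assoc]
      have : k ≫ u' = 0 := comp_distTriang_mor_zero₁₂ _ hK
      rw [this, comp_zero])
    obtain ⟨g, hg⟩ := Triangle.coyoneda_exact₂ _ hKinv f hfk
    have : t.IsGE ((Triangle.mk k u' h).invRotate.obj₁) 1 :=
      show t.IsGE (N₀⟦(-1 : ℤ)⟧) 1 from t.isGE_shift N₀ 0 (-1) 1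
    rw [hg, t.zero g 0 1 (by omega), zero_comp]
    exact rfl
  have hK₂ : t.IsLE K 1 := t.isLE₂ _ hKinv 1
    (show t.IsLE (N₀⟦(-1 : ℤ)⟧) 1 from t.isLE_shift N₀ 0 (-1) 1)
    (show t.IsLE M₀ 1 from t.isLE_of_le M₀ 0 1 (by omega))
  have hK₃ : t.heart (K⟦(1 : ℤ)⟧) := by
    rw [t.mem_heart_iff]
    exact ⟨t.isLE_shift K 1 1 0, t.isGE_shift K 1 1 0⟩
  have hrot := rot_of_distTriang _ hK
  have hb' : D M₀ := (h2 M₀ N₀ (K⟦(1 : ℤ)⟧) u' h (-k⟦(1 : ℤ)⟧') hrot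
    ((t.mem_heart_iff _).2 ⟨hM₀le, hM₀ge⟩) ((t.mem_heart_iff _).2 ⟨hN₀le, hN₀ge⟩) hK₃ hDN₀).1
  -- assembling
  have hT' := t.triangleLEGE_distinguished (-1) 0 (by omega) T.obj₁
  exact D.ext_of_isTriangulatedClosed₂ _ hT' ha hb'

end Mono

section Quot

variable {E : Type u'} [Category.{v'} E] [Preadditive E] [HasZeroObject E] [HasShift E ℤ]
  [∀ n : ℤ, (shiftFunctor E n).Additive] [Pretriangulated E]
  (q : C ⥤ E) [q.CommShift ℤ] [q.IsTriangulated] [q.IsLocalization D.trW]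

include hb h1 h2 in
lemma trW_truncLEι_comp {X' X : C} (s : X' ⟶ X) (hs : D.trW s) [hX : t.IsLE X 0] :
    D.trW ((t.truncLEι 0).app X' ≫ s) := by
  rw [D.trW_iff] at hs
  obtain ⟨N, p, δ, hTs, hN⟩ := hs
  obtain ⟨M, p', δ', hT'⟩ := distinguished_cocone_triangle ((t.truncLEι 0).app X' ≫ s)
  have hTi : Triangle.mk ((t.truncLEι 0).app X') ((t.truncGTπ 0).app X')
      ((t.truncGTδLE 0).app X') ∈ distTriang C := t.triangleLEGT_distinguished 0 X'
  have oct := someOctahedron rfl hTi hTs hT'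
  have hrot := rot_of_distTriang _ oct.mem
  have hM : t.IsLE M 0 := t.isLE₂ _ (rot_of_distTriang _ hT') 0 hX
    (show t.IsLE (((t.truncLE 0).obj X')⟦(1 : ℤ)⟧) 0 from
      have := t.isLE_shift ((t.truncLE 0).obj X') 0 1 (-1)
      t.isLE_of_le _ (-1) 0 (by omega))
  have hW' : t.IsGE ((t.truncGT 0).obj X') 1 := t.isGE_truncGT_obj _ 0 1
  have hW : t.IsGE (((t.truncGT 0).obj X')⟦(1 : ℤ)⟧) 0 := t.isGE_shift _ 1 1 0
  have hDM : D M := D_of_mono t hb D h1 h2 _ hrot hM hW hN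
  exact (D.trW_iff _).2 ⟨M, p', δ', hT', hDM⟩

include hb h1 h2 in
/-- the key vanishing: `Hom(q X, q Y) = 0` for `X ≤ 0` and `Y ≥ 1` -/
lemma zero_of_isLE_of_isGE {X Y : C} [t.IsLE X 0] [t.IsGE Y 1] (φ : q.obj X ⟶ q.obj Y) :
    φ = 0 := by
  obtain ⟨ψ, hψ⟩ := Localization.exists_rightFraction q D.trW φ
  have hs' := trW_truncLEι_comp t hb D h1 h2 ψ.s ψ.hs
  haveI : IsIso (q.map ((t.truncLEι 0).app ψ.X' ≫ ψ.s)) := Localization.inverts q D.trW _ hs'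
  have h0 : (t.truncLEι 0).app ψ.X' ≫ ψ.f = 0 := t.zero _ 0 1 (by omega)
  rw [← cancel_epi (q.map ((t.truncLEι 0).app ψ.X' ≫ ψ.s)), comp_zero, hψ, q.map_comp,
    Category.assoc, ψ.map_s_comp_map, ← q.map_comp, h0, q.map_zero]

/-- objects of the quotient which are `≤ n` -/
def le' (n : ℤ) : ObjectProperty E := fun Y => ∃ X : C, t.IsLE X n ∧ Nonempty (q.obj X ≅ Y)

/-- objects of the quotient which are `≥ n` -/
def ge' (n : ℤ) : ObjectProperty E := fun Y => ∃ X : C, t.IsGE X n ∧ Nonempty (q.obj X ≅ Y)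

include hb h1 h2 in
lemma quot_zero ⦃X Y : E⦄ (f : X ⟶ Y) (hX : le' t q 0 X) (hY : ge' t q 1 Y) : f = 0 := by
  obtain ⟨X₀, hX₀, ⟨eX⟩⟩ := hX
  obtain ⟨Y₀, hY₀, ⟨eY⟩⟩ := hY
  have h := zero_of_isLE_of_isGE t hb D h1 h2 q (X := X₀) (Y := Y₀) (eX.hom ≫ f ≫ eY.inv)
  rw [← cancel_epi eX.hom, ← cancel_mono eY.inv, Category.assoc, h, comp_zero, zero_comp]

include D in
lemma quot_exists_triangle (A : E) : ∃ (X Y : E) (_ : le' t q 0 X) (_ : ge' t q 1 Y)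
    (f : X ⟶ A) (g : A ⟶ Y) (h : Y ⟶ X⟦(1 : ℤ)⟧), Triangle.mk f g h ∈ distTriang E := by
  haveI : q.EssSurj := Localization.essSurj q D.trW
  let X₀ := q.objPreimage A
  let e : q.obj X₀ ≅ A := q.objObjPreimageIso A
  have hT₀ := q.map_distinguished _ (t.triangleLEGT_distinguished 0 X₀)
  refine ⟨q.obj ((t.truncLE 0).obj X₀), q.obj ((t.truncGT 0).obj X₀),
    ⟨_, inferInstance, ⟨Iso.refl _⟩⟩, ⟨_, t.isGE_truncGT_obj _ 0 1, ⟨Iso.refl _⟩⟩,
    q.map ((t.truncLEι 0).app X₀) ≫ e.hom, e.inv ≫ q.map ((t.truncGTπ 0).app X₀),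
    (q.mapTriangle.obj ((t.triangleLEGT 0).obj X₀)).mor₃, ?_⟩
  refine isomorphic_distinguished _ hT₀ _ ?_
  refine Triangle.isoMk _ _ (Iso.refl _) e.symm (Iso.refl _) ?_ ?_ ?_
  · change (q.map ((t.truncLEι 0).app X₀) ≫ e.hom) ≫ e.inv = 𝟙 _ ≫ q.map ((t.truncLEι 0).app X₀)
    rw [Category.assoc, Iso.hom_inv_id, Category.comp_id, Category.id_comp]
  · change (e.inv ≫ q.map ((t.truncGTπ 0).app X₀)) ≫ 𝟙 _ = e.inv ≫ q.map ((t.truncGTπ 0).app X₀)
    rw [Category.comp_id]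
  · change (q.mapTriangle.obj ((t.triangleLEGT 0).obj X₀)).mor₃ ≫ (𝟙 _)⟦(1 : ℤ)⟧' =
      𝟙 _ ≫ (q.mapTriangle.obj ((t.triangleLEGT 0).obj X₀)).mor₃
    rw [CategoryTheory.Functor.map_id, Category.comp_id, Category.id_comp]

/-- the induced t-structure on the Verdier quotient -/
noncomputable def quotT : TStructure E where
  le := le' t q
  ge := ge' t q
  le_isClosedUnderIsomorphisms n := ⟨fun e ⟨X, hX, ⟨e'⟩⟩ => ⟨X, hX, ⟨e' ≪≫ e⟩⟩⟩
  ge_isClosedUnderIsomorphisms n := ⟨fun e ⟨X, hX, ⟨e'⟩⟩ => ⟨X, hX, ⟨e' ≪≫ e⟩⟩⟩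
  le_shift n a n' h Y := by
    rintro ⟨X, hX, ⟨e⟩⟩
    exact ⟨X⟦a⟧, t.isLE_shift X n a n' h,
      ⟨(q.commShiftIso a).app X ≪≫ (shiftFunctor E a).mapIso e⟩⟩
  ge_shift n a n' h Y := by
    rintro ⟨X, hX, ⟨e⟩⟩
    exact ⟨X⟦a⟧, t.isGE_shift X n a n' h,
      ⟨(q.commShiftIso a).app X ≪≫ (shiftFunctor E a).mapIso e⟩⟩
  zero' := quot_zero t hb D h1 h2 q
  le_zero_le := fun Y ⟨X, hX, e⟩ => ⟨X, t.isLE_of_le X 0 1 (by omega), e⟩
  ge_one_le := fun Y ⟨X, hX, e⟩ => ⟨X, t.isGE_of_ge X 0 1 (by omega), e⟩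
  exists_triangle_zero_one := quot_exists_triangle t D q

omit [IsTriangulated C] in
lemma tStructure_ext (t₁ t₂ : TStructure E) (hle : ∀ n, t₁.le n = t₂.le n)
    (hge : ∀ n, t₁.ge n = t₂.ge n) : t₁ = t₂ := by
  cases t₁
  cases t₂
  have h₁ := funext hle
  have h₂ := funext hge
  dsimp only at h₁ h₂
  subst h₁ h₂
  rfl

include hb h1 h2 in
theorem main : ∃ t' : TStructure E,
    (∀ (X : C) (n : ℤ), t.IsLE X n → t'.IsLE (q.obj X) n) ∧
    (∀ (X : C) (n : ℤ), t.IsGE X n → t'.IsGE (q.obj X) n) ∧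
    (∀ (Y : E) (n : ℤ), t'.IsLE Y n ↔ ∃ X : C, t.IsLE X n ∧ Nonempty (q.obj X ≅ Y)) ∧
    (∀ (Y : E) (n : ℤ), t'.IsGE Y n ↔ ∃ X : C, t.IsGE X n ∧ Nonempty (q.obj X ≅ Y)) ∧
    ∀ t'' : TStructure E,
      (∀ (X : C) (n : ℤ), t.IsLE X n → t''.IsLE (q.obj X) n) →
      (∀ (X : C) (n : ℤ), t.IsGE X n → t''.IsGE (q.obj X) n) → t'' = t' := by
  refine ⟨quotT t hb D h1 h2 q, fun X n hX => ⟨⟨X, hX, ⟨Iso.refl _⟩⟩⟩,
    fun X n hX => ⟨⟨X, hX, ⟨Iso.refl _⟩⟩⟩, fun Y n => ⟨fun h => h.le, fun h => ⟨h⟩⟩,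
    fun Y n => ⟨fun h => h.ge, fun h => ⟨h⟩⟩, ?_⟩
  intro t'' hle hge
  have hle' : ∀ (n : ℤ) (Y : E), (quotT t hb D h1 h2 q).le n Y → t''.le n Y := by
    rintro n Y ⟨X, hX, ⟨e⟩⟩
    haveI := hle X n hX
    exact (t''.le n).prop_of_iso e (t''.le_of_isLE _ n)
  have hge' : ∀ (n : ℤ) (Y : E), (quotT t hb D h1 h2 q).ge n Y → t''.ge n Y := by
    rintro n Y ⟨X, hX, ⟨e⟩⟩
    haveI := hge X n hX
    exact (t''.ge n).prop_of_iso e (t''.ge_of_isGE _ n)
  refine tStructure_ext _ _ (fun n => ?_) (fun n => ?_)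
  · ext Y
    refine ⟨fun hY => ?_, hle' n Y⟩
    rw [TStructure.le_iff_isLE, (quotT t hb D h1 h2 q).isLE_iff_orthogonal n (n + 1) rfl]
    intro Z f hZ
    haveI : t''.IsLE Y n := ⟨hY⟩
    haveI : t''.IsGE Z (n + 1) := ⟨hge' _ _ hZ.ge⟩
    exact t''.zero f n (n + 1) (by omega)
  · ext Y
    refine ⟨fun hY => ?_, hge' n Y⟩
    rw [TStructure.ge_iff_isGE, (quotT t hb D h1 h2 q).isGE_iff_orthogonal (n - 1) n (by omega)]
    intro Z f hZ
    haveI : t''.IsGE Y n := ⟨hY⟩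
    haveI : t''.IsLE Z (n - 1) := ⟨hle' _ _ hZ.le⟩
    exact t''.zero f (n - 1) n (by omega)

end Quot

end Groth.Agent.Lib.Helper6.QuotT
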