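import Groth.Agent.Lib.Helper6.InjRes

/-!
# Computing `F.rightDerivedFunctorPlus` via injective resolutions; long exact sequence
-/

set_option autoImplicit false
universe w w' v v' u u'
open CategoryTheory CategoryTheory.Limits

namespace Groth.Agent.Lib.Helper6.RDPlus

variable {C : Type u} [Category.{v} C] [Abelian C] [HasDerivedCategory.{w} C]
  {D : Type u'} [Category.{v'} D] [Abelian D] [HasDerivedCategory.{w'} D]
  (F : C ⥤ D) [F.Additive]

section

variable [EnoughInjectives C]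

/-- The unit of `F.rightDerivedFunctorPlus` is an isomorphism on bounded below complexes of
injectives. -/
lemma isIso_unit_of_injective (X : CochainComplex.Plus C) (hX : ∀ n, Injective (X.obj.X n)) :
    IsIso (F.rightDerivedFunctorPlusUnit.app ((HomotopyCategory.Plus.quotient C).obj X)) := by
  obtain ⟨n, hn⟩ := X.property
  let L' : CochainComplex (InjectiveObject C) ℤ :=
    HomologicalComplex.liftObjectProperty _ X.obj hX
  have hL' : L'.IsStrictlyGE n := by
    rwa [← CochainComplex.isStrictlyGE_mapHomologicalComplex_obj_iff _ (InjectiveObject.ι _)]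
  let L : CochainComplex.Plus (InjectiveObject C) := ⟨L', n, hL'⟩
  have : IsIso (F.rightDerivedFunctorPlusUnit.app
      ((HomotopyCategory.Plus.quotient C).obj
        ((InjectiveObject.ι C).mapCochainComplexPlus.obj L))) := inferInstance
  exact this

end

variable (i : ℤ)

/-- `H^i ∘ RF` on bounded below complexes. -/
noncomputable abbrev Φ [EnoughInjectives C] : CochainComplex.Plus C ⥤ D :=
  HomotopyCategory.Plus.quotient C ⋙ DerivedCategory.Plus.Qh ⋙ F.rightDerivedFunctorPlus ⋙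
    DerivedCategory.Plus.ι ⋙ DerivedCategory.homologyFunctor D i

/-- `H^i ∘ Q ∘ F` on bounded below complexes (through the homotopy category). -/
noncomputable abbrev Ψ : CochainComplex.Plus C ⥤ D :=
  HomotopyCategory.Plus.quotient C ⋙ F.mapHomotopyCategoryPlus ⋙ DerivedCategory.Plus.Qh ⋙
    DerivedCategory.Plus.ι ⋙ DerivedCategory.homologyFunctor D i

/-- `H^i ∘ F` on bounded below complexes, computed naively. -/
noncomputable abbrev Ω : CochainComplex.Plus C ⥤ D :=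
  CochainComplex.Plus.ι C ⋙ F.mapHomologicalComplex _ ⋙
    HomologicalComplex.homologyFunctor D _ i

/-- the natural transformation induced by the unit of the right derived functor -/
noncomputable def η' [EnoughInjectives C] : Ψ F i ⟶ Φ F i :=
  Functor.whiskerLeft (HomotopyCategory.Plus.quotient C)
    (Functor.whiskerRight F.rightDerivedFunctorPlusUnit
      (DerivedCategory.Plus.ι ⋙ DerivedCategory.homologyFunctor D i))

lemma isIso_η'_app [EnoughInjectives C] (X : CochainComplex.Plus C)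
    (hX : ∀ n, Injective (X.obj.X n)) : IsIso ((η' F i).app X) := by
  have := isIso_unit_of_injective F X hX
  dsimp only [η']
  simp only [Functor.whiskerLeft_app, Functor.whiskerRight_app]
  infer_instance

/-- the component of the comparison `Ψ ≅ Ω` -/
noncomputable def νApp (X : CochainComplex.Plus C) : (Ψ F i).obj X ≅ (Ω F i).obj X :=
  (DerivedCategory.homologyFunctor D i).mapIso
      ((DerivedCategory.quotientCompQhIso D).app ((F.mapHomologicalComplex _).obj X.obj)) ≪≫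
    (DerivedCategory.homologyFunctorFactors D i).app ((F.mapHomologicalComplex _).obj X.obj)

omit [HasDerivedCategory.{w} C] in
lemma ν_aux {K L : CochainComplex D ℤ} (g : K ⟶ L) :
    (DerivedCategory.homologyFunctor D i).map
        (DerivedCategory.Qh.map ((HomotopyCategory.quotient D (ComplexShape.up ℤ)).map g)) ≫
      ((DerivedCategory.homologyFunctor D i).mapIso
          ((DerivedCategory.quotientCompQhIso D).app L)).hom ≫
        (DerivedCategory.homologyFunctorFactors D i).hom.app L =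
    (((DerivedCategory.homologyFunctor D i).mapIso
          ((DerivedCategory.quotientCompQhIso D).app K)).hom ≫
        (DerivedCategory.homologyFunctorFactors D i).hom.app K) ≫
      (HomologicalComplex.homologyFunctor D (ComplexShape.up ℤ) i).map g := by
  dsimp only [Functor.mapIso_hom, Iso.app_hom]
  rw [← Category.assoc, ← Functor.map_comp, DerivedCategory.quotientCompQhIso_hom_naturality,
    Functor.map_comp, Category.assoc, Category.assoc]
  congr 1
  exact (DerivedCategory.homologyFunctorFactors D i).hom.naturality g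

lemma νApp_naturality {X Y : CochainComplex.Plus C} (f : X ⟶ Y) :
    (Ψ F i).map f ≫ (νApp F i Y).hom = (νApp F i X).hom ≫ (Ω F i).map f :=
  ν_aux i ((F.mapHomologicalComplex (ComplexShape.up ℤ)).map f.hom)

section

variable [EnoughInjectives C]

/-- `Φ` inverts quasi-isomorphisms. -/
lemma isIso_Φ_map {X Y : CochainComplex.Plus C} (φ : X ⟶ Y) (hφ : QuasiIso φ.hom) :
    IsIso ((Φ F i).map φ) := by
  have h : IsIso ((HomotopyCategory.Plus.quotient C ⋙ DerivedCategory.Plus.Qh).map φ) :=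
    Localization.inverts (HomotopyCategory.Plus.quotient C ⋙ DerivedCategory.Plus.Qh)
      (CochainComplex.Plus.quasiIso C) φ hφ
  show IsIso ((F.rightDerivedFunctorPlus ⋙ DerivedCategory.Plus.ι ⋙
    DerivedCategory.homologyFunctor D i).map
      ((HomotopyCategory.Plus.quotient C ⋙ DerivedCategory.Plus.Qh).map φ))
  infer_instance

/-- The comparison isomorphism `H^i(RF X) ≅ H^i(F T)` for an injective resolution `X ⟶ T`. -/
noncomputable def cmp {X T : CochainComplex.Plus C} (φ : X ⟶ T) (hφ : QuasiIso φ.hom)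
    (hT : ∀ n, Injective (T.obj.X n)) : (Φ F i).obj X ≅ (Ω F i).obj T :=
  have := isIso_Φ_map F i φ hφ
  have := isIso_η'_app F i T hT
  asIso ((Φ F i).map φ) ≪≫ (asIso ((η' F i).app T)).symm ≪≫ νApp F i T

lemma cmp_naturality {X T X' T' : CochainComplex.Plus C} (φ : X ⟶ T) (hφ : QuasiIso φ.hom)
    (hT : ∀ n, Injective (T.obj.X n)) (φ' : X' ⟶ T') (hφ' : QuasiIso φ'.hom)
    (hT' : ∀ n, Injective (T'.obj.X n)) (f : X ⟶ X') (f' : T ⟶ T') (comm : f ≫ φ' = φ ≫ f') :
    (Φ F i).map f ≫ (cmp F i φ' hφ' hT').hom = (cmp F i φ hφ hT).hom ≫ (Ω F i).map f' := by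
  have := isIso_η'_app F i T hT
  have := isIso_η'_app F i T' hT'
  dsimp only [cmp, Iso.trans_hom, asIso_hom, Iso.symm_hom, asIso_inv]
  have e1 : (Φ F i).map f ≫ (Φ F i).map φ' = (Φ F i).map φ ≫ (Φ F i).map f' := by
    rw [← Functor.map_comp, ← Functor.map_comp, comm]
  have e2 : (Φ F i).map f' ≫ inv ((η' F i).app T') = inv ((η' F i).app T) ≫ (Ψ F i).map f' := by
    rw [IsIso.comp_inv_eq, Category.assoc, IsIso.eq_inv_comp]
    exact ((η' F i).naturality f').symm
  rw [← Category.assoc, e1]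
  simp only [Category.assoc]
  congr 1
  rw [← Category.assoc, e2, Category.assoc, νApp_naturality]

end

omit [HasDerivedCategory.{w} C] [HasDerivedCategory.{w'} D] in
/-- An additive functor sends a short exact sequence of complexes whose first term consists of
injective objects to a short exact sequence. -/
lemma shortExact_map_of_injective (T : ShortComplex (CochainComplex C ℤ)) (hT : T.ShortExact)
    (hinj : ∀ k, Injective (T.X₁.X k)) :
    (T.map (F.mapHomologicalComplex (ComplexShape.up ℤ))).ShortExact := by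
  apply HomologicalComplex.shortExact_of_degreewise_shortExact
  intro k
  have hk : (T.map (HomologicalComplex.eval C (ComplexShape.up ℤ) k)).ShortExact :=
    (HomologicalComplex.shortExact_iff_degreewise_shortExact T).1 hT k
  have : Injective (T.map (HomologicalComplex.eval C (ComplexShape.up ℤ) k)).X₁ := hinj k
  exact ((hk.splittingOfInjective).map F).shortExact

lemma exact_of_isos {𝒜 : Type*} [Category 𝒜] [Abelian 𝒜] {A₁ A₂ A₃ B₁ B₂ B₃ : 𝒜}
    (u : A₁ ⟶ A₂) (v : A₂ ⟶ A₃) (u' : B₁ ⟶ B₂) (v' : B₂ ⟶ B₃) (w' : u' ≫ v' = 0)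
    (h : (ShortComplex.mk u' v' w').Exact) (e₁ : A₁ ≅ B₁) (e₂ : A₂ ≅ B₂) (e₃ : A₃ ≅ B₃)
    (c₁ : u ≫ e₂.hom = e₁.hom ≫ u') (c₂ : v ≫ e₃.hom = e₂.hom ≫ v') :
    ∃ w : u ≫ v = 0, (ShortComplex.mk u v w).Exact := by
  have w : u ≫ v = 0 := by
    rw [← cancel_mono e₃.hom, Category.assoc, c₂, reassoc_of% c₁, w', comp_zero, zero_comp]
  exact ⟨w, ShortComplex.exact_of_iso
    (ShortComplex.isoMk (S₁ := ShortComplex.mk u v w) (S₂ := ShortComplex.mk u' v' w')
      e₁ e₂ e₃ c₁.symm c₂.symm).symm h⟩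

/-- **Long exact sequence of `RⁱF`** attached to a short exact sequence of bounded below
complexes. -/
theorem les [EnoughInjectives C] {X₁ X₂ X₃ : CochainComplex.Plus C} (f : X₁ ⟶ X₂) (g : X₂ ⟶ X₃)
    (w : f.hom ≫ g.hom = 0) (hS : (ShortComplex.mk f.hom g.hom w).ShortExact) (i : ℤ) :
    ∃ (δ : (Φ F i).obj X₃ ⟶ (Φ F (i + 1)).obj X₁)
      (w₁ : (Φ F i).map f ≫ (Φ F i).map g = 0) (w₂ : (Φ F i).map g ≫ δ = 0)
      (w₃ : δ ≫ (Φ F (i + 1)).map f = 0),
      (ShortComplex.mk _ _ w₁).Exact ∧ (ShortComplex.mk _ _ w₂).Exact ∧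
        (ShortComplex.mk _ _ w₃).Exact := by
  obtain ⟨n₁, hn₁⟩ := X₁.property
  obtain ⟨n₂, hn₂⟩ := X₂.property
  obtain ⟨n₃, hn₃⟩ := X₃.property
  let n := min n₁ (min n₂ n₃)
  let S := ShortComplex.mk f.hom g.hom w
  have h₁ : S.X₁.IsStrictlyGE n := X₁.obj.isStrictlyGE_of_ge n n₁ (by simp [n])
  have h₂ : S.X₂.IsStrictlyGE n := X₂.obj.isStrictlyGE_of_ge n n₂ (by simp [n])
  have h₃ : S.X₃.IsStrictlyGE n := X₃.obj.isStrictlyGE_of_ge n n₃ (by simp [n])
  obtain ⟨T, φ, hT, hT₁, hT₂, hT₃, hinj, q₁, q₂, q₃⟩ := InjRes.horseshoe S hS n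
  let T₁ : CochainComplex.Plus C := ⟨T.X₁, n, hT₁⟩
  let T₂ : CochainComplex.Plus C := ⟨T.X₂, n, hT₂⟩
  let T₃ : CochainComplex.Plus C := ⟨T.X₃, n, hT₃⟩
  let f' : T₁ ⟶ T₂ := ObjectProperty.homMk T.f
  let g' : T₂ ⟶ T₃ := ObjectProperty.homMk T.g
  let φ₁ : X₁ ⟶ T₁ := ObjectProperty.homMk φ.τ₁
  let φ₂ : X₂ ⟶ T₂ := ObjectProperty.homMk φ.τ₂
  let φ₃ : X₃ ⟶ T₃ := ObjectProperty.homMk φ.τ₃
  have cf : f ≫ φ₂ = φ₁ ≫ f' := by
    ext : 1
    exact φ.comm₁₂.symm
  have cg : g ≫ φ₃ = φ₂ ≫ g' := by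
    ext : 1
    exact φ.comm₂₃.symm
  have i₁ : ∀ k, Injective (T₁.obj.X k) := fun k => (hinj k).1
  have i₂ : ∀ k, Injective (T₂.obj.X k) := fun k => (hinj k).2.1
  have i₃ : ∀ k, Injective (T₃.obj.X k) := fun k => (hinj k).2.2
  have hS' := shortExact_map_of_injective F T hT i₁
  -- comparison isomorphisms
  let a₁ := cmp F i φ₁ q₁ i₁
  let a₂ := cmp F i φ₂ q₂ i₂
  let a₃ := cmp F i φ₃ q₃ i₃
  let b₁ := cmp F (i + 1) φ₁ q₁ i₁
  let b₂ := cmp F (i + 1) φ₂ q₂ i₂
  have ca₁ : (Φ F i).map f ≫ a₂.hom = a₁.hom ≫ (Ω F i).map f' :=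
    cmp_naturality F i φ₁ q₁ i₁ φ₂ q₂ i₂ f f' cf
  have ca₂ : (Φ F i).map g ≫ a₃.hom = a₂.hom ≫ (Ω F i).map g' :=
    cmp_naturality F i φ₂ q₂ i₂ φ₃ q₃ i₃ g g' cg
  have cb₁ : (Φ F (i + 1)).map f ≫ b₂.hom = b₁.hom ≫ (Ω F (i + 1)).map f' :=
    cmp_naturality F (i + 1) φ₁ q₁ i₁ φ₂ q₂ i₂ f f' cf
  let δ' := hS'.δ i (i + 1) rfl
  have gen : ∀ {P Q R R' : D} (a : P ⟶ Q) (d : Q ⟶ R) (b : R' ≅ R),
      (a ≫ d ≫ b.inv) ≫ b.hom = a ≫ d := by
    intros; simp
  obtain ⟨w₁, e₁⟩ := exact_of_isos ((Φ F i).map f) ((Φ F i).map g) _ _ _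
    (hS'.homology_exact₂ i) a₁ a₂ a₃ ca₁ ca₂
  obtain ⟨w₂, e₂⟩ := exact_of_isos ((Φ F i).map g) (a₃.hom ≫ δ' ≫ b₁.inv) _ _ _
    (hS'.homology_exact₃ i (i + 1) rfl) a₂ a₃ b₁ ca₂ (gen _ _ _)
  obtain ⟨w₃, e₃⟩ := exact_of_isos (a₃.hom ≫ δ' ≫ b₁.inv) ((Φ F (i + 1)).map f) _ _ _
    (hS'.homology_exact₁ i (i + 1) rfl) a₃ b₁ b₂ (gen _ _ _) cb₁
  exact ⟨a₃.hom ≫ δ' ≫ b₁.inv, w₁, w₂, w₃, e₁, e₂, e₃⟩

end Groth.Agent.Lib.Helper6.RDPlus
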