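import Groth.Agent.Lib.Helper6.RDPlus

/-!
# More on `F.rightDerivedFunctorPlus`: vanishing below the bound, acyclic objects
-/

set_option autoImplicit false
universe w w' v v' u u'
open CategoryTheory CategoryTheory.Limits

namespace Groth.Agent.Lib.Helper6.RDPlus

variable {C : Type u} [Category.{v} C] [Abelian C] [HasDerivedCategory.{w} C]
  {D : Type u'} [Category.{v'} D] [Abelian D] [HasDerivedCategory.{w'} D]
  (F : C ⥤ D) [F.Additive] [EnoughInjectives C]

/-- `RⁱF X = 0` for `i < a` when `X` is strictly `≥ a`. -/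
lemma isZero_Φ_obj_of_isStrictlyGE (X : CochainComplex.Plus C) (a : ℤ) [X.obj.IsStrictlyGE a]
    (i : ℤ) (hi : i < a) : IsZero ((Φ F i).obj X) := by
  obtain ⟨L, j, hL, hinj, -, hq⟩ := InjRes.exists_mono_quasiIso_injective X.obj a
  let T : CochainComplex.Plus C := ⟨L, a, hL⟩
  let φ : X ⟶ T := ObjectProperty.homMk j
  refine IsZero.of_iso ?_ (cmp F i φ hq hinj)
  let FL : CochainComplex D ℤ := (F.mapHomologicalComplex (ComplexShape.up ℤ)).obj L
  have : FL.IsStrictlyGE a := by dsimp only [FL]; infer_instance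
  show IsZero (FL.homology i)
  exact ShortComplex.isZero_homology_of_isZero_X₂ _ (FL.isZero_of_isStrictlyGE a i hi)

omit [EnoughInjectives C] in
/-- Every object of `D⁺(C)` which is `≥ a` is isomorphic to the image of a complex which is
strictly `≥ a`. -/
lemma exists_iso_of_isGE (K : DerivedCategory.Plus C) (a : ℤ) [K.IsGE a] :
    ∃ (X : CochainComplex.Plus C) (_ : X.obj.IsStrictlyGE a),
      Nonempty (K ≅ (HomotopyCategory.Plus.quotient C ⋙ DerivedCategory.Plus.Qh).obj X) := by
  obtain ⟨K', hK', ⟨e⟩⟩ := DerivedCategory.exists_iso_Q_obj_of_isGE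
    (DerivedCategory.Plus.ι.obj K) a
  let X : CochainComplex.Plus C := ⟨K', a, hK'⟩
  refine ⟨X, hK', ⟨(ObjectProperty.fullyFaithfulι _).preimageIso ?_⟩⟩
  exact e ≪≫ ((DerivedCategory.quotientCompQhIso C).app K').symm ≪≫
    ((DerivedCategory.Plus.QhCompιIsoιCompQh (C := C)).app
      ((HomotopyCategory.Plus.quotient C).obj X)).symm

/-- `RF` preserves the property of being `≥ a`. -/
theorem isGE_rightDerivedFunctorPlus_obj (K : DerivedCategory.Plus C) (a : ℤ) [K.IsGE a] :
    (F.rightDerivedFunctorPlus.obj K).IsGE a := by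
  obtain ⟨X, hX, ⟨e⟩⟩ := exists_iso_of_isGE K a
  have : (F.rightDerivedFunctorPlus.obj
      ((HomotopyCategory.Plus.quotient C ⋙ DerivedCategory.Plus.Qh).obj X)).IsGE a := by
    rw [← DerivedCategory.Plus.isGE_ι_obj_iff, DerivedCategory.isGE_iff]
    intro i hi
    exact isZero_Φ_obj_of_isStrictlyGE F X a i hi
  exact DerivedCategory.Plus.TStructure.t.isGE_of_iso (F.rightDerivedFunctorPlus.mapIso e).symm a

end Groth.Agent.Lib.Helper6.RDPlus

namespace Groth.Agent.Lib.Helper6.RDPlus

variable {C : Type u} [Category.{v} C] [Abelian C] [HasDerivedCategory.{w} C]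
  {D : Type u'} [Category.{v'} D] [Abelian D] [HasDerivedCategory.{w'} D]
  (F : C ⥤ D) [F.Additive]

variable (C) in
/-- An object viewed as a bounded below complex concentrated in degree `0`. -/
noncomputable def sing : C ⥤ CochainComplex.Plus C :=
  ObjectProperty.lift _ (CochainComplex.singleFunctor C 0) (fun _ => ⟨0, inferInstance⟩)

omit [HasDerivedCategory.{w} C] in
lemma singleFunctor_obj_eq (X : C) :
    (HomotopyCategory.Plus.singleFunctor C 0).obj X =
      (HomotopyCategory.Plus.quotient C).obj ((sing C).obj X) := rfl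

instance (X : C) : ((sing C).obj X).obj.IsStrictlyGE 0 :=
  inferInstanceAs (((CochainComplex.singleFunctor C 0).obj X).IsStrictlyGE 0)

/-- the classical derived functors, via `D⁺` -/
noncomputable abbrev R [EnoughInjectives C] (n : ℤ) : C ⥤ D := sing C ⋙ Φ F n

/-- `X ↦ Hⁿ(F(X[0]))` computed in the derived category -/
noncomputable abbrev G (n : ℤ) : C ⥤ D := sing C ⋙ Ψ F n

/-- the canonical map `Hⁿ(F(X[0])) ⟶ RⁿF(X)` -/
noncomputable abbrev τ [EnoughInjectives C] (n : ℤ) : G F n ⟶ R F n :=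
  Functor.whiskerLeft (sing C) (η' F n)

/-- `G F n ≅ X ↦ Hⁿ(F(X[0]))` computed naively. -/
noncomputable def GIsoΩ (n : ℤ) : G F n ≅ sing C ⋙ Ω F n :=
  NatIso.ofComponents (fun X => νApp F n ((sing C).obj X))
    (fun f => νApp_naturality F n ((sing C).map f))

omit [HasDerivedCategory.{w} C] [HasDerivedCategory.{w'} D] in
/-- `H⁰(F(X[0])) ≅ F X`, naturally. -/
noncomputable def singΩZeroIso : sing C ⋙ Ω F 0 ≅ F :=
  Functor.isoWhiskerRight (HomologicalComplex.singleMapHomologicalComplex F (ComplexShape.up ℤ) 0)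
      (HomologicalComplex.homologyFunctor D (ComplexShape.up ℤ) 0) ≪≫
    Functor.isoWhiskerLeft F (HomologicalComplex.homologyFunctorSingleIso D (ComplexShape.up ℤ) 0) ≪≫
    F.rightUnitor

/-- `G F 0 ≅ F`. -/
noncomputable def GZeroIso : G F 0 ≅ F := GIsoΩ F 0 ≪≫ singΩZeroIso F

omit [HasDerivedCategory.{w} C] [HasDerivedCategory.{w'} D] in
lemma isZero_singΩ_obj (X : C) (n : ℤ) (hn : n ≠ 0) : IsZero ((sing C ⋙ Ω F n).obj X) := by
  let K : CochainComplex D ℤ :=
    (F.mapHomologicalComplex (ComplexShape.up ℤ)).obj ((CochainComplex.singleFunctor C 0).obj X)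
  show IsZero (K.homology n)
  apply ShortComplex.isZero_homology_of_isZero_X₂
  exact F.map_isZero (HomologicalComplex.isZero_single_obj_X (ComplexShape.up ℤ) 0 X n hn)

lemma isZero_G_obj (X : C) (n : ℤ) (hn : n ≠ 0) : IsZero ((G F n).obj X) :=
  IsZero.of_iso (isZero_singΩ_obj F X n hn) ((GIsoΩ F n).app X)

section

variable [EnoughInjectives C]

lemma isZero_R_obj_of_neg (X : C) (n : ℤ) (hn : n < 0) : IsZero ((R F n).obj X) :=
  isZero_Φ_obj_of_isStrictlyGE F ((sing C).obj X) 0 n hn

/-- The unit of the derived functor at `X[0]` is an isomorphism iff all `τ` are. -/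
lemma isIso_unit_single_iff (X : C) :
    IsIso (F.rightDerivedFunctorPlusUnit.app ((HomotopyCategory.Plus.singleFunctor C 0).obj X)) ↔
      ∀ n, IsIso ((τ F n).app X) := by
  rw [DerivedCategory.Plus.isIso_iff]
  rfl

/-- The unit of the derived functor at `X[0]` is an isomorphism iff `F X ≅ R⁰F X` and the higher
derived functors vanish. -/
lemma isIso_unit_single_iff' (X : C) :
    IsIso (F.rightDerivedFunctorPlusUnit.app ((HomotopyCategory.Plus.singleFunctor C 0).obj X)) ↔
      IsIso ((τ F 0).app X) ∧ ∀ n : ℤ, 0 < n → IsZero ((R F n).obj X) := by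
  rw [isIso_unit_single_iff]
  constructor
  · intro h
    refine ⟨h 0, fun n hn => ?_⟩
    have := h n
    exact IsZero.of_iso (isZero_G_obj F X n hn.ne') (asIso ((τ F n).app X)).symm
  · rintro ⟨h0, h⟩ n
    rcases lt_trichotomy n 0 with hn | rfl | hn
    · exact ⟨0, (isZero_G_obj F X n hn.ne).eq_of_src _ _,
        (isZero_R_obj_of_neg F X n hn).eq_of_src _ _⟩
    · exact h0
    · exact ⟨0, (isZero_G_obj F X n hn.ne').eq_of_src _ _, (h n hn).eq_of_src _ _⟩

lemma isIso_τ_app_of_injective (X : C) [Injective X] (n : ℤ) : IsIso ((τ F n).app X) := by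
  refine isIso_η'_app F n ((sing C).obj X) (fun k => ?_)
  show Injective (((HomologicalComplex.single C (ComplexShape.up ℤ) 0).obj X).X k)
  infer_instance

lemma isZero_R_obj_of_injective (X : C) [Injective X] (n : ℤ) (hn : n ≠ 0) :
    IsZero ((R F n).obj X) := by
  have := isIso_τ_app_of_injective F X n
  exact IsZero.of_iso (isZero_G_obj F X n hn) (asIso ((τ F n).app X)).symm

/-- The long exact sequence of the classical derived functors. -/
theorem les_R (S : ShortComplex C) (hS : S.ShortExact) (n : ℤ) :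
    ∃ (δ : (R F n).obj S.X₃ ⟶ (R F (n + 1)).obj S.X₁)
      (w₁ : (R F n).map S.f ≫ (R F n).map S.g = 0) (w₂ : (R F n).map S.g ≫ δ = 0)
      (w₃ : δ ≫ (R F (n + 1)).map S.f = 0),
      (ShortComplex.mk _ _ w₁).Exact ∧ (ShortComplex.mk _ _ w₂).Exact ∧
        (ShortComplex.mk _ _ w₃).Exact := by
  have hS' : (S.map (CochainComplex.singleFunctor C 0)).ShortExact :=
    hS.map_of_exact (HomologicalComplex.single C (ComplexShape.up ℤ) 0)
  exact les F ((sing C).map S.f) ((sing C).map S.g) (S.map (CochainComplex.singleFunctor C 0)).zero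
    hS' n

/-- `R⁰F` preserves monomorphisms. -/
lemma mono_R_zero_map {X Y : C} (i : X ⟶ Y) [Mono i] : Mono ((R F 0).map i) := by
  let S := ShortComplex.mk i (cokernel.π i) (cokernel.condition i)
  have hS : S.ShortExact :=
    { exact := ShortComplex.exact_cokernel i
      mono_f := inferInstance
      epi_g := inferInstance }
  obtain ⟨δ, w₁, w₂, w₃, e₁, e₂, e₃⟩ := les_R F S hS (-1)
  have hδ : δ = 0 := (isZero_R_obj_of_neg F S.X₃ (-1) (by lia)).eq_of_src _ _
  exact e₃.mono_g hδ

end

end Groth.Agent.Lib.Helper6.RDPlus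

namespace Groth.Agent.Lib.Helper6.RDPlus

variable {C : Type u} [Category.{v} C] [Abelian C] [HasDerivedCategory.{w} C]
  {D : Type u'} [Category.{v'} D] [Abelian D] [HasDerivedCategory.{w'} D]
  (F : C ⥤ D) [F.Additive]

instance : (G F 0).PreservesZeroMorphisms where
  map_zero X Y := by
    rw [← cancel_mono ((GZeroIso F).hom.app Y), (GZeroIso F).hom.naturality, F.map_zero,
      comp_zero, zero_comp]

open ZeroObject in
lemma isZero_G_obj_zero (n : ℤ) : IsZero ((G F n).obj (0 : C)) := by
  by_cases hn : n = 0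
  · subst hn
    exact IsZero.of_iso (F.map_isZero (isZero_zero C)) ((GZeroIso F).app 0)
  · exact isZero_G_obj F 0 n hn

open ZeroObject in
lemma isZero_R_obj_zero [EnoughInjectives C] (n : ℤ) : IsZero ((R F n).obj (0 : C)) := by
  have : Injective (0 : C) := (isZero_zero C).injective
  have := isIso_τ_app_of_injective F (0 : C) n
  exact IsZero.of_iso (isZero_G_obj_zero F n) (asIso ((τ F n).app 0)).symm

open ZeroObject in
instance [EnoughInjectives C] (n : ℤ) : (R F n).PreservesZeroMorphisms where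
  map_zero X Y := by
    have h : (0 : X ⟶ Y) = (0 : X ⟶ (0 : C)) ≫ (0 : (0 : C) ⟶ Y) := by simp
    rw [h, Functor.map_comp, (isZero_R_obj_zero F n).eq_of_tgt ((R F n).map (0 : X ⟶ 0)) 0,
      zero_comp]

end Groth.Agent.Lib.Helper6.RDPlus
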