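import Groth.Agent.Lib.Helper6.RDPlus2
import Groth.Agent.Lib.Helper6.ExtendFunctor

/-!
# Comparison of `F.rightDerivedFunctorPlus` with the classical derived functors `F.rightDerived`
-/

set_option autoImplicit false
universe w w' v v' u u'
open CategoryTheory CategoryTheory.Limits

namespace Groth.Agent.Lib.Helper6.RDPlus

variable {C : Type u} [Category.{v} C] [Abelian C] [HasDerivedCategory.{w} C]
  {D : Type u'} [Category.{v'} D] [Abelian D] [HasDerivedCategory.{w'} D]
  (F : C ⥤ D) [F.Additive]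

section

variable [EnoughInjectives C]

/-- The unit is an isomorphism on `Hⁱ` iff `F` applied to an injective resolution is. -/
lemma isIso_η'_app_iff {X T : CochainComplex.Plus C} (φ : X ⟶ T) (hφ : QuasiIso φ.hom)
    (hT : ∀ n, Injective (T.obj.X n)) (i : ℤ) :
    IsIso ((η' F i).app X) ↔ IsIso ((Ω F i).map φ) := by
  have := isIso_Φ_map F i φ hφ
  have := isIso_η'_app F i T hT
  have e1 : (η' F i).app X ≫ (Φ F i).map φ = (Ψ F i).map φ ≫ (η' F i).app T :=
    ((η' F i).naturality φ).symm
  have e2 : (Ψ F i).map φ ≫ (νApp F i T).hom = (νApp F i X).hom ≫ (Ω F i).map φ :=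
    νApp_naturality F i φ
  rw [← isIso_comp_right_iff ((η' F i).app X) ((Φ F i).map φ), e1,
    isIso_comp_right_iff, ← isIso_comp_right_iff ((Ψ F i).map φ) (νApp F i T).hom, e2,
    isIso_comp_left_iff]

/-- The unit of the derived functor at `X` is an isomorphism iff `F` applied to an injective
resolution `X ⟶ T` is a quasi-isomorphism. -/
lemma isIso_unit_iff_quasiIso {X T : CochainComplex.Plus C} (φ : X ⟶ T) (hφ : QuasiIso φ.hom)
    (hT : ∀ n, Injective (T.obj.X n)) :
    IsIso (F.rightDerivedFunctorPlusUnit.app ((HomotopyCategory.Plus.quotient C).obj X)) ↔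
      QuasiIso ((F.mapHomologicalComplex (ComplexShape.up ℤ)).map φ.hom) := by
  rw [DerivedCategory.Plus.isIso_iff, quasiIso_iff]
  refine forall_congr' (fun n => ?_)
  rw [quasiIsoAt_iff_isIso_homologyMap]
  exact isIso_η'_app_iff F φ hφ hT n

end


section Classical

omit [HasDerivedCategory.{w} C] [HasDerivedCategory.{w'} D]

lemma isIso_iff_isZero_of_isZero_src {𝒜 : Type*} [Category 𝒜] [HasZeroMorphisms 𝒜] {P Q : 𝒜}
    (f : P ⟶ Q) (hP : IsZero P) : IsIso f ↔ IsZero Q :=
  ⟨fun _ => IsZero.of_iso hP (asIso f).symm,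
    fun hQ => ⟨0, hP.eq_of_src _ _, hQ.eq_of_src _ _⟩⟩

variable {X : C} (R : InjectiveResolution X)

/-- `F(ι')` is a quasi-isomorphism iff `F(ι)` is. -/
lemma quasiIso_map_ι'_iff :
    QuasiIso ((F.mapHomologicalComplex (ComplexShape.up ℤ)).map R.ι') ↔
      QuasiIso ((F.mapHomologicalComplex (ComplexShape.up ℕ)).map R.ι) := by
  have gen : ∀ {P Q Rr : CochainComplex C ℤ} (a : P ⟶ Q) [IsIso a] (b : Q ⟶ Rr),
      QuasiIso ((F.mapHomologicalComplex (ComplexShape.up ℤ)).map (a ≫ b)) ↔
        QuasiIso ((F.mapHomologicalComplex (ComplexShape.up ℤ)).map b) := by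
    intro P Q Rr a _ b
    rw [Functor.map_comp, quasiIso_iff_comp_left]
  have h1 : R.ι' = (HomologicalComplex.extendSingleIso _ _ _ _ (by simp)).inv ≫
      HomologicalComplex.extendMap R.ι ComplexShape.embeddingUpNat := rfl
  rw [h1]
  refine (@gen _ _ _ _ (Iso.isIso_inv _) _).trans ?_
  rw [← HomologicalComplex.quasiIso_extendMap_iff
    ((F.mapHomologicalComplex (ComplexShape.up ℕ)).map R.ι) ComplexShape.embeddingUpNat]
  exact quasiIso_iff_of_arrow_mk_iso _ _
    (Arrow.isoMk (ExtendFunctor.mapExtendIso ComplexShape.embeddingUpNat F _)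
      (ExtendFunctor.mapExtendIso ComplexShape.embeddingUpNat F _)
      (ExtendFunctor.mapExtendIso_naturality ComplexShape.embeddingUpNat F R.ι).symm)

lemma map_single₀_d (i j : ℕ) :
    ((F.mapHomologicalComplex (ComplexShape.up ℕ)).obj ((CochainComplex.single₀ C).obj X)).d i j =
      0 := by
  show F.map (((HomologicalComplex.single C (ComplexShape.up ℕ) 0).obj X).d i j) = 0
  rw [HomologicalComplex.single_obj_d, F.map_zero]

lemma quasiIsoAt_zero_iff :
    QuasiIsoAt ((F.mapHomologicalComplex (ComplexShape.up ℕ)).map R.ι) 0 ↔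
      IsIso (R.toRightDerivedZero' F) := by
  have hf₂ : (((F.mapHomologicalComplex (ComplexShape.up ℕ)).obj R.cocomplex).sc 0).f = 0 := by
    refine HomologicalComplex.shape
      ((F.mapHomologicalComplex (ComplexShape.up ℕ)).obj R.cocomplex)
      ((ComplexShape.up ℕ).prev 0) 0 ?_
    show ¬ ((ComplexShape.up ℕ).prev 0 + 1 = 0)
    lia
  rw [quasiIsoAt_iff, ShortComplex.quasiIso_iff_isIso_liftCycles _ (map_single₀_d F _ _)
    (map_single₀_d F _ _) hf₂]
  rfl

/-- `F(ι)` is a quasi-isomorphism iff `F X ≅ Z⁰(F I)` and `Hⁿ(F I) = 0` for `n > 0`. -/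
lemma quasiIso_map_ι_iff :
    QuasiIso ((F.mapHomologicalComplex (ComplexShape.up ℕ)).map R.ι) ↔
      IsIso (R.toRightDerivedZero' F) ∧
        ∀ k : ℕ, IsZero (((F.mapHomologicalComplex (ComplexShape.up ℕ)).obj R.cocomplex).homology
          (k + 1)) := by
  rw [quasiIso_iff]
  constructor
  · intro h
    refine ⟨?_, fun k => ?_⟩
    · exact (quasiIsoAt_zero_iff F R).1 (h 0)
    · have hk := h (k + 1)
      rw [quasiIsoAt_iff_isIso_homologyMap, isIso_iff_isZero_of_isZero_src] at hk
      · exact hk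
      · apply ShortComplex.isZero_homology_of_isZero_X₂
        exact F.map_isZero (HomologicalComplex.isZero_single_obj_X (ComplexShape.up ℕ) 0 X (k + 1)
          (by lia))
  · rintro ⟨h0, h⟩ n
    obtain _ | k := n
    · exact (quasiIsoAt_zero_iff F R).2 h0
    · rw [quasiIsoAt_iff_isIso_homologyMap, isIso_iff_isZero_of_isZero_src]
      · exact h k
      · apply ShortComplex.isZero_homology_of_isZero_X₂
        exact F.map_isZero (HomologicalComplex.isZero_single_obj_X (ComplexShape.up ℕ) 0 X (k + 1)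
          (by lia))

end Classical

/-- The unit of `F.rightDerivedFunctorPlus` at `X[0]` is an isomorphism iff `F X ≅ R⁰F X` and
`RⁱF X = 0` for `i > 0`, in terms of the classical derived functors. -/
theorem isIso_unit_single_iff_classical [EnoughInjectives C] (X : C) :
    IsIso (F.rightDerivedFunctorPlusUnit.app ((HomotopyCategory.Plus.singleFunctor C 0).obj X)) ↔
      (IsIso (F.toRightDerivedZero.app X) ∧
        ∀ i : ℕ, 0 < i → IsZero ((F.rightDerived i).obj X)) := by
  let R := injectiveResolution X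
  let T : CochainComplex.Plus C := ⟨R.cochainComplex, 0, inferInstance⟩
  let φ : (sing C).obj X ⟶ T := ObjectProperty.homMk R.ι'
  have hφ : QuasiIso φ.hom := inferInstanceAs (QuasiIso R.ι')
  have hT : ∀ n, Injective (T.obj.X n) := fun n => inferInstanceAs (Injective (R.cochainComplex.X n))
  rw [singleFunctor_obj_eq, isIso_unit_iff_quasiIso F φ hφ hT]
  show QuasiIso ((F.mapHomologicalComplex (ComplexShape.up ℤ)).map R.ι') ↔ _
  rw [quasiIso_map_ι'_iff, quasiIso_map_ι_iff]
  have e0 : IsIso (F.toRightDerivedZero.app X) ↔ IsIso (R.toRightDerivedZero' F) := by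
    rw [R.toRightDerivedZero_eq F]
    have : IsIso ((CochainComplex.isoHomologyπ₀
        ((F.mapHomologicalComplex (ComplexShape.up ℕ)).obj R.cocomplex)).hom ≫
          (R.isoRightDerivedObj F 0).inv) :=
      IsIso.comp_isIso' (Iso.isIso_hom _) (Iso.isIso_inv _)
    exact isIso_comp_right_iff _ _
  have ek : ∀ k : ℕ, IsZero ((F.rightDerived (k + 1)).obj X) ↔
      IsZero (((F.mapHomologicalComplex (ComplexShape.up ℕ)).obj R.cocomplex).homology
          (k + 1)) := fun k => (R.isoRightDerivedObj F (k + 1)).isZero_iff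
  rw [e0]
  refine and_congr Iff.rfl ⟨fun h i hi => ?_, fun h k => (ek k).1 (h (k + 1) (by lia))⟩
  obtain ⟨k, rfl⟩ : ∃ k, i = k + 1 := ⟨i - 1, by lia⟩
  exact (ek k).2 (h k)

end Groth.Agent.Lib.Helper6.RDPlus
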