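import Groth.Agent.Lib.Helper6.RDPlus4

/-!
# Composition of right derived functors on `D⁺` (Grothendieck)
-/

set_option autoImplicit false
universe w v u
open CategoryTheory CategoryTheory.Limits

namespace Groth.Agent.Lib.Helper6.RDPlus

variable {A B C : Type u}
    [Category.{v} A] [Category.{v} B] [Category.{v} C] [Abelian A] [Abelian B] [Abelian C]
    [HasDerivedCategory.{w} A] [HasDerivedCategory.{w} B] [HasDerivedCategory.{w} C]
    [EnoughInjectives A] [EnoughInjectives B]
    (F : A ⥤ B) [F.Additive] (G : B ⥤ C) [G.Additive] [PreservesFiniteLimits G]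
    (H : A ⥤ C) [H.Additive] (e : F ⋙ G ≅ H)

/-- the natural transformation exhibiting `RF ⋙ RG` as a derived functor of `H ≅ F ⋙ G` -/
noncomputable def compUnit :
    H.mapHomotopyCategoryPlus ⋙ DerivedCategory.Plus.Qh ⟶
      DerivedCategory.Plus.Qh ⋙ (F.rightDerivedFunctorPlus ⋙ G.rightDerivedFunctorPlus) :=
  Functor.whiskerRight (Functor.mapHomotopyCategoryPlusCompIso e).inv DerivedCategory.Plus.Qh
        ≫ (Functor.associator _ _ _).hom
        ≫ Functor.whiskerLeft F.mapHomotopyCategoryPlus G.rightDerivedFunctorPlusUnit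
        ≫ (Functor.associator _ _ _).inv
        ≫ Functor.whiskerRight F.rightDerivedFunctorPlusUnit G.rightDerivedFunctorPlus
        ≫ (Functor.associator _ _ _).hom

/-- **Grothendieck's composition theorem**: if `F` sends injectives to `G`-acyclics, then
`RF ⋙ RG` is a right derived functor of `H ≅ F ⋙ G`. -/
theorem comp_isRightDerivedFunctor
    (hFG : ∀ I : A, Injective I → Acyc G (F.obj I)) :
    (F.rightDerivedFunctorPlus ⋙ G.rightDerivedFunctorPlus).IsRightDerivedFunctor
      (compUnit F G H e) (HomotopyCategory.Plus.quasiIso A) := by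
  refine (HomotopyCategory.Plus.localizerMorphism_derives
    (H.mapHomotopyCategoryPlus ⋙ DerivedCategory.Plus.Qh)).isRightDerivedFunctor_of_isIso
    _ (fun X₁ => ?_)
  obtain ⟨L, rfl⟩ := HomotopyCategory.Plus.quotient_obj_surjective X₁
  let K : CochainComplex.Plus A := (InjectiveObject.ι A).mapCochainComplexPlus.obj L
  have hK : ∀ n, Injective (K.obj.X n) := fun n => (L.obj.X n).property
  have h1 : IsIso (F.rightDerivedFunctorPlusUnit.app ((HomotopyCategory.Plus.quotient A).obj K)) :=
    isIso_unit_of_injective F K hK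
  have h2 : IsIso (G.rightDerivedFunctorPlusUnit.app
      ((HomotopyCategory.Plus.quotient B).obj (F.mapCochainComplexPlus.obj K))) :=
    isIso_unit_of_acyc G (F.mapCochainComplexPlus.obj K) (fun m => hFG _ (hK m))
  dsimp only [compUnit]
  simp only [NatTrans.comp_app, Functor.whiskerRight_app, Functor.associator_hom_app,
    Functor.associator_inv_app, Functor.whiskerLeft_app, Category.id_comp, Category.comp_id]
  have h1' : IsIso (F.rightDerivedFunctorPlusUnit.app
      ((InjectiveObject.ι A).mapHomotopyCategoryPlus.obj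
        ((HomotopyCategory.Plus.quotient (InjectiveObject A)).obj L))) := h1
  have h2'' : IsIso (G.rightDerivedFunctorPlusUnit.app
      (F.mapHomotopyCategoryPlus.obj ((InjectiveObject.ι A).mapHomotopyCategoryPlus.obj
        ((HomotopyCategory.Plus.quotient (InjectiveObject A)).obj L)))) := h2
  have h3 : IsIso (G.rightDerivedFunctorPlus.map (F.rightDerivedFunctorPlusUnit.app
      ((InjectiveObject.ι A).mapHomotopyCategoryPlus.obj
        ((HomotopyCategory.Plus.quotient (InjectiveObject A)).obj L)))) := Functor.map_isIso _ _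
  have h0 : IsIso (DerivedCategory.Plus.Qh.map
        ((Functor.mapHomotopyCategoryPlusCompIso e).inv.app
          ((InjectiveObject.ι A).mapHomotopyCategoryPlus.obj
            ((HomotopyCategory.Plus.quotient (InjectiveObject A)).obj L)))) :=
    Functor.map_isIso _ _
  exact IsIso.comp_isIso' h0 (IsIso.comp_isIso' h2'' h3)

/-- `RF ⋙ RG ≅ RH` when `F ⋙ G ≅ H` and `F` sends injectives to `G`-acyclics. -/
noncomputable def compIso (hFG : ∀ I : A, Injective I → Acyc G (F.obj I)) :
    F.rightDerivedFunctorPlus ⋙ G.rightDerivedFunctorPlus ≅ H.rightDerivedFunctorPlus :=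
  have := comp_isRightDerivedFunctor F G H e hFG
  Functor.rightDerivedUnique _ _ (compUnit F G H e) H.rightDerivedFunctorPlusUnit
    (HomotopyCategory.Plus.quasiIso A)

end Groth.Agent.Lib.Helper6.RDPlus
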