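import Mathlib
import Groth.Agent.Lib.Helper6.RFAcyc
import Groth.Agent.Lib.Helper6.SigmaGE
import Groth.Agent.Lib.Helper6.CountableCoprod

/-!
# The unit of the unbounded right derived functor on unbounded complexes of acyclic objects,
when `RF` commutes with countable coproducts (helper6)
-/

set_option autoImplicit false
set_option linter.style.haveILetI false
set_option linter.unusedSectionVars false

universe w w' v v' u u'

namespace Groth.Agent.Lib.Helper6.RFAcyc2

open CategoryTheory CategoryTheory.Limits CategoryTheory.Pretriangulated DerivedCategory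

section Telescope

variable {𝒜 : Type u} [Category.{v} 𝒜] [Abelian 𝒜] {M : ℕ → 𝒜} (f : ∀ n, M n ⟶ M (n + 1))
  [HasCoproduct M] (c : Cocone (Functor.ofSequence f))

/-- the legs of a cocone over a sequence -/
def legs (n : ℕ) : M n ⟶ c.pt := c.ι.app n

lemma legs_w (n : ℕ) : f n ≫ legs f c (n + 1) = legs f c n := by
  have := c.w (homOfLE (Nat.le_add_right n 1))
  rw [Functor.ofSequence_map_homOfLE_succ] at this
  exact this

open Groth.Agent.Lib.Helper6.SeqColim in
lemma one_sub_shiftMap_comp_desc :
    (𝟙 (∐ M) - DerLim.shiftMap M f) ≫ Sigma.desc (legs f c) = 0 := by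
  refine Sigma.hom_ext _ _ fun n => ?_
  rw [← Category.assoc, ι_one_sub_shiftMap, Preadditive.sub_comp, Sigma.ι_desc, Category.assoc,
    Sigma.ι_desc, comp_zero, sub_eq_zero, legs_w]

open Groth.Agent.Lib.Helper6.SeqColim in
/-- the colimit of a sequence is the cokernel of `1 - shift` (arbitrary colimit cocone) -/
noncomputable def isCokernel (hc : IsColimit c) :
    IsColimit (CokernelCofork.ofπ (Sigma.desc (legs f c)) (one_sub_shiftMap_comp_desc f c)) :=
  CokernelCofork.IsColimit.ofπ _ _
    (fun {Z} g' hg' => hc.desc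
      { pt := Z
        ι := NatTrans.ofSequence (F := Functor.ofSequence f) (G := (Functor.const ℕ).obj Z)
          (fun n => Sigma.ι M n ≫ g') (fun n => by
            have h : (Sigma.ι M n ≫ (𝟙 (∐ M) - DerLim.shiftMap M f)) ≫ g' = 0 := by
              rw [Category.assoc, hg', comp_zero]
            rw [ι_one_sub_shiftMap, Preadditive.sub_comp, sub_eq_zero, Category.assoc] at h
            simp only [Functor.ofSequence_map_homOfLE_succ, Functor.const_obj_obj,
              Functor.const_obj_map, Category.comp_id]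
            exact h.symm) })
    (fun {Z} g' hg' => by
      refine Sigma.hom_ext _ _ fun n => ?_
      rw [← Category.assoc, Sigma.ι_desc]
      exact hc.fac _ _)
    (fun {Z} g' hg' m hm => by
      refine hc.hom_ext fun n => ?_
      rw [hc.fac]
      change legs f c n ≫ m = Sigma.ι M n ≫ g'
      rw [← hm, ← Category.assoc, Sigma.ι_desc])

open Groth.Agent.Lib.Helper6.SeqColim in
/-- the telescope short exact sequence for an arbitrary colimit cocone -/
theorem shortExact [HasColimitsOfShape ℕ 𝒜] [HasExactColimitsOfShape ℕ 𝒜] (hc : IsColimit c) :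
    (ShortComplex.mk _ _ (one_sub_shiftMap_comp_desc f c)).ShortExact := by
  have h1 : Mono (𝟙 (∐ M) - DerLim.shiftMap M f) := mono_one_sub_shiftMap f
  have h2 : Epi (Sigma.desc (legs f c)) := epi_of_isColimit_cofork (isCokernel f c hc)
  exact ShortComplex.ShortExact.mk' (ShortComplex.exact_of_g_is_cokernel _ (isCokernel f c hc)) h1 h2

end Telescope

section Main

open Groth.Agent.Lib.Helper6.RFAcyc Groth.Agent.Lib.Helper6.RFTriangle2

variable {A : Type u} [Category.{v} A] [Abelian A] [HasDerivedCategory.{w} A]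
  [IsGrothendieckAbelian.{v} A]
  {B : Type u'} [Category.{v'} B] [Abelian B] [HasDerivedCategory.{w'} B]
  (F : A ⥤ B) [F.Additive]
  (RF : DerivedCategory A ⥤ DerivedCategory B)
  (β : F.mapHomotopyCategory (ComplexShape.up ℤ) ⋙ Qh ⟶ Qh ⋙ RF)
  [RF.IsRightDerivedFunctor β (HomotopyCategory.quasiIso A (ComplexShape.up ℤ))]

/-- auxiliary: the third map of the morphism of triangles -/
lemma exists_iso_γ (S : ShortComplex (CochainComplex A ℤ)) (hS : S.ShortExact)
    (hFS : (S.map (F.mapHomologicalComplex (ComplexShape.up ℤ))).ShortExact)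
    (h₁ : IsIso ((bC F RF β).app S.X₁)) (h₂ : IsIso ((bC F RF β).app S.X₂)) :
    ∃ γ : Q.obj ((F.mapHomologicalComplex (ComplexShape.up ℤ)).obj S.X₃) ⟶ RF.obj (Q.obj S.X₃),
      IsIso γ ∧ Q.map ((F.mapHomologicalComplex (ComplexShape.up ℤ)).map S.g) ≫ γ =
        (bC F RF β).app S.X₂ ≫ RF.map (Q.map S.g) := by
  have hTA := triangleOfSES_distinguished hS
  obtain ⟨c, hc⟩ := exists_distinguished_map F RF β _ hTA
  have hTB := triangleOfSES_distinguished hFS
  obtain ⟨γ, hγ₂, hγ₃⟩ := complete_distinguished_triangle_morphism _ _ hTB hc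
    ((bC F RF β).app S.X₁) ((bC F RF β).app S.X₂) ((bC F RF β).naturality S.f)
  let φ : triangleOfSES hFS ⟶ Triangle.mk (RF.map (triangleOfSES hS).mor₁)
      (RF.map (triangleOfSES hS).mor₂) c :=
    { hom₁ := (bC F RF β).app S.X₁
      hom₂ := (bC F RF β).app S.X₂
      hom₃ := γ
      comm₁ := (bC F RF β).naturality S.f
      comm₂ := hγ₂
      comm₃ := hγ₃ }
  have hγ : IsIso γ := isIso₃_of_isIso₁₂ φ hTB hc h₁ h₂
  exact ⟨γ, hγ, hγ₂⟩

/-- abstract dévissage: if the unit is an isomorphism on the first two terms of a short exact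
sequence of complexes which `F` keeps short exact, and `F(g)` is surjective on cohomology,
then the unit is an isomorphism on the third term. -/
theorem isIso_bC_X₃ (S : ShortComplex (CochainComplex A ℤ)) (hS : S.ShortExact)
    (hFS : (S.map (F.mapHomologicalComplex (ComplexShape.up ℤ))).ShortExact)
    (h₁ : IsIso ((bC F RF β).app S.X₁)) (h₂ : IsIso ((bC F RF β).app S.X₂))
    (hepi : ∀ i : ℤ, Epi (HomologicalComplex.homologyMap
      ((F.mapHomologicalComplex (ComplexShape.up ℤ)).map S.g) i)) :
    IsIso ((bC F RF β).app S.X₃) := by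
  obtain ⟨γ, hγ, hγ₂⟩ := exists_iso_γ F RF β S hS hFS h₁ h₂
  have key : Q.map ((F.mapHomologicalComplex (ComplexShape.up ℤ)).map S.g) ≫ γ =
      Q.map ((F.mapHomologicalComplex (ComplexShape.up ℤ)).map S.g) ≫ (bC F RF β).app S.X₃ :=
    hγ₂.trans ((bC F RF β).naturality S.g).symm
  rw [DerivedCategory.isIso_iff]
  intro i
  have e : Epi ((homologyFunctor B i).map
      (Q.map ((F.mapHomologicalComplex (ComplexShape.up ℤ)).map S.g))) := by
    have h := NatIso.naturality_2 (homologyFunctorFactors B i)
      ((F.mapHomologicalComplex (ComplexShape.up ℤ)).map S.g)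
    dsimp only [Functor.comp_map] at h
    rw [← h]
    exact epi_comp' inferInstance (epi_comp' (hepi i) inferInstance)
  have h3 : (homologyFunctor B i).map ((bC F RF β).app S.X₃) = (homologyFunctor B i).map γ := by
    rw [← cancel_epi ((homologyFunctor B i).map
      (Q.map ((F.mapHomologicalComplex (ComplexShape.up ℤ)).map S.g))), ← Functor.map_comp,
      ← Functor.map_comp, key]
  rw [h3]
  infer_instance

end Main

section Final

open Groth.Agent.Lib.Helper6.RFAcyc Groth.Agent.Lib.Helper6.SigmaGE HomologicalComplex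

lemma quasiIsoAt_of_isIso_f {B : Type u'} [Category.{v'} B] [Abelian B]
    {K L : CochainComplex B ℤ} (φ : K ⟶ L) (i : ℤ)
    (h : ∀ j, i - 1 ≤ j → IsIso (φ.f j)) : QuasiIsoAt φ i := by
  rw [quasiIsoAt_iff' φ (i - 1) i (i + 1) (by simp) (by simp)]
  haveI : Epi ((shortComplexFunctor' B (ComplexShape.up ℤ) (i - 1) i (i + 1)).map φ).τ₁ := by
    haveI : IsIso (φ.f (i - 1)) := h _ le_rfl
    change Epi (φ.f (i - 1))
    infer_instance
  haveI : IsIso ((shortComplexFunctor' B (ComplexShape.up ℤ) (i - 1) i (i + 1)).map φ).τ₂ := by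
    change IsIso (φ.f i)
    exact h _ (by omega)
  haveI : Mono ((shortComplexFunctor' B (ComplexShape.up ℤ) (i - 1) i (i + 1)).map φ).τ₃ := by
    haveI : IsIso (φ.f (i + 1)) := h _ (by omega)
    change Mono (φ.f (i + 1))
    infer_instance
  exact ShortComplex.quasiIso_of_epi_of_isIso_of_mono _

variable {A : Type u} [Category.{v} A] [Abelian A] [HasDerivedCategory.{w} A]
  [IsGrothendieckAbelian.{v} A]
  {B : Type u'} [Category.{v'} B] [Abelian B] [HasDerivedCategory.{w'} B]
  (F : A ⥤ B) [F.Additive]
  (RF : DerivedCategory A ⥤ DerivedCategory B)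
  (β : F.mapHomotopyCategory (ComplexShape.up ℤ) ⋙ Qh ⟶ Qh ⋙ RF)
  [RF.IsRightDerivedFunctor β (HomotopyCategory.quasiIso A (ComplexShape.up ℤ))]
  [PreservesFiniteLimits F] [PreservesColimitsOfShape (Discrete ℕ) F]
  [HasColimitsOfShape (Discrete ℕ) B] [HasExactColimitsOfShape (Discrete ℕ) B]
  [PreservesColimitsOfShape (Discrete ℕ) RF]

/-- the unit is an isomorphism on the colimit of a tower of complexes whose legs are
degreewise eventually isomorphisms, if it is on all the terms of the tower -/
theorem isIso_bC_of_tower {M : ℕ → CochainComplex A ℤ} (t : ∀ n, M n ⟶ M (n + 1))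
    (c : Cocone (Functor.ofSequence t)) (hc : IsColimit c)
    (hM : ∀ k, IsIso ((bC F RF β).app (M k)))
    (hl : ∀ (k : ℕ) (j : ℤ), -(k : ℤ) ≤ j → IsIso ((legs t c k).f j)) :
    IsIso ((bC F RF β).app c.pt) := by
  haveI : HasExactColimitsOfShape ℕ (CochainComplex A ℤ) :=
    CountableCoprod.hasExactColimitsOfShape_nat _
  have hS := shortExact t c hc
  have hιg : ∀ k, Sigma.ι M k ≫ Sigma.desc (legs t c) = legs t c k := fun k => Sigma.ι_desc _ _
  have h₁ : IsIso ((bC F RF β).app (∐ M)) := by
    refine CountableCoprod.isIso_app_of_isColimit (bC F RF β) (Cofan.mk (∐ M) (Sigma.ι M))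
      (isColimitOfPreserves (F.mapHomologicalComplex (ComplexShape.up ℤ) ⋙ Q)
        (coproductIsCoproduct M))
      (isColimitOfPreserves (Q ⋙ RF) (coproductIsCoproduct M)) ?_
    rintro ⟨k⟩
    exact hM k
  have hepi_f : ∀ i : ℤ, Epi (((F.mapHomologicalComplex (ComplexShape.up ℤ)).map
      (Sigma.desc (legs t c))).f i) := fun i => by
    haveI hN : IsIso ((legs t c (-i).toNat).f i) := hl _ i (by omega)
    haveI hN' : IsIso (((F.mapHomologicalComplex (ComplexShape.up ℤ)).map
        (legs t c (-i).toNat)).f i) := by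
      change IsIso (F.map ((legs t c (-i).toNat).f i))
      infer_instance
    have h1 : ((F.mapHomologicalComplex (ComplexShape.up ℤ)).map (Sigma.ι M (-i).toNat)).f i ≫
        ((F.mapHomologicalComplex (ComplexShape.up ℤ)).map (Sigma.desc (legs t c))).f i =
        ((F.mapHomologicalComplex (ComplexShape.up ℤ)).map (legs t c (-i).toNat)).f i := by
      rw [← HomologicalComplex.comp_f, ← Functor.map_comp, hιg]
    exact epi_of_epi_fac h1
  have hFS : ((ShortComplex.mk _ _ (one_sub_shiftMap_comp_desc t c)).map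
      (F.mapHomologicalComplex (ComplexShape.up ℤ))).ShortExact := by
    have hex := hS.exact.map_of_mono_of_preservesKernel
      (F.mapHomologicalComplex (ComplexShape.up ℤ)) hS.mono_f inferInstance
    haveI := hS.mono_f
    haveI : Mono ((ShortComplex.mk _ _ (one_sub_shiftMap_comp_desc t c)).map
        (F.mapHomologicalComplex (ComplexShape.up ℤ))).f := by
      change Mono ((F.mapHomologicalComplex (ComplexShape.up ℤ)).map
        (ShortComplex.mk _ _ (one_sub_shiftMap_comp_desc t c)).f)
      infer_instance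
    haveI : Epi ((ShortComplex.mk _ _ (one_sub_shiftMap_comp_desc t c)).map
        (F.mapHomologicalComplex (ComplexShape.up ℤ))).g :=
      HomologicalComplex.epi_of_epi_f _ hepi_f
    exact ShortComplex.ShortExact.mk' hex inferInstance inferInstance
  have hepi : ∀ i : ℤ, Epi (HomologicalComplex.homologyMap
      ((F.mapHomologicalComplex (ComplexShape.up ℤ)).map (Sigma.desc (legs t c))) i) := fun i => by
    have hq : QuasiIsoAt ((F.mapHomologicalComplex (ComplexShape.up ℤ)).map
        (legs t c (1 - i).toNat)) i :=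
      quasiIsoAt_of_isIso_f _ i (fun j hj => by
        haveI := hl (1 - i).toNat j (by omega)
        change IsIso (F.map ((legs t c (1 - i).toNat).f j))
        infer_instance)
    haveI : IsIso (homologyMap ((F.mapHomologicalComplex (ComplexShape.up ℤ)).map
        (legs t c (1 - i).toNat)) i) := by
      rw [← quasiIsoAt_iff_isIso_homologyMap]
      exact hq
    have h1 : homologyMap ((F.mapHomologicalComplex (ComplexShape.up ℤ)).map
          (Sigma.ι M (1 - i).toNat)) i ≫
        homologyMap ((F.mapHomologicalComplex (ComplexShape.up ℤ)).map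
          (Sigma.desc (legs t c))) i =
        homologyMap ((F.mapHomologicalComplex (ComplexShape.up ℤ)).map
          (legs t c (1 - i).toNat)) i := by
      rw [← HomologicalComplex.homologyMap_comp, ← Functor.map_comp, hιg]
    exact epi_of_epi_fac h1
  exact isIso_bC_X₃ F RF β _ hS hFS h₁ h₁ hepi

/-- **Main theorem**: if `RF` commutes with countable coproducts (and so does `F`), then the
unit `F(K) ⟶ RF(K)` is an isomorphism for every complex `K` of `F`-acyclic objects. -/
theorem isIso_bC_of_acyclic (K : CochainComplex A ℤ)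
    (hK : ∀ (m : ℤ) (i : ℕ), 0 < i → IsZero ((F.rightDerived i).obj (K.X m))) :
    IsIso ((bC F RF β).app K) := by
  have hM : ∀ (k : ℕ) (m : ℤ) (i : ℕ), 0 < i →
      IsZero ((F.rightDerived i).obj ((M K k).X m)) := fun k m i hi => by
    by_cases h : m < -(k : ℤ)
    · haveI : Injective ((M K k).X m) :=
        Injective.of_iso (isZero_M_X K k m h).isoZero.symm inferInstance
      obtain ⟨n, rfl⟩ := Nat.exists_eq_succ_of_ne_zero (by omega : i ≠ 0)
      exact F.isZero_rightDerived_obj_injective_succ n _
    · haveI := isIso_ι_f K k m (by omega)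
      exact (hK m i hi).of_iso ((F.rightDerived i).mapIso (asIso ((ι K k).f m)))
  exact isIso_bC_of_tower F RF β (tr K) (cocone K) (isColimitCocone K)
    (fun k => isIso_bC_of_isStrictlyGE F RF β (M K k) (-(k : ℤ)) (hM k))
    (fun k j hj => isIso_ι_f K k j hj)

end Final

end Groth.Agent.Lib.Helper6.RFAcyc2
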