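import Mathlib

/-!
# Relative lifting of maps to termwise injective complexes (helper6 library)

`exists_relative_lift`: let `a : P ⟶ C`, `ℓ : P ⟶ I` be morphisms of `ℕ`-indexed cochain complexes,
`C` exact in positive degrees, `I` termwise injective, `γ : Z⁰C ⟶ Z⁰I` compatible with `a`, `ℓ`.
Under the hypotheses `H0`, `Hn` ("cycles of `P` modulo `ker a` are boundaries modulo
`ker a ∩ ker ℓ`") there is `f : C ⟶ I` with `a ≫ f = ℓ` inducing `γ` on `0`-cycles.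
-/

set_option autoImplicit false
universe v u
open CategoryTheory CategoryTheory.Limits

namespace Groth.Agent.Lib.Helper6.RelLift

variable {V : Type u} [Category.{v} V] [Abelian V]

/-- extension of a pair of maps defined on two "subobjects" to an injective object -/
lemma exists_extension {X A₁ A₂ J : V} [Injective J] (a : A₁ ⟶ X) (b : A₂ ⟶ X) (u : A₁ ⟶ J)
    (v : A₂ ⟶ J)
    (h : ∀ ⦃T : V⦄ (x₁ : T ⟶ A₁) (x₂ : T ⟶ A₂), x₁ ≫ a + x₂ ≫ b = 0 → x₁ ≫ u + x₂ ≫ v = 0) :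
    ∃ w : X ⟶ J, a ≫ w = u ∧ b ≫ w = v := by
  let φ : A₁ ⊞ A₂ ⟶ X := biprod.desc a b
  let ψ : A₁ ⊞ A₂ ⟶ J := biprod.desc u v
  have hk : kernel.ι φ ≫ ψ = 0 := by
    have h0 : kernel.ι φ ≫ φ = 0 := kernel.condition φ
    have e : ∀ {Z : V} (s : A₁ ⟶ Z) (t : A₂ ⟶ Z), kernel.ι φ ≫ biprod.desc s t =
        (kernel.ι φ ≫ biprod.fst) ≫ s + (kernel.ι φ ≫ biprod.snd) ≫ t := by
      intro Z s t
      rw [Category.assoc, Category.assoc, ← Preadditive.comp_add]
      congr 1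
      apply biprod.hom_ext' <;> simp
    rw [e]
    apply h
    rw [← e]
    exact h0
  let ψbar : Abelian.coimage φ ⟶ J := cokernel.desc _ ψ hk
  have hψ : Abelian.coimage.π φ ≫ ψbar = ψ := cokernel.π_desc _ _ _
  refine ⟨Injective.factorThru ψbar (Abelian.factorThruCoimage φ), ?_, ?_⟩
  · have : a = biprod.inl ≫ Abelian.coimage.π φ ≫ Abelian.factorThruCoimage φ := by
      rw [Abelian.coimage.fac]; simp [φ]
    rw [this, Category.assoc, Category.assoc, Injective.comp_factorThru, hψ]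
    simp [ψ]
  · have : b = biprod.inr ≫ Abelian.coimage.π φ ≫ Abelian.factorThruCoimage φ := by
      rw [Abelian.coimage.fac]; simp [φ]
    rw [this, Category.assoc, Category.assoc, Injective.comp_factorThru, hψ]
    simp [ψ]

section

variable {P C I : CochainComplex V ℕ} (a : P ⟶ C) (ℓ : P ⟶ I)
  (hC : ∀ n, 0 < n → C.ExactAt n) (injI : ∀ n, Injective (I.X n))
  (γ : C.cycles 0 ⟶ I.cycles 0)
  (hγ : HomologicalComplex.cyclesMap a 0 ≫ γ = HomologicalComplex.cyclesMap ℓ 0)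
  (H0 : ∀ ⦃T : V⦄ (x : T ⟶ P.X 0), x ≫ P.d 0 1 ≫ a.f 1 = 0 →
    ∃ (T' : V) (π : T' ⟶ T) (_ : Epi π) (z k : T' ⟶ P.X 0), π ≫ x = z + k ∧ z ≫ P.d 0 1 = 0 ∧
      k ≫ a.f 0 = 0 ∧ k ≫ ℓ.f 0 = 0)
  (Hn : ∀ (n : ℕ) ⦃T : V⦄ (x : T ⟶ P.X (n + 1)),
    x ≫ P.d (n + 1) (n + 1 + 1) ≫ a.f (n + 1 + 1) = 0 →
    ∃ (T' : V) (π : T' ⟶ T) (_ : Epi π) (w : T' ⟶ P.X n) (k : T' ⟶ P.X (n + 1)),
      π ≫ x = w ≫ P.d n (n + 1) + k ∧ k ≫ a.f (n + 1) = 0 ∧ k ≫ ℓ.f (n + 1) = 0)

/-- the data in degree `n` -/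
structure St (n : ℕ) where
  f : C.X n ⟶ I.X n
  comm_a : a.f n ≫ f = ℓ.f n
  kills : ∀ ⦃T : V⦄ (x : T ⟶ C.X n), x ≫ C.d n (n + 1) = 0 → x ≫ f ≫ I.d n (n + 1) = 0

include injI hγ H0 in
lemma exists_st0 : ∃ s : St a ℓ 0, C.iCycles 0 ≫ s.f = γ ≫ I.iCycles 0 := by
  have := injI 0
  obtain ⟨w, hw1, hw2⟩ := exists_extension (a.f 0) (C.iCycles 0) (ℓ.f 0) (γ ≫ I.iCycles 0) (by
    intro T x₁ x₂ h
    have h1 : x₁ ≫ P.d 0 1 ≫ a.f 1 = 0 := by
      rw [← a.comm, ← Category.assoc]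
      have : x₁ ≫ a.f 0 = -(x₂ ≫ C.iCycles 0) := eq_neg_of_add_eq_zero_left h
      rw [this, Preadditive.neg_comp, Category.assoc, HomologicalComplex.iCycles_d, comp_zero,
        neg_zero]
    obtain ⟨T', π, hπ, z, k, hzk, hz, hka, hkℓ⟩ := H0 x₁ h1
    rw [← cancel_epi π]
    let z' : T' ⟶ P.cycles 0 := P.liftCycles z 1 (by simp) hz
    have hz' : z' ≫ P.iCycles 0 = z := P.liftCycles_i _ _ _ _
    have h2 : π ≫ x₂ = -(z' ≫ HomologicalComplex.cyclesMap a 0) := by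
      rw [← cancel_mono (C.iCycles 0), Preadditive.neg_comp, Category.assoc, Category.assoc,
        HomologicalComplex.cyclesMap_i, reassoc_of% hz']
      have : π ≫ (x₁ ≫ a.f 0 + x₂ ≫ C.iCycles 0) = 0 := by rw [h, comp_zero]
      rw [Preadditive.comp_add, ← Category.assoc, hzk, Preadditive.add_comp, hka, add_zero] at this
      exact eq_neg_of_add_eq_zero_right this
    rw [Preadditive.comp_add, comp_zero, ← Category.assoc, ← Category.assoc, hzk, h2,
      Preadditive.add_comp, hkℓ, add_zero, Preadditive.neg_comp, Category.assoc,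
      ← Category.assoc (HomologicalComplex.cyclesMap a 0), hγ, HomologicalComplex.cyclesMap_i,
      reassoc_of% hz', add_neg_cancel])
  refine ⟨⟨w, hw1, ?_⟩, hw2⟩
  intro T x hx
  let x' : T ⟶ C.cycles 0 := C.liftCycles x 1 (by simp) hx
  have hx' : x' ≫ C.iCycles 0 = x := C.liftCycles_i _ _ _ _
  rw [← hx', Category.assoc, reassoc_of% hw2, HomologicalComplex.iCycles_d, comp_zero, comp_zero]

include hC injI Hn in
lemma exists_next {n : ℕ} (s : St a ℓ n) :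
    ∃ s' : St a ℓ (n + 1), C.d n (n + 1) ≫ s'.f = s.f ≫ I.d n (n + 1) := by
  have := injI (n + 1)
  obtain ⟨w, hw1, hw2⟩ := exists_extension (a.f (n + 1)) (C.d n (n + 1)) (ℓ.f (n + 1))
    (s.f ≫ I.d n (n + 1)) (by
    intro T x₁ x₂ h
    have h1 : x₁ ≫ P.d (n + 1) (n + 1 + 1) ≫ a.f (n + 1 + 1) = 0 := by
      rw [← a.comm, ← Category.assoc]
      have : x₁ ≫ a.f (n + 1) = -(x₂ ≫ C.d n (n + 1)) := eq_neg_of_add_eq_zero_left h
      rw [this, Preadditive.neg_comp, Category.assoc, C.d_comp_d, comp_zero, neg_zero]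
    obtain ⟨T', π, hπ, w, k, hwk, hka, hkℓ⟩ := Hn n x₁ h1
    rw [← cancel_epi π]
    have h2 : (π ≫ x₂ + w ≫ a.f n) ≫ C.d n (n + 1) = 0 := by
      have : π ≫ (x₁ ≫ a.f (n + 1) + x₂ ≫ C.d n (n + 1)) = 0 := by rw [h, comp_zero]
      rw [Preadditive.comp_add, ← Category.assoc, hwk, Preadditive.add_comp, hka, add_zero,
        Category.assoc, ← a.comm] at this
      rw [Preadditive.add_comp, Category.assoc, Category.assoc]
      exact (add_comm _ _).trans this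
    have h3 := s.kills _ h2
    rw [Preadditive.add_comp, Category.assoc, Category.assoc, reassoc_of% s.comm_a, ℓ.comm] at h3
    rw [Preadditive.comp_add, comp_zero, ← Category.assoc, hwk, Preadditive.add_comp, hkℓ,
      add_zero, Category.assoc]
    exact (add_comm _ _).trans h3)
  refine ⟨⟨w, hw1, ?_⟩, hw2⟩
  intro T x hx
  have hex := hC (n + 1) (Nat.succ_pos n)
  rw [HomologicalComplex.exactAt_iff_exact_up_to_refinements _ n (n + 1) (n + 1 + 1) (by simp)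
    (by simp)] at hex
  obtain ⟨T', π, hπ, y, hy⟩ := hex x hx
  rw [← cancel_epi π, comp_zero, ← Category.assoc, hy, Category.assoc, reassoc_of% hw2,
    I.d_comp_d, comp_zero, comp_zero]

/-- the initial data -/
noncomputable def st0 : St a ℓ 0 := (exists_st0 a ℓ injI γ hγ H0).choose

lemma st0_spec : C.iCycles 0 ≫ (st0 a ℓ injI γ hγ H0).f = γ ≫ I.iCycles 0 :=
  (exists_st0 a ℓ injI γ hγ H0).choose_spec

/-- the next data -/
noncomputable def next {n : ℕ} (s : St a ℓ n) : St a ℓ (n + 1) :=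
  (exists_next a ℓ hC injI Hn s).choose

lemma next_spec {n : ℕ} (s : St a ℓ n) :
    C.d n (n + 1) ≫ (next a ℓ hC injI Hn s).f = s.f ≫ I.d n (n + 1) :=
  (exists_next a ℓ hC injI Hn s).choose_spec

/-- all the data -/
noncomputable def st : ∀ n : ℕ, St a ℓ n
  | 0 => st0 a ℓ injI γ hγ H0
  | n + 1 => next a ℓ hC injI Hn (st n)

include hC injI hγ H0 Hn in
theorem exists_relative_lift :
    ∃ f : C ⟶ I, a ≫ f = ℓ ∧ HomologicalComplex.cyclesMap f 0 = γ := by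
  let f : C ⟶ I :=
    { f := fun n => (st a ℓ hC injI γ hγ H0 Hn n).f
      comm' := fun i j hij => by
        obtain rfl : i + 1 = j := hij
        exact (next_spec a ℓ hC injI Hn (st a ℓ hC injI γ hγ H0 Hn i)).symm }
  refine ⟨f, ?_, ?_⟩
  · ext n
    exact (st a ℓ hC injI γ hγ H0 Hn n).comm_a
  · rw [← cancel_mono (I.iCycles 0), HomologicalComplex.cyclesMap_i]
    exact st0_spec a ℓ injI γ hγ H0

end

end Groth.Agent.Lib.Helper6.RelLift
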