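import Mathlib
import Groth.Prelude.Def_CxOX
import Groth.Agent.Lib.Helper6.GammaZSES
import Groth.Agent.Lib.Helper6.LpullOpen
import Groth.Agent.Lib.Helper6.DerAdjPull
import Groth.Agent.Lib.Helper6.PullDer
import Groth.Agent.Lib.QCoh.Helper50_Products

/-!
# `Rj_*` and `j^*` between objects supported on `Z` and on its closure (helper6)
-/

set_option autoImplicit false
set_option linter.style.haveILetI false
universe u
open CategoryTheory CategoryTheory.Limits AlgebraicGeometry HomotopyCategory TopologicalSpace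
open ZeroObject

attribute [local instance] HasDerivedCategory.standard

namespace Groth.Agent.Lib.Helper6.RjEquiv

open Groth.Agent.Lib.Helper6.PushComp Groth.Agent.Lib.Helper6.RpushRlim
  Groth.Agent.Lib.Helper6.RjPerf Groth.Agent.Lib.Helper6.RjUnit
  Groth.Agent.Lib.Helper6.GammaZSES
  Groth.Agent.Lib.Helper99.SPerf Groth.Agent.Lib.Helper99.KInj

variable {X : Scheme.{u}}

/-- an adjunction `j^* ⊣ Rj_*` for an open immersion `j` -/
noncomputable def restrictAdj {U : Scheme.{u}} (j : U ⟶ X) [IsOpenImmersion j] [DCoh.HasRpush j] :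
    DCoh.restrictD j ⊣ DCoh.Rpush j :=
  haveI := Groth.Agent.Lib.Helper6.PullDer.hasLpull j
  (Groth.Agent.Lib.Helper6.DerAdjPull.derivedAdj j).ofNatIsoLeft
    (Groth.Agent.Lib.Helper6.LpullOpen.lpullOpenIso j)

/-- the cohomology sheaves of `E` are supported off `W` if `E|_W = 0` -/
theorem support_HD_subset_of_isZero_restrict (W : X.Opens) (E : DCoh.D X)
    (h : IsZero ((DCoh.restrictD W.ι).obj E)) (i : ℤ) :
    CohB1.support (DCoh.HD E i) ⊆ (W : Set X)ᶜ := by
  intro y hy hyW
  have hz'' : IsZero ((Scheme.Modules.restrictFunctor W.ι).obj (DCoh.HD E i)) :=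
    IsZero.of_iso ((DerivedCategory.homologyFunctor _ i).map_isZero h)
      ((homologyMapDCIso (Scheme.Modules.restrictFunctor W.ι) i).app _).symm
  have h3 := Groth.Agent.Lib.Helper6.RpushSupp.not_mem_support_of_isZero hz'' ⟨y, hyW⟩
  exact h3 ((mem_support_restrict_iff W.ι _ ⟨y, hyW⟩).2 hy)

/-- `Rf_*` only depends on `f` -/
lemma nonempty_Rpush_congr {U : Scheme.{u}} {f g : U ⟶ X} (h : f = g) [DCoh.HasRpush f]
    [DCoh.HasRpush g] : Nonempty (DCoh.Rpush f ≅ DCoh.Rpush g) := by
  subst h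
  exact ⟨Iso.refl _⟩

/-- the unit of `j^* ⊣ Rj_*` is an isomorphism at objects in the essential image of `Rj_*` -/
theorem isIso_unit_app_of_iso_Rpush {U : Scheme.{u}} (j : U ⟶ X) [IsOpenImmersion j]
    [DCoh.HasRpush j] (adj : DCoh.restrictD j ⊣ DCoh.Rpush j) (G : DCoh.D X) (B : DCoh.D U)
    (e : G ≅ (DCoh.Rpush j).obj B) : IsIso (adj.unit.app G) := by
  haveI := isIso_counit j adj
  rw [NatTrans.isIso_app_iff_of_iso adj.unit e]
  have h := adj.right_triangle_components B
  have : IsIso (adj.unit.app ((DCoh.Rpush j).obj B) ≫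
      (DCoh.Rpush j).map (adj.counit.app B)) := by
    rw [h]; exact IsIso.id _
  exact IsIso.of_isIso_comp_right _ ((DCoh.Rpush j).map (adj.counit.app B))

/-- the unit of `V.ι^* ⊣ V.ι_*` is a monomorphism at modules pushed forward from inside `V` -/
lemma mono_unit_app_pushforward {U : Scheme.{u}} (j : U ⟶ X) (T : X.Opens)
    (hT : Set.range j.base ⊆ (T : Set X)) (N : U.Modules) :
    Mono ((Scheme.Modules.restrictAdjunction T.ι).unit.app
      ((Scheme.Modules.pushforward j).obj N)) := by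
  have hr : Set.range j.base ⊆ Set.range T.ι.base := by
    rw [Scheme.Opens.range_ι]; exact hT
  let j' : U ⟶ T := IsOpenImmersion.lift T.ι j hr
  have hj' : j' ≫ T.ι = j := IsOpenImmersion.lift_fac _ _ _
  let e : (Scheme.Modules.pushforward T.ι).obj ((Scheme.Modules.pushforward j').obj N) ≅
      (Scheme.Modules.pushforward j).obj N :=
    (Scheme.Modules.pushforwardComp j' T.ι).app N ≪≫ (Scheme.Modules.pushforwardCongr hj').app N
  let adjT := Scheme.Modules.restrictAdjunction T.ι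
  have h := adjT.right_triangle_components ((Scheme.Modules.pushforward j').obj N)
  haveI m1 : Mono (adjT.unit.app
      ((Scheme.Modules.pushforward T.ι).obj ((Scheme.Modules.pushforward j').obj N))) := by
    haveI : Mono (adjT.unit.app
        ((Scheme.Modules.pushforward T.ι).obj ((Scheme.Modules.pushforward j').obj N)) ≫
        (Scheme.Modules.pushforward T.ι).map
          (adjT.counit.app ((Scheme.Modules.pushforward j').obj N))) := by
      rw [h]; infer_instance
    exact mono_of_mono _ ((Scheme.Modules.pushforward T.ι).map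
          (adjT.counit.app ((Scheme.Modules.pushforward j').obj N)))
  have hn := adjT.unit.naturality e.inv
  haveI m2 : Mono (adjT.unit.app ((Scheme.Modules.pushforward j).obj N) ≫
      (Scheme.Modules.restrictFunctor T.ι ⋙ Scheme.Modules.pushforward T.ι).map e.inv) := by
    rw [← hn]
    exact mono_comp _ _
  exact mono_of_mono _ ((Scheme.Modules.restrictFunctor T.ι ⋙
    Scheme.Modules.pushforward T.ι).map e.inv)

open Groth.Agent.Lib.Helper99.RestrKInj in
/-- `RΓ_Z(Rj_* F) = 0` when `Z` is disjoint from the image of `j` -/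
theorem isZero_RgammaZ_Rpush {U : Scheme.{u}} (j : U ⟶ X) [IsOpenImmersion j] (T : X.Opens)
    (hT : Set.range j.base ⊆ (T : Set X)) [CxOX.HasRgammaZ T.ι] [DCoh.HasRpush j]
    (F : DCoh.D U) : IsZero ((CxOX.RgammaZ T.ι).obj ((DCoh.Rpush j).obj F)) := by
  obtain ⟨J, hJ, ⟨eF⟩⟩ := exists_kInj F
  let eF' : DerivedCategory.Q.obj J ≅ F :=
    (DerivedCategory.quotientCompQhIso U.Modules).symm.app J ≪≫ eF
  haveI := isIso_βCh_app j J (wkc_of_isKInjective J)
  haveI : ((pushCh j).obj J).IsKInjective :=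
    Groth.Agent.Lib.Helper68.KInj.isKInjective_map_of_adjunction
      (Scheme.Modules.restrictAdjunction j) J
  obtain ⟨e1⟩ := nonempty_RgammaZ_Q_iso T.ι ((pushCh j).obj J)
  have e2 : (DCoh.Rpush j).obj F ≅ DerivedCategory.Q.obj ((pushCh j).obj J) :=
    (DCoh.Rpush j).mapIso eF'.symm ≪≫ (asIso ((βCh j).app J)).symm
  have hz : IsZero (DerivedCategory.Q.obj
      (((DCoh.gammaZ T.ι).mapHomologicalComplex (ComplexShape.up ℤ)).obj ((pushCh j).obj J))) := by
    apply isZero_Q_of_isZero_X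
    intro i
    haveI := mono_unit_app_pushforward j T hT (J.X i)
    exact isZero_kernel_of_mono ((Scheme.Modules.restrictAdjunction T.ι).unit.app
      ((Scheme.Modules.pushforward j).obj (J.X i)))
  exact IsZero.of_iso hz ((CxOX.RgammaZ T.ι).mapIso e2 ≪≫ e1)

/-- if `G` vanishes on `U'`, `RΓ_{X ∖ T}(G) = 0` and `T = U' ∪ j(U)`, then the unit
`G ⟶ Rj_* j^* G` is an isomorphism -/
theorem isIso_unit_app_of_isZero_RgammaZ {U : Scheme.{u}} (j : U ⟶ X) [IsOpenImmersion j]
    (U' T : X.Opens) (hT : (T : Set X) = (U' : Set X) ∪ Set.range j.base)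
    [DCoh.HasRpush j] [CxOX.HasRgammaZ T.ι] (adj : DCoh.restrictD j ⊣ DCoh.Rpush j)
    (G : DCoh.D X) (hG : IsZero ((DCoh.restrictD U'.ι).obj G))
    (hz : IsZero ((CxOX.RgammaZ T.ι).obj G)) : IsIso (adj.unit.app G) := by
  haveI : DCoh.HasRpush T.ι := Groth.Agent.Lib.Helper99.Glue.hasRpush _
  obtain ⟨B, ⟨eB⟩⟩ := exists_iso_Rpush_of_isZero_RgammaZ T G hz
  have hr : Set.range j.base ⊆ Set.range T.ι.base := by
    rw [Scheme.Opens.range_ι, hT]; exact Set.subset_union_right
  let j' : U ⟶ T := IsOpenImmersion.lift T.ι j hr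
  have hj' : j' ≫ T.ι = j := IsOpenImmersion.lift_fac _ _ _
  haveI : IsOpenImmersion (j' ≫ T.ι) := by rw [hj']; infer_instance
  haveI : IsOpenImmersion j' := IsOpenImmersion.of_comp j' T.ι
  haveI : DCoh.HasRpush j' := Groth.Agent.Lib.Helper99.Glue.hasRpush _
  haveI : DCoh.HasRpush (j' ≫ T.ι) := Groth.Agent.Lib.Helper99.Glue.hasRpush _
  let W'' : (T : Scheme.{u}).Opens := T.ι ⁻¹ᵁ U'
  obtain ⟨eR⟩ := nonempty_restrictRpushIso T.ι B
  have hB : IsZero ((DCoh.restrictD W''.ι).obj B) := by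
    have e2 : B ≅ (DCoh.restrictD T.ι).obj G := eR.symm ≪≫ (DCoh.restrictD T.ι).mapIso eB.symm
    have e3 : (DCoh.restrictD W''.ι).obj ((DCoh.restrictD T.ι).obj G) ≅
        (DCoh.restrictD (T.ι ∣_ U')).obj ((DCoh.restrictD U'.ι).obj G) :=
      ((restrictDComp W''.ι T.ι).app G).symm ≪≫
        (restrictDCongr (morphismRestrict_ι T.ι U').symm).app G ≪≫
        (restrictDComp (T.ι ∣_ U') U'.ι).app G
    exact IsZero.of_iso ((DCoh.restrictD (T.ι ∣_ U')).map_isZero hG)
      ((DCoh.restrictD W''.ι).mapIso e2 ≪≫ e3)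
  have hW'' : (W'' : Set (T : Scheme.{u}))ᶜ ⊆ Set.range j'.base := by
    intro y hy
    have hy1 : T.ι.base y ∉ (U' : Set X) := hy
    have hy2 : T.ι.base y ∈ (T : Set X) := y.2
    rw [hT] at hy2
    rcases hy2 with h | ⟨x, hx⟩
    · exact absurd h hy1
    · refine ⟨x, ?_⟩
      apply T.ι.isOpenEmbedding.injective
      rw [← hx, ← hj']
      rfl
  haveI := isIso_unit_app_of_isZero_restrict j' W'' hW'' (restrictAdj j') B hB
  obtain ⟨c⟩ := Groth.Agent.Lib.Helper6.PushComp.nonempty_comp_iso j' T.ι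
  obtain ⟨c'⟩ := nonempty_Rpush_congr (f := j' ≫ T.ι) (g := j) hj'
  let B' : DCoh.D U := (DCoh.restrictD j').obj B
  have e : G ≅ (DCoh.Rpush j).obj B' :=
    eB ≪≫ (DCoh.Rpush T.ι).mapIso (asIso ((restrictAdj j').unit.app B)) ≪≫ c.app B' ≪≫ c'.app B'
  exact isIso_unit_app_of_iso_Rpush j adj G B' e

/-- closure and preimage along an open embedding -/
lemma mem_closure_image_iff {α β : Type*} [TopologicalSpace α] [TopologicalSpace β] {f : α → β}
    (hf : Topology.IsOpenEmbedding f) (s : Set α) (x : α) :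
    f x ∈ closure (f '' s) ↔ x ∈ closure s := by
  have h := hf.isOpenMap.preimage_closure_eq_closure_preimage hf.continuous (f '' s)
  rw [Set.preimage_image_eq _ hf.injective] at h
  rw [← h]
  rfl

/-- `Rj_*` and `j^*` between objects supported on `Z` and objects supported on `Z̄` with
vanishing `RΓ_{Z̄ ∖ j(X)}` -/
theorem main {X Xbar : Scheme.{u}}
    (j : X ⟶ Xbar) [IsOpenImmersion j] (U : X.Opens) (U' T : Xbar.Opens)
    (hU' : (U' : Set Xbar) = (closure (j.base '' ((U : Set X)ᶜ)))ᶜ)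
    (hT : (T : Set Xbar) = (U' : Set Xbar) ∪ Set.range j.base)
    [DCoh.HasRpush j] [CxOX.HasRgammaZ T.ι]
    (adj : DCoh.restrictD j ⊣ DCoh.Rpush j) :
    (∀ F : DCoh.D X, DCoh.IsQCohD F → CxOX.IsSuppD U.ι F →
        CxOX.IsSuppD U'.ι ((DCoh.Rpush j).obj F) ∧
          IsZero ((CxOX.RgammaZ T.ι).obj ((DCoh.Rpush j).obj F))) ∧
    (∀ F : DCoh.D X, IsIso (adj.counit.app F)) ∧
    (∀ G : DCoh.D Xbar, DCoh.IsQCohD G → CxOX.IsSuppD U'.ι G →
      IsZero ((CxOX.RgammaZ T.ι).obj G) →
        IsIso (adj.unit.app G) ∧ DCoh.IsQCohD ((DCoh.restrictD j).obj G) ∧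
          CxOX.IsSuppD U.ι ((DCoh.restrictD j).obj G)) := by
  have hjemb : Topology.IsOpenEmbedding j.base := j.isOpenEmbedding
  have hUc : closure ((U : Set X)ᶜ) = (U : Set X)ᶜ := U.2.isClosed_compl.closure_eq
  refine ⟨fun F _ hFs => ⟨?_, ?_⟩, fun F => ?_, fun G hGq hGs hz => ⟨?_, ?_, ?_⟩⟩
  · intro i
    rw [Scheme.Opens.range_ι]
    apply support_HD_subset_of_isZero_restrict U' _ ?_ i
    apply isZero_restrictD_Rpush j U' F
    apply isZero_restrictD_of_support
    intro k y hy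
    have h1 := hFs k hy
    rw [Scheme.Opens.range_ι] at h1
    have h2 : j.base ((j ⁻¹ᵁ U').ι.base y) ∈ (U' : Set Xbar) := y.2
    rw [hU'] at h2
    exact h2 (subset_closure ⟨_, h1, rfl⟩)
  · exact isZero_RgammaZ_Rpush j T (by rw [hT]; exact Set.subset_union_right) F
  · haveI := isIso_counit j adj
    infer_instance
  · have hG0 : IsZero ((DCoh.restrictD U'.ι).obj G) :=
      isZero_restrictD_of_support U'.ι G (fun i y hy => hGs i hy ⟨y, rfl⟩)
    exact isIso_unit_app_of_isZero_RgammaZ j U' T hT adj G hG0 hz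
  · intro i
    have e := (homologyMapDCIso (Scheme.Modules.restrictFunctor j) i).app G
    haveI : (DCoh.HD G i).IsQuasicoherent := hGq i
    exact Groth.Agent.Lib.QCoh.isQuasicoherent_of_iso e.symm
      (Groth.Agent.Lib.QCoh.isQuasicoherent_restrict j (DCoh.HD G i))
  · intro i
    rw [Scheme.Opens.range_ι]
    apply support_HD_subset_of_isZero_restrict U _ ?_ i
    refine IsZero.of_iso (isZero_restrictD_of_support (U.ι ≫ j) G ?_)
      ((restrictDComp U.ι j).app G).symm
    intro k y hy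
    have h1 := hGs k hy
    rw [Scheme.Opens.range_ι, hU'] at h1
    have h2 : j.base (U.ι.base y) ∈ closure (j.base '' ((U : Set X)ᶜ)) := by
      by_contra h
      exact h1 h
    rw [mem_closure_image_iff hjemb, hUc] at h2
    exact h2 y.2

end Groth.Agent.Lib.Helper6.RjEquiv
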