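import Mathlib
import Groth.Prelude.Def_CxOX
import Groth.Agent.Lib.Helper6.RjEquiv

/-!
# Universal property of `RΓ_Z` (helper6)

For `A ∈ D(O_X)` vanishing on the open complement `V` of `Z`, composition with `RΓ_Z(B) ⟶ B` is a
bijection `Hom(A, RΓ_Z B) ≃ Hom(A, B)`.
-/

set_option autoImplicit false
set_option linter.style.haveILetI false
universe u
open CategoryTheory CategoryTheory.Limits AlgebraicGeometry HomotopyCategory TopologicalSpace
open ZeroObject

attribute [local instance] HasDerivedCategory.standard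

namespace Groth.Agent.Lib.Helper6.RgammaUP

open Groth.Agent.Lib.Helper6.PushComp Groth.Agent.Lib.Helper6.RpushRlim
  Groth.Agent.Lib.Helper6.RjPerf Groth.Agent.Lib.Helper6.RjUnit
  Groth.Agent.Lib.Helper6.GammaZSES Groth.Agent.Lib.Helper6.RjEquiv
  Groth.Agent.Lib.Helper99.SPerf Groth.Agent.Lib.Helper99.KInj

variable {X : Scheme.{u}}

/-- the component of `gammaZKhι` at a complex -/
lemma gammaZKhι_app_quotient {U : Scheme.{u}} (j : U ⟶ X) [IsOpenImmersion j]
    (I : CochainComplex X.Modules ℤ) :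
    (CxOX.gammaZKhι j).app ((HomotopyCategory.quotient X.Modules (ComplexShape.up ℤ)).obj I) =
      DerivedCategory.Qh.map
        (((DCoh.gammaZ j).mapHomotopyCategoryFactors (ComplexShape.up ℤ)).hom.app I) ≫
      DerivedCategory.Qh.map ((HomotopyCategory.quotient _ _).map (fmap j I)) := by
  dsimp only [CxOX.gammaZKhι]
  refine (Quotient.natTransLift_app (homotopic X.Modules (ComplexShape.up ℤ)) _ _ _ I).trans ?_
  simp only [NatTrans.comp_app, Functor.associator_inv_app, Functor.associator_hom_app,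
    Functor.whiskerRight_app, Functor.leftUnitor_hom_app, Category.id_comp, Category.comp_id,
    Functor.comp_map]
  have hf : (NatTrans.mapHomologicalComplex (CxOX.gammaZι j) (ComplexShape.up ℤ)).app I ≫
      (Functor.mapHomologicalComplexIdIso X.Modules (ComplexShape.up ℤ)).hom.app I =
        fmap j I := by
    apply HomologicalComplex.hom_ext
    intro i
    simp only [fmap, HomologicalComplex.comp_f, NatTrans.mapHomologicalComplex_app_f,
      Functor.mapHomologicalComplexIdIso_hom_app_f]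
    exact Category.comp_id _
  rw [← hf, Functor.map_comp, Functor.map_comp]
  erw [Category.id_comp, Category.comp_id]

/-- for `I` K-injective, `RΓ_Z(Q I) ≅ Q(Γ_Z I)` compatibly with the maps to `Q I` -/
theorem exists_RgammaZ_Q_iso {U : Scheme.{u}} (j : U ⟶ X) [IsOpenImmersion j]
    [CxOX.HasRgammaZ j] (I : CochainComplex X.Modules ℤ) [hI : I.IsKInjective] :
    ∃ e : (CxOX.RgammaZ j).obj (DerivedCategory.Q.obj I) ≅
      DerivedCategory.Q.obj (((DCoh.gammaZ j).mapHomologicalComplex (ComplexShape.up ℤ)).obj I),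
      e.hom ≫ DerivedCategory.Q.map (fmap j I) = (CxOX.RgammaZToId j).app (DerivedCategory.Q.obj I) := by
  have hI' : kInjK X.Modules ((HomotopyCategory.quotient X.Modules (ComplexShape.up ℤ)).obj I) :=
    hI
  let u := (CxOX.gammaZKh j).totalRightDerivedUnit DerivedCategory.Qh
      (HomotopyCategory.quasiIso X.Modules (ComplexShape.up ℤ))
  let K := (HomotopyCategory.quotient X.Modules (ComplexShape.up ℤ)).obj I
  haveI hu : IsIso (u.app K) := isIso_app_of_kInjK (CxOX.gammaZKh j) (CxOX.RgammaZ j) u _ hI'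
  let ΓI : CochainComplex X.Modules ℤ :=
    ((DCoh.gammaZ j).mapHomologicalComplex (ComplexShape.up ℤ)).obj I
  let qcq := DerivedCategory.quotientCompQhIso X.Modules
  have hfac : u.app K ≫ (CxOX.RgammaZToId j).app (DerivedCategory.Qh.obj K) =
      (CxOX.gammaZKhι j).app K := by
    have h := Functor.rightDerived_fac_app (CxOX.RgammaZ j) u
      (HomotopyCategory.quasiIso X.Modules (ComplexShape.up ℤ)) (𝟭 (DCoh.D X))
      (CxOX.gammaZKhι j ≫ (Functor.rightUnitor _).inv) K
    have h2 : (CxOX.gammaZKhι j ≫ (Functor.rightUnitor DerivedCategory.Qh).inv).app K =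
        (CxOX.gammaZKhι j).app K := by
      rw [NatTrans.comp_app]
      exact Category.comp_id _
    exact h.trans h2
  have hnat : qcq.hom.app ΓI ≫ DerivedCategory.Q.map (fmap j I) =
      DerivedCategory.Qh.map ((HomotopyCategory.quotient _ _).map (fmap j I)) ≫ qcq.hom.app I :=
    (qcq.hom.naturality (fmap j I)).symm
  have hρ : (CxOX.RgammaZ j).map (qcq.inv.app I) ≫
      (CxOX.RgammaZToId j).app (DerivedCategory.Qh.obj K) =
        (CxOX.RgammaZToId j).app (DerivedCategory.Q.obj I) ≫ qcq.inv.app I :=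
    (CxOX.RgammaZToId j).naturality (qcq.inv.app I)
  refine ⟨(CxOX.RgammaZ j).mapIso (qcq.app I).symm ≪≫ (asIso (u.app K)).symm ≪≫
      DerivedCategory.Qh.mapIso
        (((DCoh.gammaZ j).mapHomotopyCategoryFactors (ComplexShape.up ℤ)).app I) ≪≫
      qcq.app ΓI, ?_⟩
  simp only [Iso.trans_hom, Functor.mapIso_hom, Iso.symm_hom, Iso.app_inv, Iso.app_hom,
    asIso_inv, Category.assoc]
  rw [hnat, ← Category.assoc (DerivedCategory.Qh.map _), ← gammaZKhι_app_quotient, ← hfac,
    Category.assoc, IsIso.inv_hom_id_assoc, ← Category.assoc, hρ, Category.assoc]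
  have h3 : qcq.inv.app I ≫ qcq.hom.app I = 𝟙 _ := Iso.inv_hom_id_app qcq I
  rw [h3]
  exact Category.comp_id _

/-- maps from an object vanishing on `V` to a derived direct image from `V` are zero -/
lemma hom_Rpush_eq_zero {U : Scheme.{u}} (j : U ⟶ X) [IsOpenImmersion j] [DCoh.HasRpush j]
    (A : DCoh.D X) (hA : IsZero ((DCoh.restrictD j).obj A)) (B₀ : DCoh.D U)
    (g : A ⟶ (DCoh.Rpush j).obj B₀) : g = 0 := by
  apply ((restrictAdj j).homEquiv A B₀).symm.injective
  exact hA.eq_of_src _ _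

/-- restriction to an open commutes with shifts (on vanishing) -/
lemma isZero_restrictD_shift {U : Scheme.{u}} (j : U ⟶ X) [IsOpenImmersion j]
    (A : DCoh.D X) (hA : IsZero ((DCoh.restrictD j).obj A)) (n : ℤ) :
    IsZero ((DCoh.restrictD j).obj (A⟦n⟧)) :=
  IsZero.of_iso ((shiftFunctor (DCoh.D U) n).map_isZero hA)
    (((DCoh.restrictD j).commShiftIso n).app A)

lemma eq_zero_of_comp_iso {C : Type*} [Category C] [HasZeroMorphisms C] {P Q R S : C}
    (x : P ⟶ Q) (a : Q ≅ R) (b : R ≅ S) (h : x ≫ a.hom ≫ b.hom = 0) : x = 0 := by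
  have h2 : x = (x ≫ a.hom ≫ b.hom) ≫ b.inv ≫ a.inv := by simp
  rw [h2, h, zero_comp]

/-- transport of bijectivity of post-composition along isomorphisms -/
lemma bijective_transport {C : Type*} [Category C] {A R B R' B' T₁ : C} (ρ : R ⟶ B)
    (ρ' : R' ⟶ B') (m : T₁ ⟶ B') (r : R ≅ R') (b : B ≅ B') (e : R' ≅ T₁)
    (he : e.hom ≫ m = ρ') (hnat : ρ ≫ b.hom = r.hom ≫ ρ')
    (key : Function.Bijective (fun φ : A ⟶ T₁ => φ ≫ m)) :
    Function.Bijective (fun φ : A ⟶ R => φ ≫ ρ) := by
  have hform : ∀ φ : A ⟶ R, φ ≫ ρ = ((φ ≫ r.hom ≫ e.hom) ≫ m) ≫ b.inv := by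
    intro φ
    rw [Category.assoc, Category.assoc, Category.assoc, ← Category.assoc e.hom, he,
      ← Category.assoc r.hom, ← hnat, Category.assoc, Iso.hom_inv_id, Category.comp_id]
  constructor
  · intro φ φ' h
    simp only [hform] at h
    have h1 := (cancel_mono b.inv).1 h
    have h2 : φ ≫ r.hom ≫ e.hom = φ' ≫ r.hom ≫ e.hom := key.1 h1
    exact (cancel_mono (r.hom ≫ e.hom)).1 h2
  · intro ψ
    obtain ⟨g, hg⟩ := key.2 (ψ ≫ b.hom)
    refine ⟨g ≫ e.inv ≫ r.inv, ?_⟩
    have hg' : g ≫ m = ψ ≫ b.hom := hg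
    change (g ≫ e.inv ≫ r.inv) ≫ ρ = ψ
    rw [hform]
    have h4 : (g ≫ e.inv ≫ r.inv) ≫ r.hom ≫ e.hom = g := by simp
    rw [h4, hg', Category.assoc, Iso.hom_inv_id, Category.comp_id]

/-- **universal property of `RΓ_Z`**: for `A` vanishing on the open complement `V` of `Z`,
composition with `RΓ_Z(B) ⟶ B` is a bijection `Hom(A, RΓ_Z B) ≃ Hom(A, B)` -/
theorem bijective_comp_RgammaZToId (V : X.Opens) [CxOX.HasRgammaZ V.ι] (A B : DCoh.D X)
    (hA : IsZero ((DCoh.restrictD V.ι).obj A)) :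
    Function.Bijective
      (fun φ : A ⟶ (CxOX.RgammaZ V.ι).obj B => φ ≫ (CxOX.RgammaZToId V.ι).app B) := by
  haveI : DCoh.HasRpush V.ι := Groth.Agent.Lib.Helper99.Glue.hasRpush _
  obtain ⟨I, hI, hinj, ⟨eB⟩⟩ := exists_kInj_injective B
  have hS := sc_shortExact V I hinj
  have hT := DerivedCategory.triangleOfSES_distinguished hS
  obtain ⟨e1, he1⟩ := exists_RgammaZ_Q_iso V.ι I
  haveI : ((restrCx V.ι).obj I).IsKInjective :=
    Groth.Agent.Lib.Helper99.RestrKInj.isKInjective_restrict V I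
  haveI := isIso_βCh_app V.ι ((restrCx V.ι).obj I) (wkc_of_isKInjective _)
  let e3' := asIso ((βCh V.ι).app ((restrCx V.ι).obj I))
  let e3 : (DerivedCategory.triangleOfSES hS).obj₃ ≅
      (DCoh.Rpush V.ι).obj (DerivedCategory.Q.obj ((restrCx V.ι).obj I)) := e3'
  -- the triangle statement
  have key : Function.Bijective
      (fun φ : A ⟶ (DerivedCategory.triangleOfSES hS).obj₁ =>
        φ ≫ (DerivedCategory.triangleOfSES hS).mor₁) := by
    constructor
    · intro φ φ' h
      have h0 : (φ - φ') ≫ (DerivedCategory.triangleOfSES hS).mor₁ = 0 := by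
        rw [Preadditive.sub_comp]
        exact sub_eq_zero.2 h
      obtain ⟨g, hg⟩ := Pretriangulated.Triangle.coyoneda_exact₂ _
        (Pretriangulated.inv_rot_of_distTriang _ hT) (φ - φ') h0
      have hg0 : g = 0 := by
        apply (shiftFunctor (DCoh.D X) (1 : ℤ)).map_injective
        let ι₁ : ((DerivedCategory.triangleOfSES hS).obj₃⟦(-1 : ℤ)⟧)⟦(1 : ℤ)⟧ ≅
            (DerivedCategory.triangleOfSES hS).obj₃ :=
          (shiftFunctorCompIsoId (DCoh.D X) (-1 : ℤ) 1 (by omega)).app _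
        have h1 := hom_Rpush_eq_zero V.ι (A⟦(1 : ℤ)⟧) (isZero_restrictD_shift V.ι A hA 1) _
          ((shiftFunctor (DCoh.D X) (1 : ℤ)).map g ≫ ι₁.hom ≫ e3.hom)
        have hz : (shiftFunctor (DCoh.D X) (1 : ℤ)).map g = 0 :=
          eq_zero_of_comp_iso _ ι₁ e3 h1
        rw [hz]
        exact (Functor.map_zero _ _ _).symm
      rw [hg0, zero_comp] at hg
      exact sub_eq_zero.1 hg
    · intro ψ
      have h0 : ψ ≫ (DerivedCategory.triangleOfSES hS).mor₂ = 0 := by
        have h1 := hom_Rpush_eq_zero V.ι A hA _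
          ((ψ ≫ (DerivedCategory.triangleOfSES hS).mor₂) ≫ e3.hom)
        have h2 : ψ ≫ (DerivedCategory.triangleOfSES hS).mor₂ =
            ((ψ ≫ (DerivedCategory.triangleOfSES hS).mor₂) ≫ e3.hom) ≫ e3.inv := by
          rw [Category.assoc, Iso.hom_inv_id, Category.comp_id]
        rw [h2, h1]
        exact zero_comp
      obtain ⟨g, hg⟩ := Pretriangulated.Triangle.coyoneda_exact₂ _ hT ψ h0
      exact ⟨g, hg.symm⟩
  -- transport
  have hnat : (CxOX.RgammaZToId V.ι).app B ≫ eB.hom =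
      (CxOX.RgammaZ V.ι).map eB.hom ≫ (CxOX.RgammaZToId V.ι).app (DerivedCategory.Q.obj I) :=
    ((CxOX.RgammaZToId V.ι).naturality eB.hom).symm
  exact bijective_transport ((CxOX.RgammaZToId V.ι).app B)
    ((CxOX.RgammaZToId V.ι).app (DerivedCategory.Q.obj I))
    (DerivedCategory.triangleOfSES hS).mor₁ ((CxOX.RgammaZ V.ι).mapIso eB) eB e1 he1 hnat key

end Groth.Agent.Lib.Helper6.RgammaUP
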