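import Mathlib
import Groth.Prelude.Def_CxOX
import Groth.Agent.Lib.Helper6.RgammaUP

/-!
# `Rf_* RΓ_{f⁻¹Z} ≅ RΓ_Z Rf_*` (helper6)
-/

set_option autoImplicit false
set_option linter.style.haveILetI false
universe u
open CategoryTheory CategoryTheory.Limits AlgebraicGeometry HomotopyCategory TopologicalSpace
open ZeroObject

attribute [local instance] HasDerivedCategory.standard

namespace Groth.Agent.Lib.Helper6.RgammaPush

open Groth.Agent.Lib.Helper6.PushComp Groth.Agent.Lib.Helper6.RpushRlim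
  Groth.Agent.Lib.Helper6.RjPerf Groth.Agent.Lib.Helper6.RjUnit
  Groth.Agent.Lib.Helper6.GammaZSES Groth.Agent.Lib.Helper6.RjEquiv
  Groth.Agent.Lib.Helper6.RgammaUP
  Groth.Agent.Lib.Helper99.SPerf Groth.Agent.Lib.Helper99.KInj

theorem main {X Y : Scheme.{u}} (f : X ⟶ Y) (U : Y.Opens)
    [CxOX.HasRgammaZ U.ι] [CxOX.HasRgammaZ (f ⁻¹ᵁ U).ι] [DCoh.HasRpush f] (K : DCoh.D X) :
    (∃ α : (DCoh.Rpush f).obj ((CxOX.RgammaZ (f ⁻¹ᵁ U).ι).obj K) ⟶
        (CxOX.RgammaZ U.ι).obj ((DCoh.Rpush f).obj K),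
        α ≫ (CxOX.RgammaZToId U.ι).app ((DCoh.Rpush f).obj K) =
          (DCoh.Rpush f).map ((CxOX.RgammaZToId (f ⁻¹ᵁ U).ι).app K)) ∧
    ∀ α : (DCoh.Rpush f).obj ((CxOX.RgammaZ (f ⁻¹ᵁ U).ι).obj K) ⟶
        (CxOX.RgammaZ U.ι).obj ((DCoh.Rpush f).obj K),
        α ≫ (CxOX.RgammaZToId U.ι).app ((DCoh.Rpush f).obj K) =
          (DCoh.Rpush f).map ((CxOX.RgammaZToId (f ⁻¹ᵁ U).ι).app K) → IsIso α := by
  haveI := Groth.Agent.Lib.Helper6.PullDer.hasLpull f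
  haveI : DCoh.HasLpull (f ∣_ U) := Groth.Agent.Lib.Helper6.PullDer.hasLpull _
  haveI : DCoh.HasRpush (f ∣_ U) := Groth.Agent.Lib.Helper99.Glue.hasRpush _
  let adjf := Groth.Agent.Lib.Helper6.DerAdjPull.derivedAdj f
  haveI : (DCoh.Lpull (f ∣_ U)).Additive :=
    (Groth.Agent.Lib.Helper6.DerAdjPull.derivedAdj (f ∣_ U)).left_adjoint_additive
  let S := (DCoh.Rpush f).obj ((CxOX.RgammaZ (f ⁻¹ᵁ U).ι).obj K)
  let R := (CxOX.RgammaZ U.ι).obj ((DCoh.Rpush f).obj K)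
  have hS0 : IsZero ((DCoh.restrictD U.ι).obj S) := by
    obtain ⟨φ⟩ := Groth.Agent.S6508.result f U
    exact IsZero.of_iso ((DCoh.Rpush (f ∣_ U)).map_isZero
      (isZero_restrictD_RgammaZ (f ⁻¹ᵁ U).ι K)) (φ.app _)
  have hR0 : IsZero ((DCoh.restrictD U.ι).obj R) := isZero_restrictD_RgammaZ U.ι _
  have key : ∀ (A : DCoh.D Y), IsZero ((DCoh.restrictD U.ι).obj A) → ∀ α : S ⟶ R,
      α ≫ (CxOX.RgammaZToId U.ι).app ((DCoh.Rpush f).obj K) =
        (DCoh.Rpush f).map ((CxOX.RgammaZToId (f ⁻¹ᵁ U).ι).app K) →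
      Function.Bijective (fun x : A ⟶ S => x ≫ α) := by
    intro A hA α hα
    have hLA : IsZero ((DCoh.restrictD (f ⁻¹ᵁ U).ι).obj ((DCoh.Lpull f).obj A)) := by
      obtain ⟨e⟩ := Groth.Agent.Lib.Helper6.LpullOpen.nonempty_restrict_comp_iso f U
      exact IsZero.of_iso ((DCoh.Lpull (f ∣_ U)).map_isZero hA) (e.app A)
    have bX := bijective_comp_RgammaZToId (f ⁻¹ᵁ U) ((DCoh.Lpull f).obj A) K hLA
    have bY := bijective_comp_RgammaZToId U A ((DCoh.Rpush f).obj K) hA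
    have b1 : Function.Bijective (fun x : A ⟶ S =>
        x ≫ (DCoh.Rpush f).map ((CxOX.RgammaZToId (f ⁻¹ᵁ U).ι).app K)) := by
      have hfun : (fun x : A ⟶ S =>
          x ≫ (DCoh.Rpush f).map ((CxOX.RgammaZToId (f ⁻¹ᵁ U).ι).app K)) =
          (adjf.homEquiv A K) ∘
            (fun y => y ≫ (CxOX.RgammaZToId (f ⁻¹ᵁ U).ι).app K) ∘
            (adjf.homEquiv A ((CxOX.RgammaZ (f ⁻¹ᵁ U).ι).obj K)).symm := by
        funext x
        simp only [Function.comp_apply]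
        rw [Adjunction.homEquiv_naturality_right, Equiv.apply_symm_apply]
      rw [hfun]
      exact (adjf.homEquiv A K).bijective.comp
        (bX.comp (adjf.homEquiv A ((CxOX.RgammaZ (f ⁻¹ᵁ U).ι).obj K)).symm.bijective)
    have b2 : Function.Bijective ((fun y : A ⟶ R =>
        y ≫ (CxOX.RgammaZToId U.ι).app ((DCoh.Rpush f).obj K)) ∘ (fun x : A ⟶ S => x ≫ α)) := by
      have hfun : ((fun y : A ⟶ R =>
          y ≫ (CxOX.RgammaZToId U.ι).app ((DCoh.Rpush f).obj K)) ∘ (fun x : A ⟶ S => x ≫ α)) =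
          (fun x : A ⟶ S =>
            x ≫ (DCoh.Rpush f).map ((CxOX.RgammaZToId (f ⁻¹ᵁ U).ι).app K)) := by
        funext x
        simp only [Function.comp_apply]
        rw [Category.assoc, hα]
      rw [hfun]
      exact b1
    exact (Function.Bijective.of_comp_iff' bY _).1 b2
  refine ⟨(bijective_comp_RgammaZToId U S ((DCoh.Rpush f).obj K) hS0).2 _, fun α hα => ?_⟩
  obtain ⟨β, hβ⟩ := (key R hR0 α hα).2 (𝟙 R)
  have hβ' : β ≫ α = 𝟙 R := hβ
  have hαβ : α ≫ β = 𝟙 S := by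
    apply (key S hS0 α hα).1
    change (α ≫ β) ≫ α = 𝟙 S ≫ α
    rw [Category.assoc, hβ', Category.comp_id, Category.id_comp]
  exact ⟨β, hαβ, hβ'⟩

end Groth.Agent.Lib.Helper6.RgammaPush
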