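import Mathlib
import Groth.Prelude.Def_DCoh2
import Groth.Agent.Lib.Helper6.RFTriangle
import Groth.Agent.Lib.Helper6.DerProd
import Groth.Agent.Lib.Helper6.ProdCx

/-!
# The total right derived functor commutes with derived limits (helper6)
-/

set_option autoImplicit false
set_option linter.style.haveILetI false
set_option linter.unusedSectionVars false

universe w w' v v' u u'

namespace Groth.Agent.Lib.Helper6.RlimRF

open CategoryTheory CategoryTheory.Limits CategoryTheory.Pretriangulated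
open Groth.Agent.Lib.Helper6.DerProd Groth.Agent.Lib.Helper6.RFTriangle

section Exact

variable (B : Type u') [Category.{v'} B] [Abelian B] [HasLimitsOfShape (Discrete ℕ) B]

lemma hasExactLimitsOfShape [(lim : (Discrete ℕ ⥤ B) ⥤ B).PreservesEpimorphisms] :
    HasExactLimitsOfShape (Discrete ℕ) B := ⟨by
  rw [Functor.preservesFiniteColimits_iff_forall_exact_map_and_epi]
  intro S hS
  have := hS.epi_g
  refine ⟨?_, inferInstance⟩
  haveI : PreservesFiniteLimits (lim : (Discrete ℕ ⥤ B) ⥤ B) := inferInstance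
  exact ((Functor.preservesFiniteLimits_iff_forall_exact_map_and_mono
    (lim : (Discrete ℕ ⥤ B) ⥤ B)).1 inferInstance S hS).1⟩

end Exact

section ProdIso

variable {D : Type u} [Category.{v} D]

/-- two products of termwise isomorphic families are isomorphic, compatibly with projections -/
lemma exists_prodIso {J : Type w} {X Y : J → D} [HasProduct X] (c : Fan Y) (hc : IsLimit c)
    (e : ∀ n, X n ≅ Y n) :
    ∃ θ : ∏ᶜ X ≅ c.pt, ∀ n, θ.hom ≫ c.proj n = Pi.π X n ≫ (e n).hom := by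
  refine ⟨⟨Fan.IsLimit.lift hc (fun n => Pi.π X n ≫ (e n).hom),
    Pi.lift (fun n => c.proj n ≫ (e n).inv), ?_, ?_⟩, fun n => Fan.IsLimit.fac hc _ n⟩
  · apply Pi.hom_ext
    intro n
    simp [Fan.IsLimit.fac_assoc]
  · apply Fan.IsLimit.hom_ext hc
    intro n
    simp [Fan.IsLimit.fac]

end ProdIso

section Main

open DerivedCategory

variable {A : Type u} [Category.{v} A] [Abelian A] [IsGrothendieckAbelian.{v} A]
  [HasDerivedCategory.{w} A]
  {B : Type u'} [Category.{v'} B] [Abelian B] [HasDerivedCategory.{w'} B]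
  [HasLimitsOfShape (Discrete ℕ) B]
  (F : A ⥤ B) [F.Additive] [PreservesLimitsOfShape (Discrete ℕ) F]

/-- comparison `F(∏ I_n) ⟶ ∏ F(I_n)` of complexes -/
noncomputable def κ (I : ℕ → CochainComplex A ℤ) :
    (F.mapHomologicalComplex (ComplexShape.up ℤ)).obj (ProdCx.prodCx I) ⟶
      piC (fun n => (F.mapHomologicalComplex (ComplexShape.up ℤ)).obj (I n)) :=
  liftC (fun n => (F.mapHomologicalComplex (ComplexShape.up ℤ)).map (ProdCx.π I n))

lemma κ_πC (I : ℕ → CochainComplex A ℤ) (n : ℕ) :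
    κ F I ≫ πC _ n = (F.mapHomologicalComplex (ComplexShape.up ℤ)).map (ProdCx.π I n) :=
  liftC_πC _ n

instance (I : ℕ → CochainComplex A ℤ) : IsIso (κ F I) := by
  have : ∀ j, IsIso ((κ F I).f j) := by
    intro j
    have h : (κ F I).f j = piComparison F (fun n => (I n).X j) := by
      apply limit.hom_ext
      rintro ⟨n⟩
      have h1 := congrArg (fun t => t.f j) (κ_πC F I n)
      dsimp only [HomologicalComplex.comp_f] at h1
      refine h1.trans ?_
      exact (piComparison_comp_π F (fun n => (I n).X j) n).symm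
    rw [h]
    haveI : HasProduct (fun n => (I n).X j) := inferInstance
    haveI : HasProduct (fun n => F.obj ((I n).X j)) := inferInstance
    haveI : PreservesLimit (Discrete.functor (fun n => (I n).X j)) F := inferInstance
    rw [← PreservesProduct.iso_hom]
    exact Iso.isIso_hom _
  exact HomologicalComplex.Hom.isIso_of_components _

variable [HasExactLimitsOfShape (Discrete ℕ) B]
  (RF : DerivedCategory A ⥤ DerivedCategory B)
  (β : F.mapHomotopyCategory (ComplexShape.up ℤ) ⋙ Qh ⟶ Qh ⋙ RF)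
  [RF.IsRightDerivedFunctor β (HomotopyCategory.quasiIso A (ComplexShape.up ℤ))]

/-- joint monicity of the projections out of `Q(F(∏ I_n))` -/
lemma hom_ext_QF (I : ℕ → CochainComplex A ℤ)
    {T : DerivedCategory B}
    (φ ψ : T ⟶ Q.obj ((F.mapHomologicalComplex (ComplexShape.up ℤ)).obj (ProdCx.prodCx I)))
    (h : ∀ n, φ ≫ Q.map ((F.mapHomologicalComplex (ComplexShape.up ℤ)).map (ProdCx.π I n)) =
      ψ ≫ Q.map ((F.mapHomologicalComplex (ComplexShape.up ℤ)).map (ProdCx.π I n))) : φ = ψ := by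
  rw [← cancel_mono (Q.map (κ F I))]
  apply DerProd.hom_ext
  intro n
  rw [Category.assoc, Category.assoc, ← Q.map_comp, κ_πC]
  exact h n

include β in
theorem isRlim_RF (K : ℕ → DerivedCategory A) (t : ∀ n, K (n + 1) ⟶ K n) (L : DerivedCategory A)
    [HasProduct K] [HasProduct fun n => RF.obj (K n)] (hL : DCoh.IsRlim K t L) :
    DCoh.IsRlim (fun n => RF.obj (K n)) (fun n => RF.map (t n)) (RF.obj L) := by
  obtain ⟨a, c, hT⟩ := hL
  -- K-injective models
  have hI : ∀ n, ∃ I : CochainComplex A ℤ, I.IsKInjective ∧ Nonempty (K n ≅ Q.obj I) := by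
    intro n
    obtain ⟨I, f, hI, hf, -, -⟩ :=
      Groth.Agent.Lib.Helper99.KInj.exists_kInjective_resolution (Q.objPreimage (K n))
    haveI : IsIso (Q.map f) := by
      rw [isIso_Q_map_iff_quasiIso]
      exact hf
    exact ⟨I, hI, ⟨(Q.objObjPreimageIso (K n)).symm ≪≫ asIso (Q.map f)⟩⟩
  choose I hI e using hI
  let e' := fun n => (e n).some
  haveI : ∀ n, (I n).IsKInjective := hI
  have hτ : ∀ n, ∃ τ : I (n + 1) ⟶ I n, Q.map τ = (e' (n + 1)).inv ≫ t n ≫ (e' n).hom :=
    fun n => ProdCx.exists_Q_map_eq _ _ _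
  choose τ hτ using hτ
  haveI : (ProdCx.prodCx I).IsKInjective := ProdCx.isKInjective_prodCx I hI
  let φ : ProdCx.prodCx I ⟶ ProdCx.prodCx I :=
    ProdCx.lift I (fun n => ProdCx.π I n - ProdCx.π I (n + 1) ≫ τ n)
  have hφ : ∀ n, φ ≫ ProdCx.π I n = ProdCx.π I n - ProdCx.π I (n + 1) ≫ τ n :=
    fun n => ProdCx.lift_π I _ n
  -- the product in `D(A)`
  obtain ⟨θ, hθ⟩ := exists_prodIso (X := K) _ (ProdCx.isLimitFan I hI) e'
  have hθ' : ∀ n, θ.hom ≫ Q.map (ProdCx.π I n) = Pi.π K n ≫ (e' n).hom := hθ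
  have hm : (Pi.lift fun n => Pi.π K n - Pi.π K (n + 1) ≫ t n) ≫ θ.hom = θ.hom ≫ Q.map φ := by
    apply Fan.IsLimit.hom_ext (ProdCx.isLimitFan I hI)
    intro n
    change (_ ≫ θ.hom) ≫ Q.map (ProdCx.π I n) = (θ.hom ≫ Q.map φ) ≫ Q.map (ProdCx.π I n)
    rw [Category.assoc, hθ', Pi.lift_π_assoc, Category.assoc, ← Q.map_comp, hφ, Functor.map_sub,
      Functor.map_comp, Preadditive.comp_sub, hθ', reassoc_of% (hθ' (n + 1)), hτ,
      Preadditive.sub_comp, Category.assoc, Iso.hom_inv_id_assoc]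
  obtain ⟨a₁, c₁, hT₁⟩ := exists_triangle_of_iso _ hT (Iso.refl L) θ.symm θ.symm (Q.map φ) (by
    change Q.map φ ≫ θ.inv = θ.inv ≫ (Pi.lift fun n => Pi.π K n - Pi.π K (n + 1) ≫ t n)
    rw [Iso.comp_inv_eq, Category.assoc, hm, Iso.inv_hom_id_assoc])
  obtain ⟨a₂, c₂, hT₂⟩ := exists_distinguished_RF F RF β φ L a₁ c₁ hT₁
  -- the product in `D(B)`
  let ε : ∀ n, RF.obj (K n) ≅ Q.obj ((F.mapHomologicalComplex (ComplexShape.up ℤ)).obj (I n)) :=
    fun n => RF.mapIso (e' n) ≪≫ ζ F RF β (I n)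
  obtain ⟨θ₀, hθ₀⟩ := exists_prodIso (X := fun n => RF.obj (K n)) _
    (DerProd.isLimitFan (fun n => (F.mapHomologicalComplex (ComplexShape.up ℤ)).obj (I n))) ε
  let θ₁ : (∏ᶜ fun n => RF.obj (K n)) ≅
      Q.obj ((F.mapHomologicalComplex (ComplexShape.up ℤ)).obj (ProdCx.prodCx I)) :=
    θ₀ ≪≫ (asIso (Q.map (κ F I))).symm
  have hθ₁ : ∀ n, θ₁.hom ≫ Q.map ((F.mapHomologicalComplex (ComplexShape.up ℤ)).map
      (ProdCx.π I n)) = Pi.π (fun n => RF.obj (K n)) n ≫ (ε n).hom := by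
    intro n
    have h1 : θ₀.hom ≫ Q.map (πC _ n) = Pi.π (fun n => RF.obj (K n)) n ≫ (ε n).hom := hθ₀ n
    rw [← h1, ← κ_πC, Q.map_comp]
    simp [θ₁]
  have hm' : (Pi.lift fun n => Pi.π (fun n => RF.obj (K n)) n -
      Pi.π (fun n => RF.obj (K n)) (n + 1) ≫ RF.map (t n)) ≫ θ₁.hom =
      θ₁.hom ≫ Q.map ((F.mapHomologicalComplex (ComplexShape.up ℤ)).map φ) := by
    apply hom_ext_QF
    intro n
    have hnat := ζ_naturality F RF β (τ n)
    rw [Category.assoc, hθ₁, Pi.lift_π_assoc, Category.assoc, ← Q.map_comp, ← Functor.map_comp,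
      hφ, Functor.map_sub, Functor.map_sub, Functor.map_comp, Functor.map_comp,
      Preadditive.comp_sub, hθ₁, reassoc_of% (hθ₁ (n + 1)), Preadditive.sub_comp, Category.assoc]
    congr 2
    dsimp only [ε, Iso.trans_hom, Functor.mapIso_hom]
    rw [Category.assoc, ← hnat, hτ]
    simp only [Functor.map_comp, Category.assoc]
    rw [← Category.assoc (RF.map (e' (n + 1)).hom), ← RF.map_comp, Iso.hom_inv_id, RF.map_id,
      Category.id_comp]
  exact exists_triangle_of_iso _ hT₂ (Iso.refl _) θ₁ θ₁ _ hm'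

end Main

end Groth.Agent.Lib.Helper6.RlimRF
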