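import Mathlib
import Groth.Prelude.Def_CxOX
import Groth.Prelude.Def_Dual3
import Groth.Agent.Lib.Helper6.RgammaUP

/-!
# `Rf_*` is left adjoint to `RΓ_{Z'} f^!` on objects supported on `Z'` (helper6)
-/

set_option autoImplicit false
set_option linter.style.haveILetI false
universe u
open CategoryTheory CategoryTheory.Limits AlgebraicGeometry HomotopyCategory TopologicalSpace
open ZeroObject

attribute [local instance] HasDerivedCategory.standard

namespace Groth.Agent.Lib.Helper6.ShriekAdj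

open Groth.Agent.Lib.Helper6.PushComp Groth.Agent.Lib.Helper6.RpushRlim
  Groth.Agent.Lib.Helper6.RjPerf Groth.Agent.Lib.Helper6.RjUnit
  Groth.Agent.Lib.Helper6.GammaZSES Groth.Agent.Lib.Helper6.RjEquiv
  Groth.Agent.Lib.Helper6.RgammaUP
  Groth.Agent.Lib.Helper99.SPerf Groth.Agent.Lib.Helper99.KInj

variable {X : Scheme.{u}}

/-- post-composition with the unit `A₀ ⟶ Rj_* j^* A₀` is injective on maps from `Rj_* F`, when
`F` vanishes on `j⁻¹ W` and `Wᶜ ⊆ j(U)` -/
theorem injective_comp_unit {U : Scheme.{u}} (j : U ⟶ X) [IsOpenImmersion j] (W : X.Opens)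
    (hW : (W : Set X)ᶜ ⊆ Set.range j.base) [DCoh.HasRpush j] [CxOX.HasRgammaZ W.ι]
    (adjj : DCoh.restrictD j ⊣ DCoh.Rpush j) (P A₀ : DCoh.D X)
    (hP : IsZero ((DCoh.restrictD W.ι).obj P)) :
    Function.Injective (fun g : P ⟶ A₀ => g ≫ adjj.unit.app A₀) := by
  haveI := isIso_counit j adjj
  haveI : DCoh.HasRpush W.ι := Groth.Agent.Lib.Helper99.Glue.hasRpush _
  intro g₁ g₂ h
  have h0 : (g₁ - g₂) ≫ adjj.unit.app A₀ = 0 := by
    rw [Preadditive.sub_comp]
    exact sub_eq_zero.2 h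
  obtain ⟨C', m₂, m₃, hT⟩ := Pretriangulated.distinguished_cocone_triangle (adjj.unit.app A₀)
  obtain ⟨g'', hg''⟩ := Pretriangulated.Triangle.coyoneda_exact₂ _
    (Pretriangulated.inv_rot_of_distTriang _ hT) (g₁ - g₂) h0
  -- `C'` vanishes on `j(U)`
  have h1 : IsIso ((DCoh.restrictD j).map (adjj.unit.app A₀)) := by
    have ht := adjj.left_triangle_components A₀
    have : IsIso ((DCoh.restrictD j).map (adjj.unit.app A₀) ≫
        adjj.counit.app ((DCoh.restrictD j).obj A₀)) := by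
      rw [ht]; exact IsIso.id _
    exact IsIso.of_isIso_comp_right _ (adjj.counit.app ((DCoh.restrictD j).obj A₀))
  have hC' : IsZero ((DCoh.restrictD j).obj C') :=
    Pretriangulated.Triangle.isZero₃_of_isIso₁ _ ((DCoh.restrictD j).map_distinguished _ hT) h1
  let E : DCoh.D X := C'⟦(-1 : ℤ)⟧
  have hEj : IsZero ((DCoh.restrictD j).obj E) := isZero_restrictD_shift j C' hC' (-1)
  have hEr : IsZero ((DCoh.restrictD j.opensRange.ι).obj E) :=
    IsZero.of_iso ((DCoh.restrictD j.isoOpensRange.inv).map_isZero hEj)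
      ((restrictDOpensRange j).app E)
  have hW' : (j.opensRange : Set X)ᶜ ⊆ Set.range W.ι.base := by
    rw [Scheme.Opens.range_ι, Scheme.Hom.coe_opensRange]
    intro x hx
    by_contra hxW
    exact hx (hW hxW)
  haveI := isIso_unit_app_of_isZero_restrict W.ι j.opensRange hW' (restrictAdj W.ι) E hEr
  have hzE : IsZero ((CxOX.RgammaZ W.ι).obj E) :=
    IsZero.of_iso (isZero_RgammaZ_Rpush W.ι W (by rw [Scheme.Opens.range_ι])
      ((DCoh.restrictD W.ι).obj E))
      ((CxOX.RgammaZ W.ι).mapIso (asIso ((restrictAdj W.ι).unit.app E)))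
  obtain ⟨g', hg'⟩ := (bijective_comp_RgammaZToId W P E hP).2 g''
  have hg'0 : g' = 0 := hzE.eq_of_tgt _ _
  have hg''0 : g'' = 0 := by
    rw [← hg', hg'0]
    exact zero_comp
  rw [hg''0, zero_comp] at hg''
  exact sub_eq_zero.1 hg''

/-- the adjunction bijection for `Rf̄_* ⊣ a` on `D_QCoh`, written in `D(O)` -/
theorem bijective_adj {Xb Y : Scheme.{u}} (fbar : Xb ⟶ Y) [DCoh.HasRpush fbar]
    (hfbar : DCoh.RpushPreservesQCoh fbar) (a : DCoh.DQCoh Y ⥤ DCoh.DQCoh Xb)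
    (adj : DCoh.RpushQ fbar hfbar ⊣ a) (G : DCoh.DQCoh Y) (P : DCoh.D Xb)
    (hP : DCoh.IsQCohD P) :
    Function.Bijective (fun h : P ⟶ (a.obj G).obj =>
      (DCoh.Rpush fbar).map h ≫ (adj.counit.app G).hom) := by
  let P' : DCoh.DQCoh Xb := ⟨P, hP⟩
  have hfun : ∀ h : P ⟶ (a.obj G).obj, (DCoh.Rpush fbar).map h ≫ (adj.counit.app G).hom =
      ((adj.homEquiv P' G).symm (ObjectProperty.homMk h)).hom := by
    intro h
    rw [Adjunction.homEquiv_counit]
    rfl
  constructor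
  · intro h h' e
    simp only [hfun] at e
    have e1 : (adj.homEquiv P' G).symm (ObjectProperty.homMk h) =
        (adj.homEquiv P' G).symm (ObjectProperty.homMk h') :=
      ObjectProperty.hom_ext _ e
    have e2 := (adj.homEquiv P' G).symm.injective e1
    exact congrArg (fun m => m.hom) e2
  · intro k
    let m : P' ⟶ a.obj G := (adj.homEquiv P' G) (ObjectProperty.homMk k)
    refine ⟨m.hom, ?_⟩
    change (DCoh.Rpush fbar).map m.hom ≫ (adj.counit.app G).hom = k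
    rw [hfun]
    have e3 : (ObjectProperty.homMk m.hom : P' ⟶ a.obj G) = m := rfl
    rw [e3]
    simp only [m, Equiv.symm_apply_apply]
    rfl

/-- bijectivity is inherited along an injective post-composition -/
lemma bijective_of_comp_injective {α β γ : Type*} (Ψ : α → β) (η : β → γ)
    (hη : Function.Injective η) (h : Function.Bijective (fun x => η (Ψ x))) :
    Function.Bijective Ψ := by
  constructor
  · intro x y e
    exact h.1 (congrArg η e)
  · intro b
    obtain ⟨x, hx⟩ := h.2 (η b)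
    exact ⟨x, hη hx⟩

theorem main {X Y : Scheme.{u}}
    (f : X ⟶ Y) (c : DEt.Compactification f)
    (W : c.Xbar.Opens) (hW : (W : Set c.Xbar)ᶜ ⊆ Set.range c.j.base)
    [DCoh.HasRpush c.fbar] [DCoh.HasRpush c.j] (hfbar : DCoh.RpushPreservesQCoh c.fbar)
    (hj : DCoh.RpushPreservesQCoh c.j)
    (a : DCoh.DQCoh Y ⥤ DCoh.DQCoh c.Xbar) (adj : DCoh.RpushQ c.fbar hfbar ⊣ a)
    (adjj : DCoh.restrictD c.j ⊣ DCoh.Rpush c.j)
    [CxOX.HasRgammaZ W.ι] [CxOX.HasRgammaZ (c.j ⁻¹ᵁ W).ι]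
    (G : DCoh.DQCoh Y)
    (θ : (CxOX.RgammaZ (c.j ⁻¹ᵁ W).ι).obj ((Dual3.shriekC c a).obj G) ⟶
      (DCoh.restrictD c.j).obj ((CxOX.RgammaZ W.ι).obj (a.obj G).obj))
    (hθ : θ ≫ (DCoh.restrictD c.j).map ((CxOX.RgammaZToId W.ι).app (a.obj G).obj) =
      (CxOX.RgammaZToId (c.j ⁻¹ᵁ W).ι).app ((Dual3.shriekC c a).obj G))
    [IsIso (adjj.unit.app ((CxOX.RgammaZ W.ι).obj (a.obj G).obj))]
    (F : DCoh.D X) (hF : DCoh.IsQCohD F)
    (hFZ : CxOX.IsSuppD (c.j ⁻¹ᵁ W).ι F) :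
    Function.Bijective (fun φ : F ⟶ (CxOX.RgammaZ (c.j ⁻¹ᵁ W).ι).obj ((Dual3.shriekC c a).obj G) =>
      (DCoh.Rpush c.fbar).map ((DCoh.Rpush c.j).map (φ ≫ θ) ≫
          inv (adjj.unit.app ((CxOX.RgammaZ W.ι).obj (a.obj G).obj)) ≫
          (CxOX.RgammaZToId W.ι).app (a.obj G).obj) ≫
        (adj.counit.app G).hom) := by
  haveI := isIso_counit c.j adjj
  have hF0 : IsZero ((DCoh.restrictD (c.j ⁻¹ᵁ W).ι).obj F) :=
    isZero_restrictD_of_support _ F (fun i y hy => hFZ i hy ⟨y, rfl⟩)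
  have hP0 : IsZero ((DCoh.restrictD W.ι).obj ((DCoh.Rpush c.j).obj F)) :=
    isZero_restrictD_Rpush c.j W F hF0
  have b1 := bijective_comp_RgammaZToId (c.j ⁻¹ᵁ W) F ((Dual3.shriekC c a).obj G) hF0
  have b2 : Function.Bijective
      (fun ψ : F ⟶ (Dual3.shriekC c a).obj G => (DCoh.Rpush c.j).map ψ) :=
    (adjj.fullyFaithfulROfIsIsoCounit).map_bijective _ _
  have inj3 := injective_comp_unit c.j W hW adjj ((DCoh.Rpush c.j).obj F) (a.obj G).obj hP0
  have b4 := bijective_adj c.fbar hfbar a adj G ((DCoh.Rpush c.j).obj F) (hj F hF)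
  -- the key identity
  have hid : ∀ φ : F ⟶ (CxOX.RgammaZ (c.j ⁻¹ᵁ W).ι).obj ((Dual3.shriekC c a).obj G),
      ((DCoh.Rpush c.j).map (φ ≫ θ) ≫
          inv (adjj.unit.app ((CxOX.RgammaZ W.ι).obj (a.obj G).obj)) ≫
          (CxOX.RgammaZToId W.ι).app (a.obj G).obj) ≫ adjj.unit.app (a.obj G).obj =
        (DCoh.Rpush c.j).map
          (φ ≫ (CxOX.RgammaZToId (c.j ⁻¹ᵁ W).ι).app ((Dual3.shriekC c a).obj G)) := by
    intro φ
    have hn := adjj.unit.naturality ((CxOX.RgammaZToId W.ι).app (a.obj G).obj)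
    have hn' : (CxOX.RgammaZToId W.ι).app (a.obj G).obj ≫ adjj.unit.app (a.obj G).obj =
        adjj.unit.app ((CxOX.RgammaZ W.ι).obj (a.obj G).obj) ≫
          (DCoh.Rpush c.j).map ((DCoh.restrictD c.j).map
            ((CxOX.RgammaZToId W.ι).app (a.obj G).obj)) := hn
    rw [Category.assoc, Category.assoc, hn', IsIso.inv_hom_id_assoc, ← Functor.map_comp,
      Category.assoc, hθ]
  have hΨ : Function.Bijective
      (fun φ : F ⟶ (CxOX.RgammaZ (c.j ⁻¹ᵁ W).ι).obj ((Dual3.shriekC c a).obj G) =>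
        (DCoh.Rpush c.j).map (φ ≫ θ) ≫
          inv (adjj.unit.app ((CxOX.RgammaZ W.ι).obj (a.obj G).obj)) ≫
          (CxOX.RgammaZToId W.ι).app (a.obj G).obj) := by
    apply bijective_of_comp_injective _ _ inj3
    simp only [hid]
    exact b2.comp b1
  exact b4.comp hΨ

end Groth.Agent.Lib.Helper6.ShriekAdj
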