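import Mathlib
import Groth.Agent.Lib.Helper6.ClassRes2
import Groth.Agent.Lib.Helper6.ExtendTransfer

/-!
# Resolutions of complexes with cohomology in a thick subcategory `B`
  by injective objects belonging to `B`

If `B` is a class of objects closed under cokernels and extensions such that every object of `B`
embeds into an injective object belonging to `B`, then every bounded below complex `K` with
cohomology in `B` admits a quasi-isomorphism to a bounded below complex of injective objects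
belonging to `B`.
-/

set_option autoImplicit false
universe v u
open CategoryTheory CategoryTheory.Limits

namespace Groth.Agent.Lib.Helper6.ThickRes

open Groth.Agent.Lib.Helper6.ClassRes (pushout_exact_refinement)
open Groth.Agent.Lib.Helper6.ClassRes2

variable {A : Type u} [Category.{v} A] [Abelian A] (B : A → Prop)
  (hBcoker : ∀ {X Y : A} (f : X ⟶ Y), B X → B Y → B (cokernel f))
  (hBext : ∀ S : ShortComplex A, S.ShortExact → B S.X₁ → B S.X₃ → B S.X₂)
  (hBinj : ∀ X : A, B X → ∃ (Y : A) (i : X ⟶ Y), Mono i ∧ B Y ∧ Injective Y)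

section Step

variable (K : CochainComplex A ℕ) {n : ℕ} {Q : A} (m : K.opcycles n ⟶ Q)

/-- the map from the pushout to `K.X (n + 2)` -/
noncomputable def ρ : pushout (K.fromOpcycles n (n + 1)) m ⟶ K.X (n + 1 + 1) :=
  πP K m ≫ K.fromOpcycles (n + 1) (n + 1 + 1)

lemma zero₁ : (K.homologyι n ≫ m) ≫ pushout.inr (K.fromOpcycles n (n + 1)) m = 0 := by
  rw [Category.assoc, ← pushout.condition, K.homologyι_comp_fromOpcycles_assoc, zero_comp]

/-- `coker (Hⁿ(K) ⟶ Q) ⟶ P` -/
noncomputable def j : cokernel (K.homologyι n ≫ m) ⟶ pushout (K.fromOpcycles n (n + 1)) m :=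
  cokernel.desc _ (pushout.inr _ _) (zero₁ K m)

@[reassoc (attr := simp)]
lemma π_j : cokernel.π (K.homologyι n ≫ m) ≫ j K m = pushout.inr _ _ := cokernel.π_desc _ _ _

lemma j_ρ : j K m ≫ ρ K m = 0 := by
  rw [← cancel_epi (cokernel.π (K.homologyι n ≫ m)), π_j_assoc, comp_zero, ρ, inr_πP_assoc,
    zero_comp]

/-- `coker (Hⁿ(K) ⟶ Q) ⟶ P'` -/
noncomputable def j' : cokernel (K.homologyι n ≫ m) ⟶ kernel (ρ K m) :=
  kernel.lift _ (j K m) (j_ρ K m)

@[reassoc (attr := simp)]
lemma j'_ι : j' K m ≫ kernel.ι (ρ K m) = j K m := kernel.lift_ι _ _ _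

/-- `P' ⟶ Hⁿ⁺¹(K)` -/
noncomputable def p' : kernel (ρ K m) ⟶ K.homology (n + 1) :=
  (K.homologyIsKernel (n + 1) (n + 1 + 1) (by simp)).lift
    (KernelFork.ofι (kernel.ι (ρ K m) ≫ πP K m) (by
      rw [Category.assoc]; exact kernel.condition (ρ K m)))

@[reassoc (attr := simp)]
lemma p'_homologyι : p' K m ≫ K.homologyι (n + 1) = kernel.ι (ρ K m) ≫ πP K m :=
  (K.homologyIsKernel (n + 1) (n + 1 + 1) (by simp)).fac _ WalkingParallelPair.zero

lemma j'_p' : j' K m ≫ p' K m = 0 := by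
  rw [← cancel_mono (K.homologyι (n + 1)), Category.assoc, p'_homologyι, j'_ι_assoc, zero_comp,
    ← cancel_epi (cokernel.π (K.homologyι n ≫ m)), π_j_assoc, comp_zero, inr_πP]

/-- the short complex `0 ⟶ coker ⟶ P' ⟶ Hⁿ⁺¹ ⟶ 0` -/
noncomputable def S : ShortComplex A := ShortComplex.mk (j' K m) (p' K m) (j'_p' K m)

lemma isPushout : IsPushout (K.fromOpcycles n (n + 1)) m
    (pushout.inl (K.fromOpcycles n (n + 1)) m) (pushout.inr (K.fromOpcycles n (n + 1)) m) :=
  IsPushout.of_hasPushout (K.fromOpcycles n (n + 1)) m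

lemma mono_j : Mono (j K m) := by
  rw [Preadditive.mono_iff_cancel_zero]
  intro T x hx
  obtain ⟨T₁, π₁, _, y, hy⟩ := surjective_up_to_refinements_of_epi
    (cokernel.π (K.homologyι n ≫ m)) x
  have h1 : (0 : T₁ ⟶ K.X (n + 1)) ≫ pushout.inl (K.fromOpcycles n (n + 1)) m =
      y ≫ pushout.inr (K.fromOpcycles n (n + 1)) m := by
    rw [zero_comp, ← π_j K m, ← reassoc_of% hy, hx, comp_zero]
  obtain ⟨T₂, π₂, _, w, hw1, hw2⟩ := pushout_exact_refinement (isPushout K m) _ _ h1
  rw [comp_zero] at hw1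
  let w' : T₂ ⟶ K.homology n := (K.homologyIsKernel n (n + 1) (by simp)).lift
    (KernelFork.ofι w hw1)
  have hw' : w' ≫ K.homologyι n = w :=
    (K.homologyIsKernel n (n + 1) (by simp)).fac _ WalkingParallelPair.zero
  rw [← cancel_epi π₁, ← cancel_epi π₂, comp_zero, comp_zero, hy, ← reassoc_of% hw2, ← hw',
    Category.assoc]
  have := cokernel.condition (K.homologyι n ≫ m)
  rw [Category.assoc] at this
  rw [this, comp_zero]

lemma mono_j' : Mono (j' K m) := by
  have := mono_j K m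
  exact mono_of_mono_fac (j'_ι K m)

lemma epi_p' : Epi (p' K m) := by
  rw [epi_iff_surjective_up_to_refinements]
  intro T z
  obtain ⟨T₁, π₁, _, x, hx⟩ := surjective_up_to_refinements_of_epi (K.pOpcycles (n + 1))
    (z ≫ K.homologyι (n + 1))
  refine ⟨T₁, π₁, inferInstance, kernel.lift _ (x ≫ pushout.inl _ _) ?_, ?_⟩
  · rw [ρ, Category.assoc, inl_πP_assoc, ← reassoc_of% hx, K.homologyι_comp_fromOpcycles,
      comp_zero, comp_zero]
  · rw [← cancel_mono (K.homologyι (n + 1)), Category.assoc, Category.assoc, p'_homologyι,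
      kernel.lift_ι_assoc, Category.assoc, inl_πP, hx]

lemma exact_aux {T : A} (x₂ : T ⟶ kernel (ρ K m)) (hx₂' : x₂ ≫ p' K m = 0) :
    ∃ (T' : A) (π : T' ⟶ T) (_ : Epi π) (x₁ : T' ⟶ cokernel (K.homologyι n ≫ m)),
      π ≫ x₂ = x₁ ≫ j' K m := by
  have h0 : (x₂ ≫ kernel.ι (ρ K m)) ≫ πP K m = 0 := by
    rw [Category.assoc, ← p'_homologyι, reassoc_of% hx₂', zero_comp]
  obtain ⟨T₁, π₁, _, a, b, hab⟩ := (isPushout K m).hom_eq_add_up_to_refinements
    (x₂ ≫ kernel.ι (ρ K m))
  have ha : a ≫ K.pOpcycles (n + 1) = 0 := by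
    have := hab =≫ πP K m
    rw [Category.assoc, h0, comp_zero, Preadditive.add_comp, Category.assoc, Category.assoc,
      inl_πP, inr_πP, comp_zero, add_zero] at this
    exact this.symm
  obtain ⟨T₂, π₂, _, a', ha'⟩ :=
    (K.comp_pOpcycles_eq_zero_iff_up_to_refinements a n (by simp)).mp ha
  refine ⟨T₂, π₂ ≫ π₁, inferInstance,
    (a' ≫ K.pOpcycles n ≫ m + π₂ ≫ b) ≫ cokernel.π (K.homologyι n ≫ m), ?_⟩
  rw [← cancel_mono (kernel.ι (ρ K m)), Category.assoc, Category.assoc, Category.assoc,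
    Category.assoc, j'_ι, π_j, hab, Preadditive.comp_add, reassoc_of% ha',
    Preadditive.add_comp, Category.assoc, Category.assoc, Category.assoc,
    ← K.p_fromOpcycles n (n + 1), Category.assoc, pushout.condition]

lemma exact_S : (S K m).Exact := by
  rw [ShortComplex.exact_iff_exact_up_to_refinements]
  intro T x₂ hx₂
  exact exact_aux K m x₂ hx₂

lemma shortExact_S : (S K m).ShortExact :=
  { exact := exact_S K m
    mono_f := mono_j' K m
    epi_g := epi_p' K m }

include hBcoker hBext hBinj in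
lemma nonempty_step (hK : ∀ i, B (K.homology i)) (hQ : B Q) :
    Nonempty (Step K (fun X => B X ∧ Injective X) B m) := by
  have hc : B (cokernel (K.homologyι n ≫ m)) := hBcoker _ (hK n) hQ
  have hP' : B (kernel (ρ K m)) := hBext (S K m) (shortExact_S K m) hc (hK (n + 1))
  obtain ⟨Y, i, hi, hY, hYinj⟩ := hBinj _ hP'
  refine ⟨{
    E := Y
    g := Injective.factorThru i (kernel.ι (ρ K m))
    mem := ⟨hY, hYinj⟩
    memQ := hBcoker _ hQ hY
    rm := ?_ }⟩
  intro T x hx1 hx2
  have hx2' : x ≫ ρ K m = 0 := hx2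
  have e : kernel.lift _ x hx2' ≫ i = 0 := by
    rw [← Injective.comp_factorThru i (kernel.ι (ρ K m)), kernel.lift_ι_assoc, hx1]
  have e' : kernel.lift _ x hx2' = 0 := by
    rw [← cancel_mono i, e, zero_comp]
  rw [← kernel.lift_ι (ρ K m) x hx2', e', zero_comp]

end Step

include hBcoker hBext hBinj in
open ExtendTransfer in
theorem exists_resolution (hBiso : ∀ {X Y : A}, (X ≅ Y) → B X → B Y)
    (Z : A) (hZ : IsZero Z) (hBZ : B Z)
    (K : CochainComplex A ℤ) (a : ℤ) [K.IsStrictlyGE a] (hK : ∀ i, B (K.homology i)) :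
    ∃ (L : CochainComplex A ℤ) (α : K ⟶ L), L.IsStrictlyGE a ∧
      (∀ n, B (L.X n) ∧ Injective (L.X n)) ∧ QuasiIso α := by
  have hb : K.IsStrictlyGE (a - 1) := K.isStrictlyGE_of_ge (a - 1) a (by lia)
  let e := ComplexShape.embeddingUpIntGE (a - 1)
  have hK0 : IsZero ((K.restriction e).X 0) := by
    show IsZero (K.X (a - 1 + ((0 : ℕ) : ℤ)))
    exact K.isZero_of_isStrictlyGE a _ (by simp)
  have hKp : ∀ i, B ((K.restriction e).homology i) := by
    intro i
    obtain _ | n := i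
    · have : IsZero ((K.restriction e).homology 0) := by
        rw [← HomologicalComplex.exactAt_iff_isZero_homology]
        exact ShortComplex.exact_of_isZero_X₂ _ hK0
      exact hBiso (hZ.iso this) hBZ
    · exact hBiso (K.restrictionHomologyIso e n (n + 1) (n + 1 + 1) (by simp) (by simp)
        (i' := a - 1 + n) (j' := a - 1 + (n + 1)) (k' := a - 1 + (n + 1 + 1))
        (by simp [e]) (by simp [e]) (by simp [e]) (by simp; lia) (by simp; lia)).symm (hK _)
  have hIZ : B Z ∧ Injective Z := ⟨hBZ, ⟨fun g f _ => ⟨0, hZ.eq_of_tgt _ _⟩⟩⟩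
  obtain ⟨Lp, αp, hL0, hLI, hqi⟩ := core (K.restriction e)
    (fun n Q m hQ _ => nonempty_step B hBcoker hBext hBinj (K.restriction e) m hKp hQ)
    Z hZ hIZ hBZ hK0
  refine ⟨cxGE (a - 1) Lp Z hZ, homGE (a - 1) K Lp αp Z hZ, ?_, ?_, inferInstance⟩
  · rw [CochainComplex.isStrictlyGE_iff]
    intro i hi
    obtain hi' | rfl : i < a - 1 ∨ i = a - 1 := by lia
    · exact isZero_cxGE_X _ _ _ _ _ hi'
    · exact isZero_cxGE_X_self _ _ _ _ hL0
  · exact mem_cxGE _ _ _ _ (fun X => B X ∧ Injective X) hIZ hLI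

end Groth.Agent.Lib.Helper6.ThickRes
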