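import Mathlib
import Groth.Prelude.Def_W4c5qcohlocdualityLoc

/-!
# Closed objects for the localizing closure of a class closed under subquotients (helper6)

Let `C` be a Grothendieck abelian category and `P` a class of objects closed under subobjects and
quotients.  If `M` is `P`-closed (`Hom(X, M) = 0` and every extension of `X` by `M` splits, for
`X` in `P`), then `M` is closed for the localizing closure of `P`.

The proof: `F` = the `P`-torsion-free objects, `T = {Y | Hom(Y, N) = 0 for all N in F}`.  `T` is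
closed under quotients, extensions and coproducts for trivial reasons, and under subobjects
because every `N` in `F` embeds into an object `E₁` of `F` with the extension property
(`E₁ = E/K` where `E` is injective and `K` is maximal with `K ∩ N = 0`; Zorn + AB5).
-/

set_option autoImplicit false
set_option linter.style.haveILetI false
universe w v u
open CategoryTheory CategoryTheory.Limits

namespace Groth.Agent.Lib.Helper6.TorsionClosed

variable {C : Type u} [Category.{v} C] [Abelian C]

section Zorn

variable {N E : C} (ι : N ⟶ E)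

/-- `K` meets `N` trivially (as subobjects of `E`). -/
def Disj (K : Subobject E) : Prop :=
  ∀ ⦃W : C⦄ (a : W ⟶ N) (b : W ⟶ (K : C)), a ≫ ι = b ≫ K.arrow → a = 0

lemma disj_iff_mono (K : Subobject E) : Disj ι K ↔ Mono (ι ≫ cokernel.π K.arrow) := by
  constructor
  · intro h
    refine Preadditive.mono_of_cancel_zero _ (fun {W} a ha => ?_)
    have hk := Abelian.monoIsKernelOfCokernel _ (cokernelIsCokernel K.arrow)
    have h0 : (a ≫ ι) ≫ cokernel.π K.arrow = 0 := by rw [Category.assoc]; exact ha
    exact h a (hk.lift (KernelFork.ofι _ h0)) (hk.fac (KernelFork.ofι _ h0) WalkingParallelPair.zero).symm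
  · intro h W a b hab
    rw [← cancel_mono (ι ≫ cokernel.π K.arrow), zero_comp, ← Category.assoc, hab, Category.assoc,
      cokernel.condition, comp_zero]

lemma disj_of_mono_comp (K : Subobject E) {Q : C} (q : E ⟶ Q) (hK : K.arrow ≫ q = 0)
    [Mono (ι ≫ q)] : Disj ι K := by
  intro W a b hab
  rw [← cancel_mono (ι ≫ q), zero_comp, ← Category.assoc, hab, Category.assoc, hK, comp_zero]

/-- the map between quotients induced by an inclusion of subobjects -/
noncomputable def quotMap {K L : Subobject E} (h : K ≤ L) :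
    cokernel K.arrow ⟶ cokernel L.arrow :=
  cokernel.desc _ (cokernel.π L.arrow) (by
    rw [← Subobject.ofLE_arrow h, Category.assoc, cokernel.condition, comp_zero])

@[reassoc (attr := simp)]
lemma π_quotMap {K L : Subobject E} (h : K ≤ L) :
    cokernel.π K.arrow ≫ quotMap h = cokernel.π L.arrow :=
  cokernel.π_desc _ _ _

end Zorn

variable [IsGrothendieckAbelian.{w} C]

section Zorn2

variable {N E : C} (ι : N ⟶ E)

/-- the subobject corresponding to an element of the small model of `Subobject E` -/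
noncomputable def sub (b : Shrink.{w} (Subobject E)) : Subobject E := (equivShrink _).symm b

lemma sub_le {a b : Shrink.{w} (Subobject E)} (h : a ≤ b) : sub a ≤ sub b :=
  (orderIsoShrink (Subobject E)).symm.monotone h

lemma le_of_sub_le {a b : Shrink.{w} (Subobject E)} (h : sub a ≤ sub b) : a ≤ b :=
  (orderIsoShrink (Subobject E)).symm.le_iff_le.1 h

@[simp]
lemma sub_equivShrink (K : Subobject E) : sub (equivShrink.{w} _ K) = K :=
  (equivShrink _).symm_apply_apply K

/-- the diagram of quotients attached to a set of subobjects -/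
noncomputable def quotFunctor (c : Set (Shrink.{w} (Subobject E))) : c ⥤ C where
  obj j := cokernel (sub j.1).arrow
  map f := quotMap (sub_le (leOfHom f))
  map_id j := by
    rw [← cancel_epi (cokernel.π _), π_quotMap, Category.comp_id]
  map_comp f g := by
    rw [← cancel_epi (cokernel.π _), π_quotMap, π_quotMap_assoc, π_quotMap]

attribute [local instance] IsFiltered.isConnected in
lemma exists_ub (c : Set (Shrink.{w} (Subobject E))) (hc : IsChain (· ≤ ·) c)
    (hS : ∀ b ∈ c, Disj ι (sub b)) (y : Shrink.{w} (Subobject E)) (hy : y ∈ c) :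
    ∃ ub, Disj ι (sub ub) ∧ ∀ z ∈ c, z ≤ ub := by
  haveI : Nonempty c := ⟨⟨y, hy⟩⟩
  haveI : IsDirected c (· ≤ ·) := ⟨fun a b => by
    rcases hc.total a.2 b.2 with h | h
    · exact ⟨b, h, le_rfl⟩
    · exact ⟨a, le_rfl, h⟩⟩
  let F₂ := quotFunctor (E := E) c
  let j₀ : c := ⟨y, hy⟩
  let q : E ⟶ colimit F₂ := cokernel.π (sub j₀.1).arrow ≫ colimit.ι F₂ j₀
  have hq' : ∀ (j k : c) (h : j ≤ k), cokernel.π (sub j.1).arrow ≫ colimit.ι F₂ j =
      cokernel.π (sub k.1).arrow ≫ colimit.ι F₂ k := by
    intro j k h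
    rw [← colimit.w F₂ (homOfLE h)]
    exact π_quotMap_assoc (sub_le h) (colimit.ι F₂ k)
  have hq : ∀ j : c, cokernel.π (sub j.1).arrow ≫ colimit.ι F₂ j = q := by
    intro j
    obtain ⟨k, hjk, hj₀k⟩ := directed_of (· ≤ ·) j j₀
    rw [hq' j k hjk, ← hq' j₀ k hj₀k]
  let φ : (Functor.const c).obj N ⟶ F₂ :=
    { app j := ι ≫ cokernel.π (sub j.1).arrow
      naturality j k f := by
        change 𝟙 N ≫ ι ≫ cokernel.π (sub k.1).arrow =
          (ι ≫ cokernel.π (sub j.1).arrow) ≫ quotMap (sub_le (leOfHom f))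
        rw [Category.id_comp, Category.assoc, π_quotMap] }
  have hφ : ∀ j, Mono (φ.app j) := fun j => (disj_iff_mono ι _).1 (hS j.1 j.2)
  haveI := NatTrans.mono_of_mono_app φ
  have hmono : Mono (ι ≫ q) :=
    colim.map_mono' φ (isColimitConstCocone c N) (colimit.isColimit F₂) (ι ≫ q) (fun j => by
      change 𝟙 N ≫ ι ≫ q = (ι ≫ cokernel.π (sub j.1).arrow) ≫ colimit.ι F₂ j
      rw [Category.id_comp, Category.assoc, hq])
  let K : Subobject E := Subobject.mk (kernel.ι q)
  have hK : K.arrow ≫ q = 0 := by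
    rw [← Subobject.underlyingIso_hom_comp_eq_mk, Category.assoc, kernel.condition, comp_zero]
  refine ⟨equivShrink _ K, ?_, fun z hz => ?_⟩
  · rw [sub_equivShrink]
    exact disj_of_mono_comp ι K q hK
  · apply le_of_sub_le
    rw [sub_equivShrink]
    have h0 : (sub z).arrow ≫ q = 0 := by
      rw [← hq ⟨z, hz⟩, cokernel.condition_assoc, zero_comp]
    exact Subobject.le_mk_of_comm (kernel.lift q (sub z).arrow h0) (kernel.lift_ι _ _ _)

lemma disj_bot [Mono ι] : Disj ι (⊥ : Subobject E) := by
  intro W a b hab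
  rw [← cancel_mono ι, zero_comp, hab, Subobject.bot_arrow, comp_zero]

/-- Zorn: every subobject meeting `N` trivially is contained in a maximal such subobject. -/
lemma exists_maximal_disj_ge (K₀ : Subobject E) (h₀ : Disj ι K₀) :
    ∃ K : Subobject E, K₀ ≤ K ∧ Disj ι K ∧ ∀ L : Subobject E, K ≤ L → Disj ι L → L ≤ K := by
  obtain ⟨m, hxm, hm⟩ := zorn_le_nonempty₀ {b : Shrink.{w} (Subobject E) | Disj ι (sub b)}
    (fun c hcS hc y hy => exists_ub ι c hc (fun b hb => hcS hb) y hy)
    (equivShrink _ K₀) (by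
      show Disj ι (sub _)
      rwa [sub_equivShrink])
  refine ⟨sub m, by simpa using sub_le hxm, hm.1, fun L hKL hL => ?_⟩
  have h1 : m ≤ equivShrink _ L := le_of_sub_le (by rwa [sub_equivShrink])
  have h2 : equivShrink _ L ≤ m := hm.2 (by
    show Disj ι (sub _)
    rwa [sub_equivShrink]) h1
  simpa using sub_le h2

/-- Zorn: there is a subobject `K` of `E` maximal among those meeting `N` trivially. -/
lemma exists_maximal_disj [Mono ι] :
    ∃ K : Subobject E, Disj ι K ∧ ∀ L : Subobject E, K ≤ L → Disj ι L → L ≤ K := by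
  obtain ⟨K, -, hK, hmax⟩ := exists_maximal_disj_ge.{w} ι ⊥ (disj_bot ι)
  exact ⟨K, hK, hmax⟩

omit [IsGrothendieckAbelian.{w} C] in
/-- `N` is essential in `E / K` when `K` is maximal among the subobjects meeting `N` trivially. -/
lemma eq_zero_of_disj_quot (K : Subobject E)
    (hmax : ∀ L : Subobject E, K ≤ L → Disj ι L → L ≤ K) {I : C}
    (mI : I ⟶ cokernel K.arrow) [Mono mI]
    (h : ∀ ⦃W : C⦄ (a : W ⟶ N) (b : W ⟶ I), a ≫ ι ≫ cokernel.π K.arrow = b ≫ mI → a = 0) :
    mI = 0 := by
  let π := cokernel.π K.arrow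
  let q := cokernel.π mI
  let L : Subobject E := Subobject.mk (kernel.ι (π ≫ q))
  have hLarrow : L.arrow ≫ π ≫ q = 0 := by
    rw [← Subobject.underlyingIso_hom_comp_eq_mk, Category.assoc, kernel.condition, comp_zero]
  have hKL : K ≤ L := Subobject.le_mk_of_comm
    (kernel.lift (π ≫ q) K.arrow (by rw [cokernel.condition_assoc, zero_comp]))
    (kernel.lift_ι _ _ _)
  have hL : Disj ι L := by
    intro W a b hab
    have h0 : (a ≫ ι ≫ π) ≫ q = 0 := by
      rw [Category.assoc, Category.assoc, ← Category.assoc a, hab, Category.assoc, hLarrow,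
        comp_zero]
    have hk := Abelian.monoIsKernelOfCokernel _ (cokernelIsCokernel mI)
    let b' : W ⟶ I := hk.lift (KernelFork.ofι _ h0)
    have hb' : b' ≫ mI = a ≫ ι ≫ π := hk.fac (KernelFork.ofι _ h0) WalkingParallelPair.zero
    exact h a b' hb'.symm
  have hLK : L ≤ K := hmax L hKL hL
  have hLπ : L.arrow ≫ π = 0 := by
    rw [← Subobject.ofLE_arrow hLK, Category.assoc, cokernel.condition, comp_zero]
  have hz : pullback.fst π mI ≫ π ≫ q = 0 := by
    rw [← Category.assoc, pullback.condition, Category.assoc, cokernel.condition, comp_zero]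
  have h1 : pullback.fst π mI ≫ π = 0 := by
    have : pullback.fst π mI =
        kernel.lift (π ≫ q) _ hz ≫ (Subobject.underlyingIso _).inv ≫ L.arrow := by
      rw [Subobject.underlyingIso_arrow, kernel.lift_ι]
    rw [this, Category.assoc, Category.assoc, hLπ, comp_zero, comp_zero]
  rw [← cancel_epi (pullback.snd π mI), ← pullback.condition, h1, comp_zero]

end Zorn2

section Main

variable (P : ObjectProperty C)

/-- `P`-torsion-free objects -/
def TF (N : C) : Prop := ∀ ⦃X : C⦄, P X → ∀ f : X ⟶ N, f = 0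

/-- objects with no nonzero map to a torsion-free object -/
def Tors : ObjectProperty C := fun Y => ∀ ⦃N : C⦄, TF P N → ∀ f : Y ⟶ N, f = 0

lemma le_tors : P ≤ Tors P := fun _ hX _ hN f => hN hX f

variable [P.IsClosedUnderSubobjects] [P.IsClosedUnderQuotients]

/-- every torsion-free object embeds into a torsion-free object with the extension property -/
theorem exists_essExt (N : C) (hN : TF P N) :
    ∃ (E₁ : C) (j : N ⟶ E₁), Mono j ∧ TF P E₁ ∧
      ∀ ⦃A B : C⦄ (m : A ⟶ B) [Mono m] (g : A ⟶ N), ∃ h : B ⟶ E₁, m ≫ h = g ≫ j := by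
  let E := Injective.under N
  let ι : N ⟶ E := Injective.ι N
  obtain ⟨K, hK, hmax⟩ := exists_maximal_disj.{w} ι
  let π := cokernel.π K.arrow
  have hj : Mono (ι ≫ π) := (disj_iff_mono ι K).1 hK
  refine ⟨cokernel K.arrow, ι ≫ π, hj, ?_, ?_⟩
  · intro X hX f
    let I := Limits.image f
    let mI : I ⟶ cokernel K.arrow := Limits.image.ι f
    let e : X ⟶ I := factorThruImage f
    have hI : P I := P.prop_of_epi e hX
    have hmI : mI = 0 := by
      refine eq_zero_of_disj_quot ι K hmax mI (fun W a b hab => ?_)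
      have hW' : P (pullback (ι ≫ π) mI) := P.prop_of_mono (pullback.snd (ι ≫ π) mI) hI
      have hp1 : pullback.fst (ι ≫ π) mI = 0 := hN hW' _
      have : a = pullback.lift a b hab ≫ pullback.fst (ι ≫ π) mI :=
        (pullback.lift_fst _ _ _).symm
      rw [this, hp1, comp_zero]
    rw [← Limits.image.fac f]
    show e ≫ mI = 0
    rw [hmI, comp_zero]
  · intro A B m _ g
    exact ⟨Injective.factorThru (g ≫ ι) m ≫ π, by
      rw [← Category.assoc, Injective.comp_factorThru, Category.assoc]⟩

instance : (Tors P).IsClosedUnderSubobjects where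
  prop_of_mono {X Y} f _ hY := by
    intro N hN g
    obtain ⟨E₁, j, hj, hE₁, hext⟩ := exists_essExt.{w} P N hN
    obtain ⟨h, hh⟩ := hext f g
    rw [hY hE₁ h, comp_zero] at hh
    rw [← cancel_mono j, zero_comp, ← hh]

omit [IsGrothendieckAbelian.{w} C] [P.IsClosedUnderSubobjects] [P.IsClosedUnderQuotients] in
lemma tors_prop_of_epi {X Y : C} (f : X ⟶ Y) [Epi f] (hX : Tors P X) : Tors P Y := by
  intro N hN g
  rw [← cancel_epi f, comp_zero]
  exact hX hN _

omit [IsGrothendieckAbelian.{w} C] [P.IsClosedUnderSubobjects] [P.IsClosedUnderQuotients] in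
lemma tors_prop_X₂ {S : ShortComplex C} (hS : S.ShortExact) (h₁ : Tors P S.X₁)
    (h₃ : Tors P S.X₃) : Tors P S.X₂ := by
  intro N hN g
  have h0 : S.f ≫ g = 0 := h₁ hN _
  haveI := hS.epi_g
  rw [← hS.exact.g_desc g h0, h₃ hN (hS.exact.desc g h0), comp_zero]

open ZeroObject in
lemma tors_isLocalizing : GabLoc.IsLocalizing.{w} (Tors P) where
  isSerreClass :=
    { exists_zero := ⟨0, isZero_zero C, fun _ _ _ => (isZero_zero C).eq_of_src _ _⟩
      prop_of_mono := fun f _ hY => (Tors P).prop_of_mono f hY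
      prop_of_epi := fun f _ hX => tors_prop_of_epi P f hX
      prop_X₂_of_shortExact := fun hS h₁ h₃ => tors_prop_X₂ P hS h₁ h₃ }
  isClosedUnderCoproducts J := ⟨by
    rintro X ⟨h⟩ N hN f
    refine h.isColimit.hom_ext (fun j => ?_)
    rw [comp_zero]
    exact (h.prop_diag_obj j) hN _⟩

theorem isClosedFor_tors (M : C) (hM : GabLoc.IsClosedFor P M) :
    GabLoc.IsClosedFor (Tors P) M := by
  have hMF : TF P M := fun X hX f => hM.1 hX f
  refine ⟨fun Y hY f => hY hMF f, ?_⟩
  intro N Y i p hp hY hS
  obtain ⟨E₁, j, hj, hE₁, hext⟩ := exists_essExt.{w} P M hMF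
  haveI : Mono i := hS.mono_f
  haveI : Epi p := hS.epi_g
  obtain ⟨g, hg⟩ := hext i (𝟙 M)
  have hkj := Abelian.monoIsKernelOfCokernel _ (cokernelIsCokernel j)
  -- the quotient `E₁ / M` is torsion-free
  have hQ : TF P (cokernel j) := by
    intro X hX f
    let p₁ := pullback.fst (cokernel.π j) f
    let p₂ := pullback.snd (cokernel.π j) f
    let i' : M ⟶ pullback (cokernel.π j) f :=
      pullback.lift j 0 (by rw [cokernel.condition, zero_comp])
    have hi'1 : i' ≫ p₁ = j := pullback.lift_fst _ _ _
    have hi'2 : i' ≫ p₂ = 0 := pullback.lift_snd _ _ _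
    haveI : Mono i' := mono_of_mono_fac hi'1
    have key : ∀ {W' : C} (a : W' ⟶ pullback (cokernel.π j) f), a ≫ p₂ = 0 →
        (a ≫ p₁) ≫ cokernel.π j = 0 := by
      intro W' a ha
      rw [Category.assoc, pullback.condition, ← Category.assoc, ha, zero_comp]
    have hlim : IsLimit (KernelFork.ofι i' hi'2) :=
      KernelFork.IsLimit.ofι i' hi'2
        (fun {W'} a ha => hkj.lift (KernelFork.ofι (a ≫ p₁) (key a ha)))
        (fun {W'} a ha => by
          have h1 : hkj.lift (KernelFork.ofι (a ≫ p₁) (key a ha)) ≫ j =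
              a ≫ p₁ := hkj.fac _ WalkingParallelPair.zero
          apply pullback.hom_ext
          · rw [Category.assoc]
            exact (congrArg (_ ≫ ·) hi'1).trans h1
          · rw [Category.assoc]
            exact (congrArg (_ ≫ ·) hi'2).trans (comp_zero.trans ha.symm))
        (fun {W'} a ha m hm => by
          have h1 : hkj.lift (KernelFork.ofι (a ≫ p₁) (key a ha)) ≫ j =
              a ≫ p₁ := hkj.fac _ WalkingParallelPair.zero
          rw [← cancel_mono j, h1, ← hm, Category.assoc, hi'1])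
    have hSES : (ShortComplex.mk i' p₂ hi'2).ShortExact :=
      { exact := ShortComplex.exact_of_f_is_kernel _ hlim
        mono_f := inferInstanceAs (Mono i')
        epi_g := inferInstanceAs (Epi (pullback.snd (cokernel.π j) f)) }
    haveI : IsSplitMono i' := hM.2 i' p₂ hi'2 hX hSES
    let σ : pullback (cokernel.π j) f ⟶ E₁ := p₁ - retraction i' ≫ j
    have hσ : i' ≫ σ = 0 := by
      simp only [σ, Preadditive.comp_sub, hi'1, IsSplitMono.id_assoc, sub_self]
    haveI : Epi p₂ := hSES.epi_g
    have hσ0 : σ = 0 := by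
      rw [← hSES.exact.g_desc σ hσ, hE₁ hX (hSES.exact.desc σ hσ), comp_zero]
    have hp1 : p₁ = retraction i' ≫ j := sub_eq_zero.1 hσ0
    rw [← cancel_epi p₂, comp_zero, ← pullback.condition]
    show p₁ ≫ _ = 0
    rw [hp1, Category.assoc, cokernel.condition, comp_zero]
  have h1 : g ≫ cokernel.π j = 0 := by
    have h0 : i ≫ (g ≫ cokernel.π j) = 0 := by
      rw [← Category.assoc, hg, Category.id_comp, cokernel.condition]
    rw [← hS.exact.g_desc (g ≫ cokernel.π j) h0,
      hY hQ (hS.exact.desc (g ≫ cokernel.π j) h0), comp_zero]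
  let r : N ⟶ M := hkj.lift (KernelFork.ofι g h1)
  have hr : r ≫ j = g := hkj.fac _ WalkingParallelPair.zero
  exact IsSplitMono.mk' ⟨r, by rw [← cancel_mono j, Category.assoc, hr, hg]⟩

/-- **Main theorem**: a `P`-closed object is closed for the localizing closure of `P`. -/
theorem isClosedFor_locClosure (M : C) (hM : GabLoc.IsClosedFor P M) :
    GabLoc.IsClosedFor (GabLoc.locClosure.{w} P) M := by
  have hT := isClosedFor_tors.{w} P M hM
  have hle : GabLoc.locClosure.{w} P ≤ Tors P :=
    fun X hX => hX (Tors P) (tors_isLocalizing P) (le_tors P)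
  exact ⟨fun Y hY f => hT.1 (hle _ hY) f, fun N Y i p hp hY hS => hT.2 i p hp (hle _ hY) hS⟩

end Main

end Groth.Agent.Lib.Helper6.TorsionClosed
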