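import Mathlib
import Groth.Prelude.Def_SiteCmp
import Groth.Agent.Lib.Helper6.SerreDerived
import Groth.Agent.Lib.Helper6.SheafCoprodLocal

/-!
# Torsion abelian sheaves form a torsion-like Serre class closed under coproducts (helper6)
-/

set_option autoImplicit false

universe u

namespace Groth.Agent.Lib.Helper6.TorsionSheaf

open CategoryTheory CategoryTheory.Limits Opposite SiteCmp

variable {C : Type u} [SmallCategory C] (J : GrothendieckTopology C)

lemma nsmul_hom_app {F G : Sheaf J AddCommGrpCat.{u}} (f : F ⟶ G) (k : ℕ) (U : Cᵒᵖ) :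
    (k • f).hom.app U = k • f.hom.app U := by
  induction k with
  | zero => simp only [zero_smul]; rfl
  | succ n ih => rw [succ_nsmul, succ_nsmul, Sheaf.Hom.add_app, ih]

lemma nsmul_id_apply (N : Sheaf J AddCommGrpCat.{u}) (k : ℕ) (U : Cᵒᵖ) (x : N.obj.obj U) :
    ((k • 𝟙 N).hom.app U).hom x = k • x := by
  rw [nsmul_hom_app]
  induction k with
  | zero => simp
  | succ n ih => rw [succ_nsmul, succ_nsmul, AddCommGrpCat.hom_add, AddMonoidHom.add_apply, ih]; rfl

lemma of_nsmul (N : Sheaf J AddCommGrpCat.{u}) (k : ℕ) (hk : 0 < k) (h : k • 𝟙 N = 0) :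
    torsionSh J N := by
  intro U s
  refine ⟨⊤, J.top_mem U, fun V g _ => ?_⟩
  rw [isOfFinAddOrder_iff_nsmul_eq_zero]
  refine ⟨k, hk, ?_⟩
  rw [← nsmul_id_apply J N k (op V), h]
  rfl

lemma injective_of_mono {F G : Sheaf J AddCommGrpCat.{u}} (f : F ⟶ G) [Mono f] (U : Cᵒᵖ) :
    Function.Injective (f.hom.app U).hom := by
  have h1 : Mono f.hom := (Sheaf.Hom.mono_iff_presheaf_mono J _ f).1 inferInstance
  have h2 : Mono (f.hom.app U) := inferInstance
  exact (AddCommGrpCat.mono_iff_injective _).1 h2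

lemma isZero_of_torsion (N : Sheaf J AddCommGrpCat.{u}) (hN : torsionSh J N)
    (h : ∀ k : ℕ, 0 < k → Mono (k • 𝟙 N)) : IsZero N := by
  rw [IsZero.iff_id_eq_zero]
  apply Sheaf.hom_ext
  apply NatTrans.ext
  funext U
  apply AddCommGrpCat.hom_ext
  apply AddMonoidHom.ext
  intro s
  change s = 0
  obtain ⟨S, hS, hs⟩ := hN U.unop s
  apply N.isSeparated _ S hS
  intro V g hg
  obtain ⟨k, hk, hk0⟩ := isOfFinAddOrder_iff_nsmul_eq_zero.1 (hs g hg)
  have := h k hk
  apply injective_of_mono J (k • 𝟙 N) (op V)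
  rw [nsmul_id_apply, nsmul_id_apply]
  rw [map_zero, smul_zero]
  exact hk0

lemma mono_nsmul_free (X : Type u) (k : ℕ) (hk : 0 < k) :
    Mono (k • 𝟙 (AddCommGrpCat.free.obj X)) := by
  rw [AddCommGrpCat.mono_iff_injective]
  have hh : ∀ (m : ℕ) (x : FreeAbelianGroup X),
      (m • 𝟙 (AddCommGrpCat.free.obj X)).hom x = m • x := by
    intro m x
    induction m with
    | zero => rw [zero_smul, zero_smul]; rfl
    | succ n ih =>
      rw [succ_nsmul, succ_nsmul, AddCommGrpCat.hom_add, AddMonoidHom.add_apply, ih]; rfl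
  intro x y hxy
  rw [hh, hh] at hxy
  have e := FreeAbelianGroup.equivFinsupp X
  apply e.injective
  have h2 : k • e x = k • e y := by rw [← map_nsmul, ← map_nsmul, hxy]
  exact nsmul_right_injective (by omega) h2

lemma epi_nsmul (G : Sheaf J AddCommGrpCat.{u}) (hG : Injective G) (k : ℕ) (hk : 0 < k) :
    Epi (k • 𝟙 G) := by
  let adj := Sheaf.adjunction J AddCommGrpCat.adj.{u}
  let F : Cᵒᵖ ⥤ AddCommGrpCat.{u} := (G.obj ⋙ forget AddCommGrpCat.{u}) ⋙ AddCommGrpCat.free
  let L : Sheaf J AddCommGrpCat.{u} := (presheafToSheaf J AddCommGrpCat.{u}).obj F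
  let ε : L ⟶ G := adj.counit.app G
  have hε : Epi ε := Adjunction.counit_epi_of_R_faithful adj G
  have hF : Mono (k • 𝟙 F) := by
    have : ∀ U, Mono ((k • 𝟙 F).app U) := fun U => by
      rw [NatTrans.app_nsmul, NatTrans.id_app]
      exact mono_nsmul_free _ k hk
    exact NatTrans.mono_of_mono_app _
  have hmono : Mono (k • 𝟙 L) := by
    have e : k • 𝟙 L = (presheafToSheaf J AddCommGrpCat.{u}).map (k • 𝟙 F) := by
      rw [Functor.map_nsmul, CategoryTheory.Functor.map_id]
    rw [e]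
    infer_instance
  have hπ : (k • 𝟙 L) ≫ Injective.factorThru ε (k • 𝟙 L) = ε := Injective.comp_factorThru _ _
  have hnat : (k • 𝟙 L) ≫ Injective.factorThru ε (k • 𝟙 L) =
      Injective.factorThru ε (k • 𝟙 L) ≫ (k • 𝟙 G) := by
    rw [Preadditive.nsmul_comp, Preadditive.comp_nsmul, Category.id_comp, Category.comp_id]
  have : Epi (Injective.factorThru ε (k • 𝟙 L) ≫ (k • 𝟙 G)) := by
    rw [← hnat, hπ]; exact hε
  exact epi_of_epi (Injective.factorThru ε (k • 𝟙 L)) _

lemma exists_inf_mem {ι : Type*} {W : C} (R : ι → Sieve W) (hR : ∀ i, R i ∈ J W)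
    (F : Finset ι) : ∃ R' ∈ J W, ∀ i ∈ F, R' ≤ R i := by
  classical
  induction F using Finset.induction_on with
  | empty => exact ⟨⊤, J.top_mem W, by simp⟩
  | insert a s ha ih =>
    obtain ⟨R', hR', h⟩ := ih
    refine ⟨R' ⊓ R a, J.intersection_covering hR' (hR a), ?_⟩
    intro i hi
    rcases Finset.mem_insert.1 hi with rfl | hi
    · exact inf_le_right
    · exact inf_le_left.trans (h i hi)

lemma isOfFinAddOrder_sum {A : Type*} [AddCommGroup A] {ι : Type*} (F : Finset ι) (f : ι → A)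
    (h : ∀ i ∈ F, IsOfFinAddOrder (f i)) : IsOfFinAddOrder (∑ i ∈ F, f i) := by
  classical
  induction F using Finset.induction_on with
  | empty => rw [Finset.sum_empty]; exact IsOfFinAddOrder.zero
  | insert a s ha ih =>
    rw [Finset.sum_insert ha]
    exact (h a (Finset.mem_insert_self a s)).add (ih fun i hi => h i (Finset.mem_insert_of_mem hi))

lemma torsion_sigma {ι : Type u} (Y : ι → Sheaf J AddCommGrpCat.{u})
    (hY : ∀ i, torsionSh J (Y i)) : torsionSh J (∐ Y) := by
  intro U t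
  obtain ⟨S, hS, h⟩ := SheafCoprodLocal.exists_cover_finset Y (Cofan.mk (∐ Y) (Sigma.ι Y))
    (coproductIsCoproduct Y) U t
  have key : ∀ ⦃W : C⦄ (g : W ⟶ U), S g → ∃ R ∈ J W, ∀ ⦃V : C⦄ (h : V ⟶ W), R h →
      IsOfFinAddOrder (((∐ Y).obj.map h.op).hom (((∐ Y).obj.map g.op).hom t)) := by
    intro W g hg
    obtain ⟨F, y, hy⟩ := h g hg
    choose R hR hRy using fun i => hY i W (y i)
    obtain ⟨R', hR', hle⟩ := exists_inf_mem J R hR F
    refine ⟨R', hR', fun V h hh => ?_⟩
    have hy' : ((∐ Y).obj.map g.op).hom t =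
        ∑ i ∈ F, ((Sigma.ι Y i).hom.app (op W)).hom (y i) := hy
    rw [hy', map_sum]
    apply isOfFinAddOrder_sum
    intro i hi
    have hnat : ((∐ Y).obj.map h.op).hom (((Sigma.ι Y i).hom.app (op W)).hom (y i)) =
        ((Sigma.ι Y i).hom.app (op V)).hom (((Y i).obj.map h.op).hom (y i)) := by
      have := (Sigma.ι Y i).hom.naturality h.op
      exact (congrArg (fun f => f.hom (y i)) this).symm
    rw [hnat]
    exact AddMonoidHom.isOfFinAddOrder _ (hRy i h (hle i hi _ hh))
  choose R hR hRt using key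
  refine ⟨Sieve.bind S (fun _ g hg => R g hg), J.bind_covering hS (fun _ g hg => hR g hg), ?_⟩
  rintro V f ⟨W, h, g, hg, hh, rfl⟩
  have := hRt g hg h hh
  rw [op_comp, Functor.map_comp]
  exact this

/-- torsion sheaves form a torsion-like class -/
lemma torsionLike : SerreDerived.TorsionLike (torsionSh J) where
  of_nsmul := of_nsmul J
  epi_nsmul := epi_nsmul J
  isZero := isZero_of_torsion J

end Groth.Agent.Lib.Helper6.TorsionSheaf
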