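import Mathlib

/-!
# Towers of abelian groups: injective towers have surjective transition maps; Mittag-Leffler

* `SurjTrans A`: all transition maps `A_{n+1} → A_n` are surjective.
* `surjTrans_of_injective`: an injective tower has surjective transition maps.
* `surjTrans_X₃`: quotients of towers with surjective transition maps have the same property.
* `epi_lim_map_g`: for a short exact sequence of towers `0 → Q → J → Q' → 0` with `Q` having
  surjective transitions, `lim J → lim Q'` is an epimorphism.
-/

set_option autoImplicit false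
universe u
open CategoryTheory CategoryTheory.Limits Opposite

namespace Groth.Agent.Lib.Helper6.TowerLim

abbrev Tow := ℕᵒᵖ ⥤ AddCommGrpCat.{u}

/-- all transition maps are surjective -/
def SurjTrans (A : Tow.{u}) : Prop :=
  ∀ n : ℕ, Function.Surjective (A.map (homOfLE (Nat.le_succ n)).op)

section compat

/-- compatibility along successive maps implies compatibility along all maps. -/
lemma map_eq_of_succ (A : Tow.{u}) (x : ∀ n : ℕ, A.obj (op n))
    (hx : ∀ n : ℕ, A.map (homOfLE (Nat.le_succ n)).op (x (n + 1)) = x n)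
    (n m : ℕ) (h : n ≤ m) : A.map (homOfLE h).op (x m) = x n := by
  induction m, h using Nat.le_induction with
  | base =>
    have : (homOfLE (le_refl n)).op = 𝟙 (op n) := rfl
    rw [this, A.map_id]; rfl
  | succ m h ih =>
    have : (homOfLE (h.trans (Nat.le_succ m))).op =
        (homOfLE (Nat.le_succ m)).op ≫ (homOfLE h).op := rfl
    rw [this, A.map_comp, ConcreteCategory.comp_apply, hx m, ih]

end compat

section PiTower

variable (A : Tow.{u})

/-- `Π(A)_k = ∏_{i ≤ k} A_i` -/
def piObj (k : ℕ) : AddCommGrpCat.{u} := AddCommGrpCat.of (∀ i : {i : ℕ // i ≤ k}, A.obj (op i.1))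

/-- the restriction maps -/
def piMap (k : ℕ) : piObj A (k + 1) ⟶ piObj A k :=
  AddCommGrpCat.ofHom
    { toFun := fun x i => x ⟨i.1, i.2.trans (Nat.le_succ k)⟩
      map_zero' := rfl
      map_add' := fun _ _ => rfl }

/-- the tower `Π(A)` -/
def piTow : Tow.{u} := Functor.ofOpSequence (piMap A)

lemma surjTrans_piTow : SurjTrans (piTow A) := by
  intro k x
  have e : (piTow A).map (homOfLE (Nat.le_succ k)).op = piMap A k :=
    Functor.ofOpSequence_map_homOfLE_succ _ k
  rw [e]
  refine ⟨fun i => if h : i.1 ≤ k then x ⟨i.1, h⟩ else 0, ?_⟩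
  funext i
  show (if h : i.1 ≤ k then x ⟨i.1, h⟩ else 0) = x i
  rw [dif_pos i.2]

/-- the components of the embedding `A → Π(A)` -/
def piιApp (k : ℕ) : A.obj (op k) ⟶ (piTow A).obj (op k) :=
  AddCommGrpCat.ofHom
    { toFun := fun x i => A.map (homOfLE i.2).op x
      map_zero' := by funext i; exact map_zero _
      map_add' := fun x y => by funext i; exact map_add _ x y }

/-- the embedding `A → Π(A)` -/
def piι : A ⟶ piTow A :=
  NatTrans.ofOpSequence (piιApp A) (fun k => by
    have e : (piTow A).map (homOfLE (Nat.le_add_right k 1)).op = piMap A k :=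
      Functor.ofOpSequence_map_homOfLE_succ _ k
    rw [e]
    ext x
    funext i
    show A.map (homOfLE i.2).op (A.map (homOfLE (Nat.le_add_right k 1)).op x) =
      A.map (homOfLE (i.2.trans (Nat.le_succ k))).op x
    rw [← ConcreteCategory.comp_apply, ← A.map_comp]
    rfl)

instance mono_piι : Mono (piι A) := by
  have : ∀ j : ℕᵒᵖ, Mono ((piι A).app j) := by
    intro j
    rw [AddCommGrpCat.mono_iff_injective]
    intro x y hxy
    have h := congr_fun hxy ⟨j.unop, le_rfl⟩
    have e : (homOfLE (le_refl j.unop)).op = 𝟙 j := rfl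
    change A.map (homOfLE (le_refl j.unop)).op x = A.map (homOfLE (le_refl j.unop)).op y at h
    rw [e, A.map_id] at h
    exact h
  exact NatTrans.mono_of_mono_app _

end PiTower

/-- **Injective towers have surjective transition maps.** -/
theorem surjTrans_of_injective (J : Tow.{u}) [Injective J] : SurjTrans J := by
  intro k x
  let r : piTow J ⟶ J := Injective.factorThru (𝟙 J) (piι J)
  have hr : piι J ≫ r = 𝟙 J := Injective.comp_factorThru _ _
  obtain ⟨y, hy⟩ := surjTrans_piTow J k ((piι J).app (op k) x)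
  refine ⟨r.app (op (k + 1)) y, ?_⟩
  have nat := r.naturality (homOfLE (Nat.le_succ k)).op
  have h1 : J.map (homOfLE (Nat.le_succ k)).op (r.app (op (k + 1)) y) =
      r.app (op k) ((piTow J).map (homOfLE (Nat.le_succ k)).op y) := by
    rw [← ConcreteCategory.comp_apply, ← ConcreteCategory.comp_apply, nat]
  rw [h1, hy, ← ConcreteCategory.comp_apply, ← NatTrans.comp_app, hr]
  rfl

section SES

variable (S : ShortComplex Tow.{u}) (hS : S.ShortExact)

include hS

lemma surjective_g_app (k : ℕ) : Function.Surjective (S.g.app (op k)) := by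
  have h := hS.map_of_exact ((evaluation ℕᵒᵖ AddCommGrpCat.{u}).obj (op k))
  have := h.epi_g
  exact (AddCommGrpCat.epi_iff_surjective _).mp this

lemma exact_app (k : ℕ) (x : S.X₂.obj (op k)) (hx : S.g.app (op k) x = 0) :
    ∃ q : S.X₁.obj (op k), S.f.app (op k) q = x := by
  have h := (hS.map_of_exact ((evaluation ℕᵒᵖ AddCommGrpCat.{u}).obj (op k))).exact
  rw [ShortComplex.ab_exact_iff] at h
  exact h x hx

/-- quotients of towers with surjective transitions have surjective transitions. -/
lemma surjTrans_X₃ (h : SurjTrans S.X₂) : SurjTrans S.X₃ := by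
  intro k y
  obtain ⟨x, rfl⟩ := surjective_g_app S hS k y
  obtain ⟨x', rfl⟩ := h k x
  refine ⟨S.g.app (op (k + 1)) x', ?_⟩
  have nat := S.g.naturality (homOfLE (Nat.le_succ k)).op
  rw [← ConcreteCategory.comp_apply, ← ConcreteCategory.comp_apply, nat]

/-- the inductive step of the Mittag-Leffler argument. -/
lemma step (h : SurjTrans S.X₁) (y : ∀ n : ℕ, S.X₃.obj (op n))
    (hy : ∀ n : ℕ, S.X₃.map (homOfLE (Nat.le_succ n)).op (y (n + 1)) = y n)
    (k : ℕ) (x : S.X₂.obj (op k)) (hx : S.g.app (op k) x = y k) :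
    ∃ x'' : S.X₂.obj (op (k + 1)), S.g.app (op (k + 1)) x'' = y (k + 1) ∧
      S.X₂.map (homOfLE (Nat.le_succ k)).op x'' = x := by
  obtain ⟨x', hx'⟩ := surjective_g_app S hS (k + 1) (y (k + 1))
  have natg := S.g.naturality (homOfLE (Nat.le_succ k)).op
  have natf := S.f.naturality (homOfLE (Nat.le_succ k)).op
  have h0 : S.g.app (op k) (S.X₂.map (homOfLE (Nat.le_succ k)).op x' - x) = 0 := by
    rw [map_sub, hx, ← ConcreteCategory.comp_apply, natg, ConcreteCategory.comp_apply, hx', hy,
      sub_self]
  obtain ⟨q, hq⟩ := exact_app S hS k _ h0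
  obtain ⟨q', rfl⟩ := h k q
  refine ⟨x' - S.f.app (op (k + 1)) q', ?_, ?_⟩
  · rw [map_sub, hx']
    have : S.g.app (op (k + 1)) (S.f.app (op (k + 1)) q') = 0 := by
      rw [← ConcreteCategory.comp_apply, ← NatTrans.comp_app, S.zero]
      rfl
    rw [this, sub_zero]
  · rw [map_sub, ← ConcreteCategory.comp_apply (S.f.app _), ← natf, ConcreteCategory.comp_apply,
      hq]
    abel

/-- **Mittag-Leffler**: `lim J → lim Q'` is surjective when the kernel tower has surjective
transition maps. -/
theorem epi_lim_map_g (h : SurjTrans S.X₁) : Epi (lim.map S.g) := by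
  rw [AddCommGrpCat.epi_iff_surjective]
  intro y
  let yy : ∀ n : ℕ, S.X₃.obj (op n) := fun n => limit.π S.X₃ (op n) y
  have hyy : ∀ n : ℕ, S.X₃.map (homOfLE (Nat.le_succ n)).op (yy (n + 1)) = yy n := by
    intro n
    show S.X₃.map (homOfLE (Nat.le_succ n)).op (limit.π S.X₃ (op (n + 1)) y) = _
    rw [← ConcreteCategory.comp_apply, limit.w]
  -- recursive construction
  let X : ∀ n : ℕ, {x : S.X₂.obj (op n) // S.g.app (op n) x = yy n} := fun n =>
    Nat.rec ⟨(surjective_g_app S hS 0 (yy 0)).choose, (surjective_g_app S hS 0 (yy 0)).choose_spec⟩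
      (fun k xk => ⟨(step S hS h yy hyy k xk.1 xk.2).choose,
        (step S hS h yy hyy k xk.1 xk.2).choose_spec.1⟩) n
  have hX : ∀ n : ℕ, S.X₂.map (homOfLE (Nat.le_succ n)).op (X (n + 1)).1 = (X n).1 := fun n =>
    (step S hS h yy hyy n (X n).1 (X n).2).choose_spec.2
  have hX' := map_eq_of_succ S.X₂ (fun n => (X n).1) hX
  let hc := isLimitOfPreserves (forget AddCommGrpCat.{u}) (limit.isLimit S.X₂)
  let s : (S.X₂ ⋙ forget AddCommGrpCat.{u}).sections :=
    ⟨fun j => (X j.unop).1, by
      intro j j' f
      exact hX' j'.unop j.unop (leOfHom f.unop)⟩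
  let z : ↑(limit S.X₂) := (Types.isLimitEquivSections hc).symm s
  have hz : ∀ j : ℕᵒᵖ, limit.π S.X₂ j z = (X j.unop).1 := fun j =>
    Types.isLimitEquivSections_symm_apply hc s j
  refine ⟨z, ?_⟩
  apply Concrete.limit_ext
  intro j
  show limit.π S.X₃ j (limMap S.g z) = limit.π S.X₃ j y
  rw [← ConcreteCategory.comp_apply, limMap_π, ConcreteCategory.comp_apply, hz]
  exact (X j.unop).2

end SES

end Groth.Agent.Lib.Helper6.TowerLim
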