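import Mathlib

/-!
# Canonical truncation triangles in the derived category, in concrete form

* `exists_desc_of_comp_zero`: a map `Q K ⟶ Y` killed by `Q (ι : τ≤a K ⟶ K)` factors through
  `Q (π : K ⟶ τ≥(a+1) K)`.
* `exists_lift_of_comp_zero`: a map `Y ⟶ Q K` killed by `Q π` lifts through `Q ι`.
* `eq_zero_of_homologyMap_eq_zero`: a chain map from a complex strictly `≤ m` to a complex
  strictly `≥ m` that is zero on `H^m` is zero.
-/

set_option autoImplicit false
universe w v u
open CategoryTheory CategoryTheory.Limits CategoryTheory.Pretriangulated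

namespace Groth.Agent.Lib.Helper6.TruncTriangle

variable {A : Type u} [Category.{v} A] [Abelian A]

section

variable [HasDerivedCategory.{w} A]

open DerivedCategory

set_option backward.defeqAttrib.useBackward true in
set_option backward.isDefEq.respectTransparency false in
/-- The canonical truncation triangle `τ≤a K ⟶ K ⟶ τ≥b K ⟶` is distinguished. -/
lemma exists_distinguished (K : CochainComplex A ℤ) (a b : ℤ) (h : a + 1 = b) :
    ∃ δ : Q.obj (K.truncGE b) ⟶ (Q.obj (K.truncLE a))⟦(1 : ℤ)⟧,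
      Triangle.mk (Q.map (K.ιTruncLE a)) (Q.map (K.πTruncGE b)) δ ∈ distTriang _ := by
  have hS := K.shortComplexTruncLE_shortExact a
  have hq : IsIso (Q.map (K.shortComplexTruncLEX₃ToTruncGE a b h)) := by
    rw [isIso_Q_map_iff_quasiIso]; infer_instance
  refine ⟨inv (Q.map (K.shortComplexTruncLEX₃ToTruncGE a b h)) ≫ (triangleOfSES hS).mor₃,
    isomorphic_distinguished _ (triangleOfSES_distinguished hS) _ (Iso.symm ?_)⟩
  refine Triangle.isoMk _ _ (Iso.refl _) (Iso.refl _)
    (asIso (Q.map (K.shortComplexTruncLEX₃ToTruncGE a b h))) ?_ ?_ (by simp)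
  · dsimp
    rw [Category.id_comp, Category.comp_id]
    rfl
  · dsimp
    rw [← Q.map_comp, CochainComplex.g_shortComplexTruncLEX₃ToTruncGE .., Category.id_comp]

lemma exists_desc_of_comp_zero (K : CochainComplex A ℤ) (a b : ℤ) (h : a + 1 = b)
    {Y : DerivedCategory A} (f : Q.obj K ⟶ Y) (hf : Q.map (K.ιTruncLE a) ≫ f = 0) :
    ∃ φ : Q.obj (K.truncGE b) ⟶ Y, Q.map (K.πTruncGE b) ≫ φ = f := by
  obtain ⟨δ, hδ⟩ := exists_distinguished K a b h
  obtain ⟨φ, hφ⟩ := Triangle.yoneda_exact₂ _ hδ f hf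
  exact ⟨φ, hφ.symm⟩

lemma exists_lift_of_comp_zero (K : CochainComplex A ℤ) (a b : ℤ) (h : a + 1 = b)
    {Y : DerivedCategory A} (f : Y ⟶ Q.obj K) (hf : f ≫ Q.map (K.πTruncGE b) = 0) :
    ∃ φ : Y ⟶ Q.obj (K.truncLE a), φ ≫ Q.map (K.ιTruncLE a) = f := by
  obtain ⟨δ, hδ⟩ := exists_distinguished K a b h
  obtain ⟨φ, hφ⟩ := Triangle.coyoneda_exact₂ _ hδ f hf
  exact ⟨φ, hφ.symm⟩

end

/-- A chain map from a complex strictly `≤ m` to a complex strictly `≥ m` which induces zero on
`H^m` is zero. -/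
lemma eq_zero_of_homologyMap_eq_zero {L M : CochainComplex A ℤ} (m : ℤ)
    [L.IsStrictlyLE m] [M.IsStrictlyGE m] (θ : L ⟶ M)
    (h : HomologicalComplex.homologyMap θ m = 0) : θ = 0 := by
  ext i
  by_cases hi : i = m
  · subst hi
    have hL : L.d i (i + 1) = 0 := (L.isZero_of_isStrictlyLE i (i + 1) (by lia)).eq_of_tgt _ _
    have hM : M.d (i - 1) i = 0 := (M.isZero_of_isStrictlyGE i (i - 1) (by lia)).eq_of_src _ _
    have h1 : IsIso (L.homologyι i) := L.isIso_homologyι i (i + 1) (by simp) hL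
    have h2 : IsIso (M.pOpcycles i) := M.isIso_pOpcycles (i - 1) i (by simp) hM
    have e1 : HomologicalComplex.opcyclesMap θ i = 0 := by
      have := HomologicalComplex.homologyι_naturality θ i
      rw [h, zero_comp] at this
      rw [← cancel_epi (L.homologyι i), ← this, comp_zero]
    have e2 := HomologicalComplex.p_opcyclesMap θ i
    rw [e1, comp_zero] at e2
    rw [← cancel_mono (M.pOpcycles i), ← e2, HomologicalComplex.zero_f, zero_comp]
  · rcases lt_or_gt_of_ne hi with h' | h'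
    · exact (M.isZero_of_isStrictlyGE m i h').eq_of_tgt _ _
    · exact (L.isZero_of_isStrictlyLE m i h').eq_of_src _ _

section

variable [HasDerivedCategory.{w} A]

open DerivedCategory

/-- `H^m (Q φ) = 0` iff `H^m φ = 0`. -/
lemma homologyFunctor_map_Q_map_eq_zero_iff {K L : CochainComplex A ℤ} (φ : K ⟶ L) (m : ℤ) :
    (homologyFunctor A m).map (Q.map φ) = 0 ↔ HomologicalComplex.homologyMap φ m = 0 := by
  let eK : (homologyFunctor A m).obj (Q.obj K) ≅ K.homology m := (homologyFunctorFactors A m).app K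
  let eL : (homologyFunctor A m).obj (Q.obj L) ≅ L.homology m := (homologyFunctorFactors A m).app L
  have nat : (homologyFunctor A m).map (Q.map φ) ≫ eL.hom =
      eK.hom ≫ HomologicalComplex.homologyMap φ m :=
    (homologyFunctorFactors A m).hom.naturality φ
  constructor
  · intro h
    rw [h, zero_comp] at nat
    rw [← cancel_epi eK.hom, ← nat, comp_zero]
  · intro h
    rw [h, comp_zero] at nat
    rw [← cancel_mono eL.hom, nat, zero_comp]

/-- `H^m (Q φ)` is an isomorphism iff `φ` is a quasi-isomorphism in degree `m`. -/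
lemma isIso_homologyFunctor_map_Q_map_iff {K L : CochainComplex A ℤ} (φ : K ⟶ L) (m : ℤ) :
    IsIso ((homologyFunctor A m).map (Q.map φ)) ↔ QuasiIsoAt φ m := by
  rw [quasiIsoAt_iff_isIso_homologyMap]
  exact NatIso.isIso_map_iff (homologyFunctorFactors A m) φ

/-- A morphism in `D(A)` from an object `≤ m` to an object `≥ m` that is zero on `H^m` is zero. -/
lemma eq_zero_of_isLE_of_isGE {X Y : DerivedCategory A} (m : ℤ) [X.IsLE m] [Y.IsGE m]
    (f : X ⟶ Y) (h : (homologyFunctor A m).map f = 0) : f = 0 := by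
  obtain ⟨L, hL, ⟨eL⟩⟩ := exists_iso_Q_obj_of_isLE X m
  obtain ⟨M, hM, ⟨eM⟩⟩ := exists_iso_Q_obj_of_isGE Y m
  suffices hf : eL.inv ≫ f ≫ eM.hom = 0 by
    rw [← cancel_epi eL.inv, ← cancel_mono eM.hom, Category.assoc, hf, comp_zero, zero_comp]
  obtain ⟨L', hL', s, hs, g, fac⟩ := right_fac_of_isStrictlyLE (eL.inv ≫ f ≫ eM.hom) m
  have hg : g = 0 := by
    apply eq_zero_of_homologyMap_eq_zero m
    rw [← homologyFunctor_map_Q_map_eq_zero_iff]
    have : Q.map g = Q.map s ≫ eL.inv ≫ f ≫ eM.hom := by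
      rw [fac, IsIso.hom_inv_id_assoc]
    rw [this]
    simp only [Functor.map_comp, h, zero_comp, comp_zero]
  rw [fac, hg, Q.map_zero, comp_zero]

end

end Groth.Agent.Lib.Helper6.TruncTriangle
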