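import Mathlib
import Groth.Agent.Lib.Helper6.TorsionClosed

/-!
# Complements in injective objects of a Grothendieck abelian category are direct summands
(helper6)
-/

set_option autoImplicit false
set_option linter.style.haveILetI false
universe w v u
open CategoryTheory CategoryTheory.Limits

namespace Groth.Agent.Lib.Helper6.UniformInj

open Groth.Agent.Lib.Helper6.TorsionClosed

variable {C : Type u} [Category.{v} C] [Abelian C] [IsGrothendieckAbelian.{w} C]

/-- If `E` is injective and `K` is maximal among the subobjects of `E` meeting `N` trivially,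
then `K` is a direct summand of `E`. -/
theorem isSplitMono_of_maximal_disj {E N : C} [Injective E] (ι : N ⟶ E) [Mono ι]
    (K : Subobject E) (hK : Disj ι K)
    (hmax : ∀ L : Subobject E, K ≤ L → Disj ι L → L ≤ K) : IsSplitMono K.arrow := by
  obtain ⟨K', hK', hmax'⟩ := exists_maximal_disj.{w} K.arrow
  let π' := cokernel.π K'.arrow
  haveI hj : Mono (K.arrow ≫ π') := (disj_iff_mono K.arrow K').1 hK'
  let φ : cokernel K'.arrow ⟶ E := Injective.factorThru K.arrow (K.arrow ≫ π')
  have hφ : (K.arrow ≫ π') ≫ φ = K.arrow := Injective.comp_factorThru _ _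
  haveI : Mono φ := by
    apply Preadditive.mono_of_kernel_zero
    refine eq_zero_of_disj_quot K.arrow K' hmax' (kernel.ι φ) (fun W a b hab => ?_)
    have : a ≫ K.arrow = 0 :=
      calc a ≫ K.arrow = a ≫ (K.arrow ≫ π') ≫ φ := by rw [hφ]
        _ = (a ≫ K.arrow ≫ π') ≫ φ := by simp only [Category.assoc]
        _ = (b ≫ kernel.ι φ) ≫ φ := by rw [hab]
        _ = 0 := by rw [Category.assoc, kernel.condition, comp_zero]
    rw [← cancel_mono K.arrow, zero_comp, this]
  let K₁ : Subobject E := Subobject.mk φ
  have hKK₁ : K ≤ K₁ := Subobject.le_mk_of_comm (K.arrow ≫ π') hφ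
  have hK₁ : Disj ι K₁ := by
    intro W a b hab
    let b' : W ⟶ cokernel K'.arrow := b ≫ (Subobject.underlyingIso φ).hom
    have hb' : b' ≫ φ = a ≫ ι := by
      rw [hab, Category.assoc, Subobject.underlyingIso_hom_comp_eq_mk]
    let mI := Limits.image.ι b'
    let e := factorThruImage b'
    have hmI : mI = 0 := by
      refine eq_zero_of_disj_quot K.arrow K' hmax' mI (fun W' a' c hac => ?_)
      -- pull back `c` along the epi `e`
      let x : pullback c e ⟶ N := pullback.snd c e ≫ a
      let y : pullback c e ⟶ (K : C) := pullback.fst c e ≫ a'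
      have hxy : x ≫ ι = y ≫ K.arrow := by
        symm
        calc y ≫ K.arrow = pullback.fst c e ≫ a' ≫ (K.arrow ≫ π') ≫ φ := by
              rw [hφ, Category.assoc]
          _ = pullback.fst c e ≫ (a' ≫ K.arrow ≫ π') ≫ φ := by simp only [Category.assoc]
          _ = pullback.fst c e ≫ (c ≫ mI) ≫ φ := by rw [hac]
          _ = (pullback.fst c e ≫ c) ≫ mI ≫ φ := by simp only [Category.assoc]
          _ = (pullback.snd c e ≫ e) ≫ mI ≫ φ := by rw [pullback.condition]
          _ = pullback.snd c e ≫ (e ≫ mI) ≫ φ := by simp only [Category.assoc]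
          _ = pullback.snd c e ≫ b' ≫ φ := by rw [Limits.image.fac]
          _ = x ≫ ι := by rw [hb', Category.assoc]
      have hx : x = 0 := hK x y hxy
      have hy : y = 0 := by
        rw [← cancel_mono K.arrow, zero_comp, ← hxy, hx, zero_comp]
      rw [← cancel_epi (pullback.fst c e), comp_zero]
      exact hy
    have hb0 : b' = 0 := by
      rw [← Limits.image.fac b']
      show e ≫ mI = 0
      rw [hmI, comp_zero]
    rw [← cancel_mono ι, zero_comp, ← hb', hb0, zero_comp]
  have hK₁K : K₁ ≤ K := hmax K₁ hKK₁ hK₁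
  let e' : cokernel K'.arrow ⟶ (K : C) := (Subobject.underlyingIso φ).inv ≫ Subobject.ofLE K₁ K hK₁K
  have he' : e' ≫ K.arrow = φ := by
    rw [Category.assoc, Subobject.ofLE_arrow, Subobject.underlyingIso_arrow]
  refine IsSplitMono.mk' ⟨π' ≫ e', ?_⟩
  rw [← cancel_mono K.arrow, Category.assoc, Category.assoc, he', Category.id_comp,
    ← Category.assoc, hφ]

end Groth.Agent.Lib.Helper6.UniformInj
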