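import Mathlib

/-!
# Way-out functors: reduction to an embedding class (helper6)
-/

set_option autoImplicit false

namespace Groth.Agent.Lib.Helper6.WayOut

open CategoryTheory Limits Pretriangulated

section Four

variable {C : Type*} [Category C] [Abelian C]
  {A₀ A₁ A₂ A₃ B₀ B₁ B₂ B₃ : C}
  (f₀ : A₀ ⟶ A₁) (f₁ : A₁ ⟶ A₂) (f₂ : A₂ ⟶ A₃)
  (g₀ : B₀ ⟶ B₁) (g₁ : B₁ ⟶ B₂) (g₂ : B₂ ⟶ B₃)
  (α₀ : A₀ ⟶ B₀) (α₁ : A₁ ⟶ B₁) (α₂ : A₂ ⟶ B₂) (α₃ : A₃ ⟶ B₃)
  (c₀ : f₀ ≫ α₁ = α₀ ≫ g₀) (c₁ : f₁ ≫ α₂ = α₁ ≫ g₁) (c₂ : f₂ ≫ α₃ = α₂ ≫ g₂)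

include c₀ c₁ c₂ in
/-- explicit four lemma, mono version -/
theorem four_mono (w₀ : f₀ ≫ f₁ = 0) (w₁ : f₁ ≫ f₂ = 0)
    (hA : (ShortComplex.mk f₁ f₂ w₁).Exact)
    (v₀ : g₀ ≫ g₁ = 0) (hB : (ShortComplex.mk g₀ g₁ v₀).Exact)
    [Epi α₀] [Mono α₁] [Mono α₃] : Mono α₂ := by
  apply Preadditive.mono_of_cancel_zero
  intro T x hx
  have h2 : x ≫ f₂ = 0 := by
    rw [← cancel_mono α₃, Category.assoc, c₂, reassoc_of% hx, zero_comp, zero_comp]
  obtain ⟨T₁, π₁, _, y, hy⟩ := hA.exact_up_to_refinements x h2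
  dsimp at y hy
  have h3 : (y ≫ α₁) ≫ g₁ = 0 := by
    rw [Category.assoc, ← c₁, ← reassoc_of% hy, hx, comp_zero]
  obtain ⟨T₂, π₂, _, z, hz⟩ := hB.exact_up_to_refinements _ h3
  dsimp at z hz
  obtain ⟨T₃, π₃, _, w, hw⟩ := surjective_up_to_refinements_of_epi α₀ z
  have h4 : w ≫ f₀ = π₃ ≫ π₂ ≫ y := by
    rw [← cancel_mono α₁, Category.assoc, c₀, ← reassoc_of% hw, ← hz]
    simp
  rw [← cancel_epi π₁, comp_zero, hy, ← cancel_epi π₂, ← cancel_epi π₃, comp_zero, comp_zero,
    ← reassoc_of% h4, w₀, comp_zero]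

include c₀ c₁ c₂ in
/-- explicit four lemma, epi version -/
theorem four_epi (w₁ : f₁ ≫ f₂ = 0)
    (hA : (ShortComplex.mk f₁ f₂ w₁).Exact)
    (v₀ : g₀ ≫ g₁ = 0) (hB : (ShortComplex.mk g₀ g₁ v₀).Exact) (v₁ : g₁ ≫ g₂ = 0)
    [Epi α₀] [Epi α₂] [Mono α₃] : Epi α₁ := by
  rw [epi_iff_surjective_up_to_refinements]
  intro T y
  obtain ⟨T₁, π₁, _, x₂, h₁⟩ := surjective_up_to_refinements_of_epi α₂ (y ≫ g₁)
  have h₂ : x₂ ≫ f₂ = 0 := by
    rw [← cancel_mono α₃, Category.assoc, zero_comp, c₂, ← reassoc_of% h₁, v₁, comp_zero,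
      comp_zero]
  obtain ⟨T₂, π₂, _, x₁, h₃⟩ := hA.exact_up_to_refinements _ h₂
  dsimp at x₁ h₃
  have h₄ : (π₂ ≫ π₁ ≫ y - x₁ ≫ α₁) ≫ g₁ = 0 := by
    rw [Preadditive.sub_comp, Category.assoc, Category.assoc, Category.assoc, ← c₁,
      ← reassoc_of% h₃, h₁, sub_self]
  obtain ⟨T₃, π₃, _, z₀, h₅⟩ := hB.exact_up_to_refinements _ h₄
  dsimp at z₀ h₅
  rw [Preadditive.comp_sub] at h₅
  obtain ⟨T₄, π₄, _, x₀, h₆⟩ := surjective_up_to_refinements_of_epi α₀ z₀
  refine ⟨T₄, π₄ ≫ π₃ ≫ π₂ ≫ π₁, inferInstance, π₄ ≫ π₃ ≫ x₁ + x₀ ≫ f₀, ?_⟩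
  rw [Category.assoc, Category.assoc, Category.assoc, Preadditive.add_comp, Category.assoc,
    Category.assoc, Category.assoc, c₀, ← reassoc_of% h₆, ← h₅, Preadditive.comp_sub]
  abel

end Four

section Tri

universe w' v' u'

variable {B : Type u'} [Category.{v'} B] [Abelian B] [HasDerivedCategory.{w'} B]

open DerivedCategory

variable {T T' : Triangle (DerivedCategory B)} (hT : T ∈ distTriang _) (hT' : T' ∈ distTriang _)
  (φ : T ⟶ T') (j' j : ℤ)

lemma δ_nat (hj : j' + 1 = j) :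
    HomologySequence.δ T j' j hj ≫ (homologyFunctor B j).map φ.hom₁ =
      (homologyFunctor B j').map φ.hom₃ ≫ HomologySequence.δ T' j' j hj :=
  ((homologyFunctor B 0).homologySequenceδ_naturality T T' φ j' j hj).symm

include hT hT' in
lemma mono_homology_hom₁ (hj : j' + 1 = j) [Epi ((homologyFunctor B j').map φ.hom₂)]
    [Mono ((homologyFunctor B j').map φ.hom₃)] [Mono ((homologyFunctor B j).map φ.hom₂)] :
    Mono ((homologyFunctor B j).map φ.hom₁) :=
  four_mono ((homologyFunctor B j').map T.mor₂) (HomologySequence.δ T j' j hj)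
    ((homologyFunctor B j).map T.mor₁)
    ((homologyFunctor B j').map T'.mor₂) (HomologySequence.δ T' j' j hj)
    ((homologyFunctor B j).map T'.mor₁) _ _ _ _
    (by rw [← Functor.map_comp, ← Functor.map_comp, φ.comm₂])
    (δ_nat φ j' j hj)
    (by rw [← Functor.map_comp, ← Functor.map_comp, φ.comm₁])
    (HomologySequence.comp_δ T hT j' j hj) (HomologySequence.δ_comp T hT j' j hj)
    (HomologySequence.exact₁ T hT j' j hj)
    (HomologySequence.comp_δ T' hT' j' j hj) (HomologySequence.exact₃ T' hT' j' j hj)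

include hT hT' in
lemma epi_homology_hom₁ (hj : j' + 1 = j) [Epi ((homologyFunctor B j').map φ.hom₃)]
    [Epi ((homologyFunctor B j).map φ.hom₂)] [Mono ((homologyFunctor B j).map φ.hom₃)] :
    Epi ((homologyFunctor B j).map φ.hom₁) :=
  four_epi (HomologySequence.δ T j' j hj) ((homologyFunctor B j).map T.mor₁)
    ((homologyFunctor B j).map T.mor₂)
    (HomologySequence.δ T' j' j hj) ((homologyFunctor B j).map T'.mor₁)
    ((homologyFunctor B j).map T'.mor₂) _ _ _ _
    (δ_nat φ j' j hj)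
    (by rw [← Functor.map_comp, ← Functor.map_comp, φ.comm₁])
    (by rw [← Functor.map_comp, ← Functor.map_comp, φ.comm₂])
    (by rw [← Functor.map_comp, comp_distTriang_mor_zero₁₂ _ hT, Functor.map_zero])
    (HomologySequence.exact₂ T hT j)
    (HomologySequence.δ_comp T' hT' j' j hj) (HomologySequence.exact₁ T' hT' j' j hj)
    (by rw [← Functor.map_comp, comp_distTriang_mor_zero₁₂ _ hT', Functor.map_zero])

end Tri

section Main

universe w v u w' v' u'

variable {A : Type u} [Category.{v} A] [Abelian A] [HasDerivedCategory.{w} A]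
  {B : Type u'} [Category.{v'} B] [Abelian B] [HasDerivedCategory.{w'} B]
  (F G : DerivedCategory A ⥤ DerivedCategory B) [F.CommShift ℤ] [G.CommShift ℤ]
  (η : F ⟶ G) [NatTrans.CommShift η ℤ]

/-- the morphism of triangles induced by a natural transformation commuting with shifts -/
def triHom (T : Triangle (DerivedCategory A)) : F.mapTriangle.obj T ⟶ G.mapTriangle.obj T where
  hom₁ := η.app T.obj₁
  hom₂ := η.app T.obj₂
  hom₃ := η.app T.obj₃
  comm₁ := show F.map T.mor₁ ≫ η.app T.obj₂ = η.app T.obj₁ ≫ G.map T.mor₁ from η.naturality _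
  comm₂ := show F.map T.mor₂ ≫ η.app T.obj₃ = η.app T.obj₂ ≫ G.map T.mor₂ from η.naturality _
  comm₃ := by
    show (F.map T.mor₃ ≫ (F.commShiftIso (1 : ℤ)).hom.app T.obj₁) ≫ (η.app T.obj₁)⟦(1 : ℤ)⟧' =
      η.app T.obj₃ ≫ G.map T.mor₃ ≫ (G.commShiftIso (1 : ℤ)).hom.app T.obj₁
    simp only [Category.assoc, NatTrans.shift_app_comm η (1 : ℤ) T.obj₁,
      NatTrans.naturality_assoc]

@[simp] lemma triHom_hom₁ (T : Triangle (DerivedCategory A)) :
    (triHom F G η T).hom₁ = η.app T.obj₁ := rfl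
@[simp] lemma triHom_hom₂ (T : Triangle (DerivedCategory A)) :
    (triHom F G η T).hom₂ = η.app T.obj₂ := rfl
@[simp] lemma triHom_hom₃ (T : Triangle (DerivedCategory A)) :
    (triHom F G η T).hom₃ = η.app T.obj₃ := rfl

open DerivedCategory

/-- uniform lower bound for a way-out right functor on objects in degree zero -/
lemma exists_bound
    (hF : ∀ n₁ : ℤ, ∃ n₂ : ℤ, ∀ Y : DerivedCategory A, Y.IsGE n₂ → (F.obj Y).IsGE n₁) :
    ∃ N : ℤ, ∀ X : A, (F.obj ((singleFunctor A 0).obj X)).IsGE N := by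
  obtain ⟨n₂, h⟩ := hF 0
  refine ⟨-n₂, fun X => ?_⟩
  have h1 : (((singleFunctor A 0).obj X)⟦-n₂⟧).IsGE n₂ :=
    TStructure.t.isGE_shift _ 0 (-n₂) n₂ (by lia)
  have h2 := h _ h1
  have e : (F.obj (((singleFunctor A 0).obj X)⟦-n₂⟧))⟦n₂⟧ ≅ F.obj ((singleFunctor A 0).obj X) :=
    (shiftFunctor _ n₂).mapIso ((F.commShiftIso (-n₂)).app _) ≪≫
      (shiftFunctorCompIsoId _ (-n₂) n₂ (by lia)).app _
  have h3 : ((F.obj (((singleFunctor A 0).obj X)⟦-n₂⟧))⟦n₂⟧).IsGE (-n₂) :=
    TStructure.t.isGE_shift _ 0 n₂ (-n₂) (by lia)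
  exact TStructure.t.isGE_of_iso e _

variable [F.IsTriangulated] [G.IsTriangulated]

theorem isIso_app_single (P : ObjectProperty A)
    (hP : ∀ X : A, ∃ (Y : A) (i : X ⟶ Y), P Y ∧ Mono i)
    (hF : ∀ n₁ : ℤ, ∃ n₂ : ℤ, ∀ Y : DerivedCategory A, Y.IsGE n₂ → (F.obj Y).IsGE n₁)
    (hG : ∀ n₁ : ℤ, ∃ n₂ : ℤ, ∀ Y : DerivedCategory A, Y.IsGE n₂ → (G.obj Y).IsGE n₁)
    (hη : ∀ X : A, P X → IsIso (η.app ((singleFunctor A 0).obj X)))
    (X : A) : IsIso (η.app ((singleFunctor A 0).obj X)) := by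
  obtain ⟨NF, hNF⟩ := exists_bound F hF
  obtain ⟨NG, hNG⟩ := exists_bound G hG
  have key : ∀ j : ℤ, ∀ X : A,
      IsIso ((homologyFunctor B j).map (η.app ((singleFunctor A 0).obj X))) := by
    have low : ∀ j : ℤ, j < min NF NG → ∀ X : A,
        IsIso ((homologyFunctor B j).map (η.app ((singleFunctor A 0).obj X))) := by
      intro j hj X
      have z1 : IsZero ((homologyFunctor B j).obj (F.obj ((singleFunctor A 0).obj X))) :=
        haveI := hNF X
        isZero_of_isGE _ NF j (lt_of_lt_of_le hj (min_le_left _ _))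
      have z2 : IsZero ((homologyFunctor B j).obj (G.obj ((singleFunctor A 0).obj X))) :=
        haveI := hNG X
        isZero_of_isGE _ NG j (lt_of_lt_of_le hj (min_le_right _ _))
      exact ⟨⟨0, z1.eq_of_src _ _, z2.eq_of_src _ _⟩⟩
    have step : ∀ j' j : ℤ, j' + 1 = j →
        (∀ X : A, IsIso ((homologyFunctor B j').map (η.app ((singleFunctor A 0).obj X)))) →
        ∀ X : A, IsIso ((homologyFunctor B j).map (η.app ((singleFunctor A 0).obj X))) := by
      intro j' j hj ih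
      have hmono : ∀ X : A,
          Mono ((homologyFunctor B j).map (η.app ((singleFunctor A 0).obj X))) := by
        intro X
        obtain ⟨I, i, hI, _⟩ := hP X
        have hS : (ShortComplex.mk i (cokernel.π i) (cokernel.condition i)).ShortExact :=
          { exact := ShortComplex.exact_cokernel i }
        have hT := hS.singleTriangle_distinguished
        have h1 : IsIso ((homologyFunctor B j').map (triHom F G η hS.singleTriangle).hom₂) :=
          ih I
        have h2 : IsIso ((homologyFunctor B j').map (triHom F G η hS.singleTriangle).hom₃) :=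
          ih (cokernel i)
        have h3 : IsIso ((homologyFunctor B j).map (triHom F G η hS.singleTriangle).hom₂) :=
          haveI := hη I hI
          (inferInstance : IsIso ((homologyFunctor B j).map (η.app ((singleFunctor A 0).obj I))))
        exact mono_homology_hom₁ (F.map_distinguished _ hT) (G.map_distinguished _ hT)
          (triHom F G η hS.singleTriangle) j' j hj
      intro X
      obtain ⟨I, i, hI, _⟩ := hP X
      have hS : (ShortComplex.mk i (cokernel.π i) (cokernel.condition i)).ShortExact :=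
        { exact := ShortComplex.exact_cokernel i }
      have hT := hS.singleTriangle_distinguished
      have h2 : IsIso ((homologyFunctor B j').map (triHom F G η hS.singleTriangle).hom₃) :=
        ih (cokernel i)
      have h3 : IsIso ((homologyFunctor B j).map (triHom F G η hS.singleTriangle).hom₂) :=
        haveI := hη I hI
        (inferInstance : IsIso ((homologyFunctor B j).map (η.app ((singleFunctor A 0).obj I))))
      have h4 : Mono ((homologyFunctor B j).map (triHom F G η hS.singleTriangle).hom₃) :=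
        hmono (cokernel i)
      have hepi : Epi ((homologyFunctor B j).map (η.app ((singleFunctor A 0).obj X))) :=
        epi_homology_hom₁ (F.map_distinguished _ hT) (G.map_distinguished _ hT)
          (triHom F G η hS.singleTriangle) j' j hj
      haveI := hmono X
      exact isIso_of_mono_of_epi _
    intro j
    by_cases hj : j < min NF NG
    · exact low j hj
    · exact Int.leInduction (m := min NF NG - 1) (low _ (by lia))
        (fun n _ ih => step n (n + 1) rfl ih) j (by lia)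
  rw [DerivedCategory.isIso_iff]
  exact fun n => key n X

end Main

end Groth.Agent.Lib.Helper6.WayOut
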